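import Mathlib
import Groth.Agent.H29.DimFormula

/-!
# The dimension inequality for finite type algebras over a Noetherian ring (not nec. domains)

Ring-level form, phrased with residue fields given as abstract fields `K`, `L` with "evaluation"
maps, to be applied to schemes.
-/

set_option autoImplicit false
set_option linter.unusedSectionVars false
set_option linter.style.haveILetI false
universe u

namespace Groth.Agent.H48.DimIneq

open Groth.Agent.H62 Groth.Agent.H29.DimFormula

section T

variable {A B K L : Type u} [CommRing A] [CommRing B] [Algebra A B] [Field K] [Field L]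
  [Algebra K L] (evA : A →+* K) (evB : B →+* L)

/-- `K` is "the fraction field of the image of `A`". -/
def IsFrac : Prop := ∀ y : K, ∃ a s : A, evA s ≠ 0 ∧ y * evA s = evA a

variable {evA evB}

theorem isAlgebraic_of_isFrac (hK : IsFrac evA) :
    letI : Algebra (A ⧸ RingHom.ker evA) K := (RingHom.kerLift evA).toAlgebra
    Algebra.IsAlgebraic (A ⧸ RingHom.ker evA) K := by
  letI : Algebra (A ⧸ RingHom.ker evA) K := (RingHom.kerLift evA).toAlgebra
  refine ⟨fun y => ?_⟩
  obtain ⟨a, s, hs, hy⟩ := hK y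
  refine ⟨Polynomial.C (Ideal.Quotient.mk _ s) * Polynomial.X - Polynomial.C (Ideal.Quotient.mk _ a),
    ?_, ?_⟩
  · intro h
    have h1 := congrArg (fun P => Polynomial.coeff P 1) h
    simp only [Polynomial.coeff_sub, Polynomial.coeff_C_mul, Polynomial.coeff_X_one, mul_one,
      Polynomial.coeff_C_succ, sub_zero, Polynomial.coeff_zero] at h1
    apply hs
    have h2 := congrArg (RingHom.kerLift evA) h1
    simpa using h2
  · simp only [map_sub, map_mul, Polynomial.aeval_C, Polynomial.aeval_X,
      RingHom.algebraMap_toAlgebra]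
    change evA s * y - evA a = 0
    rw [mul_comm, hy, sub_self]

/-- Lemma T: the transcendence degree of the residue extension computed on quotients. -/
theorem trdeg_quotient_eq (hsq : (algebraMap K L).comp evA = evB.comp (algebraMap A B))
    (hK : IsFrac evA) (hL : IsFrac evB)
    (p : Ideal A) (q : Ideal B) [q.LiesOver p] (hp : RingHom.ker evA = p)
    (hq : RingHom.ker evB = q) :
    Algebra.trdeg (A ⧸ p) (B ⧸ q) = Algebra.trdeg K L := by
  subst hp hq
  letI i1 : Algebra (A ⧸ RingHom.ker evA) K := (RingHom.kerLift evA).toAlgebra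
  letI i2 : Algebra (B ⧸ RingHom.ker evB) L := (RingHom.kerLift evB).toAlgebra
  letI i3 : Algebra (A ⧸ RingHom.ker evA) L :=
    ((algebraMap K L).comp (RingHom.kerLift evA)).toAlgebra
  haveI t1 : IsScalarTower (A ⧸ RingHom.ker evA) K L := .of_algebraMap_eq (fun _ => rfl)
  haveI t2 : IsScalarTower (A ⧸ RingHom.ker evA) (B ⧸ RingHom.ker evB) L := by
    refine .of_algebraMap_eq (fun x => ?_)
    obtain ⟨a, rfl⟩ := Ideal.Quotient.mk_surjective x
    rw [Ideal.Quotient.algebraMap_mk_of_liesOver]
    change algebraMap K L (evA a) = evB (algebraMap A B a)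
    exact congrArg (fun g => g a) hsq
  haveI a1 : Algebra.IsAlgebraic (A ⧸ RingHom.ker evA) K := isAlgebraic_of_isFrac hK
  haveI a2 : Algebra.IsAlgebraic (B ⧸ RingHom.ker evB) L := isAlgebraic_of_isFrac hL
  have inj1 : Function.Injective (algebraMap (A ⧸ RingHom.ker evA) K) :=
    RingHom.kerLift_injective evA
  have inj2 : Function.Injective (algebraMap (B ⧸ RingHom.ker evB) L) :=
    RingHom.kerLift_injective evB
  haveI f1 : FaithfulSMul (A ⧸ RingHom.ker evA) K :=
    (faithfulSMul_iff_algebraMap_injective _ _).mpr inj1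
  haveI f2 : FaithfulSMul (B ⧸ RingHom.ker evB) L :=
    (faithfulSMul_iff_algebraMap_injective _ _).mpr inj2
  haveI f3 : FaithfulSMul (A ⧸ RingHom.ker evA) (B ⧸ RingHom.ker evB) := by
    rw [faithfulSMul_iff_algebraMap_injective]
    have h : Function.Injective (algebraMap (A ⧸ RingHom.ker evA) L) :=
      (algebraMap K L).injective.comp inj1
    rw [IsScalarTower.algebraMap_eq (A ⧸ RingHom.ker evA) (B ⧸ RingHom.ker evB) L] at h
    exact Function.Injective.of_comp h
  haveI : Nontrivial (A ⧸ RingHom.ker evA) :=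
    Ideal.Quotient.nontrivial_iff.mpr (RingHom.ker_ne_top evA)
  have e1 := trdeg_add_eq (A ⧸ RingHom.ker evA) K (A := L)
  have e2 := trdeg_add_eq (A ⧸ RingHom.ker evA) (B ⧸ RingHom.ker evB) (A := L)
  rw [trdeg_eq_zero, zero_add] at e1
  rw [trdeg_eq_zero (R := B ⧸ RingHom.ker evB), add_zero] at e2
  rw [e1, e2]

end T

section A2

variable {B : Type u} [CommRing B]

/-- In a Noetherian ring every prime `q` contains a minimal prime `q₀` with `ht (q/q₀) ≥ ht q`. -/
theorem exists_minimalPrimes_height_le [IsNoetherianRing B] (q : Ideal B) [hq : q.IsPrime] :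
    ∃ q₀ ∈ minimalPrimes B, q₀ ≤ q ∧ q.height ≤ (q.map (Ideal.Quotient.mk q₀)).height := by
  have hfin : q.height ≠ ⊤ := Ideal.height_ne_top hq.ne_top
  obtain ⟨l, hl⟩ := ENat.ne_top_iff_exists.mp hfin
  let Q : PrimeSpectrum B := ⟨q, hq⟩
  have hh : Order.height Q = l := by
    rw [← PrimeSpectrum.height_eq_orderHeight]; exact hl.symm
  obtain ⟨c, hclast, hclen⟩ := Order.exists_series_of_height_eq_coe Q hh
  have hlen' : (c.length : ℕ∞) = Order.height c.last := by rw [hclast, hh, hclen]
  have hidx := Order.height_eq_index_of_length_eq_height_last hlen'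
  have h0 : Order.height c.head = 0 := by
    have := hidx 0
    simpa [RelSeries.head] using this
  have hmin : c.head.asIdeal ∈ minimalPrimes B := by
    rw [← Ideal.height_eq_zero_iff,
      PrimeSpectrum.height_eq_orderHeight c.head, h0]
  have hle : c.head ≤ Q := hclast ▸ LTSeries.head_le_last c
  refine ⟨c.head.asIdeal, hmin, hle, ?_⟩
  have h1 := cod_le_height_map_mk c.head Q hle
  refine le_trans ?_ h1
  rw [← hl, ← hclen]
  exact le_iSup₂_of_le c ⟨rfl, hclast.le⟩ le_rfl

end A2

section Main

variable {A B K L : Type u} [CommRing A] [IsNoetherianRing A] [CommRing B] [Algebra A B]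
  [Algebra.FiniteType A B] [Field K] [Field L]
  [Algebra K L] {evA : A →+* K} {evB : B →+* L}

omit [IsNoetherianRing A] [Algebra.FiniteType A B] in
theorem ker_evA_eq_comap (hsq : (algebraMap K L).comp evA = evB.comp (algebraMap A B)) :
    RingHom.ker evA = (RingHom.ker evB).comap (algebraMap A B) := by
  ext a
  simp only [RingHom.mem_ker, Ideal.mem_comap]
  have h := congrArg (fun g => g a) hsq
  simp only [RingHom.comp_apply] at h
  rw [← h]
  exact (map_eq_zero_iff _ (algebraMap K L).injective).symm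

/-- The dimension inequality, ring level, non-domain case. -/
theorem height_add_trdeg_le (hsq : (algebraMap K L).comp evA = evB.comp (algebraMap A B))
    (hK : IsFrac evA) (hL : IsFrac evB) (E : Cardinal.{u})
    (hE : ∀ (q₀ : Ideal B) [q₀.IsPrime], q₀ ∈ minimalPrimes B → q₀ ≤ RingHom.ker evB →
      Algebra.trdeg (A ⧸ q₀.under A) (B ⧸ q₀) ≤ E) :
    ((RingHom.ker evB).height : Cardinal.{u}) + Algebra.trdeg K L ≤
      ((RingHom.ker evA).height : Cardinal.{u}) + E := by
  haveI : IsNoetherianRing B := Algebra.FiniteType.isNoetherianRing A B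
  set q := RingHom.ker evB with hq
  set p := RingHom.ker evA with hp
  haveI : q.IsPrime := RingHom.ker_isPrime evB
  haveI : p.IsPrime := RingHom.ker_isPrime evA
  have hpq : p = q.comap (algebraMap A B) := ker_evA_eq_comap hsq
  obtain ⟨q₀, hq₀min, hq₀q, hht⟩ := exists_minimalPrimes_height_le q
  haveI hq₀prime : q₀.IsPrime := hq₀min.1.1
  set p₀ := q₀.under A with hp₀
  haveI : p₀.IsPrime := Ideal.IsPrime.under A q₀
  have hp₀p : p₀ ≤ p := by
    rw [hpq]; exact Ideal.comap_mono hq₀q
  -- the quotient domains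
  haveI : Algebra.FiniteType A (B ⧸ q₀) :=
    Algebra.FiniteType.trans (inferInstance : Algebra.FiniteType A B) inferInstance
  haveI : Algebra.FiniteType (A ⧸ p₀) (B ⧸ q₀) :=
    Algebra.FiniteType.of_restrictScalars_finiteType A (A ⧸ p₀) (B ⧸ q₀)
  -- the primes
  set P := p.map (Ideal.Quotient.mk p₀) with hP
  set Q := q.map (Ideal.Quotient.mk q₀) with hQ
  haveI : P.IsPrime := Ideal.isPrime_map_quotientMk_of_isPrime hp₀p
  haveI : Q.IsPrime := Ideal.isPrime_map_quotientMk_of_isPrime hq₀q
  -- evaluation maps on quotients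
  let evR : A ⧸ p₀ →+* K := Ideal.Quotient.lift p₀ evA (fun a ha => hp₀p ha)
  let evS : B ⧸ q₀ →+* L := Ideal.Quotient.lift q₀ evB (fun b hb => hq₀q hb)
  have hkerR : RingHom.ker evR = P := by
    ext x
    obtain ⟨a, rfl⟩ := Ideal.Quotient.mk_surjective x
    rw [RingHom.mem_ker, Ideal.Quotient.lift_mk, hP,
      Ideal.mem_quotient_iff_mem hp₀p]
    rfl
  have hkerS : RingHom.ker evS = Q := by
    ext x
    obtain ⟨b, rfl⟩ := Ideal.Quotient.mk_surjective x
    rw [RingHom.mem_ker, Ideal.Quotient.lift_mk, hQ,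
      Ideal.mem_quotient_iff_mem hq₀q]
    rfl
  have hsq' : (algebraMap K L).comp evR = evS.comp (algebraMap (A ⧸ p₀) (B ⧸ q₀)) := by
    apply Ideal.Quotient.ringHom_ext
    ext a
    simp only [RingHom.comp_apply, Ideal.Quotient.algebraMap_mk_of_liesOver]
    change algebraMap K L (evA a) = evB (algebraMap A B a)
    exact congrArg (fun g => g a) hsq
  haveI : Q.LiesOver P := by
    refine ⟨?_⟩
    rw [← hkerR, ← hkerS]
    exact ker_evA_eq_comap hsq'
  have hKR : IsFrac evR := by
    intro y
    obtain ⟨a, s, hs, hy⟩ := hK y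
    exact ⟨Ideal.Quotient.mk p₀ a, Ideal.Quotient.mk p₀ s, by simpa [evR] using hs,
      by simpa [evR] using hy⟩
  have hLS : IsFrac evS := by
    intro y
    obtain ⟨a, s, hs, hy⟩ := hL y
    exact ⟨Ideal.Quotient.mk q₀ a, Ideal.Quotient.mk q₀ s, by simpa [evS] using hs,
      by simpa [evS] using hy⟩
  have hT : Algebra.trdeg ((A ⧸ p₀) ⧸ P) ((B ⧸ q₀) ⧸ Q) = Algebra.trdeg K L :=
    trdeg_quotient_eq hsq' hKR hLS P Q hkerR hkerS
  have hform := dimension_formula_le (A ⧸ p₀) (B ⧸ q₀) P Q
  rw [hT] at hform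
  have hPp : P.height ≤ p.height :=
    le_trans le_add_self (height_add_height_map_mk_le p₀ p hp₀p)
  calc (q.height : Cardinal.{u}) + Algebra.trdeg K L
      ≤ (Q.height : Cardinal.{u}) + Algebra.trdeg K L := by
        gcongr
    _ ≤ (P.height : Cardinal.{u}) + Algebra.trdeg (A ⧸ p₀) (B ⧸ q₀) := hform
    _ ≤ (p.height : Cardinal.{u}) + E := by
        gcongr
        exact hE q₀ hq₀min hq₀q

end Main

end Groth.Agent.H48.DimIneq
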