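import Mathlib
import Groth.Agent.H48.DimIneq
import Groth.Agent.H29.DimFormula2
import Groth.Agent.S9126

/-!
# Dimension functions and the dimension formula (ring level)
-/

set_option autoImplicit false
set_option linter.unusedSectionVars false
set_option linter.style.haveILetI false
universe u

namespace Groth.Agent.H48.DimFun

open Groth.Agent.H62 Groth.Agent.H29.DimFormula Groth.Agent.H48.DimIneq

section Order

variable {P : Type*} [PartialOrder P] (δ : P → ℤ)
  (hlt : ∀ a b : P, a < b → δ b < δ a) (hcov : ∀ a b : P, a ⋖ b → δ a = δ b + 1)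

include hlt in
theorem delta_le_of_le {a b : P} (h : a ≤ b) : δ b ≤ δ a := by
  rcases eq_or_lt_of_le h with h | h
  · rw [h]
  · exact (hlt a b h).le

include hlt in
theorem length_le_of_dimFun (s : LTSeries P) : (s.length : ℤ) ≤ δ s.head - δ s.last := by
  have key : ∀ i : Fin (s.length + 1), δ (s i) + (i : ℕ) ≤ δ (s 0) := by
    intro i
    induction i using Fin.induction with
    | zero => simp
    | succ i ih =>
      have := hlt _ _ (s.step i)
      simp only [Fin.val_succ, Nat.cast_add, Nat.cast_one]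
      simp only [Fin.val_castSucc] at ih
      omega
  have := key (Fin.last _)
  simp only [Fin.val_last] at this
  change (s.length : ℤ) ≤ δ (s 0) - δ (s (Fin.last _))
  omega

include hlt in
/-- Below `y` and above `x < y` there is an element covered by `y`. -/
theorem exists_covBy_of_lt {x y : P} (hxy : x < y) : ∃ z, x ≤ z ∧ z ⋖ y := by
  classical
  -- minimize `δ z - δ y` over `x ≤ z < y`
  let T : Set ℕ := {n | ∃ z, x ≤ z ∧ z < y ∧ (δ z - δ y).toNat = n}
  have hT : T.Nonempty := ⟨_, x, le_rfl, hxy, rfl⟩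
  obtain ⟨z, hxz, hzy, hz⟩ := Nat.sInf_mem hT
  refine ⟨z, hxz, hzy, ?_⟩
  intro w hzw hwy
  have h1 : sInf T ≤ (δ w - δ y).toNat := Nat.sInf_le ⟨w, hxz.trans hzw.le, hwy, rfl⟩
  have h2 := hlt _ _ hzw
  have h3 := hlt _ _ hwy
  have h4 := hlt _ _ hzy
  omega

include hlt hcov in
theorem exists_chain_of_dimFun (n : ℕ) : ∀ {x y : P}, x ≤ y → δ x - δ y = n →
    ∃ s : LTSeries P, s.head = x ∧ s.last = y ∧ s.length = n := by
  induction n with
  | zero =>
    intro x y hxy h
    rcases eq_or_lt_of_le hxy with h' | h'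
    · subst h'
      exact ⟨RelSeries.singleton _ x, rfl, rfl, rfl⟩
    · have := hlt _ _ h'
      simp at h
      omega
  | succ n ih =>
    intro x y hxy h
    rcases eq_or_lt_of_le hxy with h' | h'
    · subst h'
      simp at h
      omega
    · obtain ⟨z, hxz, hzy⟩ := exists_covBy_of_lt δ hlt h'
      have h1 := hcov _ _ hzy
      obtain ⟨s, hs1, hs2, hs3⟩ := ih hxz (by push_cast at h; omega)
      refine ⟨s.snoc y (by rw [hs2]; exact hzy.lt), ?_, ?_, ?_⟩
      · simp [hs1]
      · simp
      · simp [hs3]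

include hlt hcov in
theorem cod_eq_of_dimFun {x y : P} (hxy : x ≤ y) : cod x y = ((δ x - δ y).toNat : ℕ∞) := by
  have hnn : 0 ≤ δ x - δ y := by
    have := delta_le_of_le δ hlt hxy
    omega
  apply le_antisymm
  · refine iSup₂_le fun s hs => ?_
    have h1 := length_le_of_dimFun δ hlt s
    have h2 := delta_le_of_le δ hlt hs.2
    rw [hs.1] at h1
    have : s.length ≤ (δ x - δ y).toNat := by omega
    exact_mod_cast this
  · obtain ⟨s, hs1, hs2, hs3⟩ := exists_chain_of_dimFun δ hlt hcov (δ x - δ y).toNat hxy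
      (by omega)
    refine le_iSup₂_of_le s ⟨hs1, hs2.le⟩ ?_
    rw [hs3]

end Order

section CatHyp

variable {A : Type u} [CommRing A] (pt : Ideal A) [pt.IsPrime]
  (O : Type u) [CommRing O] [Algebra A O] [IsLocalization.AtPrime O pt]

/-- If the localization of `A` at `pt` is universally catenary, the catenary hypothesis of the
dimension formula holds at the image of `pt` in any quotient domain `A ⧸ p₀` with `p₀ ≤ pt`. -/
theorem catHyp_of_localization (hO : CAlg.IsUniversallyCatenary O)
    (p₀ : Ideal A) [p₀.IsPrime] (hle : p₀ ≤ pt)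
    (S' : Type u) [CommRing S'] [Algebra (A ⧸ p₀) S'] :
    CatHyp (A ⧸ p₀) S' (pt.map (Ideal.Quotient.mk p₀)) := by
  intro A' _ _ f hf hft P' hP' hP'l a b hab hb
  letI algAA' : Algebra A A' := ((algebraMap (A ⧸ p₀) A').comp (Ideal.Quotient.mk p₀)).toAlgebra
  haveI : IsScalarTower A (A ⧸ p₀) A' := IsScalarTower.of_algebraMap_eq fun _ => rfl
  haveI : Algebra.FiniteType A (A ⧸ p₀) := inferInstance
  haveI : Algebra.FiniteType A A' := Algebra.FiniteType.trans (S := A ⧸ p₀) inferInstance hft
  let L := Localization.AtPrime P'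
  haveI : IsScalarTower A A' L := inferInstance
  have hunit : ∀ y : pt.primeCompl, IsUnit (algebraMap A L y) := by
    intro y
    rw [IsScalarTower.algebraMap_apply A A' L]
    apply IsLocalization.map_units L (⟨algebraMap A A' y, ?_⟩ : P'.primeCompl)
    intro hmem
    apply y.2
    have h1 : Ideal.Quotient.mk p₀ (y : A) ∈ P'.under (A ⧸ p₀) := hmem
    rw [← hP'l.over] at h1
    exact (Ideal.mem_quotient_iff_mem hle).mp h1
  letI algOL : Algebra O L := (IsLocalization.lift (M := pt.primeCompl) hunit).toAlgebra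
  haveI : IsScalarTower A O L := IsScalarTower.of_algebraMap_eq fun x =>
    (IsLocalization.lift_eq hunit x).symm
  haveI : Algebra.EssFiniteType A' L := Algebra.EssFiniteType.of_isLocalization L P'.primeCompl
  haveI : Algebra.EssFiniteType A L := Algebra.EssFiniteType.comp A A' L
  haveI : Algebra.EssFiniteType O L := Algebra.EssFiniteType.of_comp A O L
  have hL : CAlg.IsUniversallyCatenary L := Groth.Agent.S9126.result O L hO
  have hcatL : CAlg.IsCatenary L := hL.2 L inferInstance
  refine catPair'_of_isLocalization (B := L) P'.primeCompl hcatL a b hab ?_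
  rw [Set.disjoint_left]
  intro x hx hxb
  exact hx (hb hxb)

end CatHyp

section Main

variable {A B Ks Kt Lx Ly : Type u} [CommRing A] [IsNoetherianRing A] [CommRing B] [Algebra A B]
  [Algebra.FiniteType A B] [Field Ks] [Field Kt] [Field Lx] [Field Ly]
  [Algebra Ks Lx] [Algebra Kt Ly]
  {evs : A →+* Ks} {evt : A →+* Kt} {evx : B →+* Lx} {evy : B →+* Ly}

/-- The dimension formula with equality, for a pair of primes `q_x ≤ q_y` of `B`. -/
theorem height_add_trdeg_eq
    (hsqx : (algebraMap Ks Lx).comp evs = evx.comp (algebraMap A B))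
    (hsqy : (algebraMap Kt Ly).comp evt = evy.comp (algebraMap A B))
    (hKs : IsFrac evs) (hKt : IsFrac evt) (hLx : IsFrac evx) (hLy : IsFrac evy)
    (hle : RingHom.ker evx ≤ RingHom.ker evy)
    (hcat : haveI := RingHom.ker_isPrime evx
      CatHyp (A ⧸ (RingHom.ker evx).under A) (B ⧸ RingHom.ker evx)
        ((RingHom.ker evt).map (Ideal.Quotient.mk ((RingHom.ker evx).under A)))) :
    (((RingHom.ker evy).map (Ideal.Quotient.mk (RingHom.ker evx))).height : Cardinal.{u}) +
        Algebra.trdeg Kt Ly =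
      (((RingHom.ker evt).map (Ideal.Quotient.mk ((RingHom.ker evx).under A))).height :
        Cardinal.{u}) + Algebra.trdeg Ks Lx := by
  haveI : IsNoetherianRing B := Algebra.FiniteType.isNoetherianRing A B
  haveI hq₀prime : (RingHom.ker evx).IsPrime := RingHom.ker_isPrime evx
  set q₀ := RingHom.ker evx with hq₀
  set q := RingHom.ker evy with hq
  set p := RingHom.ker evt with hp
  haveI : q.IsPrime := RingHom.ker_isPrime evy
  haveI : p.IsPrime := RingHom.ker_isPrime evt
  have hpq : p = q.comap (algebraMap A B) := ker_evA_eq_comap hsqy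
  set p₀ := q₀.under A with hp₀
  have hkers : RingHom.ker evs = p₀ := ker_evA_eq_comap hsqx
  haveI : p₀.IsPrime := Ideal.IsPrime.under A q₀
  have hp₀p : p₀ ≤ p := by
    rw [hpq]; exact Ideal.comap_mono hle
  haveI : Algebra.FiniteType A (B ⧸ q₀) :=
    Algebra.FiniteType.trans (inferInstance : Algebra.FiniteType A B) inferInstance
  haveI : Algebra.FiniteType (A ⧸ p₀) (B ⧸ q₀) :=
    Algebra.FiniteType.of_restrictScalars_finiteType A (A ⧸ p₀) (B ⧸ q₀)
  set P := p.map (Ideal.Quotient.mk p₀) with hP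
  set Q := q.map (Ideal.Quotient.mk q₀) with hQ
  haveI : P.IsPrime := Ideal.isPrime_map_quotientMk_of_isPrime hp₀p
  haveI : Q.IsPrime := Ideal.isPrime_map_quotientMk_of_isPrime hle
  let evR : A ⧸ p₀ →+* Kt := Ideal.Quotient.lift p₀ evt (fun a ha => hp₀p ha)
  let evS : B ⧸ q₀ →+* Ly := Ideal.Quotient.lift q₀ evy (fun b hb => hle hb)
  have hkerR : RingHom.ker evR = P := by
    ext x
    obtain ⟨a, rfl⟩ := Ideal.Quotient.mk_surjective x
    rw [RingHom.mem_ker, Ideal.Quotient.lift_mk, hP,
      Ideal.mem_quotient_iff_mem hp₀p]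
    rfl
  have hkerS : RingHom.ker evS = Q := by
    ext x
    obtain ⟨b, rfl⟩ := Ideal.Quotient.mk_surjective x
    rw [RingHom.mem_ker, Ideal.Quotient.lift_mk, hQ,
      Ideal.mem_quotient_iff_mem hle]
    rfl
  have hsq' : (algebraMap Kt Ly).comp evR = evS.comp (algebraMap (A ⧸ p₀) (B ⧸ q₀)) := by
    apply Ideal.Quotient.ringHom_ext
    ext a
    simp only [RingHom.comp_apply, Ideal.Quotient.algebraMap_mk_of_liesOver]
    change algebraMap Kt Ly (evt a) = evy (algebraMap A B a)
    exact congrArg (fun g => g a) hsqy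
  haveI : Q.LiesOver P := by
    refine ⟨?_⟩
    rw [← hkerR, ← hkerS]
    exact ker_evA_eq_comap hsq'
  have hKR : IsFrac evR := by
    intro y
    obtain ⟨a, s, hs, hy⟩ := hKt y
    exact ⟨Ideal.Quotient.mk p₀ a, Ideal.Quotient.mk p₀ s, by simpa [evR] using hs,
      by simpa [evR] using hy⟩
  have hLS : IsFrac evS := by
    intro y
    obtain ⟨a, s, hs, hy⟩ := hLy y
    exact ⟨Ideal.Quotient.mk q₀ a, Ideal.Quotient.mk q₀ s, by simpa [evS] using hs,
      by simpa [evS] using hy⟩
  have hT : Algebra.trdeg ((A ⧸ p₀) ⧸ P) ((B ⧸ q₀) ⧸ Q) = Algebra.trdeg Kt Ly :=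
    trdeg_quotient_eq hsq' hKR hLS P Q hkerR hkerS
  have hT0 : Algebra.trdeg (A ⧸ p₀) (B ⧸ q₀) = Algebra.trdeg Ks Lx :=
    trdeg_quotient_eq hsqx hKs hLx p₀ q₀ hkers rfl
  have hform := dimension_formula_eq (A ⧸ p₀) (B ⧸ q₀) P Q hcat
  rw [hT, hT0] at hform
  exact hform

/-- Variant with named kernels. -/
theorem height_add_trdeg_eq'
    (hsqx : (algebraMap Ks Lx).comp evs = evx.comp (algebraMap A B))
    (hsqy : (algebraMap Kt Ly).comp evt = evy.comp (algebraMap A B))
    (hKs : IsFrac evs) (hKt : IsFrac evt) (hLx : IsFrac evx) (hLy : IsFrac evy)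
    (q₀ q : Ideal B) (p : Ideal A) [q₀.IsPrime]
    (hq₀ : RingHom.ker evx = q₀) (hq : RingHom.ker evy = q) (hp : RingHom.ker evt = p)
    (hle : q₀ ≤ q)
    (hcat : CatHyp (A ⧸ q₀.under A) (B ⧸ q₀) (p.map (Ideal.Quotient.mk (q₀.under A)))) :
    ((q.map (Ideal.Quotient.mk q₀)).height : Cardinal.{u}) + Algebra.trdeg Kt Ly =
      ((p.map (Ideal.Quotient.mk (q₀.under A))).height : Cardinal.{u}) + Algebra.trdeg Ks Lx := by
  subst hq₀ hq hp
  exact height_add_trdeg_eq hsqx hsqy hKs hKt hLx hLy hle hcat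

end Main

end Groth.Agent.H48.DimFun
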