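import Mathlib
import Groth.Agent.H48.DimIneq

/-!
# The dimension inequality for morphisms locally of finite type (scheme level)
-/

set_option autoImplicit false
set_option linter.unusedSectionVars false
set_option linter.style.haveILetI false
universe u

open AlgebraicGeometry CategoryTheory TopologicalSpace Opposite

namespace Groth.Agent.H48.DimIneqSch

open Groth.Agent.H48.DimIneq

section Eval

variable {X : Scheme.{u}} {U : X.Opens} (hU : IsAffineOpen U) (x : X) (hx : x ∈ U)

include hU in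
/-- The kernel of evaluation at `x` is the prime ideal of `x`. -/
theorem ker_evaluation :
    RingHom.ker (X.evaluation U x hx).hom = (hU.primeIdealOf ⟨x, hx⟩).asIdeal := by
  rw [hU.primeIdealOf_eq_map_closedPoint ⟨x, hx⟩]
  ext b
  simp only [RingHom.mem_ker]
  change (X.residue x).hom ((X.presheaf.germ U x hx).hom b) = 0 ↔
    (X.presheaf.germ U x hx).hom b ∈ IsLocalRing.maximalIdeal (X.presheaf.stalk x)
  exact IsLocalRing.residue_eq_zero_iff _

include hU in
/-- The residue field at `x` is the fraction field of the image of `Γ(X, U)`. -/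
theorem isFrac_evaluation : IsFrac (X.evaluation U x hx).hom := by
  intro y
  letI := X.presheaf.algebra_section_stalk ⟨x, hx⟩
  haveI := hU.isLocalization_stalk ⟨x, hx⟩
  obtain ⟨z, rfl⟩ := X.residue_surjective x y
  obtain ⟨⟨b, s⟩, hbs⟩ := IsLocalization.surj (hU.primeIdealOf ⟨x, hx⟩).asIdeal.primeCompl z
  refine ⟨b, s.1, ?_, ?_⟩
  · intro h0
    have : s.1 ∈ RingHom.ker (X.evaluation U x hx).hom := h0
    rw [ker_evaluation hU x hx] at this
    exact s.2 this
  · have := congrArg (X.residue x).hom hbs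
    rw [map_mul] at this
    exact this

end Eval

section Square

variable {X S : Scheme.{u}} (f : X ⟶ S)

theorem evaluation_square {V : S.Opens} {U : X.Opens} (e : U ≤ f ⁻¹ᵁ V) (x : X) (hx : x ∈ U) :
    (f.residueFieldMap x).hom.comp (S.evaluation V (f x) (e hx)).hom =
      (X.evaluation U x hx).hom.comp (f.appLE V U e).hom := by
  have h1 := Scheme.evaluation_naturality f x (e hx)
  have h2 : X.evaluation (f ⁻¹ᵁ V) x (e hx) =
      X.presheaf.map (homOfLE e).op ≫ X.evaluation U x hx := by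
    simp only [Scheme.evaluation]
    rw [← Category.assoc, X.presheaf.germ_res]
  have h3 : f.appLE V U e = f.app V ≫ X.presheaf.map (homOfLE e).op := rfl
  have h4 : S.evaluation V (f x) (e hx) ≫ f.residueFieldMap x =
      f.appLE V U e ≫ X.evaluation U x hx := by
    rw [h1, h2, h3, Category.assoc]
  ext a
  have := congrArg (fun g => g.hom a) h4
  simpa using this

end Square

section Generic

variable {X : Scheme.{u}} {U : X.Opens} (hU : IsAffineOpen U)

/-- Every point has a generization whose closure is an irreducible component. -/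
theorem exists_generic_specializes (y : X) :
    ∃ η : X, closure {η} ∈ irreducibleComponents X ∧ η ⤳ y := by
  have hirr : IsIrreducible (irreducibleComponent y) := isIrreducible_irreducibleComponent
  have hcl : IsClosed (irreducibleComponent y) := isClosed_irreducibleComponent
  obtain ⟨η, hη⟩ := QuasiSober.sober hirr hcl
  refine ⟨η, ?_, ?_⟩
  · rw [hη.def]
    exact irreducibleComponent_mem_irreducibleComponents y
  · rw [specializes_iff_mem_closure, hη.def]
    exact mem_irreducibleComponent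

include hU in
theorem exists_point_of_minimalPrime (x : X) (hx : x ∈ U)
    (q₀ : Ideal Γ(X, U)) [hq₀ : q₀.IsPrime] (hmin : q₀ ∈ minimalPrimes Γ(X, U))
    (hle : q₀ ≤ (hU.primeIdealOf ⟨x, hx⟩).asIdeal) :
    ∃ (ξ : X) (hξ : ξ ∈ U), (hU.primeIdealOf ⟨ξ, hξ⟩).asIdeal = q₀ ∧
      closure {ξ} ∈ irreducibleComponents X ∧ ξ ⤳ x := by
  let z₀ : Spec Γ(X, U) := ⟨q₀, hq₀⟩
  let ξ : X := hU.fromSpec z₀
  have hξ : ξ ∈ U := by
    have : ξ ∈ Set.range hU.fromSpec := Set.mem_range_self _
    rwa [hU.range_fromSpec] at this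
  have hinj : Function.Injective hU.fromSpec := hU.fromSpec.isOpenEmbedding.injective
  have hprime : hU.primeIdealOf ⟨ξ, hξ⟩ = z₀ := hinj (hU.fromSpec_primeIdealOf ⟨ξ, hξ⟩)
  refine ⟨ξ, hξ, by rw [hprime], ?_, ?_⟩
  · obtain ⟨η, hη, hsp⟩ := exists_generic_specializes ξ
    have hηU : η ∈ (U : Set X) := hsp.mem_open U.2 hξ
    obtain ⟨z, rfl⟩ : ∃ z : Spec Γ(X, U), hU.fromSpec z = η := by
      have : η ∈ Set.range hU.fromSpec := by rw [hU.range_fromSpec]; exact hηU
      exact this
    have hsp' : z ⤳ z₀ := (hU.fromSpec.isOpenEmbedding.isInducing.specializes_iff).mp hsp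
    have hle' : z.asIdeal ≤ q₀ := (PrimeSpectrum.le_iff_specializes z z₀).mpr hsp'
    have hge : q₀ ≤ z.asIdeal := hmin.2 ⟨z.2, bot_le⟩ hle'
    have hz : z = z₀ := PrimeSpectrum.ext (le_antisymm hle' hge)
    rw [hz] at hη
    exact hη
  · have h1 : z₀ ⤳ hU.primeIdealOf ⟨x, hx⟩ :=
      (PrimeSpectrum.le_iff_specializes z₀ _).mp hle
    have h2 := h1.map hU.fromSpec.continuous
    rwa [hU.fromSpec_primeIdealOf ⟨x, hx⟩] at h2

end Generic

section Arith

theorem withBot_le_of_cardinal_le {a b : ℕ∞} {n E : ℕ}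
    (h : (b : Cardinal.{u}) + (n : Cardinal.{u}) ≤ (a : Cardinal.{u}) + (E : Cardinal.{u})) :
    ((b : ℕ∞) : WithBot ℕ∞) + (n : WithBot ℕ∞) ≤ ((a : ℕ∞) : WithBot ℕ∞) + (E : WithBot ℕ∞) := by
  have h1 : Cardinal.toENat _ ≤ Cardinal.toENat _ := Cardinal.toENat.monotone' h
  rw [map_add, map_add, Cardinal.toENat_ofENat, Cardinal.toENat_ofENat, Cardinal.toENat_nat,
    Cardinal.toENat_nat] at h1
  have h2 : ((b + (n : ℕ∞) : ℕ∞) : WithBot ℕ∞) ≤ ((a + (E : ℕ∞) : ℕ∞) : WithBot ℕ∞) :=
    WithBot.coe_le_coe.mpr h1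
  simpa using h2

end Arith

section Main

variable {X S : Scheme.{u}}

/-- The general dimension inequality at a point (EGA IV 5.6.5-type). -/
theorem ringKrullDim_stalk_add_le [IsLocallyNoetherian S]
    (f : X ⟶ S) [LocallyOfFiniteType f] (x : X) (n E : ℕ)
    (hn : letI := (f.residueFieldMap x).hom.toAlgebra
      Algebra.trdeg (S.residueField (f x)) (X.residueField x) = n)
    (hE : ∀ ξ : X, closure {ξ} ∈ irreducibleComponents ↥X → ξ ⤳ x →
      letI := (f.residueFieldMap ξ).hom.toAlgebra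
      Algebra.trdeg (S.residueField (f ξ)) (X.residueField ξ) ≤ E) :
    ringKrullDim (X.presheaf.stalk x) + n ≤ ringKrullDim (S.presheaf.stalk (f x)) + E := by
  obtain ⟨V, hV, hxV, -⟩ := exists_isAffineOpen_mem_and_subset (x := f x) (U := ⊤) trivial
  obtain ⟨U, hU, hxU, e⟩ := exists_isAffineOpen_mem_and_subset (x := x) (U := f ⁻¹ᵁ V) hxV
  letI algAB : Algebra Γ(S, V) Γ(X, U) := (f.appLE V U e).hom.toAlgebra
  haveI : IsNoetherianRing Γ(S, V) := IsLocallyNoetherian.component_noetherian ⟨V, hV⟩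
  haveI : Algebra.FiniteType Γ(S, V) Γ(X, U) :=
    f.finiteType_appLE hV hU e
  letI algKL : Algebra (S.residueField (f x)) (X.residueField x) :=
    (f.residueFieldMap x).hom.toAlgebra
  have hsq : (algebraMap (S.residueField (f x)) (X.residueField x)).comp
      (S.evaluation V (f x) (e hxU)).hom =
      (X.evaluation U x hxU).hom.comp (algebraMap Γ(S, V) Γ(X, U)) :=
    evaluation_square f e x hxU
  have hK := isFrac_evaluation hV (f x) (e hxU)
  have hL := isFrac_evaluation hU x hxU
  have key := height_add_trdeg_le hsq hK hL (E : Cardinal.{u}) (by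
    intro q₀ hq₀ hmin hle
    rw [ker_evaluation hU x hxU] at hle
    obtain ⟨ξ, hξU, hξq, hξirr, hξx⟩ := exists_point_of_minimalPrime hU x hxU q₀ hmin hle
    have h1 := hE ξ hξirr hξx
    letI algξ : Algebra (S.residueField (f ξ)) (X.residueField ξ) :=
      (f.residueFieldMap ξ).hom.toAlgebra
    have hsqξ : (algebraMap (S.residueField (f ξ)) (X.residueField ξ)).comp
        (S.evaluation V (f ξ) (e hξU)).hom =
        (X.evaluation U ξ hξU).hom.comp (algebraMap Γ(S, V) Γ(X, U)) :=
      evaluation_square f e ξ hξU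
    have hkerB : RingHom.ker (X.evaluation U ξ hξU).hom = q₀ := by
      rw [ker_evaluation hU ξ hξU, hξq]
    have hkerA : RingHom.ker (S.evaluation V (f ξ) (e hξU)).hom = q₀.under Γ(S, V) := by
      rw [ker_evA_eq_comap hsqξ, hkerB]
    have hT := trdeg_quotient_eq hsqξ (isFrac_evaluation hV (f ξ) (e hξU))
      (isFrac_evaluation hU ξ hξU) (q₀.under Γ(S, V)) q₀ hkerA hkerB
    rw [hT]
    exact h1)
  rw [hn, ker_evaluation hU x hxU, ker_evaluation hV (f x) (e hxU)] at key
  have hdimX : ringKrullDim (X.presheaf.stalk x) =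
      ((hU.primeIdealOf ⟨x, hxU⟩).asIdeal.height : WithBot ℕ∞) := by
    letI := X.presheaf.algebra_section_stalk ⟨x, hxU⟩
    haveI := hU.isLocalization_stalk ⟨x, hxU⟩
    exact IsLocalization.AtPrime.ringKrullDim_eq_height (hU.primeIdealOf ⟨x, hxU⟩).asIdeal _
  have hdimS : ringKrullDim (S.presheaf.stalk (f x)) =
      ((hV.primeIdealOf ⟨f x, e hxU⟩).asIdeal.height : WithBot ℕ∞) := by
    letI := S.presheaf.algebra_section_stalk ⟨f x, e hxU⟩
    haveI := hV.isLocalization_stalk ⟨f x, e hxU⟩
    exact IsLocalization.AtPrime.ringKrullDim_eq_height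
      (hV.primeIdealOf ⟨f x, e hxU⟩).asIdeal _
  rw [hdimX, hdimS]
  exact withBot_le_of_cardinal_le key

end Main

end Groth.Agent.H48.DimIneqSch
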