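import Mathlib
import Groth.Prelude.Def_Cyc
import Groth.Agent.H48.DimFun
import Groth.Agent.H48.DimIneqSch

/-!
# The induced dimension function on a scheme locally of finite type over a universally
catenary base
-/

set_option autoImplicit false
set_option linter.unusedSectionVars false
set_option linter.style.haveILetI false
universe u

open AlgebraicGeometry CategoryTheory TopologicalSpace Opposite

namespace Groth.Agent.H48.DimFunSch

open Groth.Agent.H62 Groth.Agent.H29.DimFormula Groth.Agent.H48.DimIneq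
  Groth.Agent.H48.DimIneqSch Groth.Agent.H48.DimFun

section Points

variable {X : Scheme.{u}} {U : X.Opens} (hU : IsAffineOpen U)

include hU in
theorem fromSpec_specializes_iff (a b : PrimeSpectrum Γ(X, U)) :
    hU.fromSpec a ⤳ hU.fromSpec b ↔ a ≤ b := by
  rw [hU.fromSpec.isOpenEmbedding.isInducing.specializes_iff]
  exact (PrimeSpectrum.le_iff_specializes a b).symm

include hU in
theorem fromSpec_injective : Function.Injective (hU.fromSpec : PrimeSpectrum Γ(X, U) → X) :=
  hU.fromSpec.isOpenEmbedding.injective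

include hU in
theorem exists_fromSpec_eq (z : X) (hz : z ∈ U) : ∃ c : PrimeSpectrum Γ(X, U), hU.fromSpec c = z :=
  ⟨hU.primeIdealOf ⟨z, hz⟩, hU.fromSpec_primeIdealOf ⟨z, hz⟩⟩

include hU in
theorem fromSpec_mem (a : PrimeSpectrum Γ(X, U)) : hU.fromSpec a ∈ U := by
  have : hU.fromSpec a ∈ Set.range hU.fromSpec := Set.mem_range_self _
  rwa [hU.range_fromSpec] at this

variable (δ : X → ℤ) (hδ : Cyc.IsDimFun X δ)

include hU hδ in
theorem delta_lt (a b : PrimeSpectrum Γ(X, U)) (hab : a < b) :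
    δ (hU.fromSpec b) < δ (hU.fromSpec a) := by
  refine (hδ _ _ ((fromSpec_specializes_iff hU a b).mpr hab.le) ?_).1
  intro h
  exact hab.ne (fromSpec_injective hU h)

include hU hδ in
theorem delta_cov (a b : PrimeSpectrum Γ(X, U)) (hab : a ⋖ b) :
    δ (hU.fromSpec a) = δ (hU.fromSpec b) + 1 := by
  refine (hδ _ _ ((fromSpec_specializes_iff hU a b).mpr hab.le) ?_).2 ?_
  · intro h
    exact hab.lt.ne (fromSpec_injective hU h)
  · intro z hz1 hz2
    have hzU : z ∈ U := hz2.mem_open U.2 (fromSpec_mem hU b)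
    obtain ⟨c, rfl⟩ := exists_fromSpec_eq hU z hzU
    rw [fromSpec_specializes_iff] at hz1 hz2
    rcases hab.eq_or_eq hz1 hz2 with h | h
    · left; rw [h]
    · right; rw [h]

include hU hδ in
/-- Relative heights on an affine open are differences of the dimension function. -/
theorem height_map_mk_eq (a b : PrimeSpectrum Γ(X, U)) (hab : a ≤ b) :
    (b.asIdeal.map (Ideal.Quotient.mk a.asIdeal)).height =
      ((δ (hU.fromSpec a) - δ (hU.fromSpec b)).toNat : ℕ∞) := by
  rw [← cod_eq_height_map_mk a b hab]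
  exact cod_eq_of_dimFun (fun p : PrimeSpectrum Γ(X, U) => δ (hU.fromSpec p))
    (delta_lt hU δ hδ) (delta_cov hU δ hδ) hab

include hU in
/-- An immediate specialization gives a covering pair of primes. -/
theorem covBy_of_immediate (a b : PrimeSpectrum Γ(X, U)) (hab : a < b)
    (himm : ∀ z : X, hU.fromSpec a ⤳ z → z ⤳ hU.fromSpec b →
      z = hU.fromSpec a ∨ z = hU.fromSpec b) : a ⋖ b := by
  refine ⟨hab, fun c hac hcb => ?_⟩
  rcases himm (hU.fromSpec c) ((fromSpec_specializes_iff hU a c).mpr hac.le)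
    ((fromSpec_specializes_iff hU c b).mpr hcb.le) with h | h
  · exact hac.ne (fromSpec_injective hU h).symm
  · exact hcb.ne (fromSpec_injective hU h)

end Points

section Arith

theorem enat_eq_of_cardinal_eq {c : ℕ∞} {m nx ny : ℕ}
    (h : (c : Cardinal.{u}) + (ny : Cardinal.{u}) = ((m : ℕ∞) : Cardinal.{u}) + (nx : Cardinal.{u})) :
    c + (ny : ℕ∞) = (m : ℕ∞) + (nx : ℕ∞) := by
  have h1 := congrArg Cardinal.toENat h
  rw [map_add, map_add, Cardinal.toENat_ofENat, Cardinal.toENat_ofENat, Cardinal.toENat_nat,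
    Cardinal.toENat_nat] at h1
  exact h1

end Arith

section Main

variable {X S : Scheme.{u}}

theorem isDimFun_of_deltaCompat (f : X ⟶ S) [LocallyOfFiniteType f] (δ : S → ℤ)
    (hS : Cyc.IsSetup S δ) (δX : X → ℤ) (hδ : Cyc.DeltaCompat f δX δ) : Cyc.IsDimFun X δX := by
  obtain ⟨hN, hUC, hdim⟩ := hS
  haveI := hN
  intro x y hxy hne
  obtain ⟨V, hV, hyV, -⟩ := exists_isAffineOpen_mem_and_subset (x := f y) (U := ⊤) trivial
  obtain ⟨U, hU, hyU, e⟩ := exists_isAffineOpen_mem_and_subset (x := y) (U := f ⁻¹ᵁ V) hyV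
  have hxU : x ∈ U := hxy.mem_open U.2 hyU
  letI algAB : Algebra Γ(S, V) Γ(X, U) := (f.appLE V U e).hom.toAlgebra
  haveI : IsNoetherianRing Γ(S, V) := IsLocallyNoetherian.component_noetherian ⟨V, hV⟩
  haveI : Algebra.FiniteType Γ(S, V) Γ(X, U) := f.finiteType_appLE hV hU e
  letI algx : Algebra (S.residueField (f x)) (X.residueField x) :=
    (f.residueFieldMap x).hom.toAlgebra
  letI algy : Algebra (S.residueField (f y)) (X.residueField y) :=
    (f.residueFieldMap y).hom.toAlgebra
  have hsqx : (algebraMap (S.residueField (f x)) (X.residueField x)).comp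
      (S.evaluation V (f x) (e hxU)).hom =
      (X.evaluation U x hxU).hom.comp (algebraMap Γ(S, V) Γ(X, U)) :=
    evaluation_square f e x hxU
  have hsqy : (algebraMap (S.residueField (f y)) (X.residueField y)).comp
      (S.evaluation V (f y) (e hyU)).hom =
      (X.evaluation U y hyU).hom.comp (algebraMap Γ(S, V) Γ(X, U)) :=
    evaluation_square f e y hyU
  have hKs := isFrac_evaluation hV (f x) (e hxU)
  have hKt := isFrac_evaluation hV (f y) (e hyU)
  have hLx := isFrac_evaluation hU x hxU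
  have hLy := isFrac_evaluation hU y hyU
  -- the primes
  set qx : PrimeSpectrum Γ(X, U) := hU.primeIdealOf ⟨x, hxU⟩ with hqx
  set qy : PrimeSpectrum Γ(X, U) := hU.primeIdealOf ⟨y, hyU⟩ with hqy
  set ps : PrimeSpectrum Γ(S, V) := hV.primeIdealOf ⟨f x, e hxU⟩ with hps
  set pt : PrimeSpectrum Γ(S, V) := hV.primeIdealOf ⟨f y, e hyU⟩ with hpt
  have hfx : hU.fromSpec qx = x := hU.fromSpec_primeIdealOf ⟨x, hxU⟩
  have hfy : hU.fromSpec qy = y := hU.fromSpec_primeIdealOf ⟨y, hyU⟩
  have hfs : hV.fromSpec ps = f x := hV.fromSpec_primeIdealOf ⟨f x, e hxU⟩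
  have hft : hV.fromSpec pt = f y := hV.fromSpec_primeIdealOf ⟨f y, e hyU⟩
  have hkx : RingHom.ker (X.evaluation U x hxU).hom = qx.asIdeal := ker_evaluation hU x hxU
  have hky : RingHom.ker (X.evaluation U y hyU).hom = qy.asIdeal := ker_evaluation hU y hyU
  have hks : RingHom.ker (S.evaluation V (f x) (e hxU)).hom = ps.asIdeal :=
    ker_evaluation hV (f x) (e hxU)
  have hkt : RingHom.ker (S.evaluation V (f y) (e hyU)).hom = pt.asIdeal :=
    ker_evaluation hV (f y) (e hyU)
  have hqle : qx ≤ qy := by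
    rw [← fromSpec_specializes_iff hU, hfx, hfy]; exact hxy
  have hqlt : qx < qy := by
    refine lt_of_le_of_ne hqle ?_
    intro h
    apply hne
    rw [← hfx, ← hfy, h]
  have hsp : f x ⤳ f y := hxy.map f.continuous
  have hple : ps ≤ pt := by
    rw [← fromSpec_specializes_iff hV, hfs, hft]; exact hsp
  have hps' : ps.asIdeal = qx.asIdeal.under Γ(S, V) := by
    rw [← hks, ← hkx]
    exact ker_evA_eq_comap hsqx
  -- the catenary hypothesis
  letI algO := S.presheaf.algebra_section_stalk ⟨f y, e hyU⟩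
  haveI hloc : IsLocalization.AtPrime (S.presheaf.stalk (f y)) pt.asIdeal :=
    hV.isLocalization_stalk ⟨f y, e hyU⟩
  haveI : (qx.asIdeal.under Γ(S, V)).IsPrime := Ideal.IsPrime.under _ _
  have hcat : CatHyp (Γ(S, V) ⧸ qx.asIdeal.under Γ(S, V)) (Γ(X, U) ⧸ qx.asIdeal)
      (pt.asIdeal.map (Ideal.Quotient.mk (qx.asIdeal.under Γ(S, V)))) :=
    catHyp_of_localization pt.asIdeal (S.presheaf.stalk (f y)) (hUC (f y))
      (qx.asIdeal.under Γ(S, V)) (by rw [← hps']; exact hple) _
  have key := height_add_trdeg_eq' hsqx hsqy hKs hKt hLx hLy qx.asIdeal qy.asIdeal pt.asIdeal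
    hkx hky hkt hqle hcat
  obtain ⟨nx, hnx, hδx⟩ := hδ x
  obtain ⟨ny, hny, hδy⟩ := hδ y
  rw [hnx, hny] at key
  -- heights via dimension functions
  have h1 : (pt.asIdeal.map (Ideal.Quotient.mk (qx.asIdeal.under Γ(S, V)))).height =
      ((δ (f x) - δ (f y)).toNat : ℕ∞) := by
    have := height_map_mk_eq hV δ hdim ps pt hple
    rw [hfs, hft] at this
    rw [← this]
    congr 2 <;> rw [hps']
  have h2 : (qy.asIdeal.map (Ideal.Quotient.mk qx.asIdeal)).height = cod qx qy :=
    (cod_eq_height_map_mk qx qy hqle).symm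
  rw [h1, h2] at key
  have key' := enat_eq_of_cardinal_eq key
  have hδle : δ (f y) ≤ δ (f x) := by
    rcases eq_or_ne (f x) (f y) with h | h
    · rw [h]
    · exact (hdim _ _ hsp h).1.le
  have hone : 1 ≤ cod qx qy := one_le_cod_of_lt hqlt
  have hfin : cod qx qy ≠ ⊤ := by
    intro h
    rw [h] at key'
    simp only [top_add] at key'
    have h3 : (((δ (f x) - δ (f y)).toNat + nx : ℕ) : ℕ∞) ≠ ⊤ := ENat.natCast_ne_top _
    apply h3
    rw [key']
    push_cast
    rfl
  obtain ⟨k, hk⟩ := ENat.ne_top_iff_exists.mp hfin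
  rw [← hk] at key' hone
  have key'' : k + ny = (δ (f x) - δ (f y)).toNat + nx := by exact_mod_cast key'
  have hone' : 1 ≤ k := by exact_mod_cast hone
  refine ⟨by rw [hδx, hδy]; omega, fun himm => ?_⟩
  have hcov : qx ⋖ qy := covBy_of_immediate hU qx qy hqlt (by rw [hfx, hfy]; exact himm)
  have hk1 : cod qx qy = 1 := cod_of_covBy hcov
  rw [← hk] at hk1
  have hk1' : k = 1 := by exact_mod_cast hk1
  rw [hδx, hδy]
  omega

end Main

end Groth.Agent.H48.DimFunSch
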