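import Mathlib
import Groth.Prelude.Def_Cyc
import Groth.Agent.H48.DimFunSch

/-!
# Jacobson schemes with a dimension function vanishing on closed points
-/

set_option autoImplicit false
set_option linter.unusedSectionVars false
set_option linter.style.haveILetI false
universe u

open AlgebraicGeometry CategoryTheory TopologicalSpace Opposite

namespace Groth.Agent.H48.CycDim6

open Groth.Agent.H62 Groth.Agent.H29.DimFormula Groth.Agent.H48.DimFun
  Groth.Agent.H48.DimIneqSch Groth.Agent.H48.DimFunSch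

section Ring

variable {A : Type u} [CommRing A] (b : PrimeSpectrum A)
  (O : Type u) [CommRing O] [Algebra A O] [IsLocalization.AtPrime O b.asIdeal]

/-- The dimension of the quotient of a localization at `b` by a prime lying over `a` is `cod a b`. -/
theorem ringKrullDim_quotient_eq_cod (P : Ideal O) [hP : P.IsPrime] (a : PrimeSpectrum A)
    (ha : P.under A = a.asIdeal) : ringKrullDim (O ⧸ P) = ((cod a b : ℕ∞) : WithBot ℕ∞) := by
  haveI : IsLocalRing O := IsLocalization.AtPrime.isLocalRing O b.asIdeal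
  haveI : IsLocalRing (O ⧸ P) :=
    .of_surjective' (Ideal.Quotient.mk P) Ideal.Quotient.mk_surjective
  have hPle : P ≤ IsLocalRing.maximalIdeal O := IsLocalRing.le_maximalIdeal hP.ne_top
  have hmax : ((IsLocalRing.maximalIdeal O).map (Ideal.Quotient.mk P)).IsMaximal := by
    refine ((IsLocalRing.maximalIdeal O).map_eq_top_or_isMaximal_of_surjective
      (Ideal.Quotient.mk P) Ideal.Quotient.mk_surjective inferInstance).resolve_left ?_
    intro htop
    have h1 : (1 : O ⧸ P) ∈ (IsLocalRing.maximalIdeal O).map (Ideal.Quotient.mk P) := by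
      rw [htop]; trivial
    rw [← map_one (Ideal.Quotient.mk P), Ideal.mem_quotient_iff_mem hPle] at h1
    exact (IsLocalRing.maximalIdeal.isMaximal O).ne_top ((Ideal.eq_top_iff_one _).mpr h1)
  have hmeq := IsLocalRing.eq_maximalIdeal hmax
  rw [← IsLocalRing.maximalIdeal_height_eq_ringKrullDim, ← hmeq]
  congr 1
  let P' : PrimeSpectrum O := ⟨P, hP⟩
  let m' : PrimeSpectrum O := ⟨IsLocalRing.maximalIdeal O, inferInstance⟩
  have hle : P' ≤ m' := hPle
  rw [← cod_eq_height_map_mk P' m' hle]
  have hmem : ∀ y : PrimeSpectrum A, y ≤ b →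
      y ∈ Set.range (locEmb (B := O) b.asIdeal.primeCompl) := by
    intro y hy
    rw [range_locEmb]
    change Disjoint ((b.asIdeal.primeCompl : Submonoid A) : Set A) (y.asIdeal : Set A)
    rw [Set.disjoint_left]
    intro x hx hxy
    exact hx (hy hxy)
  have ha' : locEmb (B := O) b.asIdeal.primeCompl P' = a := PrimeSpectrum.ext ha
  have hb' : locEmb (B := O) b.asIdeal.primeCompl m' = b :=
    PrimeSpectrum.ext (IsLocalization.AtPrime.under_maximalIdeal O b.asIdeal)
  have h := cod_map_eq (locEmb (B := O) b.asIdeal.primeCompl) (a := P') (b := m')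
    (fun q _ h2 => hmem q (by rw [hb'] at h2; exact h2))
  rw [ha', hb'] at h
  exact h.symm

end Ring

section Top

variable {X : Scheme.{u}} (δ : X → ℤ) (hδ : Cyc.IsDimFun X δ)

include hδ in
/-- The restriction of a dimension function to a closed subset is a dimension function. -/
theorem isDimensionFunction_closed (Z : Set X) (hZ : IsClosed Z) :
    PtTop.IsDimensionFunction (fun p : Z => δ p.1) := by
  constructor
  · intro x y hxy hne
    have h1 : x.1 ⤳ y.1 := (subtype_specializes_iff x y).mp hxy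
    exact (hδ _ _ h1 (fun h => hne (Subtype.ext h))).1
  · rintro x y ⟨hxy, hne, himm⟩
    have h1 : x.1 ⤳ y.1 := (subtype_specializes_iff x y).mp hxy
    refine (hδ _ _ h1 (fun h => hne (Subtype.ext h))).2 ?_
    intro z hz1 hz2
    have hzZ : z ∈ Z := hz1.mem_closed hZ x.2
    rcases himm ⟨z, hzZ⟩ ((subtype_specializes_iff x ⟨z, hzZ⟩).mpr hz1)
      ((subtype_specializes_iff ⟨z, hzZ⟩ y).mpr hz2) with h | h
    · left; exact congrArg Subtype.val h
    · right; exact congrArg Subtype.val h

end Top

section Main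

variable (X : Scheme.{u}) [JacobsonSpace X] (δ : X → ℤ) (hδ : Cyc.IsDimFun X δ)
  (h0 : ∀ x : X, IsClosed ({x} : Set X) → δ x = 0)

theorem exists_closed_specialization (x : X) : ∃ z : X, x ⤳ z ∧ IsClosed ({z} : Set X) := by
  obtain ⟨z, hz1, hz2⟩ := nonempty_inter_closedPoints (X := X) (Z := closure {x})
    ⟨x, subset_closure rfl⟩ isClosed_closure.isLocallyClosed
  exact ⟨z, specializes_iff_mem_closure.mpr hz1, hz2⟩

include hδ in
theorem delta_mono {x y : X} (h : x ⤳ y) : δ y ≤ δ x := by
  rcases eq_or_ne x y with h' | h'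
  · rw [h']
  · exact (hδ _ _ h h').1.le

include hδ h0 in
theorem delta_nonneg (x : X) : 0 ≤ δ x := by
  obtain ⟨z, hz1, hz2⟩ := exists_closed_specialization X x
  rw [← h0 z hz2]
  exact delta_mono X δ hδ hz1

include hδ h0 in
theorem topologicalKrullDim_closure (ξ : X) :
    topologicalKrullDim ↥(closure ({ξ} : Set X)) = (((δ ξ).toNat : ℕ∞) : WithBot ℕ∞) := by
  set Z : Set X := closure {ξ} with hZdef
  have hZ : IsClosed Z := isClosed_closure
  haveI : QuasiSober ↥Z := hZ.isClosedEmbedding_subtypeVal.quasiSober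
  have hdZ := isDimensionFunction_closed δ hδ Z hZ
  let ξZ : Z := ⟨ξ, subset_closure rfl⟩
  obtain ⟨z, hz1, hz2⟩ := exists_closed_specialization X ξ
  let zZ : Z := ⟨z, specializes_iff_mem_closure.mp hz1⟩
  have hnn := delta_nonneg X δ hδ h0
  apply le_antisymm
  · change Order.krullDim (IrreducibleCloseds ↥Z) ≤ _
    refine iSup_le fun s => ?_
    have h1 := length_le_of_dimfun hdZ s
    have h2 : δ (gpt s.last).1 ≤ δ ξ :=
      delta_mono X δ hδ (specializes_iff_mem_closure.mpr (gpt s.last).2)
    have h3 := hnn (gpt s.head).1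
    have h4 : s.length ≤ (δ ξ).toNat := by
      simp only at h1
      omega
    exact_mod_cast h4
  · have hTT' : ptClosure zZ ≤ ptClosure ξZ := by
      rw [le_iff_gpt_specializes, gpt_ptClosure, gpt_ptClosure]
      exact (subtype_specializes_iff ξZ zZ).mpr hz1
    have hc := cod_eq_of_dimfun hdZ hTT'
    rw [gpt_ptClosure, gpt_ptClosure] at hc
    have hc' : cod (ptClosure zZ) (ptClosure ξZ) = ((δ ξ).toNat : ℕ∞) := by
      rw [hc]
      simp only [zZ, ξZ, h0 z hz2, sub_zero]
    rw [← hc']
    change _ ≤ Order.krullDim (IrreducibleCloseds ↥Z)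
    haveI : Nonempty (IrreducibleCloseds ↥Z) := ⟨ptClosure ξZ⟩
    rw [Order.krullDim_eq_iSup_length]
    refine WithBot.coe_le_coe.mpr ?_
    unfold cod
    exact iSup₂_le fun s _ => le_iSup (fun p : LTSeries (IrreducibleCloseds ↥Z) => (p.length : ℕ∞)) s

variable [IsLocallyNoetherian X]

include hδ in
theorem ringKrullDim_locQuot (ξ z : X) (h : ξ ⤳ z) :
    ringKrullDim (Cyc.LocQuot z ξ h) = (((δ ξ - δ z).toNat : ℕ∞) : WithBot ℕ∞) := by
  obtain ⟨U, hU, hzU, -⟩ := exists_isAffineOpen_mem_and_subset (x := z) (U := ⊤) trivial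
  have hξU : ξ ∈ U := h.mem_open U.2 hzU
  set a : PrimeSpectrum Γ(X, U) := hU.primeIdealOf ⟨ξ, hξU⟩ with ha
  set b : PrimeSpectrum Γ(X, U) := hU.primeIdealOf ⟨z, hzU⟩ with hb
  have hfa : hU.fromSpec a = ξ := hU.fromSpec_primeIdealOf ⟨ξ, hξU⟩
  have hfb : hU.fromSpec b = z := hU.fromSpec_primeIdealOf ⟨z, hzU⟩
  have hab : a ≤ b := by
    rw [← fromSpec_specializes_iff hU, hfa, hfb]; exact h
  letI := X.presheaf.algebra_section_stalk ⟨z, hzU⟩
  haveI : IsLocalization.AtPrime (X.presheaf.stalk z) b.asIdeal :=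
    hU.isLocalization_stalk ⟨z, hzU⟩
  haveI : (RingHom.ker (Cyc.specMap z ξ h)).IsPrime := RingHom.ker_isPrime _
  have hunder : (RingHom.ker (Cyc.specMap z ξ h)).under Γ(X, U) = a.asIdeal := by
    rw [← ker_evaluation hU ξ hξU]
    ext r
    simp only [Ideal.mem_comap, RingHom.mem_ker, Ideal.under]
    have h1 : X.presheaf.germ U z hzU ≫ X.presheaf.stalkSpecializes h =
        X.presheaf.germ U ξ hξU := TopCat.Presheaf.germ_stalkSpecializes _ hzU h
    have h2 : (Cyc.specMap z ξ h) (algebraMap Γ(X, U) (X.presheaf.stalk z) r) =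
        (X.evaluation U ξ hξU).hom r := by
      change (X.residue ξ).hom ((X.presheaf.stalkSpecializes h).hom
        ((X.presheaf.germ U z hzU).hom r)) = _
      have := congrArg (fun g => g.hom r) h1
      simp only [CommRingCat.hom_comp, RingHom.comp_apply] at this
      rw [this]
      rfl
    rw [h2]
  rw [ringKrullDim_quotient_eq_cod b (X.presheaf.stalk z) _ a hunder,
    cod_eq_height_map_mk a b hab, height_map_mk_eq hU δ hδ a b hab, hfa, hfb]

end Main

end Groth.Agent.H48.CycDim6
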