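import Mathlib
import Groth.Prelude.Def_Cyc
import Groth.Agent.H48.CycDim6

/-!
# Fibres of morphisms locally of finite type and dimension functions
-/

set_option autoImplicit false
set_option linter.unusedSectionVars false
set_option linter.style.haveILetI false
universe u

open AlgebraicGeometry CategoryTheory TopologicalSpace Opposite

namespace Groth.Agent.H48.CycFib

open Groth.Agent.H48.CycDim6

variable {X Y : Scheme.{u}} (f : X ⟶ Y)

section Closed

variable [LocallyOfFiniteType f]

/-- A point closed in its fibre has residue field finite over that of its image. -/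
theorem residueFieldMap_finite_of_isClosed_asFiber (z : X)
    (h : IsClosed ({f.asFiber z} : Set (f.fiber (f z)))) :
    (f.residueFieldMap z).hom.Finite := by
  haveI : IsClosedImmersion (f.asFiberHom z) :=
    .of_isPreimmersion _ (by rw [Scheme.Hom.range_asFiberHom]; exact h)
  haveI : LocallyOfFiniteType (f.fiberToSpecResidueField (f z)) :=
    MorphismProperty.pullback_snd _ _ inferInstance
  have h1 : LocallyOfFiniteType (f.asFiberHom z ≫ f.fiberToSpecResidueField (f z)) :=
    inferInstance
  rw [Scheme.Hom.asFiberHom_fiberToSpecResidueField] at h1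
  have h2 : (f.residueFieldMap z).hom.FiniteType :=
    (HasRingHomProperty.Spec_iff (P := @LocallyOfFiniteType)).mp h1
  exact RingHom.finite_iff_finiteType_of_isJacobsonRing.mpr h2

theorem trdeg_eq_zero_of_isClosed_asFiber (z : X)
    (h : IsClosed ({f.asFiber z} : Set (f.fiber (f z)))) :
    letI := (f.residueFieldMap z).hom.toAlgebra
    Algebra.trdeg (Y.residueField (f z)) (X.residueField z) = 0 := by
  letI := (f.residueFieldMap z).hom.toAlgebra
  haveI : Module.Finite (Y.residueField (f z)) (X.residueField z) :=
    residueFieldMap_finite_of_isClosed_asFiber f z h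
  haveI : Algebra.IsAlgebraic (Y.residueField (f z)) (X.residueField z) :=
    Algebra.IsAlgebraic.of_finite _ _
  exact trdeg_eq_zero

/-- Variant for a closed point of an arbitrary fibre. -/
theorem trdeg_eq_zero_of_isClosed (y : Y) (z : X) (hz : f z = y) (t : f.fiber y)
    (ht : f.fiberι y t = z) (hcl : IsClosed ({t} : Set (f.fiber y))) :
    letI := (f.residueFieldMap z).hom.toAlgebra
    Algebra.trdeg (Y.residueField (f z)) (X.residueField z) = 0 := by
  subst hz
  have : t = f.asFiber z := by
    apply (f.fiberι (f z)).isEmbedding.injective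
    rw [ht, Scheme.Hom.fiberι_asFiber]
  subst this
  exact trdeg_eq_zero_of_isClosed_asFiber f z hcl

end Closed

section DimFun

variable (δX : X → ℤ) (hδX : Cyc.IsDimFun X δX) (y : Y) (c : ℤ)

theorem fiberι_specializes_iff (t t' : f.fiber y) : f.fiberι y t ⤳ f.fiberι y t' ↔ t ⤳ t' :=
  (f.fiberι y).isEmbedding.isInducing.specializes_iff

theorem map_fiberι (t : f.fiber y) : f (f.fiberι y t) = y := by
  have : f.fiberι y t ∈ Set.range (f.fiberι y) := Set.mem_range_self t
  rw [Scheme.Hom.range_fiberι] at this
  exact this

include hδX in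
/-- The restriction of a dimension function to a fibre is a dimension function. -/
theorem isDimFun_fiber : Cyc.IsDimFun (f.fiber y) (fun t => δX (f.fiberι y t) - c) := by
  intro t t' htt' hne
  have h1 : f.fiberι y t ⤳ f.fiberι y t' := (fiberι_specializes_iff f y t t').mpr htt'
  have h2 : f.fiberι y t ≠ f.fiberι y t' :=
    fun h => hne ((f.fiberι y).isEmbedding.injective h)
  obtain ⟨h3, h4⟩ := hδX _ _ h1 h2
  refine ⟨by simp only; omega, fun himm => ?_⟩
  have := h4 (by
    intro w hw1 hw2
    have e1 : f (f.fiberι y t) ⤳ f w := hw1.map f.continuous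
    have e2 : f w ⤳ f (f.fiberι y t') := hw2.map f.continuous
    rw [map_fiberι] at e1 e2
    have hw : f w = y := (e2.antisymm e1).eq
    have hwr : w ∈ Set.range (f.fiberι y) := by
      rw [Scheme.Hom.range_fiberι]; exact hw
    obtain ⟨t'', rfl⟩ := hwr
    rcases himm t'' ((fiberι_specializes_iff f y t t'').mp hw1)
      ((fiberι_specializes_iff f y t'' t').mp hw2) with h | h
    · left; rw [h]
    · right; rw [h])
  simp only
  omega

end DimFun

section Main

variable [LocallyOfFiniteType f] (δX : X → ℤ) (δY : Y → ℤ) (hδX : Cyc.IsDimFun X δX)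
  (hδ : Cyc.DeltaCompat f δX δY)

include hδX hδ in
/-- The dimension of the closure of a point in its fibre is the transcendence degree
`δX x - δY (f x)`. -/
theorem topologicalKrullDim_closure_asFiber (x : X) :
    topologicalKrullDim ↥(closure ({f.asFiber x} : Set (f.fiber (f x)))) =
      (((δX x - δY (f x)).toNat : ℕ∞) : WithBot ℕ∞) := by
  have hdF := isDimFun_fiber f δX hδX (f x) (δY (f x))
  have h0 : ∀ t : f.fiber (f x), IsClosed ({t} : Set (f.fiber (f x))) →
      δX (f.fiberι (f x) t) - δY (f x) = 0 := by
    intro t ht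
    have hz := map_fiberι f (f x) t
    obtain ⟨n, hn, hδn⟩ := hδ (f.fiberι (f x) t)
    have h0 := trdeg_eq_zero_of_isClosed f (f x) (f.fiberι (f x) t) hz t rfl ht
    rw [hn] at h0
    have hn0 : n = 0 := by exact_mod_cast h0
    rw [hδn, hz, hn0]
    simp
  have := topologicalKrullDim_closure (f.fiber (f x))
    (fun t => δX (f.fiberι (f x) t) - δY (f x)) hdF h0 (f.asFiber x)
  simpa using this

/-- A point of the fibre without proper generalizations in the fibre has closure an irreducible
component. -/
theorem closure_mem_irreducibleComponents (y : Y) (t : f.fiber y)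
    (hmax : ∀ t' : f.fiber y, t' ⤳ t → t' = t) :
    closure ({t} : Set (f.fiber y)) ∈ irreducibleComponents (f.fiber y) := by
  refine ⟨isIrreducible_singleton.closure, fun T' hT' hle => ?_⟩
  obtain ⟨g, hg⟩ := QuasiSober.sober hT'.closure isClosed_closure
  have htT' : t ∈ closure T' := subset_closure (hle (subset_closure rfl))
  have hgt : g ⤳ t := by
    rw [specializes_iff_mem_closure, hg.def]; exact htT'
  have := hmax g hgt
  subst this
  calc T' ⊆ closure T' := subset_closure
    _ = closure {g} := hg.def.symm

include hδX hδ in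
theorem generic_of_component_preimage_flat [Flat f] (r : ℕ) (hr : Cyc.HasRelDim f r)
    (y : Y) (x : X) (hx : f x ∈ closure ({y} : Set Y))
    (hmax : ∀ x' : X, f x' ∈ closure ({y} : Set Y) → x' ⤳ x → x' = x) :
    f x = y ∧ δX x = δY y + r := by
  have hfx : f x = y := by
    have hsp : y ⤳ f x := specializes_iff_mem_closure.mpr hx
    obtain ⟨x', hx'x, hx'y⟩ := Flat.generalizingMap f hsp
    have := hmax x' (by rw [hx'y]; exact subset_closure rfl) hx'x
    rw [← this, hx'y]
  subst hfx
  refine ⟨rfl, ?_⟩
  have hdim := topologicalKrullDim_closure_asFiber f δX δY hδX hδ x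
  have hcomp := closure_mem_irreducibleComponents f (f x) (f.asFiber x) (by
    intro t' ht'
    apply (f.fiberι (f x)).isEmbedding.injective
    rw [Scheme.Hom.fiberι_asFiber]
    apply hmax
    · rw [map_fiberι]; exact subset_closure rfl
    · have := (fiberι_specializes_iff f (f x) t' (f.asFiber x)).mpr ht'
      rwa [Scheme.Hom.fiberι_asFiber] at this)
  have hr' := hr (f x) _ hcomp
  rw [hdim] at hr'
  have h1 : ((δX x - δY (f x)).toNat : ℕ∞) = (r : ℕ∞) := by exact_mod_cast hr'
  have h2 : (δX x - δY (f x)).toNat = r := by exact_mod_cast h1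
  obtain ⟨n, -, hδn⟩ := hδ x
  omega

end Main

end Groth.Agent.H48.CycFib
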