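import Mathlib
import Groth.Agent.H48.DimIneqSch

/-!
# The global dimension inequality for morphisms locally of finite type
-/

set_option autoImplicit false
set_option linter.unusedSectionVars false
set_option linter.style.haveILetI false
universe u

open AlgebraicGeometry CategoryTheory TopologicalSpace Opposite

namespace Groth.Agent.H48.DimIneqSch2

open Groth.Agent.H48.DimIneq Groth.Agent.H48.DimIneqSch

section Ring

variable {A B K L : Type u} [CommRing A] [CommRing B] [Algebra A B]
  [Algebra.FiniteType A B] [Field K] [Field L]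
  [Algebra K L] {evA : A →+* K} {evB : B →+* L}

theorem trdeg_lt_aleph0 (hsq : (algebraMap K L).comp evA = evB.comp (algebraMap A B))
    (hK : IsFrac evA) (hL : IsFrac evB) : Algebra.trdeg K L < Cardinal.aleph0 := by
  set q := RingHom.ker evB with hq
  set p := RingHom.ker evA with hp
  haveI : q.IsPrime := RingHom.ker_isPrime evB
  haveI : p.IsPrime := RingHom.ker_isPrime evA
  have hpq : p = q.comap (algebraMap A B) := ker_evA_eq_comap hsq
  haveI : q.LiesOver p := ⟨hpq⟩
  haveI : Algebra.FiniteType A (B ⧸ q) :=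
    Algebra.FiniteType.trans (inferInstance : Algebra.FiniteType A B) inferInstance
  haveI : Algebra.FiniteType (A ⧸ p) (B ⧸ q) :=
    Algebra.FiniteType.of_restrictScalars_finiteType A (A ⧸ p) (B ⧸ q)
  rw [← trdeg_quotient_eq hsq hK hL p q rfl rfl]
  exact trdeg_lt_aleph0_of_finiteType

end Ring

section Sch

variable {X S : Scheme.{u}}

theorem exists_trdeg_eq_nat (f : X ⟶ S) [LocallyOfFiniteType f] (x : X) :
    letI := (f.residueFieldMap x).hom.toAlgebra
    ∃ n : ℕ, Algebra.trdeg (S.residueField (f x)) (X.residueField x) = n := by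
  obtain ⟨V, hV, hxV, -⟩ := exists_isAffineOpen_mem_and_subset (x := f x) (U := ⊤) trivial
  obtain ⟨U, hU, hxU, e⟩ := exists_isAffineOpen_mem_and_subset (x := x) (U := f ⁻¹ᵁ V) hxV
  letI algAB : Algebra Γ(S, V) Γ(X, U) := (f.appLE V U e).hom.toAlgebra
  haveI : Algebra.FiniteType Γ(S, V) Γ(X, U) :=
    f.finiteType_appLE hV hU e
  letI algKL : Algebra (S.residueField (f x)) (X.residueField x) :=
    (f.residueFieldMap x).hom.toAlgebra
  have hsq : (algebraMap (S.residueField (f x)) (X.residueField x)).comp
      (S.evaluation V (f x) (e hxU)).hom =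
      (X.evaluation U x hxU).hom.comp (algebraMap Γ(S, V) Γ(X, U)) :=
    evaluation_square f e x hxU
  have hK := isFrac_evaluation hV (f x) (e hxU)
  have hL := isFrac_evaluation hU x hxU
  have := trdeg_lt_aleph0 hsq hK hL
  obtain ⟨n, hn⟩ := Cardinal.lt_aleph0.mp this
  exact ⟨n, hn⟩

attribute [local instance] specializationOrder in
theorem topologicalKrullDim_eq_krullDim (X : Scheme.{u}) :
    topologicalKrullDim X = @Order.krullDim X (specializationPreorder X) :=
  Order.krullDim_eq_of_orderIso (irreducibleSetEquivPoints (α := X))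

theorem topologicalKrullDim_eq_iSup (X : Scheme.{u}) :
    topologicalKrullDim X = ⨆ x : X, ringKrullDim (X.presheaf.stalk x) := by
  rw [topologicalKrullDim_eq_krullDim]
  change Order.krullDim X = _
  rw [Order.krullDim_eq_iSup_coheight]
  congr 1
  ext x
  rw [ringKrullDim_stalk_eq_coheight]

theorem ringKrullDim_stalk_le (X : Scheme.{u}) (x : X) :
    ringKrullDim (X.presheaf.stalk x) ≤ topologicalKrullDim X := by
  rw [topologicalKrullDim_eq_iSup]
  exact le_iSup (fun x : X => ringKrullDim (X.presheaf.stalk x)) x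

/-- The global dimension inequality. -/
theorem topologicalKrullDim_le_add [IsLocallyNoetherian S]
    (f : X ⟶ S) [LocallyOfFiniteType f] (E : ℕ)
    (hE : ∀ ξ : X, closure {ξ} ∈ irreducibleComponents ↥X →
      letI := (f.residueFieldMap ξ).hom.toAlgebra
      Algebra.trdeg (S.residueField (f ξ)) (X.residueField ξ) ≤ E) :
    topologicalKrullDim ↥X ≤ topologicalKrullDim ↥S + E := by
  rw [topologicalKrullDim_eq_iSup X]
  refine iSup_le fun x => ?_
  obtain ⟨n, hn⟩ := exists_trdeg_eq_nat f x
  have h1 := ringKrullDim_stalk_add_le f x n E hn (fun ξ h _ => hE ξ h)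
  have h2 : ringKrullDim (S.presheaf.stalk (f x)) ≤ topologicalKrullDim S :=
    ringKrullDim_stalk_le S (f x)
  calc ringKrullDim (X.presheaf.stalk x)
      ≤ ringKrullDim (X.presheaf.stalk x) + (n : WithBot ℕ∞) := by
        exact le_add_of_nonneg_right (by exact_mod_cast (Nat.zero_le n))
    _ ≤ ringKrullDim (S.presheaf.stalk (f x)) + E := h1
    _ ≤ topologicalKrullDim S + E := by gcongr

end Sch

end Groth.Agent.H48.DimIneqSch2
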