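import Mathlib
import Groth.Prelude.Def_Cyc
import Groth.Agent.H48.CycDim6
import Groth.Agent.H48.CycFib
import Groth.Agent.H48.DimIneqSch2
import Groth.Agent.H72.CMCatenary

/-!
# Dimension theory of schemes locally of finite type over a field:
`dim X = sup_x trdeg κ(x)/k`
-/

set_option autoImplicit false
set_option linter.unusedSectionVars false
set_option linter.style.haveILetI false
universe u

open AlgebraicGeometry CategoryTheory TopologicalSpace Opposite

namespace Groth.Agent.H48.FieldDim

open Groth.Agent.H62 Groth.Agent.H48.CycDim6 Groth.Agent.H48.DimFunSch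

section UC

theorem isUniversallyCatenary_of_isField (Λ : Type u) [CommRing Λ] (h : IsField Λ) :
    CAlg.IsUniversallyCatenary Λ := by
  letI := h.toField
  have hCM : LocCoh.IsCohenMacaulayLocalRing Λ :=
    Groth.Agent.H72.FlatCM.isCohenMacaulayLocalRing_of_ringKrullDim_eq_zero Λ
      (ringKrullDim_eq_zero_of_isField h)
  haveI := Groth.Agent.H72.CMLocal.isCohenMacaulayRing_of_local Λ hCM
  exact Groth.Agent.H72.CMCatenary.isUniversallyCatenary_of_isCohenMacaulayRing Λ

variable {k : Type u} [Field k]

theorem isField_stalk_Spec (s : Spec (CommRingCat.of k)) :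
    IsField ((Spec (CommRingCat.of k)).presheaf.stalk s) := by
  letI : Algebra k ((Spec (CommRingCat.of k)).presheaf.stalk s) :=
    StructureSheaf.stalkAlgebra k s
  haveI : IsLocalization.AtPrime ((Spec (CommRingCat.of k)).presheaf.stalk s) s.asIdeal :=
    StructureSheaf.IsLocalization.to_stalk k s
  have hunits : ∀ x ∈ s.asIdeal.primeCompl, IsUnit x := by
    intro x hx
    apply isUnit_iff_ne_zero.mpr
    rintro rfl
    exact hx (Ideal.zero_mem _)
  let e := IsLocalization.atUnits k s.asIdeal.primeCompl
    (S := (Spec (CommRingCat.of k)).presheaf.stalk s) hunits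
  exact MulEquiv.isField (Field.toIsField k) e.symm.toMulEquiv

theorem isSetup_Spec_field : Cyc.IsSetup (Spec (CommRingCat.of k)) (fun _ => 0) := by
  refine ⟨inferInstance, fun s => isUniversallyCatenary_of_isField _ (isField_stalk_Spec s), ?_⟩
  intro x y _ hne
  exact absurd (Subsingleton.elim x y) hne

end UC

section K1

variable {k : Type u} [Field k] {X : Scheme.{u}} (f : X ⟶ Spec (CommRingCat.of k))
  [LocallyOfFiniteType f]

/-- The transcendence degree of `κ(x)` over the base field, as an integer. -/
noncomputable def δ (x : X) : ℤ :=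
  letI := (f.residueFieldMap x).hom.toAlgebra
  (Cardinal.toNat (Algebra.trdeg ((Spec (CommRingCat.of k)).residueField (f x))
    (X.residueField x)) : ℤ)

theorem deltaCompat : Cyc.DeltaCompat f (δ f) (fun _ => 0) := by
  intro x
  obtain ⟨n, hn⟩ := Groth.Agent.H48.DimIneqSch2.exists_trdeg_eq_nat f x
  refine ⟨n, hn, ?_⟩
  simp only [δ, zero_add]
  rw [hn]
  simp

theorem delta_nonneg (x : X) : 0 ≤ δ f x := by
  simp [δ]

theorem isDimFun : Cyc.IsDimFun X (δ f) :=
  isDimFun_of_deltaCompat f (fun _ => 0) isSetup_Spec_field (δ f) (deltaCompat f)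

include f in
theorem jacobsonSpace : JacobsonSpace X := LocallyOfFiniteType.jacobsonSpace f

theorem delta_eq_zero_of_isClosed (x : X) (hx : IsClosed ({x} : Set X)) : δ f x = 0 := by
  have hcl : IsClosed ({f.asFiber x} : Set (f.fiber (f x))) := by
    have : ({f.asFiber x} : Set (f.fiber (f x))) = (f.fiberι (f x)) ⁻¹' {x} := by
      ext t
      simp only [Set.mem_singleton_iff, Set.mem_preimage]
      constructor
      · rintro rfl
        exact f.fiberι_asFiber x
      · intro h
        apply (f.fiberι (f x)).isEmbedding.injective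
        rw [h, f.fiberι_asFiber]
    rw [this]
    exact hx.preimage (f.fiberι (f x)).continuous
  have := Groth.Agent.H48.CycFib.trdeg_eq_zero_of_isClosed_asFiber f x hcl
  simp only [δ]
  rw [this]
  simp

/-- The closure of a point has dimension the transcendence degree of its residue field. -/
theorem topologicalKrullDim_closure_eq (ξ : X) :
    topologicalKrullDim ↥(closure ({ξ} : Set X)) = (((δ f ξ).toNat : ℕ∞) : WithBot ℕ∞) :=
  haveI : JacobsonSpace X := LocallyOfFiniteType.jacobsonSpace f
  topologicalKrullDim_closure X (δ f) (isDimFun f) (delta_eq_zero_of_isClosed f) ξ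

theorem delta_le_topologicalKrullDim (ξ : X) :
    (((δ f ξ).toNat : ℕ∞) : WithBot ℕ∞) ≤ topologicalKrullDim X := by
  rw [← topologicalKrullDim_closure_eq f ξ]
  exact topologicalKrullDim_subspace_le X _

/-- `dim X` is the supremum of the transcendence degrees of the residue fields. -/
theorem topologicalKrullDim_eq_iSup :
    topologicalKrullDim X = ⨆ ξ : X, (((δ f ξ).toNat : ℕ∞) : WithBot ℕ∞) := by
  apply le_antisymm
  · have hdX : PtTop.IsDimensionFunction (fun p : (Set.univ : Set X) => δ f p.1) :=
      isDimensionFunction_closed (δ f) (isDimFun f) Set.univ isClosed_univ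
    rw [← (Homeomorph.Set.univ X).isHomeomorph.topologicalKrullDim_eq]
    haveI : QuasiSober ↥(Set.univ : Set X) := isClosed_univ.isClosedEmbedding_subtypeVal.quasiSober
    change Order.krullDim (IrreducibleCloseds ↥(Set.univ : Set X)) ≤ _
    refine iSup_le fun s => ?_
    have h1 := length_le_of_dimfun hdX s
    have h3 := delta_nonneg f (gpt s.head).1
    have h4 : s.length ≤ (δ f (gpt s.last).1).toNat := by
      simp only at h1
      omega
    refine le_trans ?_ (le_iSup (fun ξ : X => (((δ f ξ).toNat : ℕ∞) : WithBot ℕ∞))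
      (gpt s.last).1)
    exact_mod_cast h4
  · exact iSup_le fun ξ => delta_le_topologicalKrullDim f ξ

end K1

end Groth.Agent.H48.FieldDim
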