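import Mathlib
import Groth.Prelude.Def_Cyc
import Groth.Agent.H48.FieldDim

/-!
# Dimension of locally closed subsets of schemes locally of finite type over a field

For a Jacobson scheme with a dimension function `δ` vanishing at closed points, and `Z` a locally
closed subset, `dim Z = sup_{z ∈ Z} δ z`.
-/

set_option autoImplicit false
set_option linter.unusedSectionVars false
set_option linter.style.haveILetI false
universe u

open AlgebraicGeometry CategoryTheory TopologicalSpace Opposite

namespace Groth.Agent.H48.FieldDim2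

open Groth.Agent.H62 Groth.Agent.H48.CycDim6 Groth.Agent.H48.DimFunSch Groth.Agent.H48.FieldDim

section Top

variable {X : Type u} [TopologicalSpace X]

/-- A locally closed subset is convex for the specialization order. -/
theorem mem_of_specializes_of_isLocallyClosed {Z : Set X} (hZ : IsLocallyClosed Z) {x y w : X}
    (hx : x ∈ Z) (hy : y ∈ Z) (h1 : x ⤳ w) (h2 : w ⤳ y) : w ∈ Z := by
  obtain ⟨O, F, hO, hF, rfl⟩ := hZ
  exact ⟨h2.mem_open hO hy.1, h1.mem_closed hF hx.2⟩

theorem quasiSober_of_isLocallyClosed [QuasiSober X] {Z : Set X} (hZ : IsLocallyClosed Z) :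
    QuasiSober ↥Z := by
  obtain ⟨O, F, hO, hF, rfl⟩ := hZ
  haveI : QuasiSober ↥O := hO.isOpenEmbedding_subtypeVal.quasiSober
  exact QuasiSober.inter_of_isClosed_of_quasiSober_left O hF

end Top

section Sch

variable {X : Scheme.{u}} (δ : X → ℤ) (hδ : Cyc.IsDimFun X δ)

include hδ in
/-- The restriction of a dimension function to a specialization-convex subset is a dimension
function. -/
theorem isDimensionFunction_convex (Z : Set X)
    (hZ : ∀ x y w : X, x ∈ Z → y ∈ Z → x ⤳ w → w ⤳ y → w ∈ Z) :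
    PtTop.IsDimensionFunction (fun p : Z => δ p.1) := by
  constructor
  · intro x y hxy hne
    have h1 : x.1 ⤳ y.1 := (subtype_specializes_iff x y).mp hxy
    exact (hδ _ _ h1 (fun h => hne (Subtype.ext h))).1
  · rintro x y ⟨hxy, hne, himm⟩
    have h1 : x.1 ⤳ y.1 := (subtype_specializes_iff x y).mp hxy
    refine (hδ _ _ h1 (fun h => hne (Subtype.ext h))).2 ?_
    intro z hz1 hz2
    have hzZ : z ∈ Z := hZ x.1 y.1 z x.2 y.2 hz1 hz2
    rcases himm ⟨z, hzZ⟩ ((subtype_specializes_iff x ⟨z, hzZ⟩).mpr hz1)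
      ((subtype_specializes_iff ⟨z, hzZ⟩ y).mpr hz2) with h | h
    · left; exact congrArg Subtype.val h
    · right; exact congrArg Subtype.val h

end Sch

section Main

variable (X : Scheme.{u}) [JacobsonSpace X] (δ : X → ℤ) (hδ : Cyc.IsDimFun X δ)
  (h0 : ∀ x : X, IsClosed ({x} : Set X) → δ x = 0)

include hδ h0 in
/-- **Dimension of a locally closed subset** in terms of a dimension function. -/
theorem topologicalKrullDim_of_isLocallyClosed (Z : Set X) (hZ : IsLocallyClosed Z) :
    topologicalKrullDim ↥Z = ⨆ z : Z, (((δ z.1).toNat : ℕ∞) : WithBot ℕ∞) := by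
  haveI : QuasiSober ↥Z := quasiSober_of_isLocallyClosed hZ
  have hdZ := isDimensionFunction_convex δ hδ Z
    (fun x y w hx hy h1 h2 => mem_of_specializes_of_isLocallyClosed hZ hx hy h1 h2)
  have hnn := delta_nonneg X δ hδ h0
  apply le_antisymm
  · change Order.krullDim (IrreducibleCloseds ↥Z) ≤ _
    refine iSup_le fun s => ?_
    have h1 := length_le_of_dimfun hdZ s
    have h3 := hnn (gpt s.head).1
    have h4 : s.length ≤ (δ (gpt s.last).1).toNat := by
      simp only at h1
      omega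
    refine le_trans ?_ (le_iSup (fun z : Z => (((δ z.1).toNat : ℕ∞) : WithBot ℕ∞)) (gpt s.last))
    exact_mod_cast h4
  · refine iSup_le fun ξZ => ?_
    -- a closed point of `X` in `closure {ξ} ∩ Z`
    have hlc : IsLocallyClosed (closure ({ξZ.1} : Set X) ∩ Z) :=
      isClosed_closure.isLocallyClosed.inter hZ
    obtain ⟨z, hz1, hz2⟩ := nonempty_inter_closedPoints (X := X) (Z := closure {ξZ.1} ∩ Z)
      ⟨ξZ.1, subset_closure rfl, ξZ.2⟩ hlc
    have hsp : ξZ.1 ⤳ z := specializes_iff_mem_closure.mpr hz1.1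
    let zZ : Z := ⟨z, hz1.2⟩
    have hTT' : ptClosure zZ ≤ ptClosure ξZ := by
      rw [le_iff_gpt_specializes, gpt_ptClosure, gpt_ptClosure]
      exact (subtype_specializes_iff ξZ zZ).mpr hsp
    have hc := cod_eq_of_dimfun hdZ hTT'
    rw [gpt_ptClosure, gpt_ptClosure] at hc
    have hc' : cod (ptClosure zZ) (ptClosure ξZ) = ((δ ξZ.1).toNat : ℕ∞) := by
      rw [hc]
      simp only [zZ, h0 z hz2, sub_zero]
    rw [← hc']
    change _ ≤ Order.krullDim (IrreducibleCloseds ↥Z)
    haveI : Nonempty (IrreducibleCloseds ↥Z) := ⟨ptClosure ξZ⟩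
    rw [Order.krullDim_eq_iSup_length]
    refine WithBot.coe_le_coe.mpr ?_
    unfold cod
    exact iSup₂_le fun s _ => le_iSup (fun p : LTSeries (IrreducibleCloseds ↥Z) => (p.length : ℕ∞)) s

include hδ h0 in
/-- If all points of the locally closed set `Z` are specializations of `ξ ∈ Z`, `dim Z = δ ξ`. -/
theorem topologicalKrullDim_of_isLocallyClosed_of_generic (Z : Set X) (hZ : IsLocallyClosed Z)
    (ξ : X) (hξ : ξ ∈ Z) (hgen : ∀ z ∈ Z, ξ ⤳ z) :
    topologicalKrullDim ↥Z = (((δ ξ).toNat : ℕ∞) : WithBot ℕ∞) := by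
  rw [topologicalKrullDim_of_isLocallyClosed X δ hδ h0 Z hZ]
  apply le_antisymm
  · refine iSup_le fun z => ?_
    have := delta_mono X δ hδ (hgen z.1 z.2)
    have h2 : (δ z.1).toNat ≤ (δ ξ).toNat := Int.toNat_le_toNat this
    exact_mod_cast h2
  · exact le_iSup (fun z : Z => (((δ z.1).toNat : ℕ∞) : WithBot ℕ∞)) ⟨ξ, hξ⟩

end Main

section K1

variable {k : Type u} [Field k] {X : Scheme.{u}} (f : X ⟶ Spec (CommRingCat.of k))
  [LocallyOfFiniteType f]

/-- `dim Z = sup_{z ∈ Z} trdeg κ(z)/k` for locally closed `Z`. -/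
theorem topologicalKrullDim_eq_iSup_of_isLocallyClosed (Z : Set X) (hZ : IsLocallyClosed Z) :
    topologicalKrullDim ↥Z = ⨆ z : Z, (((FieldDim.δ f z.1).toNat : ℕ∞) : WithBot ℕ∞) :=
  haveI : JacobsonSpace X := LocallyOfFiniteType.jacobsonSpace f
  topologicalKrullDim_of_isLocallyClosed X (FieldDim.δ f) (isDimFun f)
    (delta_eq_zero_of_isClosed f) Z hZ

theorem topologicalKrullDim_eq_delta_of_generic (Z : Set X) (hZ : IsLocallyClosed Z)
    (ξ : X) (hξ : ξ ∈ Z) (hgen : ∀ z ∈ Z, ξ ⤳ z) :
    topologicalKrullDim ↥Z = (((FieldDim.δ f ξ).toNat : ℕ∞) : WithBot ℕ∞) :=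
  haveI : JacobsonSpace X := LocallyOfFiniteType.jacobsonSpace f
  topologicalKrullDim_of_isLocallyClosed_of_generic X (FieldDim.δ f) (isDimFun f)
    (delta_eq_zero_of_isClosed f) Z hZ ξ hξ hgen

include f in
/-- A nonempty open subset of an irreducible closed subset has the same dimension. -/
theorem topologicalKrullDim_closure_inter_open (ξ : X) (U : Set X) (hU : IsOpen U) (hξ : ξ ∈ U) :
    topologicalKrullDim ↥(closure ({ξ} : Set X) ∩ U) =
      topologicalKrullDim ↥(closure ({ξ} : Set X)) := by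
  rw [topologicalKrullDim_closure_eq f ξ]
  exact topologicalKrullDim_eq_delta_of_generic f _
    (isClosed_closure.isLocallyClosed.inter hU.isLocallyClosed) ξ ⟨subset_closure rfl, hξ⟩
    (fun z hz => specializes_iff_mem_closure.mpr hz.1)

end K1

end Groth.Agent.H48.FieldDim2
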