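import Mathlib
import Groth.Agent.H48.FieldDim2

/-!
# Dimension of irreducible closed subsets via affine charts
-/

set_option autoImplicit false
set_option linter.unusedSectionVars false
set_option linter.style.haveILetI false
universe u

open AlgebraicGeometry CategoryTheory TopologicalSpace Opposite

namespace Groth.Agent.H48.CompDim

open Groth.Agent.H48.DimFunSch Groth.Agent.H48.FieldDim Groth.Agent.H48.FieldDim2

section Chart

variable {X : Scheme.{u}} {U : X.Opens} (hU : IsAffineOpen U)

/-- The trace of `closure {ξ}` on an affine open containing `ξ` is homeomorphic to the spectrum of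
the quotient by the prime of `ξ`. -/
theorem topologicalKrullDim_closure_inter_affine (p : PrimeSpectrum Γ(X, U)) :
    topologicalKrullDim ↥(closure ({hU.fromSpec p} : Set X) ∩ (U : Set X)) =
      ringKrullDim (Γ(X, U) ⧸ p.asIdeal) := by
  let c : PrimeSpectrum (Γ(X, U) ⧸ p.asIdeal) → PrimeSpectrum Γ(X, U) :=
    PrimeSpectrum.comap (Ideal.Quotient.mk p.asIdeal)
  have hc : Topology.IsEmbedding c :=
    (PrimeSpectrum.isClosedEmbedding_comap_of_surjective _ _
        Ideal.Quotient.mk_surjective).isEmbedding
  have hcr : Set.range c = PrimeSpectrum.zeroLocus (p.asIdeal : Set Γ(X, U)) := by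
    have := range_comap_of_surjective _ (Ideal.Quotient.mk p.asIdeal) Ideal.Quotient.mk_surjective
    rw [Ideal.mk_ker] at this
    exact this
  let g : PrimeSpectrum (Γ(X, U) ⧸ p.asIdeal) → X := fun q => hU.fromSpec (c q)
  have hg : Topology.IsEmbedding g :=
    hU.fromSpec.isOpenEmbedding.isEmbedding.comp hc
  have hrange : Set.range g = closure ({hU.fromSpec p} : Set X) ∩ (U : Set X) := by
    ext x
    constructor
    · rintro ⟨q, rfl⟩
      refine ⟨?_, fromSpec_mem hU (c q)⟩
      rw [← specializes_iff_mem_closure, fromSpec_specializes_iff hU]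
      have : c q ∈ Set.range c := ⟨q, rfl⟩
      rw [hcr] at this
      exact (PrimeSpectrum.mem_zeroLocus _ _).mp this
    · rintro ⟨hx1, hx2⟩
      obtain ⟨b, rfl⟩ := exists_fromSpec_eq hU x hx2
      rw [← specializes_iff_mem_closure, fromSpec_specializes_iff hU] at hx1
      have : b ∈ Set.range c := by
        rw [hcr]
        exact (PrimeSpectrum.mem_zeroLocus _ _).mpr hx1
      obtain ⟨q, rfl⟩ := this
      exact ⟨q, rfl⟩
  rw [← hrange, ← PrimeSpectrum.topologicalKrullDim_eq_ringKrullDim]
  exact (IsHomeomorph.topologicalKrullDim_eq _ hg.toHomeomorph.isHomeomorph).symm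

end Chart

end Groth.Agent.H48.CompDim
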