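import Mathlib
import Groth.Agent.H48.CompDim
import Groth.Agent.H11.FtDimBC
import Groth.Agent.H49.FibreDimBC

/-!
# Dimension of irreducible components under extension of the base field
-/

set_option autoImplicit false
set_option linter.unusedSectionVars false
set_option linter.style.haveILetI false
universe u

open AlgebraicGeometry CategoryTheory CategoryTheory.Limits TopologicalSpace Opposite TensorProduct

namespace Groth.Agent.H48.CompDimBC

open Groth.Agent.H48.DimFunSch Groth.Agent.H48.FieldDim Groth.Agent.H48.FieldDim2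
  Groth.Agent.H48.CompDim

section ring

/-- Pushout form of `H11.FtDimBC.dim_quotient_of_mem_minimalPrimes_map`. -/
theorem ringKrullDim_quotient_of_isPushout (k K S C : Type u) [Field k] [Field K] [Algebra k K]
    [CommRing S] [Algebra k S] [Algebra.FiniteType k S] [CommRing C] [Algebra k C] [Algebra S C]
    [Algebra K C] [IsScalarTower k S C] [IsScalarTower k K C] [Algebra.IsPushout k S K C]
    (P : Ideal S) [P.IsPrime] (Q : Ideal C) (hQ : Q ∈ (P.map (algebraMap S C)).minimalPrimes) :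
    ringKrullDim (C ⧸ Q) = ringKrullDim (S ⧸ P) := by
  let e : K ⊗[k] S ≃+* C :=
    (Algebra.TensorProduct.comm k K S).toRingEquiv.trans (Algebra.IsPushout.equiv k S K C).toRingEquiv
  have he : ∀ s : S, e ((1 : K) ⊗ₜ[k] s) = algebraMap S C s := by
    intro s
    change (Algebra.IsPushout.equiv k S K C) ((Algebra.TensorProduct.comm k K S) (1 ⊗ₜ[k] s)) = _
    rw [Algebra.TensorProduct.comm_tmul, Algebra.IsPushout.equiv_tmul, map_one, mul_one]
  have hsurj : Function.Surjective e.toRingHom := e.surjective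
  have hmap : (P.map (algebraMap S C)).comap e.toRingHom =
      P.map (Algebra.TensorProduct.includeRight : S →ₐ[k] K ⊗[k] S) := by
    have h1 : (P.map (algebraMap S C)).comap e.toRingHom =
        (P.map (algebraMap S C)).map e.symm.toRingHom := (Ideal.map_symm e).symm
    rw [h1, Ideal.map_map]
    congr 1
    ext s
    change e.symm (algebraMap S C s) = (1 : K) ⊗ₜ[k] s
    rw [← he s, RingEquiv.symm_apply_apply]
  have hQ' : Q.comap e.toRingHom ∈
      (P.map (Algebra.TensorProduct.includeRight : S →ₐ[k] K ⊗[k] S)).minimalPrimes := by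
    rw [← hmap]
    exact Ideal.minimalPrimes_comap_of_surjective hsurj hQ
  rw [← Groth.Agent.H11.FtDimBC.dim_quotient_of_mem_minimalPrimes_map k K S P _ hQ']
  refine (ringKrullDim_eq_of_ringEquiv (Ideal.quotientEquiv _ _ e ?_)).symm
  exact (Ideal.map_comap_of_surjective e.toRingHom hsurj Q).symm

/-- Categorical form. -/
theorem ringKrullDim_quotient_of_isPushout_cat {k K : Type u} [Field k] [Field K]
    {S C : CommRingCat.{u}} (α : CommRingCat.of k ⟶ S) (φ : CommRingCat.of k ⟶ CommRingCat.of K)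
    (β : S ⟶ C) (γ : CommRingCat.of K ⟶ C) (hpo : IsPushout α φ β γ) (hft : α.hom.FiniteType)
    (P : Ideal S) [P.IsPrime] (Q : Ideal C) (hQ : Q ∈ (P.map β.hom).minimalPrimes) :
    ringKrullDim (C ⧸ Q) = ringKrullDim (S ⧸ P) := by
  let _ : Algebra k K := φ.hom.toAlgebra
  let _ : Algebra k S := α.hom.toAlgebra
  let _ : Algebra S C := β.hom.toAlgebra
  let _ : Algebra K C := γ.hom.toAlgebra
  let _ : Algebra k C := (α ≫ β).hom.toAlgebra
  have t1 : IsScalarTower k S C := IsScalarTower.of_algebraMap_eq fun r => rfl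
  have t2 : IsScalarTower k K C := IsScalarTower.of_algebraMap_eq fun r => congr($(hpo.w).hom r)
  have hft' : Algebra.FiniteType k S := hft
  have hpo'' : Algebra.IsPushout k S K C := CommRingCat.isPushout_iff_isPushout.mp hpo
  exact ringKrullDim_quotient_of_isPushout k K S C P Q hQ

end ring

section scheme

/-- The sections of the base change over the preimage of an affine open form a pushout
(extracted from `H49.FibreDimBC.ringKrullDim_preimage_eq`). -/
theorem isPushout_sections {Z W : Scheme.{u}} (k K : Type u) [Field k] [Field K]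
    (φ : k →+* K) (z : Z ⟶ Spec (.of k)) [LocallyOfFiniteType z] (p : W ⟶ Z)
    (q : W ⟶ Spec (.of K)) (hpb : IsPullback p q z (Spec.map (CommRingCat.ofHom φ)))
    {U : Z.Opens} (hU : IsAffineOpen U) :
    IsAffineOpen (p ⁻¹ᵁ U) ∧
    IsPushout ((Scheme.ΓSpecIso (CommRingCat.of k)).inv ≫ z.appLE ⊤ U (by simp))
      (CommRingCat.ofHom φ) (p.appLE U (p ⁻¹ᵁ U) le_rfl)
      ((Scheme.ΓSpecIso (CommRingCat.of K)).inv ≫ q.appLE ⊤ (p ⁻¹ᵁ U) (by simp)) ∧
    ((Scheme.ΓSpecIso (CommRingCat.of k)).inv ≫ z.appLE ⊤ U (by simp)).hom.FiniteType := by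
  have hS : IsAffineOpen (⊤ : (Spec (.of k)).Opens) := isAffineOpen_top _
  have hT : IsAffineOpen (⊤ : (Spec (.of K)).Opens) := isAffineOpen_top _
  have hUST : (⊤ : (Spec (.of K)).Opens) ≤ (Spec.map (CommRingCat.ofHom φ)) ⁻¹ᵁ ⊤ := by simp
  have hUSX : U ≤ z ⁻¹ᵁ ⊤ := by simp
  have hUY : p ⁻¹ᵁ U = p ⁻¹ᵁ U ⊓ q ⁻¹ᵁ ⊤ := by simp
  have haff : IsAffineOpen (p ⁻¹ᵁ U) := by
    rw [hUY]
    exact Groth.Agent.H49.FlatInf.isAffineOpen_inf_preimage hpb hS hT hU hUST hUSX
  refine ⟨haff, ?_, ?_⟩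
  · have hpo : IsPushout (z.appLE ⊤ U hUSX) ((Spec.map (CommRingCat.ofHom φ)).appLE ⊤ ⊤ hUST)
        (p.appLE U (p ⁻¹ᵁ U) le_rfl) (q.appLE ⊤ (p ⁻¹ᵁ U) (by simp)) := by
      have := isIso_pushoutSection_of_isAffineOpen hpb hUST hUSX hUY hS hT hU
      exact (isIso_pushoutSection_iff hpb hUST hUSX hUY).mp this
    let e₁ := Scheme.ΓSpecIso (CommRingCat.of k)
    let e₃ := Scheme.ΓSpecIso (CommRingCat.of K)
    refine IsPushout.of_iso hpo e₁ (Iso.refl _) e₃ (Iso.refl _) ?_ ?_ ?_ ?_
    · simp [e₁]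
    · have h1 : (Spec.map (CommRingCat.ofHom φ)).appLE ⊤ ⊤ hUST =
          (Spec.map (CommRingCat.ofHom φ)).appTop := by
        simp only [Scheme.Hom.appLE, Scheme.Hom.appTop]
        exact (congrArg (fun t => _ ≫ t)
          ((Spec (CommRingCat.of K)).presheaf.map_id _)).trans (Category.comp_id _)
      rw [h1]
      exact Scheme.ΓSpecIso_naturality (CommRingCat.ofHom φ)
    · simp
    · simp [e₃]
  · have hft : RingHom.FiniteType (z.appLE ⊤ U hUSX).hom :=
      HasRingHomProperty.appLE @LocallyOfFiniteType z inferInstance ⟨⊤, isAffineOpen_top _⟩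
        ⟨U, hU⟩ hUSX
    rw [CommRingCat.hom_comp]
    refine hft.comp ?_
    exact RingHom.FiniteType.of_surjective _
      (ConcreteCategory.bijective_of_isIso (Scheme.ΓSpecIso (CommRingCat.of k)).inv).2

/-- Chart-level minimality: a point of `p⁻¹ U` which is maximal (for generization) among the points
lying over `closure {p ξ'}` corresponds to a minimal prime over the extended ideal. -/
theorem mem_minimalPrimes_of_maximal {X W : Scheme.{u}} (p : W ⟶ X) {U : X.Opens}
    (hU : IsAffineOpen U) (hW : IsAffineOpen (p ⁻¹ᵁ U)) (b' : PrimeSpectrum Γ(W, p ⁻¹ᵁ U))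
    (hmax : ∀ η' : W, η' ⤳ hW.fromSpec b' → p (hW.fromSpec b') ⤳ p η' → η' = hW.fromSpec b') :
    b'.asIdeal ∈ ((b'.asIdeal.comap (p.appLE U (p ⁻¹ᵁ U) le_rfl).hom).map
      (p.appLE U (p ⁻¹ᵁ U) le_rfl).hom).minimalPrimes := by
  set φ := (p.appLE U (p ⁻¹ᵁ U) le_rfl).hom with hφ
  have hsq : ∀ c : PrimeSpectrum Γ(W, p ⁻¹ᵁ U),
      p (hW.fromSpec c) = hU.fromSpec (PrimeSpectrum.comap φ c) := by
    intro c
    have h := IsAffineOpen.SpecMap_appLE_fromSpec p hU hW le_rfl
    have h2 := congrArg (fun g => g.base c) h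
    exact h2.symm
  refine ⟨⟨b'.2, Ideal.map_comap_le⟩, ?_⟩
  rintro J ⟨hJp, hJle⟩ hJQ
  let c : PrimeSpectrum Γ(W, p ⁻¹ᵁ U) := ⟨J, hJp⟩
  have h1 : hW.fromSpec c ⤳ hW.fromSpec b' := (fromSpec_specializes_iff hW c b').mpr hJQ
  have h2 : p (hW.fromSpec b') ⤳ p (hW.fromSpec c) := by
    rw [hsq, hsq, fromSpec_specializes_iff hU]
    change b'.asIdeal.comap φ ≤ J.comap φ
    exact Ideal.map_le_iff_le_comap.mp hJle
  have h3 := hmax _ h1 h2
  have h4 : c = b' := fromSpec_injective hW h3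
  rw [← h4]

/-- **Key theorem**: for the base change `p : W ⟶ X` of a `k`-scheme locally of finite type to an
extension field, if `ξ'` is maximal among the points of `W` lying over `closure {p ξ'}`, then
`closure {ξ'}` and `closure {p ξ'}` have the same dimension. -/
theorem topologicalKrullDim_closure_eq_of_maximal {X W : Scheme.{u}} (k K : Type u) [Field k]
    [Field K] (φ : k →+* K) (f : X ⟶ Spec (.of k)) [LocallyOfFiniteType f] (p : W ⟶ X)
    (q : W ⟶ Spec (.of K)) (hpb : IsPullback p q f (Spec.map (CommRingCat.ofHom φ)))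
    (ξ' : W) (hmax : ∀ η' : W, η' ⤳ ξ' → p ξ' ⤳ p η' → η' = ξ') :
    topologicalKrullDim ↥(closure ({ξ'} : Set W)) =
      topologicalKrullDim ↥(closure ({p ξ'} : Set X)) := by
  haveI : LocallyOfFiniteType q :=
    MorphismProperty.of_isPullback (P := @LocallyOfFiniteType) hpb inferInstance
  obtain ⟨U, hU, hζU, -⟩ := exists_isAffineOpen_mem_and_subset (x := p ξ') (U := ⊤) trivial
  obtain ⟨hW, hpo, hft⟩ := isPushout_sections k K φ f p q hpb hU
  have hξ'W : ξ' ∈ p ⁻¹ᵁ U := hζU
  set b' : PrimeSpectrum Γ(W, p ⁻¹ᵁ U) := hW.primeIdealOf ⟨ξ', hξ'W⟩ with hb'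
  have hfb' : hW.fromSpec b' = ξ' := hW.fromSpec_primeIdealOf ⟨ξ', hξ'W⟩
  set φ' := (p.appLE U (p ⁻¹ᵁ U) le_rfl).hom with hφ'
  set a : PrimeSpectrum Γ(X, U) := PrimeSpectrum.comap φ' b' with ha
  have hfa : hU.fromSpec a = p ξ' := by
    have h := IsAffineOpen.SpecMap_appLE_fromSpec p hU hW le_rfl
    have h2 := congrArg (fun g => g.base b') h
    rw [← hfb']
    exact h2
  have hmin : b'.asIdeal ∈ (a.asIdeal.map φ').minimalPrimes := by
    refine mem_minimalPrimes_of_maximal p hU hW b' ?_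
    rw [hfb']
    exact hmax
  have hring := ringKrullDim_quotient_of_isPushout_cat _ _ _ _ hpo hft a.asIdeal b'.asIdeal hmin
  rw [← topologicalKrullDim_closure_inter_open q ξ' (p ⁻¹ᵁ U : Set W) (p ⁻¹ᵁ U).2 hξ'W,
    ← topologicalKrullDim_closure_inter_open f (p ξ') (U : Set X) U.2 hζU]
  have e1 := topologicalKrullDim_closure_inter_affine hW b'
  have e2 := topologicalKrullDim_closure_inter_affine hU a
  rw [hfb'] at e1
  rw [hfa] at e2
  rw [e1, e2, hring]

end scheme

end Groth.Agent.H48.CompDimBC
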