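import Mathlib
import Groth.Agent.H48.CompDimBC

/-!
# Irreducible components under extension of the base field
-/

set_option autoImplicit false
set_option linter.unusedSectionVars false
set_option linter.style.haveILetI false
universe u

open AlgebraicGeometry CategoryTheory CategoryTheory.Limits TopologicalSpace Opposite

namespace Groth.Agent.H48.CompDimBC2

open Groth.Agent.H48.CompDimBC

section Top

variable {Y : Type u} [TopologicalSpace Y] [QuasiSober Y] [T0Space Y]

/-- An irreducible component of a closed subspace `T` has a generic point, maximal in `T`. -/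
theorem exists_generic_of_mem_irreducibleComponents_subtype (T : Set Y) (hT : IsClosed T)
    (W : Set ↥T) (hW : W ∈ irreducibleComponents ↥T) :
    ∃ ξ' : Y, ξ' ∈ T ∧ (∀ η' ∈ T, η' ⤳ ξ' → η' = ξ') ∧
      topologicalKrullDim ↥W = topologicalKrullDim ↥(closure ({ξ'} : Set Y)) := by
  haveI : QuasiSober ↥T := hT.isClosedEmbedding_subtypeVal.quasiSober
  have hWirr : IsIrreducible W := hW.1
  have hWcl : IsClosed W := isClosed_of_mem_irreducibleComponents W hW
  obtain ⟨w, hw⟩ := QuasiSober.sober hWirr hWcl
  have hwW : closure ({w} : Set ↥T) = W := hw.def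
  refine ⟨w.1, w.2, ?_, ?_⟩
  · intro η' hη' hsp
    have h1 : (⟨η', hη'⟩ : ↥T) ⤳ w := (subtype_specializes_iff _ _).mpr hsp
    have h2 : W ≤ closure ({⟨η', hη'⟩} : Set ↥T) := by
      rw [← hwW]
      exact specializes_iff_closure_subset.mp h1
    have h3 : closure ({⟨η', hη'⟩} : Set ↥T) ≤ W :=
      hW.2 isIrreducible_singleton.closure h2
    have h4 : w ⤳ (⟨η', hη'⟩ : ↥T) := by
      rw [specializes_iff_mem_closure, hwW]
      exact h3 (subset_closure rfl)
    exact congrArg Subtype.val (h1.antisymm h4).eq
  · have hcl : closure ({w.1} : Set Y) = Subtype.val '' W := by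
      rw [← hwW, ← hT.isClosedEmbedding_subtypeVal.closure_image_eq, Set.image_singleton]
    rw [hcl]
    exact (IsHomeomorph.topologicalKrullDim_eq _
      (Topology.IsEmbedding.subtypeVal.homeomorphImage W).isHomeomorph)

/-- The generic point of an irreducible component is maximal. -/
theorem eq_of_specializes_of_closure_mem_irreducibleComponents {ξ η : Y}
    (hξ : closure ({ξ} : Set Y) ∈ irreducibleComponents Y) (h : η ⤳ ξ) : η = ξ := by
  have h2 : closure ({ξ} : Set Y) ≤ closure ({η} : Set Y) := specializes_iff_closure_subset.mp h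
  have h3 : closure ({η} : Set Y) ≤ closure ({ξ} : Set Y) :=
    hξ.2 isIrreducible_singleton.closure h2
  exact (h.antisymm (specializes_iff_closure_subset.mpr h3)).eq

/-- Irreducible components are closures of their generic points. -/
theorem exists_generic_of_mem_irreducibleComponents (W : Set Y) (hW : W ∈ irreducibleComponents Y) :
    ∃ ξ : Y, closure ({ξ} : Set Y) = W := by
  have hWcl : IsClosed W := isClosed_of_mem_irreducibleComponents W hW
  obtain ⟨w, hw⟩ := QuasiSober.sober hW.1 hWcl
  exact ⟨w, hw.def⟩

end Top

section scheme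

variable {X W : Scheme.{u}} (k K : Type u) [Field k] [Field K] (φ : k →+* K)
  (f : X ⟶ Spec (.of k)) [LocallyOfFiniteType f] (p : W ⟶ X) (q : W ⟶ Spec (.of K))
  (hpb : IsPullback p q f (Spec.map (CommRingCat.ofHom φ)))

include hpb in
theorem flat_of_isPullback_field : Flat p := by
  have h1 : Flat (Spec.map (CommRingCat.ofHom φ)) := by
    rw [Flat.SpecMap_iff]
    letI := φ.toAlgebra
    change (algebraMap k K).Flat
    rw [RingHom.flat_algebraMap_iff]
    infer_instance
  exact MorphismProperty.of_isPullback (P := @Flat) hpb.flip h1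

include hpb in
theorem surjective_of_isPullback_field : Function.Surjective p := by
  have h1 : Surjective (Spec.map (CommRingCat.ofHom φ)) := by
    refine ⟨fun x => ⟨default, Subsingleton.elim _ _⟩⟩
  have : Surjective p := MorphismProperty.of_isPullback (P := @Surjective) hpb.flip h1
  exact this.surj

include hpb in
/-- Irreducible components of the preimage of an irreducible closed subset have the same
dimension (statement S4663 for a general pullback square). -/
theorem topologicalKrullDim_component_preimage (Z : Set X) (hZc : IsClosed Z)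
    (hZi : IsIrreducible Z) (T : Set (↥(p ⁻¹' Z))) (hT : T ∈ irreducibleComponents ↥(p ⁻¹' Z)) :
    topologicalKrullDim ↥T = topologicalKrullDim ↥Z := by
  have hTc : IsClosed (p ⁻¹' Z) := hZc.preimage p.continuous
  obtain ⟨ξ', hξ'T, hmax, hdim⟩ :=
    exists_generic_of_mem_irreducibleComponents_subtype (p ⁻¹' Z) hTc T hT
  obtain ⟨ζ, hζ⟩ := QuasiSober.sober hZi hZc
  have hζZ : closure ({ζ} : Set X) = Z := hζ.def
  have hgen : GeneralizingMap p := by
    haveI := flat_of_isPullback_field k K φ f p q hpb
    exact Flat.generalizingMap p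
  have hpξ' : p ξ' = ζ := by
    have h1 : ζ ⤳ p ξ' := by
      rw [specializes_iff_mem_closure, hζZ]
      exact hξ'T
    obtain ⟨η', hη'1, hη'2⟩ := hgen h1
    have h2 : η' ∈ p ⁻¹' Z := by
      change p η' ∈ Z
      rw [hη'2, ← hζZ]
      exact subset_closure rfl
    rw [← hmax η' h2 hη'1, hη'2]
  rw [hdim, topologicalKrullDim_closure_eq_of_maximal k K φ f p q hpb ξ' ?_, hpξ', hζZ]
  intro η' h1 h2
  refine hmax η' ?_ h1
  change p η' ∈ Z
  rw [← hζZ, ← hpξ']
  exact specializes_iff_mem_closure.mp h2

include hpb in
/-- The dimensions of the irreducible components of the base change are those of the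
irreducible components (statement S4673 for a general pullback square). -/
theorem image_topologicalKrullDim_irreducibleComponents :
    (fun Z : Set W => topologicalKrullDim ↥Z) '' irreducibleComponents W =
      (fun Z : Set X => topologicalKrullDim ↥Z) '' irreducibleComponents X := by
  have hgen : GeneralizingMap p := by
    haveI := flat_of_isPullback_field k K φ f p q hpb
    exact Flat.generalizingMap p
  have hsurj := surjective_of_isPullback_field k K φ f p q hpb
  ext d
  constructor
  · rintro ⟨T, hT, rfl⟩
    obtain ⟨ξ', hξ'⟩ := exists_generic_of_mem_irreducibleComponents T hT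
    have hmax : ∀ η' : W, η' ⤳ ξ' → η' = ξ' := fun η' h =>
      eq_of_specializes_of_closure_mem_irreducibleComponents (by rw [hξ']; exact hT) h
    obtain ⟨η, hη1, hη2⟩ := Groth.Agent.H48.DimIneqSch.exists_generic_specializes (p ξ')
    have hη : η = p ξ' := by
      obtain ⟨η', hη'1, hη'2⟩ := hgen hη2
      rw [← hη'2, hmax η' hη'1]
    refine ⟨closure {p ξ'}, by rw [← hη]; exact hη1, ?_⟩
    change topologicalKrullDim ↥(closure ({p ξ'} : Set X)) = topologicalKrullDim ↥T
    rw [← hξ']
    exact (topologicalKrullDim_closure_eq_of_maximal k K φ f p q hpb ξ'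
      (fun η' h _ => hmax η' h)).symm
  · rintro ⟨Z, hZ, rfl⟩
    obtain ⟨ζ, hζ⟩ := exists_generic_of_mem_irreducibleComponents Z hZ
    obtain ⟨x', hx'⟩ := hsurj ζ
    obtain ⟨ξ', hξ'1, hξ'2⟩ := Groth.Agent.H48.DimIneqSch.exists_generic_specializes x'
    have hpξ' : p ξ' = ζ := by
      have h1 : p ξ' ⤳ ζ := by
        rw [← hx']
        exact hξ'2.map p.continuous
      exact eq_of_specializes_of_closure_mem_irreducibleComponents (by rw [hζ]; exact hZ) h1
    refine ⟨closure {ξ'}, hξ'1, ?_⟩
    change topologicalKrullDim ↥(closure ({ξ'} : Set W)) = topologicalKrullDim ↥Z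
    rw [topologicalKrullDim_closure_eq_of_maximal k K φ f p q hpb ξ'
      (fun η' h _ => eq_of_specializes_of_closure_mem_irreducibleComponents hξ'1 h), hpξ', hζ]

end scheme

end Groth.Agent.H48.CompDimBC2
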