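import Mathlib
import Groth.Prelude.Def_Cyc
import Groth.Agent.H48.CycDim6
import Groth.Agent.H72.CMLocal

/-!
# Local equidimensionality: δ at generic points is locally constant
-/

set_option autoImplicit false
set_option linter.unusedSectionVars false
set_option linter.style.haveILetI false
universe u

open AlgebraicGeometry CategoryTheory TopologicalSpace Opposite

namespace Groth.Agent.H48.CycDim7

open Groth.Agent.H62 Groth.Agent.H48.DimIneqSch Groth.Agent.H48.DimFunSch Groth.Agent.H48.CycDim6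

/-- `ξ` has no proper generalization. -/
def IsGen {X : Scheme.{u}} (ξ : X) : Prop := ∀ ξ' : X, ξ' ⤳ ξ → ξ' = ξ

section G

variable {X : Scheme.{u}}

/-- Every point has a generization without proper generalizations. -/
theorem exists_isGen_specializes (y : X) : ∃ ξ : X, IsGen ξ ∧ ξ ⤳ y := by
  obtain ⟨η, hη, hsp⟩ := exists_generic_specializes y
  refine ⟨η, fun ξ' h => ?_, hsp⟩
  have h1 : closure {η} ⊆ closure {ξ'} := specializes_iff_closure_subset.mp h
  have h2 : closure {ξ'} ⊆ closure {η} :=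
    hη.2 (isIrreducible_singleton.closure) h1
  have h3 : η ⤳ ξ' := specializes_iff_closure_subset.mpr h2
  exact (h.antisymm h3).eq

variable [IsLocallyNoetherian X]

/-- Every point has an open neighbourhood all of whose generic points specialize to it. -/
theorem exists_open_nhd_isGen_specializes (x : X) :
    ∃ W : Set X, IsOpen W ∧ x ∈ W ∧ ∀ ξ ∈ W, IsGen ξ → ξ ⤳ x := by
  classical
  obtain ⟨U, hU, hxU, -⟩ := exists_isAffineOpen_mem_and_subset (x := x) (U := ⊤) trivial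
  haveI : IsNoetherianRing Γ(X, U) := IsLocallyNoetherian.component_noetherian ⟨U, hU⟩
  set px : PrimeSpectrum Γ(X, U) := hU.primeIdealOf ⟨x, hxU⟩ with hpx
  have hfx : hU.fromSpec px = x := hU.fromSpec_primeIdealOf ⟨x, hxU⟩
  have hfin : (minimalPrimes Γ(X, U)).Finite := minimalPrimes.finite_of_isNoetherianRing _
  let F : Finset (Ideal Γ(X, U)) := hfin.toFinset.filter (fun q => ¬ q ≤ px.asIdeal)
  let I : Ideal Γ(X, U) := F.prod id
  let W₀ : Set (PrimeSpectrum Γ(X, U)) := (PrimeSpectrum.zeroLocus (I : Set Γ(X, U)))ᶜ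
  have hW₀ : IsOpen W₀ := (PrimeSpectrum.isClosed_zeroLocus _).isOpen_compl
  refine ⟨hU.fromSpec '' W₀, hU.fromSpec.isOpenEmbedding.isOpenMap _ hW₀, ⟨px, ?_, hfx⟩, ?_⟩
  · intro hmem
    have hle : I ≤ px.asIdeal := (PrimeSpectrum.mem_zeroLocus _ _).mp hmem
    obtain ⟨q, hqF, hq⟩ := (Ideal.IsPrime.prod_le px.isPrime).mp hle
    exact (Finset.mem_filter.mp hqF).2 hq
  · rintro _ ⟨p, hpW, rfl⟩ hgen
    rw [← hfx, fromSpec_specializes_iff]
    by_contra hnle
    apply hpW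
    rw [PrimeSpectrum.mem_zeroLocus]
    have hmin : p.asIdeal ∈ minimalPrimes Γ(X, U) := by
      refine ⟨⟨p.isPrime, bot_le⟩, fun q hq hqp => ?_⟩
      have h1 : hU.fromSpec ⟨q, hq.1⟩ ⤳ hU.fromSpec p :=
        (fromSpec_specializes_iff hU ⟨q, hq.1⟩ p).mpr hqp
      have h2 := fromSpec_injective hU (hgen _ h1)
      rw [← h2]
    have hpF : p.asIdeal ∈ F := Finset.mem_filter.mpr ⟨hfin.mem_toFinset.mpr hmin, hnle⟩
    calc I ≤ F.inf id := Ideal.prod_le_inf
      _ ≤ p.asIdeal := Finset.inf_le hpF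

end G

section S6460

theorem exists_locallyConstant (X : Scheme.{u}) [IsLocallyNoetherian X] (δ : X → ℤ)
    (h3 : ∀ x : X, ∃ n : ℤ, ∀ ξ : X, IsGen ξ → ξ ⤳ x → δ ξ = n) :
    ∃ c : X → ℤ, IsLocallyConstant c ∧ ∀ ξ : X, IsGen ξ → δ ξ = c ξ := by
  choose c hc using h3
  refine ⟨c, ?_, fun ξ hξ => hc ξ ξ hξ specializes_rfl⟩
  rw [IsLocallyConstant.iff_exists_open]
  intro x
  obtain ⟨W, hWo, hxW, hW⟩ := exists_open_nhd_isGen_specializes x
  refine ⟨W, hWo, hxW, fun y hy => ?_⟩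
  obtain ⟨ξ, hξ, hξy⟩ := exists_isGen_specializes y
  have hξW : ξ ∈ W := hξy.mem_open hWo hy
  rw [← hc y ξ hξ hξy, ← hc x ξ hξ (hW ξ hξW hξ)]

end S6460

section LocQuot

variable {X : Scheme.{u}} {U : X.Opens} (hU : IsAffineOpen U)

include hU in
/-- The prime of `O_{X,x}` given by a generization `ξ` contracts to the prime of `ξ`. -/
theorem under_ker_specMap (x ξ : X) (h : ξ ⤳ x) (hxU : x ∈ U) :
    letI := X.presheaf.algebra_section_stalk ⟨x, hxU⟩
    (RingHom.ker (Cyc.specMap x ξ h)).under Γ(X, U) =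
      (hU.primeIdealOf ⟨ξ, h.mem_open U.2 hxU⟩).asIdeal := by
  letI := X.presheaf.algebra_section_stalk ⟨x, hxU⟩
  have hξU : ξ ∈ U := h.mem_open U.2 hxU
  rw [← ker_evaluation hU ξ hξU]
  ext r
  simp only [Ideal.mem_comap, RingHom.mem_ker, Ideal.under]
  have h1 : X.presheaf.germ U x hxU ≫ X.presheaf.stalkSpecializes h =
      X.presheaf.germ U ξ hξU := TopCat.Presheaf.germ_stalkSpecializes _ hxU h
  have h2 : (Cyc.specMap x ξ h) (algebraMap Γ(X, U) (X.presheaf.stalk x) r) =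
      (X.evaluation U ξ hξU).hom r := by
    change (X.residue ξ).hom ((X.presheaf.stalkSpecializes h).hom
      ((X.presheaf.germ U x hxU).hom r)) = _
    have := congrArg (fun g => g.hom r) h1
    simp only [CommRingCat.hom_comp, RingHom.comp_apply] at this
    rw [this]
    rfl
  rw [h2]

theorem ringKrullDim_locQuot' (X : Scheme.{u}) [IsLocallyNoetherian X] (δ : X → ℤ)
    (hδ : Cyc.IsDimFun X δ) (ξ z : X) (h : ξ ⤳ z) :
    ringKrullDim (Cyc.LocQuot z ξ h) = (((δ ξ - δ z).toNat : ℕ∞) : WithBot ℕ∞) := by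
  obtain ⟨U, hU, hzU, -⟩ := exists_isAffineOpen_mem_and_subset (x := z) (U := ⊤) trivial
  have hξU : ξ ∈ U := h.mem_open U.2 hzU
  set a : PrimeSpectrum Γ(X, U) := hU.primeIdealOf ⟨ξ, hξU⟩ with ha
  set b : PrimeSpectrum Γ(X, U) := hU.primeIdealOf ⟨z, hzU⟩ with hb
  have hfa : hU.fromSpec a = ξ := hU.fromSpec_primeIdealOf ⟨ξ, hξU⟩
  have hfb : hU.fromSpec b = z := hU.fromSpec_primeIdealOf ⟨z, hzU⟩
  have hab : a ≤ b := by
    rw [← fromSpec_specializes_iff hU, hfa, hfb]; exact h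
  letI := X.presheaf.algebra_section_stalk ⟨z, hzU⟩
  haveI : IsLocalization.AtPrime (X.presheaf.stalk z) b.asIdeal :=
    hU.isLocalization_stalk ⟨z, hzU⟩
  haveI : (RingHom.ker (Cyc.specMap z ξ h)).IsPrime := RingHom.ker_isPrime _
  have hunder : (RingHom.ker (Cyc.specMap z ξ h)).under Γ(X, U) = a.asIdeal :=
    under_ker_specMap hU z ξ h hzU
  rw [ringKrullDim_quotient_eq_cod b (X.presheaf.stalk z) _ a hunder,
    Groth.Agent.H29.DimFormula.cod_eq_height_map_mk a b hab,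
    height_map_mk_eq hU δ hδ a b hab, hfa, hfb]

end LocQuot

section S6461

variable (X : Scheme.{u}) [IsLocallyNoetherian X] (δ : X → ℤ) (hδ : Cyc.IsDimFun X δ)

include hδ in
/-- At a point with Cohen–Macaulay local ring, `δ ξ - δ x = dim O_{X,x}` for every generic `ξ ⤳ x`. -/
theorem delta_sub_eq_of_CM (x ξ : X) (hCM : LocCoh.IsCohenMacaulayLocalRing ↑(X.presheaf.stalk x))
    (hξ : IsGen ξ) (h : ξ ⤳ x) :
    ringKrullDim (X.presheaf.stalk x) = (((δ ξ - δ x).toNat : ℕ∞) : WithBot ℕ∞) := by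
  rw [← ringKrullDim_locQuot' X δ hδ ξ x h]
  haveI : (RingHom.ker (Cyc.specMap x ξ h)).IsPrime := RingHom.ker_isPrime _
  have key := Groth.Agent.H72.CMLocal.ringKrullDim_eq_quotient_add_height (X.presheaf.stalk x) hCM
    (RingHom.ker (Cyc.specMap x ξ h))
  have hht : (RingHom.ker (Cyc.specMap x ξ h)).height = 0 := by
    rw [Ideal.height_eq_zero_iff]
    refine ⟨⟨inferInstance, bot_le⟩, fun q hq hqle => ?_⟩
    -- the point of `X` corresponding to `q`
    haveI := hq.1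
    obtain ⟨U, hU, hxU, -⟩ := exists_isAffineOpen_mem_and_subset (x := x) (U := ⊤) trivial
    have hξU : ξ ∈ U := h.mem_open U.2 hxU
    letI := X.presheaf.algebra_section_stalk ⟨x, hxU⟩
    haveI hloc : IsLocalization.AtPrime (X.presheaf.stalk x) (hU.primeIdealOf ⟨x, hxU⟩).asIdeal :=
      hU.isLocalization_stalk ⟨x, hxU⟩
    set a : PrimeSpectrum Γ(X, U) := hU.primeIdealOf ⟨ξ, hξU⟩ with ha
    have hfa : hU.fromSpec a = ξ := hU.fromSpec_primeIdealOf ⟨ξ, hξU⟩
    have hunder : (RingHom.ker (Cyc.specMap x ξ h)).under Γ(X, U) = a.asIdeal :=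
      under_ker_specMap hU x ξ h hxU
    let q' : PrimeSpectrum Γ(X, U) := ⟨q.under Γ(X, U), Ideal.IsPrime.under _ _⟩
    have hq'a : q' ≤ a := by
      change q.under Γ(X, U) ≤ a.asIdeal
      rw [← hunder]
      exact Ideal.comap_mono hqle
    have h1 : hU.fromSpec q' ⤳ hU.fromSpec a := (fromSpec_specializes_iff hU q' a).mpr hq'a
    rw [hfa] at h1
    have h2 : hU.fromSpec q' = hU.fromSpec a := by rw [hfa]; exact hξ _ h1
    have h3 : q' = a := fromSpec_injective hU h2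
    have h4 : q.under Γ(X, U) = (RingHom.ker (Cyc.specMap x ξ h)).under Γ(X, U) := by
      rw [hunder, ← h3]
    -- primes of a localization are determined by their contractions
    have h5 := congrArg (Ideal.map (algebraMap Γ(X, U) (X.presheaf.stalk x))) h4
    rw [IsLocalization.map_under (hU.primeIdealOf ⟨x, hxU⟩).asIdeal.primeCompl,
      IsLocalization.map_under (hU.primeIdealOf ⟨x, hxU⟩).asIdeal.primeCompl] at h5
    rw [h5]
  rw [hht] at key
  simpa using key

include hδ in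
theorem exists_open_delta_const (hCM : ∀ x : X, LocCoh.IsCohenMacaulayLocalRing ↑(X.presheaf.stalk x))
    (x : X) : ∃ (U : X.Opens) (n : ℤ), x ∈ U ∧ ∀ ξ : X, ξ ∈ U → IsGen ξ → δ ξ = n := by
  obtain ⟨W, hWo, hxW, hW⟩ := exists_open_nhd_isGen_specializes x
  obtain ⟨ξ₀, hξ₀, hξ₀x⟩ := exists_isGen_specializes x
  refine ⟨⟨W, hWo⟩, δ ξ₀, hxW, fun ξ hξW hξ => ?_⟩
  have hξx : ξ ⤳ x := hW ξ hξW hξ
  have e1 := delta_sub_eq_of_CM X δ hδ x ξ (hCM x) hξ hξx
  have e2 := delta_sub_eq_of_CM X δ hδ x ξ₀ (hCM x) hξ₀ hξ₀x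
  rw [e1] at e2
  have e3 : (δ ξ - δ x).toNat = (δ ξ₀ - δ x).toNat := by exact_mod_cast e2
  have l1 : δ x ≤ δ ξ := by
    rcases eq_or_ne ξ x with h | h
    · rw [h]
    · exact (hδ _ _ hξx h).1.le
  have l2 : δ x ≤ δ ξ₀ := by
    rcases eq_or_ne ξ₀ x with h | h
    · rw [h]
    · exact (hδ _ _ hξ₀x h).1.le
  omega

end S6461

end Groth.Agent.H48.CycDim7
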