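import Mathlib

set_option autoImplicit false
universe u v w

open TensorProduct

namespace Groth.Agent.H48

section FieldTensor

variable {k : Type u} [Field k]

/-- Over a field, the tensor product of two injective algebra maps is injective. -/
theorem tensorMap_injective {A A' B B' : Type*} [CommRing A] [CommRing A'] [CommRing B] [CommRing B']
    [Algebra k A] [Algebra k A'] [Algebra k B] [Algebra k B']
    (f : A →ₐ[k] A') (g : B →ₐ[k] B') (hf : Function.Injective f) (hg : Function.Injective g) :
    Function.Injective (Algebra.TensorProduct.map f g) := by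
  have h := TensorProduct.map_injective_of_flat_flat f.toLinearMap g.toLinearMap hf hg
  intro x y hxy
  apply h
  have e : ∀ z : A ⊗[k] B, TensorProduct.map f.toLinearMap g.toLinearMap z =
      Algebra.TensorProduct.map f g z := by
    intro z
    induction z with
    | zero => simp
    | tmul a b => simp
    | add a b ha hb => rw [map_add, map_add, ha, hb]
  rw [e, e, hxy]

/-- nilradical pulls back along injective ring maps -/
theorem nilradical_comap_of_injective {A B : Type*} [CommRing A] [CommRing B] (φ : A →+* B)
    (hφ : Function.Injective φ) : (nilradical B).comap φ = nilradical A := by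
  ext a
  rw [Ideal.mem_comap, mem_nilradical, mem_nilradical]
  constructor
  · rintro ⟨n, hn⟩
    refine ⟨n, hφ ?_⟩
    rw [map_pow, hn, map_zero]
  · rintro ⟨n, hn⟩
    refine ⟨n, ?_⟩
    rw [← map_pow, hn, map_zero]

theorem irreducibleSpace_of_injective {A B : Type*} [CommRing A] [CommRing B] (φ : A →+* B)
    (hφ : Function.Injective φ) [IrreducibleSpace (PrimeSpectrum B)] :
    IrreducibleSpace (PrimeSpectrum A) := by
  rw [PrimeSpectrum.irreducibleSpace_iff_isPrime_nilradical] at *
  rw [← nilradical_comap_of_injective φ hφ]
  infer_instance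

/-- In a ring with preconnected spectrum every idempotent is trivial. -/
theorem idem_trivial_of_preconnected {A : Type*} [CommRing A] [PreconnectedSpace (PrimeSpectrum A)]
    (e : A) (he : IsIdempotentElem e) : e = 0 ∨ e = 1 := by
  have hcl : IsClopen (PrimeSpectrum.basicOpen e : Set (PrimeSpectrum A)) :=
    PrimeSpectrum.isClopen_iff.mpr ⟨e, he, rfl⟩
  rcases isClopen_iff.mp hcl with h | h
  · left
    have : IsNilpotent e := by
      rw [← PrimeSpectrum.basicOpen_eq_bot_iff]
      exact TopologicalSpace.Opens.ext h
    exact he.eq_zero_of_isNilpotent this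
  · right
    have hu : IsUnit e := by
      by_contra hne
      obtain ⟨m, hm, hem⟩ := exists_max_ideal_of_mem_nonunits (show e ∈ nonunits A from hne)
      have hmem : (⟨m, hm.isPrime⟩ : PrimeSpectrum A) ∈
          (PrimeSpectrum.basicOpen e : Set (PrimeSpectrum A)) := by
        rw [h]; trivial
      exact hmem hem
    obtain ⟨u, rfl⟩ := hu
    have : (u : A) * u = u := he
    calc (u : A) = ↑u⁻¹ * (↑u * ↑u) := by rw [← mul_assoc, Units.inv_mul, one_mul]
      _ = 1 := by rw [this, Units.inv_mul]

theorem connectedSpace_of_injective {A B : Type*} [CommRing A] [CommRing B] (φ : A →+* B)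
    (hφ : Function.Injective φ) [ConnectedSpace (PrimeSpectrum B)] :
    ConnectedSpace (PrimeSpectrum A) := by
  have hB : Nontrivial B := by
    obtain ⟨p⟩ := (inferInstance : Nonempty (PrimeSpectrum B))
    exact ⟨⟨0, 1, fun h => p.2.ne_top ((Ideal.eq_top_iff_one _).mpr (h ▸ p.asIdeal.zero_mem))⟩⟩
  have hA : Nontrivial A := by
    refine ⟨⟨0, 1, fun h => ?_⟩⟩
    have := congrArg φ h
    rw [map_zero, map_one] at this
    exact zero_ne_one this
  have hpre : PreconnectedSpace (PrimeSpectrum A) := by
    rw [preconnectedSpace_iff_clopen]
    intro s hs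
    obtain ⟨e, he, rfl⟩ := PrimeSpectrum.isClopen_iff.mp hs
    have heB : IsIdempotentElem (φ e) := he.map φ
    rcases idem_trivial_of_preconnected (φ e) heB with h | h
    · left
      have : e = 0 := hφ (by rw [h, map_zero])
      subst this; simp
    · right
      have : e = 1 := hφ (by rw [h, map_one])
      subst this; simp
  exact { toPreconnectedSpace := hpre, toNonempty := inferInstance }

end FieldTensor

end Groth.Agent.H48
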