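import Mathlib

set_option autoImplicit false
set_option linter.unusedSectionVars false
universe u

open TensorProduct

namespace Groth.Agent.H48

section GeomFibre

variable {k R S : Type u} [Field k] [CommRing R] [CommRing S] [Algebra k R] [Algebra k S]

/-- the fibre of `Spec (R ⊗ S) → Spec R` over `p` is `Spec (κ(p) ⊗ S)` -/
noncomputable def fibreTensorHomeo (p : PrimeSpectrum R) :
    (PrimeSpectrum.comap (algebraMap R (R ⊗[k] S)) ⁻¹' {p}) ≃ₜ
      PrimeSpectrum (p.asIdeal.ResidueField ⊗[k] S) :=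
  (PrimeSpectrum.preimageHomeomorphFiber R (R ⊗[k] S) p).trans
    (PrimeSpectrum.homeomorphOfRingEquiv
      (Algebra.TensorProduct.cancelBaseChange k R R p.asIdeal.ResidueField S).toRingEquiv)

theorem irreducibleSpace_fiber_tensor
    (hS : ∀ (k' : Type u) [Field k'] [Algebra k k'], IrreducibleSpace (PrimeSpectrum (k' ⊗[k] S)))
    (p : PrimeSpectrum R) : IrreducibleSpace (PrimeSpectrum (p.asIdeal.Fiber (R ⊗[k] S))) :=
  (PrimeSpectrum.homeomorphOfRingEquiv
    (Algebra.TensorProduct.cancelBaseChange k R R p.asIdeal.ResidueField S).toRingEquiv).irreducibleSpace_iff.mpr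
      (hS p.asIdeal.ResidueField)

theorem isIrreducible_fibre_tensor
    (hS : ∀ (k' : Type u) [Field k'] [Algebra k k'], IrreducibleSpace (PrimeSpectrum (k' ⊗[k] S)))
    (p : PrimeSpectrum R) :
    IsIrreducible (PrimeSpectrum.comap (algebraMap R (R ⊗[k] S)) ⁻¹' {p}) := by
  have := hS p.asIdeal.ResidueField
  have : IrreducibleSpace ↥(PrimeSpectrum.comap (algebraMap R (R ⊗[k] S)) ⁻¹' {p}) :=
    (fibreTensorHomeo (k := k) (S := S) p).irreducibleSpace_iff.mpr this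
  exact IsIrreducible.of_subtype

theorem isConnected_fibre_tensor
    (hS : ∀ (k' : Type u) [Field k'] [Algebra k k'], ConnectedSpace (PrimeSpectrum (k' ⊗[k] S)))
    (p : PrimeSpectrum R) :
    IsConnected (PrimeSpectrum.comap (algebraMap R (R ⊗[k] S)) ⁻¹' {p}) := by
  have := hS p.asIdeal.ResidueField
  have : ConnectedSpace ↥(PrimeSpectrum.comap (algebraMap R (R ⊗[k] S)) ⁻¹' {p}) :=
    (fibreTensorHomeo (k := k) (S := S) p).connectedSpace_iff.mpr this
  exact isConnected_iff_connectedSpace.mpr this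

theorem irreducibleSpace_tensor_of_geomIrr
    (hS : ∀ (k' : Type u) [Field k'] [Algebra k k'], IrreducibleSpace (PrimeSpectrum (k' ⊗[k] S)))
    [IrreducibleSpace (PrimeSpectrum R)] : IrreducibleSpace (PrimeSpectrum (R ⊗[k] S)) := by
  have hopen := PrimeSpectrum.isOpenMap_comap_algebraMap_tensorProduct_of_field (K := k) (A := R) (B := S)
  have hpre : IsPreirreducible (PrimeSpectrum.comap (algebraMap R (R ⊗[k] S)) ⁻¹' Set.univ) :=
    IsPreirreducible.preimage_of_isPreirreducible_fiber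
      (PreirreducibleSpace.isPreirreducible_univ) _ hopen
      (fun p => (isIrreducible_fibre_tensor hS p).isPreirreducible)
  rw [Set.preimage_univ] at hpre
  obtain ⟨p⟩ := (inferInstance : Nonempty (PrimeSpectrum R))
  obtain ⟨q, _⟩ := (isIrreducible_fibre_tensor hS p).nonempty
  exact { toNonempty := ⟨q⟩, isPreirreducible_univ := hpre }

end GeomFibre

end Groth.Agent.H48

namespace Groth.Agent.H48

section GeomConn

variable {k R S : Type u} [Field k] [CommRing R] [CommRing S] [Algebra k R] [Algebra k S]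

/-- A continuous open map with connected fibres pulls back clopens bijectively:
every clopen upstairs is the preimage of a clopen downstairs. -/
theorem exists_isClopen_preimage_eq {X Y : Type*} [TopologicalSpace X] [TopologicalSpace Y]
    (f : X → Y) (hopen : IsOpenMap f) (hfib : ∀ y, IsConnected (f ⁻¹' {y}))
    (U : Set X) (hU : IsClopen U) : ∃ V : Set Y, IsClopen V ∧ f ⁻¹' V = U := by
  have hsat : ∀ u ∈ U, ∀ x, f x = f u → x ∈ U := by
    intro u hu x hx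
    have h1 : f ⁻¹' {f u} ⊆ U :=
      (hfib (f u)).isPreconnected.subset_isClopen hU ⟨u, rfl, hu⟩
    exact h1 hx
  have hsurj : Function.Surjective f := fun y => by
    obtain ⟨x, hx⟩ := (hfib y).nonempty
    exact ⟨x, hx⟩
  have hcompl : (f '' U)ᶜ = f '' Uᶜ := by
    ext y
    constructor
    · intro hy
      obtain ⟨x, rfl⟩ := hsurj y
      exact ⟨x, fun hxU => hy ⟨x, hxU, rfl⟩, rfl⟩
    · rintro ⟨x, hxU, rfl⟩ ⟨u, hu, hux⟩
      exact hxU (hsat u hu x hux.symm)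
  refine ⟨f '' U, ⟨?_, hopen U hU.isOpen⟩, ?_⟩
  · rw [← isOpen_compl_iff, hcompl]
    exact hopen _ hU.compl.isOpen
  · ext x
    constructor
    · rintro ⟨u, hu, hux⟩
      exact hsat u hu x hux.symm
    · intro hx
      exact ⟨x, hx, rfl⟩

theorem existsUnique_idem_tensor
    (hS : ∀ (k' : Type u) [Field k'] [Algebra k k'], ConnectedSpace (PrimeSpectrum (k' ⊗[k] S)))
    (x : R ⊗[k] S) (hx : IsIdempotentElem x) :
    ∃! e : R, IsIdempotentElem e ∧ algebraMap R (R ⊗[k] S) e = x := by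
  have hopen := PrimeSpectrum.isOpenMap_comap_algebraMap_tensorProduct_of_field (K := k) (A := R) (B := S)
  have hfib := fun p : PrimeSpectrum R => isConnected_fibre_tensor (R := R) hS p
  have hsurj : Function.Surjective (PrimeSpectrum.comap (algebraMap R (R ⊗[k] S))) := fun y => by
    obtain ⟨q, hq⟩ := (hfib y).nonempty
    exact ⟨q, hq⟩
  have hpre : ∀ e : R, PrimeSpectrum.comap (algebraMap R (R ⊗[k] S)) ⁻¹'
      (PrimeSpectrum.basicOpen e : Set (PrimeSpectrum R)) =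
      (PrimeSpectrum.basicOpen (algebraMap R (R ⊗[k] S) e) : Set (PrimeSpectrum (R ⊗[k] S))) := by
    intro e
    ext q
    rfl
  have hU : IsClopen (PrimeSpectrum.basicOpen x : Set (PrimeSpectrum (R ⊗[k] S))) :=
    PrimeSpectrum.isClopen_iff.mpr ⟨x, hx, rfl⟩
  obtain ⟨V, hV, hVU⟩ := exists_isClopen_preimage_eq _ hopen hfib _ hU
  obtain ⟨e, he, rfl⟩ := PrimeSpectrum.isClopen_iff.mp hV
  refine ⟨e, ⟨he, ?_⟩, ?_⟩
  · apply PrimeSpectrum.basicOpen_injOn_isIdempotentElem (he.map _) hx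
    apply SetLike.coe_injective
    rw [← hpre, hVU]
  · rintro e' ⟨he', he'x⟩
    apply PrimeSpectrum.basicOpen_injOn_isIdempotentElem he' he
    apply SetLike.coe_injective
    apply hsurj.preimage_injective
    rw [hpre, hpre, he'x, ← hVU, hpre]

end GeomConn

end Groth.Agent.H48

namespace Groth.Agent.H48

section GeomIrrComp

variable {k R S : Type u} [Field k] [CommRing R] [CommRing S] [Algebra k R] [Algebra k S]

theorem goingDown_tensor (Q : PrimeSpectrum (R ⊗[k] S)) (P' : PrimeSpectrum R)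
    (h : P' ≤ PrimeSpectrum.comap (algebraMap R (R ⊗[k] S)) Q) :
    ∃ Q' : PrimeSpectrum (R ⊗[k] S), Q' ≤ Q ∧
      PrimeSpectrum.comap (algebraMap R (R ⊗[k] S)) Q' = P' := by
  have hflat : (algebraMap R (R ⊗[k] S)).Flat := by
    rw [RingHom.flat_algebraMap_iff]
    infer_instance
  have hgen := RingHom.Flat.generalizingMap_comap hflat
  obtain ⟨Q', hQ', hQ'P⟩ := hgen ((PrimeSpectrum.le_iff_specializes _ _).mp h)
  exact ⟨Q', (PrimeSpectrum.le_iff_specializes _ _).mpr hQ', hQ'P⟩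

theorem exists_least_in_fibre
    (hS : ∀ (k' : Type u) [Field k'] [Algebra k k'], IrreducibleSpace (PrimeSpectrum (k' ⊗[k] S)))
    (P : PrimeSpectrum R) :
    ∃ Q₀ : PrimeSpectrum (R ⊗[k] S), PrimeSpectrum.comap (algebraMap R (R ⊗[k] S)) Q₀ = P ∧
      ∀ Q, PrimeSpectrum.comap (algebraMap R (R ⊗[k] S)) Q = P → Q₀ ≤ Q := by
  have hirr := irreducibleSpace_fiber_tensor (R := R) hS P
  rw [PrimeSpectrum.irreducibleSpace_iff_isPrime_nilradical] at hirr
  let e := PrimeSpectrum.preimageOrderIsoFiber R (R ⊗[k] S) P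
  let n : PrimeSpectrum (P.asIdeal.Fiber (R ⊗[k] S)) := ⟨nilradical _, hirr⟩
  refine ⟨(e.symm n).1, (e.symm n).2, fun Q hQ => ?_⟩
  have h1 : n ≤ e ⟨Q, hQ⟩ := by
    show nilradical _ ≤ (e ⟨Q, hQ⟩).asIdeal
    exact nilradical_le_prime _
  have h2 : e.symm n ≤ ⟨Q, hQ⟩ := by
    rw [← e.symm_apply_apply ⟨Q, hQ⟩]
    exact e.symm.monotone h1
  exact h2

theorem bijOn_minimalPrimes_tensor
    (hS : ∀ (k' : Type u) [Field k'] [Algebra k k'], IrreducibleSpace (PrimeSpectrum (k' ⊗[k] S))) :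
    Set.BijOn (Ideal.comap (algebraMap R (R ⊗[k] S))) (minimalPrimes (R ⊗[k] S)) (minimalPrimes R) := by
  have hmaps : Set.MapsTo (Ideal.comap (algebraMap R (R ⊗[k] S))) (minimalPrimes (R ⊗[k] S))
      (minimalPrimes R) := by
    intro Q hQ
    have hQp : Q.IsPrime := hQ.1.1
    refine ⟨⟨Ideal.comap_isPrime _ _, bot_le⟩, ?_⟩
    rintro P' ⟨hP', -⟩ hle
    obtain ⟨Q', hQ'Q, hQ'P'⟩ := goingDown_tensor (k := k) (S := S) ⟨Q, hQp⟩ ⟨P', hP'⟩ hle
    have hQQ' : Q ≤ Q'.asIdeal := hQ.2 ⟨Q'.2, bot_le⟩ hQ'Q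
    have : Q'.asIdeal = Q := le_antisymm hQ'Q hQQ'
    have h3 : Ideal.comap (algebraMap R (R ⊗[k] S)) Q'.asIdeal = P' :=
      congrArg PrimeSpectrum.asIdeal hQ'P'
    rw [this] at h3
    exact h3.le
  refine ⟨hmaps, ?_, ?_⟩
  · intro Q hQ Q' hQ' hQQ'
    have hQp : Q.IsPrime := hQ.1.1
    have hQ'p : Q'.IsPrime := hQ'.1.1
    have hPp : (Ideal.comap (algebraMap R (R ⊗[k] S)) Q).IsPrime := Ideal.comap_isPrime _ _
    obtain ⟨Q₀, hQ₀P, hQ₀⟩ := exists_least_in_fibre (R := R) hS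
      ⟨Ideal.comap (algebraMap R (R ⊗[k] S)) Q, hPp⟩
    have h1 : Q₀ ≤ ⟨Q, hQp⟩ := hQ₀ ⟨Q, hQp⟩ rfl
    have h2 : Q₀ ≤ ⟨Q', hQ'p⟩ := hQ₀ ⟨Q', hQ'p⟩ (PrimeSpectrum.ext hQQ'.symm)
    have e1 : Q₀.asIdeal = Q := le_antisymm h1 (hQ.2 ⟨Q₀.2, bot_le⟩ h1)
    have e2 : Q₀.asIdeal = Q' := le_antisymm h2 (hQ'.2 ⟨Q₀.2, bot_le⟩ h2)
    rw [← e1, ← e2]
  · intro P hP
    have hPp : P.IsPrime := hP.1.1
    obtain ⟨Q₀, hQ₀P, hQ₀⟩ := exists_least_in_fibre (R := R) hS ⟨P, hPp⟩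
    refine ⟨Q₀.asIdeal, ⟨⟨Q₀.2, bot_le⟩, ?_⟩, congrArg PrimeSpectrum.asIdeal hQ₀P⟩
    rintro Q' ⟨hQ'p, -⟩ hle
    have h1 : Ideal.comap (algebraMap R (R ⊗[k] S)) Q' ≤ P := by
      have := Ideal.comap_mono (f := algebraMap R (R ⊗[k] S)) hle
      rw [show Ideal.comap (algebraMap R (R ⊗[k] S)) Q₀.asIdeal = P from
        congrArg PrimeSpectrum.asIdeal hQ₀P] at this
      exact this
    have h2 : P ≤ Ideal.comap (algebraMap R (R ⊗[k] S)) Q' :=
      hP.2 ⟨Ideal.comap_isPrime _ _, bot_le⟩ h1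
    have h3 : PrimeSpectrum.comap (algebraMap R (R ⊗[k] S)) ⟨Q', hQ'p⟩ = ⟨P, hPp⟩ :=
      PrimeSpectrum.ext (le_antisymm h1 h2)
    exact hQ₀ ⟨Q', hQ'p⟩ h3

end GeomIrrComp

end Groth.Agent.H48
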