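import Mathlib
import Groth.Agent.H48.FieldTensor
import Groth.Agent.H48.GeomFibre

/-!
# Tensor products of domains over an algebraically closed field are domains
-/

open scoped TensorProduct

namespace Groth.Agent.H48

universe u v w w'

/-- Nullstellensatz: in a finite type algebra over an algebraically closed field, a non-nilpotent
element is nonzero at some rational point. -/
theorem exists_algHom_apply_ne_zero {k : Type u} [Field k] [IsAlgClosed k] {R : Type v} [CommRing R]
    [Algebra k R] [Algebra.FiniteType k R] (a : R) (ha : ¬ IsNilpotent a) :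
    ∃ φ : R →ₐ[k] k, φ a ≠ 0 := by
  have hJ : IsJacobsonRing R := isJacobsonRing_of_finiteType (A := k) (B := R)
  have h1 : a ∉ (⊥ : Ideal R).jacobson := by
    rw [← Ideal.radical_eq_jacobson]
    intro h
    exact ha (mem_nilradical.mp h)
  rw [Ideal.jacobson, Ideal.mem_sInf] at h1
  push Not at h1
  obtain ⟨m, ⟨_, hm⟩, ham⟩ := h1
  let _ := Ideal.Quotient.field m
  have hft : Algebra.FiniteType k (R ⧸ m) :=
    Algebra.FiniteType.of_surjective (Ideal.Quotient.mkₐ k m) (Ideal.Quotient.mkₐ_surjective k m)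
  have hfin : Module.Finite k (R ⧸ m) := finite_of_finite_type_of_isJacobsonRing k (R ⧸ m)
  have hbij : Function.Bijective (algebraMap k (R ⧸ m)) :=
    IsAlgClosed.algebraMap_bijective_of_isIntegral
  let e : k ≃ₐ[k] R ⧸ m := AlgEquiv.ofBijective (Algebra.ofId k (R ⧸ m)) hbij
  refine ⟨(e.symm : (R ⧸ m) →ₐ[k] k).comp (Ideal.Quotient.mkₐ k m), ?_⟩
  intro h0
  apply ham
  have h2 : e.symm (Ideal.Quotient.mk m a) = 0 := h0
  have h3 : Ideal.Quotient.mk m a = 0 := by
    have := congrArg e h2
    rwa [AlgEquiv.apply_symm_apply, map_zero] at this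
  exact Ideal.Quotient.eq_zero_iff_mem.mp h3

section coords

variable {k : Type u} [Field k] {R : Type v} {R' : Type w'} [CommRing R] [CommRing R'] [Algebra k R]
  [Algebra k R'] {S : Type w} [CommRing S] [Algebra k S] {κ : Type*} (𝒞 : Module.Basis κ k S)

theorem map_sum_tmul_basis (ψ : R →ₐ[k] R') (f : κ →₀ R) :
    Algebra.TensorProduct.map ψ (AlgHom.id k S) (f.sum fun i m => m ⊗ₜ[k] 𝒞 i) =
      (f.mapRange ψ (map_zero ψ)).sum fun i m => m ⊗ₜ[k] 𝒞 i := by
  rw [Finsupp.sum_mapRange_index (by intro i; exact TensorProduct.zero_tmul _ _)]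
  rw [Finsupp.sum, map_sum]
  rfl

end coords

/-- finite type case -/
theorem mul_eq_zero_tensor_of_finiteType {k : Type u} [Field k] [IsAlgClosed k] {R : Type v} [CommRing R]
    [IsDomain R] [Algebra k R] [Algebra.FiniteType k R] {S : Type w} [CommRing S] [IsDomain S] [Algebra k S]
    (x y : R ⊗[k] S) (hxy : x * y = 0) : x = 0 ∨ y = 0 := by
  classical
  let 𝒞 := Module.Basis.ofVectorSpace k S
  obtain ⟨f, rfl⟩ := TensorProduct.eq_repr_basis_right 𝒞 x
  obtain ⟨g, rfl⟩ := TensorProduct.eq_repr_basis_right 𝒞 y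
  -- the key claim
  have key : ∀ i j, f i * g j = 0 := by
    intro i j
    by_contra hne
    have hnil : ¬ IsNilpotent (f i * g j) := fun h => hne h.eq_zero
    obtain ⟨φ, hφ⟩ := exists_algHom_apply_ne_zero (k := k) (f i * g j) hnil
    let Φ : R ⊗[k] S →ₐ[k] S :=
      (Algebra.TensorProduct.lid k S : k ⊗[k] S →ₐ[k] S).comp
        (Algebra.TensorProduct.map φ (AlgHom.id k S))
    have hΦ : ∀ h : Module.Basis.ofVectorSpaceIndex k S →₀ R, Φ (h.sum fun i m => m ⊗ₜ[k] 𝒞 i) = 0 → ∀ i, φ (h i) = 0 := by
      intro h h0 i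
      have e1 : Φ (h.sum fun i m => m ⊗ₜ[k] 𝒞 i) =
          Finsupp.linearCombination k 𝒞 (h.mapRange φ (map_zero φ)) := by
        show (Algebra.TensorProduct.lid k S) (Algebra.TensorProduct.map φ (AlgHom.id k S) _) = _
        rw [map_sum_tmul_basis, Finsupp.sum, map_sum, Finsupp.linearCombination_apply, Finsupp.sum]
        refine Finset.sum_congr rfl (fun i _ => ?_)
        simp
      rw [e1] at h0
      have := 𝒞.linearIndependent
      rw [linearIndependent_iff] at this
      have h2 := this _ h0
      have := DFunLike.congr_fun h2 i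
      simpa using this
    have hmul : Φ (f.sum fun i m => m ⊗ₜ[k] 𝒞 i) * Φ (g.sum fun i m => m ⊗ₜ[k] 𝒞 i) = 0 := by
      rw [← map_mul, hxy, map_zero]
    apply hφ
    rw [map_mul]
    rcases mul_eq_zero.mp hmul with h | h
    · rw [hΦ f h i, zero_mul]
    · rw [hΦ g h j, mul_zero]
  by_cases hf : f = 0
  · left
    rw [hf, Finsupp.sum_zero_index]
  · right
    obtain ⟨i, hi⟩ : ∃ i, f i ≠ 0 := by
      by_contra hcon
      push Not at hcon
      exact hf (Finsupp.ext hcon)
    have hg : g = 0 := by
      ext j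
      rcases mul_eq_zero.mp (key i j) with h | h
      · exact absurd h hi
      · exact h
    rw [hg, Finsupp.sum_zero_index]

/-- Over an algebraically closed field the tensor product of two domains has no zero divisors. -/
theorem mul_eq_zero_tensor {k : Type u} [Field k] [IsAlgClosed k] {R : Type v} [CommRing R]
    [IsDomain R] [Algebra k R] {S : Type w} [CommRing S] [IsDomain S] [Algebra k S]
    (x y : R ⊗[k] S) (hxy : x * y = 0) : x = 0 ∨ y = 0 := by
  classical
  let 𝒞 := Module.Basis.ofVectorSpace k S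
  obtain ⟨f, rfl⟩ := TensorProduct.eq_repr_basis_right 𝒞 x
  obtain ⟨g, rfl⟩ := TensorProduct.eq_repr_basis_right 𝒞 y
  let T : Finset R := f.support.image f ∪ g.support.image g
  let R₀ : Subalgebra k R := Algebra.adjoin k (T : Set R)
  have hft : Algebra.FiniteType k R₀ :=
    (Subalgebra.fg_iff_finiteType _).mp (Subalgebra.fg_adjoin_finset T)
  have hfmem : ∀ i, f i ∈ R₀ := by
    intro i
    by_cases hi : i ∈ f.support
    · apply Algebra.subset_adjoin
      simp only [T, Finset.coe_union, Finset.coe_image, Set.mem_union, Set.mem_image, Finset.mem_coe]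
      exact Or.inl ⟨i, hi, rfl⟩
    · rw [Finsupp.notMem_support_iff.mp hi]
      exact zero_mem _
  have hgmem : ∀ i, g i ∈ R₀ := by
    intro i
    by_cases hi : i ∈ g.support
    · apply Algebra.subset_adjoin
      simp only [T, Finset.coe_union, Finset.coe_image, Set.mem_union, Set.mem_image, Finset.mem_coe]
      exact Or.inr ⟨i, hi, rfl⟩
    · rw [Finsupp.notMem_support_iff.mp hi]
      exact zero_mem _
  let f₀ : Module.Basis.ofVectorSpaceIndex k S →₀ R₀ :=
    Finsupp.onFinset f.support (fun i => ⟨f i, hfmem i⟩) (by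
      intro i hi
      rw [Finsupp.mem_support_iff]
      intro h
      apply hi
      exact Subtype.ext h)
  let g₀ : Module.Basis.ofVectorSpaceIndex k S →₀ R₀ :=
    Finsupp.onFinset g.support (fun i => ⟨g i, hgmem i⟩) (by
      intro i hi
      rw [Finsupp.mem_support_iff]
      intro h
      apply hi
      exact Subtype.ext h)
  have hf₀ : f₀.mapRange R₀.val (map_zero _) = f := by ext i; rfl
  have hg₀ : g₀.mapRange R₀.val (map_zero _) = g := by ext i; rfl
  have hx := map_sum_tmul_basis 𝒞 R₀.val f₀
  have hy := map_sum_tmul_basis 𝒞 R₀.val g₀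
  rw [hf₀] at hx
  rw [hg₀] at hy
  have h0 : (f₀.sum fun i m => m ⊗ₜ[k] 𝒞 i) * (g₀.sum fun i m => m ⊗ₜ[k] 𝒞 i) = 0 := by
    apply tensorMap_injective R₀.val (AlgHom.id k S) Subtype.val_injective Function.injective_id
    rw [map_mul, hx, hy, hxy, map_zero]
  rcases mul_eq_zero_tensor_of_finiteType _ _ h0 with h | h
  · left
    rw [← hx, h, map_zero]
  · right
    rw [← hy, h, map_zero]

theorem isDomain_tensor_of_isAlgClosed {k : Type u} [Field k] [IsAlgClosed k] (R : Type v) [CommRing R]
    [IsDomain R] [Algebra k R] (S : Type w) [CommRing S] [IsDomain S] [Algebra k S] :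
    IsDomain (R ⊗[k] S) := by
  have hinj : Function.Injective (Algebra.TensorProduct.includeLeft : R →ₐ[k] R ⊗[k] S) :=
    Algebra.TensorProduct.includeLeft_injective (FaithfulSMul.algebraMap_injective k S)
  have : Nontrivial (R ⊗[k] S) := hinj.nontrivial
  have : NoZeroDivisors (R ⊗[k] S) := ⟨fun h => mul_eq_zero_tensor _ _ h⟩
  exact NoZeroDivisors.to_isDomain _

/-- Over an algebraically closed field, an algebra with irreducible spectrum is geometrically
irreducible. -/
theorem irreducibleSpace_tensor_domain_of_isAlgClosed {k : Type u} [Field k] [IsAlgClosed k]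
    (K : Type v) [CommRing K] [IsDomain K] [Algebra k K] (S : Type w) [CommRing S] [Algebra k S]
    [IrreducibleSpace (PrimeSpectrum S)] : IrreducibleSpace (PrimeSpectrum (K ⊗[k] S)) := by
  have hN : (nilradical S).IsPrime := PrimeSpectrum.irreducibleSpace_iff_isPrime_nilradical.mp inferInstance
  rw [PrimeSpectrum.irreducibleSpace_iff_isPrime_nilradical]
  have hD : IsDomain (S ⧸ nilradical S) := Ideal.Quotient.isDomain _
  have hdom : IsDomain (K ⊗[k] (S ⧸ nilradical S)) := isDomain_tensor_of_isAlgClosed K _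
  let π : K ⊗[k] S →ₐ[k] K ⊗[k] (S ⧸ nilradical S) :=
    Algebra.TensorProduct.map (AlgHom.id k K) (Ideal.Quotient.mkₐ k (nilradical S))
  have hker : RingHom.ker π =
      (RingHom.ker (Ideal.Quotient.mkₐ k (nilradical S))).map
        (Algebra.TensorProduct.includeRight : S →ₐ[k] K ⊗[k] S) :=
    Algebra.TensorProduct.lTensor_ker _ (Ideal.Quotient.mkₐ_surjective k _)
  have hprime : (RingHom.ker π).IsPrime := RingHom.ker_isPrime π
  have hle : RingHom.ker π ≤ nilradical (K ⊗[k] S) := by
    rw [hker, Ideal.map_le_iff_le_comap]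
    intro s hs
    have hs' : s ∈ nilradical S := by
      have : Ideal.Quotient.mk (nilradical S) s = 0 := hs
      exact Ideal.Quotient.eq_zero_iff_mem.mp this
    rw [Ideal.mem_comap, mem_nilradical]
    exact (mem_nilradical.mp hs').map _
  have hge : nilradical (K ⊗[k] S) ≤ RingHom.ker π := nilradical_le_prime _
  rw [le_antisymm hge hle]
  exact hprime

/-- Over an algebraically closed field, the tensor product of algebras with irreducible spectra has
irreducible spectrum. -/
theorem irreducibleSpace_tensor_of_isAlgClosed {k : Type u} [Field k] [IsAlgClosed k]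
    (R S : Type u) [CommRing R] [CommRing S] [Algebra k R] [Algebra k S]
    [IrreducibleSpace (PrimeSpectrum R)] [IrreducibleSpace (PrimeSpectrum S)] :
    IrreducibleSpace (PrimeSpectrum (R ⊗[k] S)) :=
  irreducibleSpace_tensor_of_geomIrr
    (fun k' _ _ => irreducibleSpace_tensor_domain_of_isAlgClosed k' S)

end Groth.Agent.H48
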