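import Mathlib
import Groth.Agent.H48.FieldTensor
import Groth.Agent.H48.GeomFibre
import Groth.Agent.H48.AlgClosedTensor

/-!
# Geometric irreducibility: the equivalences
-/

open scoped TensorProduct

namespace Groth.Agent.H48

universe u

section

variable {k R : Type u} [Field k] [CommRing R] [Algebra k R]

/-- (4) ⇒ (1) -/
theorem geomIrr_of_algClosure
    [IrreducibleSpace (PrimeSpectrum (AlgebraicClosure k ⊗[k] R))] (k' : Type u) [Field k']
    [Algebra k k'] : IrreducibleSpace (PrimeSpectrum (k' ⊗[k] R)) := by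
  let ι : AlgebraicClosure k →ₐ[k] AlgebraicClosure k' := IsAlgClosed.lift
  let _ : Algebra (AlgebraicClosure k) (AlgebraicClosure k') := ι.toRingHom.toAlgebra
  have : IsScalarTower k (AlgebraicClosure k) (AlgebraicClosure k') :=
    IsScalarTower.of_algebraMap_eq' (by
      ext x
      exact (ι.commutes x).symm)
  let e := Algebra.TensorProduct.cancelBaseChange k (AlgebraicClosure k) (AlgebraicClosure k)
    (AlgebraicClosure k') R
  have h1 : IrreducibleSpace (PrimeSpectrum
      (AlgebraicClosure k' ⊗[AlgebraicClosure k] (AlgebraicClosure k ⊗[k] R))) :=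
    irreducibleSpace_tensor_domain_of_isAlgClosed (AlgebraicClosure k') _
  have h2 : IrreducibleSpace (PrimeSpectrum (AlgebraicClosure k' ⊗[k] R)) :=
    (PrimeSpectrum.homeomorphOfRingEquiv e.toRingEquiv).irreducibleSpace_iff.mp h1
  exact irreducibleSpace_of_injective
    (Algebra.TensorProduct.map (IsScalarTower.toAlgHom k k' (AlgebraicClosure k')) (AlgHom.id k R)).toRingHom
    (tensorMap_injective _ _ (algebraMap k' (AlgebraicClosure k')).injective Function.injective_id)

/-- (3) ⇒ (4) -/
theorem irr_algClosure_of_sepClosure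
    [IrreducibleSpace (PrimeSpectrum (SeparableClosure k ⊗[k] R))] :
    IrreducibleSpace (PrimeSpectrum (AlgebraicClosure k ⊗[k] R)) := by
  have h := PrimeSpectrum.isHomeomorph_comap_tensorProductMap_of_isPurelyInseparable
    (SeparableClosure k) k R (AlgebraicClosure k)
  exact (h.homeomorph).irreducibleSpace_iff.mpr inferInstance

/-- the base change map from an intermediate field -/
noncomputable def jE {L : Type u} [Field L] [Algebra k L] (R : Type u) [CommRing R] [Algebra k R]
    (E : IntermediateField k L) : E ⊗[k] R →ₐ[k] L ⊗[k] R :=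
  Algebra.TensorProduct.map E.val (AlgHom.id k R)

theorem jE_injective {L : Type u} [Field L] [Algebra k L] (E : IntermediateField k L) :
    Function.Injective (jE R E) :=
  tensorMap_injective _ _ Subtype.val_injective Function.injective_id

theorem jE_range_mono {L : Type u} [Field L] [Algebra k L] {E₁ E₂ : IntermediateField k L}
    (h : E₁ ≤ E₂) : (jE R E₁).range ≤ (jE R E₂).range := by
  rintro _ ⟨z, rfl⟩
  refine ⟨Algebra.TensorProduct.map (IntermediateField.inclusion h) (AlgHom.id k R) z, ?_⟩
  have : (jE R E₂).comp (Algebra.TensorProduct.map (IntermediateField.inclusion h) (AlgHom.id k R)) =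
      jE R E₁ := by
    apply Algebra.TensorProduct.ext'
    intro a b
    rfl
  exact DFunLike.congr_fun this z

theorem exists_finite_intermediateField_mem_range {L : Type u} [Field L] [Algebra k L]
    [Algebra.IsAlgebraic k L] (x : L ⊗[k] R) :
    ∃ E : IntermediateField k L, FiniteDimensional k E ∧ x ∈ (jE R E).range := by
  induction x using TensorProduct.induction_on with
  | zero => exact ⟨⊥, inferInstance, zero_mem _⟩
  | tmul a r =>
    refine ⟨IntermediateField.adjoin k {a},
      IntermediateField.adjoin.finiteDimensional (Algebra.IsIntegral.isIntegral a), ?_⟩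
    exact ⟨(⟨a, IntermediateField.mem_adjoin_simple_self k a⟩ : IntermediateField.adjoin k {a}) ⊗ₜ r, rfl⟩
  | add x y hx hy =>
    obtain ⟨E₁, h₁, hx⟩ := hx
    obtain ⟨E₂, h₂, hy⟩ := hy
    refine ⟨E₁ ⊔ E₂, IntermediateField.finiteDimensional_sup E₁ E₂, ?_⟩
    exact add_mem (jE_range_mono le_sup_left hx) (jE_range_mono le_sup_right hy)

theorem mem_or_mem_generic {L : Type u} [Field L] [Algebra k L] {E' : Type u} [Field E'] [Algebra k E']
    (i : E' →ₐ[k] L) (hirr : (nilradical (E' ⊗[k] R)).IsPrime) (a' b' : E' ⊗[k] R)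
    (hab : Algebra.TensorProduct.map i (AlgHom.id k R) a' * Algebra.TensorProduct.map i (AlgHom.id k R) b' ∈
      nilradical (L ⊗[k] R)) :
    Algebra.TensorProduct.map i (AlgHom.id k R) a' ∈ nilradical (L ⊗[k] R) ∨
      Algebra.TensorProduct.map i (AlgHom.id k R) b' ∈ nilradical (L ⊗[k] R) := by
  have hinj : Function.Injective (Algebra.TensorProduct.map i (AlgHom.id k R)) :=
    tensorMap_injective _ _ i.injective Function.injective_id
  have hab' : a' * b' ∈ nilradical (E' ⊗[k] R) := by
    rw [mem_nilradical]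
    obtain ⟨n, hn⟩ := mem_nilradical.mp hab
    refine ⟨n, hinj ?_⟩
    rw [map_pow, map_mul, hn, map_zero]
  rcases hirr.mem_or_mem hab' with h' | h'
  · left
    exact (mem_nilradical.mp h').map _
  · right
    exact (mem_nilradical.mp h').map _

theorem jE_mem_or_mem {L : Type u} [Field L] [Algebra k L] (E : IntermediateField k L)
    (hirr : (nilradical (E ⊗[k] R)).IsPrime) (a' b' : E ⊗[k] R)
    (hab : jE R E a' * jE R E b' ∈ nilradical (L ⊗[k] R)) :
    jE R E a' ∈ nilradical (L ⊗[k] R) ∨ jE R E b' ∈ nilradical (L ⊗[k] R) :=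
  mem_or_mem_generic E.val hirr a' b' hab

/-- (2) ⇒ (3), for an arbitrary algebraic extension -/
theorem irr_of_irr_finite_subextensions {L : Type u} [Field L] [Algebra k L] [Algebra.IsAlgebraic k L]
    (h : ∀ E : IntermediateField k L, FiniteDimensional k E →
      IrreducibleSpace (PrimeSpectrum (E ⊗[k] R))) :
    IrreducibleSpace (PrimeSpectrum (L ⊗[k] R)) := by
  rw [PrimeSpectrum.irreducibleSpace_iff_isPrime_nilradical]
  have hbot := h ⊥ inferInstance
  have hnt : Nontrivial (L ⊗[k] R) := by
    have : Nontrivial ((⊥ : IntermediateField k L) ⊗[k] R) := by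
      obtain ⟨p⟩ := (inferInstance : Nonempty (PrimeSpectrum ((⊥ : IntermediateField k L) ⊗[k] R)))
      exact ⟨⟨0, 1, fun h => p.2.ne_top ((Ideal.eq_top_iff_one _).mpr (h ▸ p.asIdeal.zero_mem))⟩⟩
    exact (jE_injective (R := R) (⊥ : IntermediateField k L)).nontrivial
  rw [Ideal.isPrime_iff]
  refine ⟨?_, ?_⟩
  · rw [Ne, Ideal.eq_top_iff_one, mem_nilradical]
    exact not_isNilpotent_one
  · intro a b hab
    obtain ⟨E₁, h₁, ha⟩ := exists_finite_intermediateField_mem_range a
    obtain ⟨E₂, h₂, hb⟩ := exists_finite_intermediateField_mem_range b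
    obtain ⟨E, hE, hE₁, hE₂⟩ : ∃ E : IntermediateField k L, FiniteDimensional k E ∧ E₁ ≤ E ∧ E₂ ≤ E :=
      ⟨E₁ ⊔ E₂, IntermediateField.finiteDimensional_sup E₁ E₂, le_sup_left, le_sup_right⟩
    obtain ⟨a', ha'⟩ := jE_range_mono (R := R) hE₁ ha
    obtain ⟨b', hb'⟩ := jE_range_mono (R := R) hE₂ hb
    have ha'' : jE R E a' = a := ha'
    have hb'' : jE R E b' = b := hb'
    have hirr := h E hE
    rw [PrimeSpectrum.irreducibleSpace_iff_isPrime_nilradical] at hirr
    rw [← ha'', ← hb''] at hab ⊢
    exact jE_mem_or_mem E hirr a' b' hab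

theorem eq_zero_or_generic {L : Type u} [Field L] [Algebra k L] {E' : Type u} [Field E'] [Algebra k E']
    (i : E' →ₐ[k] L) (hdom : IsDomain (E' ⊗[k] R)) (a' b' : E' ⊗[k] R)
    (hab : Algebra.TensorProduct.map i (AlgHom.id k R) a' * Algebra.TensorProduct.map i (AlgHom.id k R) b' = 0) :
    Algebra.TensorProduct.map i (AlgHom.id k R) a' = 0 ∨
      Algebra.TensorProduct.map i (AlgHom.id k R) b' = 0 := by
  have hinj : Function.Injective (Algebra.TensorProduct.map i (AlgHom.id k R)) :=
    tensorMap_injective _ _ i.injective Function.injective_id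
  have hab' : a' * b' = 0 := by
    apply hinj
    rw [map_mul, hab, map_zero]
  rcases mul_eq_zero.mp hab' with h' | h'
  · left
    rw [h', map_zero]
  · right
    rw [h', map_zero]

theorem jE_eq_zero_or {L : Type u} [Field L] [Algebra k L] (E : IntermediateField k L)
    (hdom : IsDomain (E ⊗[k] R)) (a' b' : E ⊗[k] R)
    (hab : jE R E a' * jE R E b' = 0) : jE R E a' = 0 ∨ jE R E b' = 0 :=
  eq_zero_or_generic E.val hdom a' b' hab

/-- domain version of (2) ⇒ (3) -/
theorem isDomain_of_isDomain_finite_subextensions {L : Type u} [Field L] [Algebra k L]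
    [Algebra.IsAlgebraic k L]
    (h : ∀ E : IntermediateField k L, FiniteDimensional k E → IsDomain (E ⊗[k] R)) :
    IsDomain (L ⊗[k] R) := by
  have hbot := h ⊥ inferInstance
  have hnt : Nontrivial (L ⊗[k] R) :=
    (jE_injective (R := R) (⊥ : IntermediateField k L)).nontrivial
  have : NoZeroDivisors (L ⊗[k] R) := by
    refine ⟨fun {a b} hab => ?_⟩
    obtain ⟨E₁, h₁, ha⟩ := exists_finite_intermediateField_mem_range a
    obtain ⟨E₂, h₂, hb⟩ := exists_finite_intermediateField_mem_range b
    obtain ⟨E, hE, hE₁, hE₂⟩ : ∃ E : IntermediateField k L, FiniteDimensional k E ∧ E₁ ≤ E ∧ E₂ ≤ E :=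
      ⟨E₁ ⊔ E₂, IntermediateField.finiteDimensional_sup E₁ E₂, le_sup_left, le_sup_right⟩
    obtain ⟨a', ha'⟩ := jE_range_mono (R := R) hE₁ ha
    obtain ⟨b', hb'⟩ := jE_range_mono (R := R) hE₂ hb
    have ha'' : jE R E a' = a := ha'
    have hb'' : jE R E b' = b := hb'
    rw [← ha'', ← hb''] at hab ⊢
    exact jE_eq_zero_or E (h E hE) a' b' hab
  exact NoZeroDivisors.to_isDomain _

/-- domain version of (4) ⇒ (1) -/
theorem isDomain_of_algClosure [IsDomain (AlgebraicClosure k ⊗[k] R)] (k' : Type u) [Field k']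
    [Algebra k k'] : IsDomain (k' ⊗[k] R) := by
  let ι : AlgebraicClosure k →ₐ[k] AlgebraicClosure k' := IsAlgClosed.lift
  let _ : Algebra (AlgebraicClosure k) (AlgebraicClosure k') := ι.toRingHom.toAlgebra
  have : IsScalarTower k (AlgebraicClosure k) (AlgebraicClosure k') :=
    IsScalarTower.of_algebraMap_eq' (by
      ext x
      exact (ι.commutes x).symm)
  let e := Algebra.TensorProduct.cancelBaseChange k (AlgebraicClosure k) (AlgebraicClosure k)
    (AlgebraicClosure k') R
  have h1 : IsDomain (AlgebraicClosure k' ⊗[AlgebraicClosure k] (AlgebraicClosure k ⊗[k] R)) :=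
    isDomain_tensor_of_isAlgClosed (AlgebraicClosure k') _
  have h2 : IsDomain (AlgebraicClosure k' ⊗[k] R) := e.toMulEquiv.isDomain_iff.mp h1
  have hinj : Function.Injective
      (Algebra.TensorProduct.map (IsScalarTower.toAlgHom k k' (AlgebraicClosure k')) (AlgHom.id k R)) :=
    tensorMap_injective _ _ (algebraMap k' (AlgebraicClosure k')).injective Function.injective_id
  exact hinj.isDomain _

end

end Groth.Agent.H48
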