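import Mathlib
import Groth.Agent.H48.GeomIrr
import Groth.Agent.H13.AlgClosedTensor
import Groth.Agent.H47.SmoothReduced

/-!
# Geometric reducedness: purely inseparable test fields suffice
-/

open scoped TensorProduct

namespace Groth.Agent.H48.GeomRed

universe u

section

variable {k R : Type u} [Field k] [CommRing R] [Algebra k R]

/-- reducedness of `L ⊗ R` can be tested on finite subextensions of an algebraic extension `L`. -/
theorem isReduced_of_finite_subextensions {L : Type u} [Field L] [Algebra k L]
    [Algebra.IsAlgebraic k L]
    (h : ∀ E : IntermediateField k L, FiniteDimensional k E → IsReduced (E ⊗[k] R)) :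
    IsReduced (L ⊗[k] R) := by
  refine ⟨fun x hx => ?_⟩
  obtain ⟨E, hE, y, hyx⟩ := Groth.Agent.H48.exists_finite_intermediateField_mem_range (R := R) x
  change Groth.Agent.H48.jE R E y = x at hyx
  subst hyx
  have := h E hE
  have hy : IsNilpotent y := by
    obtain ⟨n, hn⟩ := hx
    refine ⟨n, Groth.Agent.H48.jE_injective (R := R) E ?_⟩
    have h1 : (Groth.Agent.H48.jE R E) (y ^ n) = (Groth.Agent.H48.jE R E y) ^ n :=
      map_pow (Groth.Agent.H48.jE R E).toRingHom y n
    have h0 : (Groth.Agent.H48.jE R E) 0 = 0 := map_zero (Groth.Agent.H48.jE R E).toRingHom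
    rw [h1, hn, h0]
  rw [hy.eq_zero]
  exact map_zero (Groth.Agent.H48.jE R E).toRingHom

/-- a finite separable field extension tensored with a reduced algebra is reduced. -/
theorem isReduced_tensor_of_finite_separable (E : Type u) [Field E] [Algebra k E]
    [FiniteDimensional k E] [Algebra.IsSeparable k E] [IsReduced R] : IsReduced (E ⊗[k] R) := by
  have : Algebra.FormallyEtale k E := Algebra.FormallyEtale.of_isSeparable k E
  have : Algebra.FinitePresentation k E :=
    Algebra.FinitePresentation.of_finiteType.mp inferInstance
  have : Algebra.Etale k E := ⟨inferInstance, inferInstance⟩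
  have : IsReduced (R ⊗[k] E) := Groth.Agent.H47.isReduced_of_etale R (R ⊗[k] E)
  exact isReduced_of_injective (Algebra.TensorProduct.comm k E R)
    (Algebra.TensorProduct.comm k E R).injective

/-- a separable algebraic field extension tensored with a reduced algebra is reduced. -/
theorem isReduced_tensor_of_separable (L : Type u) [Field L] [Algebra k L]
    [Algebra.IsSeparable k L] [IsReduced R] : IsReduced (L ⊗[k] R) := by
  have : Algebra.IsAlgebraic k L := Algebra.IsSeparable.isAlgebraic k L
  refine isReduced_of_finite_subextensions (fun E hE => ?_)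
  have : Algebra.IsSeparable k E := Algebra.isSeparable_tower_bot_of_isSeparable k E L
  exact isReduced_tensor_of_finite_separable E

/-- reducedness ascends from a perfect intermediate field to an algebraic extension of it. -/
theorem isReduced_of_perfect_tower (P K : Type u) [Field P] [Field K] [Algebra k P] [Algebra P K]
    [Algebra k K] [IsScalarTower k P K] [PerfectField P] [Algebra.IsAlgebraic P K]
    (hP : IsReduced (P ⊗[k] R)) : IsReduced (K ⊗[k] R) := by
  have : Algebra.IsSeparable P K := Algebra.IsAlgebraic.isSeparable_of_perfectField
  have h2 : IsReduced (K ⊗[P] (P ⊗[k] R)) := isReduced_tensor_of_separable K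
  let e := Algebra.TensorProduct.cancelBaseChange k P P K R
  exact isReduced_of_injective e.symm e.symm.injective

/-- if `k' ⊗ R` is reduced for all finite purely inseparable `k'/k`, then `R` is geometrically
reduced over `k`. -/
theorem isGeometricallyReduced_of_purelyInseparable
    (h : ∀ (k' : Type u) [Field k'] [Algebra k k'] [Module.Finite k k'] [IsPurelyInseparable k k'],
      IsReduced (k' ⊗[k] R)) : Algebra.IsGeometricallyReduced k R := by
  rw [Algebra.isGeometricallyReduced_field_iff]
  have hP : IsReduced ((perfectClosure k (AlgebraicClosure k)) ⊗[k] R) := by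
    refine isReduced_of_finite_subextensions (fun E hE => ?_)
    have : IsPurelyInseparable k E :=
      IsPurelyInseparable.tower_bot k E (perfectClosure k (AlgebraicClosure k))
    exact h E
  have : PerfectField (perfectClosure k (AlgebraicClosure k)) :=
    perfectClosure.perfectField k (AlgebraicClosure k)
  have : Algebra.IsAlgebraic (perfectClosure k (AlgebraicClosure k)) (AlgebraicClosure k) :=
    Algebra.IsAlgebraic.tower_top (K := k) (perfectClosure k (AlgebraicClosure k))
  exact isReduced_of_perfect_tower (perfectClosure k (AlgebraicClosure k)) (AlgebraicClosure k) hP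

/-- the three conditions are equivalent -/
theorem tfae_geomRed :
    [∀ (k' : Type u) [Field k'] [Algebra k k'] [Module.Finite k k'] [IsPurelyInseparable k k'],
        IsReduced (k' ⊗[k] R),
      Algebra.IsGeometricallyReduced k R,
      ∀ (K : Type u) [Field K] [Algebra k K], IsReduced (K ⊗[k] R)].TFAE := by
  tfae_have 1 → 2 := fun h => isGeometricallyReduced_of_purelyInseparable h
  tfae_have 2 → 3 := fun h K _ _ =>
    Groth.Agent.H13.isReduced_tensorProduct_of_isGeometricallyReduced k R K
  tfae_have 3 → 1 := fun h k' _ _ _ _ => h k'
  tfae_finish

end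

end Groth.Agent.H48.GeomRed
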