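import Mathlib
import Groth.Prelude.Def_EGA4b
import Groth.Agent.H48.GeomRed
import Groth.Agent.H47.NormalSepExt

/-!
# Geometric normality: purely inseparable test fields suffice
-/

open scoped TensorProduct

namespace Groth.Agent.H48.GeomNormal

open EGA4

universe u

section

variable {k A : Type u} [Field k] [CommRing A] [Algebra k A]

/-- a finite subset of `L ⊗ A` lies in the range of a finite subextension -/
theorem exists_finite_intermediateField_finset {L : Type u} [Field L] [Algebra k L]
    [Algebra.IsAlgebraic k L] (F : Finset (L ⊗[k] A)) :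
    ∃ E : IntermediateField k L, FiniteDimensional k E ∧
      ∀ x ∈ F, x ∈ (Groth.Agent.H48.jE A E).range := by
  classical
  induction F using Finset.induction_on with
  | empty => exact ⟨⊥, inferInstance, fun x hx => absurd hx (Finset.notMem_empty x)⟩
  | insert a s _ ih =>
    obtain ⟨E₁, h₁, hs⟩ := ih
    obtain ⟨E₂, h₂, ha⟩ := Groth.Agent.H48.exists_finite_intermediateField_mem_range (R := A) a
    refine ⟨E₁ ⊔ E₂, IntermediateField.finiteDimensional_sup E₁ E₂, fun x hx => ?_⟩
    rcases Finset.mem_insert.mp hx with rfl | hx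
    · exact Groth.Agent.H48.jE_range_mono le_sup_right ha
    · exact Groth.Agent.H48.jE_range_mono le_sup_left (hs x hx)

/-- the base change of a field extension is flat -/
theorem flat_map (E L : Type u) [Field E] [Field L] [Algebra k E] [Algebra k L] [Algebra E L]
    [IsScalarTower k E L] :
    @RingHom.Flat (E ⊗[k] A) (L ⊗[k] A) _ _
      (Algebra.TensorProduct.map (IsScalarTower.toAlgHom k E L) (AlgHom.id k A)).toRingHom := by
  letI : Algebra (E ⊗[k] A) (L ⊗[k] A) :=
    (Algebra.TensorProduct.map (IsScalarTower.toAlgHom k E L) (AlgHom.id k A)).toRingHom.toAlgebra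
  haveI : IsScalarTower E (E ⊗[k] A) (L ⊗[k] A) := IsScalarTower.of_algebraMap_eq (fun d => by
    show algebraMap E (L ⊗[k] A) d =
      (Algebra.TensorProduct.map (IsScalarTower.toAlgHom k E L) (AlgHom.id k A))
        (algebraMap E (E ⊗[k] A) d)
    rw [Algebra.TensorProduct.algebraMap_apply, Algebra.TensorProduct.algebraMap_apply]
    simp)
  have hpush : Algebra.IsPushout E L (E ⊗[k] A) (L ⊗[k] A) :=
    Algebra.IsPushout.tensorProduct_tensorProduct k A E L (by
      ext a
      show (Algebra.TensorProduct.map (IsScalarTower.toAlgHom k E L) (AlgHom.id k A))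
        ((1 : E) ⊗ₜ[k] a) = (1 : L) ⊗ₜ[k] a
      simp)
  show Module.Flat (E ⊗[k] A) (L ⊗[k] A)
  exact Module.Flat.isBaseChange (R := E) (S := E ⊗[k] A) (M := L) (N := L ⊗[k] A)
    hpush.symm.out

theorem flat_jE {L : Type u} [Field L] [Algebra k L] (E : IntermediateField k L) :
    @RingHom.Flat (E ⊗[k] A) (L ⊗[k] A) _ _ (Groth.Agent.H48.jE A E).toRingHom :=
  flat_map (A := A) E L

/-- normality of `L ⊗ A` can be tested on finite subextensions of an algebraic extension `L`. -/
theorem isNormalRing_of_finite_subextensions {L : Type u} [Field L] [Algebra k L]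
    [Algebra.IsAlgebraic k L]
    (h : ∀ E : IntermediateField k L, FiniteDimensional k E → IsNormalRing (E ⊗[k] A)) :
    IsNormalRing (L ⊗[k] A) := by
  apply Groth.Agent.H47.NC.isNormalRing_of_forall_finset
  intro F
  obtain ⟨E, hE, hF⟩ := exists_finite_intermediateField_finset (A := A) F
  exact ⟨E ⊗[k] A, inferInstance, (Groth.Agent.H48.jE A E).toRingHom, flat_jE E,
    Groth.Agent.H48.jE_injective (R := A) E, h E hE, hF⟩

/-- every field extension of a perfect field is geometrically reduced -/
theorem isGeometricallyReduced_of_perfectField (P K : Type u) [Field P] [PerfectField P] [Field K]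
    [Algebra P K] : Algebra.IsGeometricallyReduced P K := by
  apply Groth.Agent.H48.GeomRed.isGeometricallyReduced_of_purelyInseparable
  intro k' _ _ _ _
  have : Algebra.IsSeparable P k' := Algebra.IsAlgebraic.isSeparable_of_perfectField
  exact Groth.Agent.H48.GeomRed.isReduced_tensor_of_separable k'

/-- normality ascends from a perfect intermediate field. -/
theorem isNormalRing_of_perfect_tower (P K : Type u) [Field P] [Field K] [Algebra k P] [Algebra P K]
    [Algebra k K] [IsScalarTower k P K] [PerfectField P]
    (hP : IsNormalRing (P ⊗[k] A)) : IsNormalRing (K ⊗[k] A) := by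
  have : Algebra.IsGeometricallyReduced P K := isGeometricallyReduced_of_perfectField P K
  have h2 : IsNormalRing (K ⊗[P] (P ⊗[k] A)) :=
    Groth.Agent.H47.NSE.isNormalRing_tensor_of_isGeometricallyReduced P K (P ⊗[k] A) hP
  exact Groth.Agent.H47.isNormalRing_of_ringEquiv
    (Algebra.TensorProduct.cancelBaseChange k P P K A).toRingEquiv h2

/-- normality descends along a field extension -/
theorem isNormalRing_of_field_ext (K Ω : Type u) [Field K] [Field Ω] [Algebra k K] [Algebra K Ω]
    [Algebra k Ω] [IsScalarTower k K Ω] (h : IsNormalRing (Ω ⊗[k] A)) :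
    IsNormalRing (K ⊗[k] A) := by
  have e1 := (Algebra.TensorProduct.cancelBaseChange k K K Ω A).toRingEquiv
  have e2 := (Algebra.TensorProduct.comm K Ω (K ⊗[k] A)).toRingEquiv
  have h3 : IsNormalRing ((K ⊗[k] A) ⊗[K] Ω) :=
    Groth.Agent.H47.isNormalRing_of_ringEquiv (e1.symm.trans e2) h
  exact Groth.Agent.H47.SN.isNormalRing_of_faithfullyFlat (K ⊗[k] A) ((K ⊗[k] A) ⊗[K] Ω) h3

/-- if `k' ⊗ A` is normal for all finite purely inseparable `k'/k`, then `K ⊗ A` is normal for all
field extensions `K/k`. -/
theorem isNormalRing_of_purelyInseparable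
    (h : ∀ (k' : Type u) [Field k'] [Algebra k k'], Module.Finite k k' → IsPurelyInseparable k k' →
      IsNormalRing (k' ⊗[k] A)) (K : Type u) [Field K] [Algebra k K] :
    IsNormalRing (K ⊗[k] A) := by
  have hP : IsNormalRing ((perfectClosure k (AlgebraicClosure K)) ⊗[k] A) := by
    refine isNormalRing_of_finite_subextensions (fun E hE => ?_)
    have : IsPurelyInseparable k E :=
      IsPurelyInseparable.tower_bot k E (perfectClosure k (AlgebraicClosure K))
    exact h E hE this
  have : PerfectField (perfectClosure k (AlgebraicClosure K)) :=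
    perfectClosure.perfectField k (AlgebraicClosure K)
  have hΩ : IsNormalRing (AlgebraicClosure K ⊗[k] A) :=
    isNormalRing_of_perfect_tower (perfectClosure k (AlgebraicClosure K)) (AlgebraicClosure K) hP
  exact isNormalRing_of_field_ext K (AlgebraicClosure K) hΩ

end

end Groth.Agent.H48.GeomNormal
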