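import Mathlib
import Groth.Agent.H48.GeomRed
import Groth.Agent.H48.GeomNormal

/-!
# Geometric reducedness after a finite purely inseparable extension
-/

open scoped TensorProduct

namespace Groth.Agent.H48.GeomRedPI

universe u

section Criterion

/-- If `P ⊗[E] B` is reduced for some perfect field extension `P` of `E`, then `B` is geometrically
reduced over `E`. -/
theorem isGeometricallyReduced_of_perfect (E P B : Type u) [Field E] [Field P] [Algebra E P]
    [PerfectField P] [CommRing B] [Algebra E B] (h : IsReduced (P ⊗[E] B)) :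
    Algebra.IsGeometricallyReduced E B := by
  have hΩ : IsReduced (AlgebraicClosure P ⊗[E] B) :=
    Groth.Agent.H48.GeomRed.isReduced_of_perfect_tower P (AlgebraicClosure P) h
  apply Groth.Agent.H48.GeomRed.isGeometricallyReduced_of_purelyInseparable
  intro k'' _ _ _ _
  have : Algebra.IsAlgebraic E k'' := Algebra.IsAlgebraic.of_finite E k''
  let σ : k'' →ₐ[E] AlgebraicClosure P := IsAlgClosed.lift
  exact isReduced_of_injective (Algebra.TensorProduct.map σ (AlgHom.id E B))
    (Groth.Agent.H48.tensorMap_injective _ _ σ.injective Function.injective_id)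

end Criterion

section Quot

variable {k A : Type u} [Field k] [CommRing A] [Algebra k A]

/-- the key reducedness statement -/
theorem isReduced_tensor_quot_nilradical (E P : Type u) [Field E] [Field P] [Algebra k E]
    [Algebra k P] [Algebra E P] [IsScalarTower k E P]
    (hN : nilradical (P ⊗[k] A) ≤ (nilradical (E ⊗[k] A)).map
      (Algebra.TensorProduct.map (IsScalarTower.toAlgHom k E P) (AlgHom.id k A)).toRingHom) :
    IsReduced (P ⊗[E] ((E ⊗[k] A) ⧸ nilradical (E ⊗[k] A))) := by
  let π : P ⊗[E] (E ⊗[k] A) →ₐ[E] P ⊗[E] ((E ⊗[k] A) ⧸ nilradical (E ⊗[k] A)) :=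
    Algebra.TensorProduct.map (AlgHom.id E P) (Ideal.Quotient.mkₐ E (nilradical (E ⊗[k] A)))
  have hπs : Function.Surjective π :=
    Algebra.TensorProduct.map_surjective (AlgHom.id E P)
      (Ideal.Quotient.mkₐ E (nilradical (E ⊗[k] A)))
      Function.surjective_id (Ideal.Quotient.mkₐ_surjective E _)
  have hk : RingHom.ker (Ideal.Quotient.mkₐ E (nilradical (E ⊗[k] A))) =
      nilradical (E ⊗[k] A) := by
    ext c
    simp [RingHom.mem_ker, Ideal.Quotient.eq_zero_iff_mem]
  have hker : RingHom.ker π = (nilradical (E ⊗[k] A)).map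
      (Algebra.TensorProduct.includeRight : (E ⊗[k] A) →ₐ[E] P ⊗[E] (E ⊗[k] A)) := by
    have := Algebra.TensorProduct.lTensor_ker (R := E) (A := P)
      (Ideal.Quotient.mkₐ E (nilradical (E ⊗[k] A))) (Ideal.Quotient.mkₐ_surjective E _)
    rw [hk] at this
    exact this
  have hε : ∀ c : E ⊗[k] A, Algebra.TensorProduct.cancelBaseChange k E E P A
      ((Algebra.TensorProduct.includeRight : (E ⊗[k] A) →ₐ[E] P ⊗[E] (E ⊗[k] A)) c) =
      (Algebra.TensorProduct.map (IsScalarTower.toAlgHom k E P) (AlgHom.id k A)) c := by
    intro c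
    induction c using TensorProduct.induction_on with
    | zero => simp
    | tmul e a =>
      rw [Algebra.TensorProduct.includeRight_apply, Algebra.TensorProduct.cancelBaseChange_tmul,
        Algebra.TensorProduct.map_tmul, Algebra.smul_def, mul_one]
      rfl
    | add x y hx hy => simp only [map_add, hx, hy]
  refine ⟨fun x hx => ?_⟩
  obtain ⟨y, rfl⟩ := hπs x
  obtain ⟨n, hn⟩ := hx
  rw [← map_pow] at hn
  have hyn : y ^ n ∈ RingHom.ker π := hn
  -- the kernel is a nil ideal
  have hnil : RingHom.ker π ≤ nilradical (P ⊗[E] (E ⊗[k] A)) := by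
    rw [hker, Ideal.map_le_iff_le_comap]
    intro c hc
    exact (mem_nilradical.mp hc).map _
  have hy : IsNilpotent y := by
    obtain ⟨m, hm⟩ := mem_nilradical.mp (hnil hyn)
    exact ⟨n * m, by rw [pow_mul, hm]⟩
  have hεy : Algebra.TensorProduct.cancelBaseChange k E E P A y ∈ nilradical (P ⊗[k] A) :=
    mem_nilradical.mpr (hy.map (Algebra.TensorProduct.cancelBaseChange k E E P A))
  have h1 := hN hεy
  -- transport back
  have h3 : y ∈ RingHom.ker π := by
    rw [hker]
    -- use span induction on h1
    have hgen : ∀ z ∈ (nilradical (E ⊗[k] A)).map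
        (Algebra.TensorProduct.map (IsScalarTower.toAlgHom k E P) (AlgHom.id k A)).toRingHom,
        (Algebra.TensorProduct.cancelBaseChange k E E P A).symm z ∈
          (nilradical (E ⊗[k] A)).map
            (Algebra.TensorProduct.includeRight : (E ⊗[k] A) →ₐ[E] P ⊗[E] (E ⊗[k] A)) := by
      intro z hz
      induction hz using Submodule.span_induction with
      | mem w hw =>
        obtain ⟨c, hc, rfl⟩ := hw
        have : (Algebra.TensorProduct.map (IsScalarTower.toAlgHom k E P) (AlgHom.id k A)).toRingHom c
            = Algebra.TensorProduct.cancelBaseChange k E E P A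
              ((Algebra.TensorProduct.includeRight : (E ⊗[k] A) →ₐ[E] P ⊗[E] (E ⊗[k] A)) c) :=
          (hε c).symm
        rw [this, AlgEquiv.symm_apply_apply]
        exact Ideal.mem_map_of_mem _ hc
      | zero => rw [map_zero]; exact Ideal.zero_mem _
      | add a b _ _ ha hb => rw [map_add]; exact Ideal.add_mem _ ha hb
      | smul a b _ hb =>
        rw [smul_eq_mul, map_mul]
        exact Ideal.mul_mem_left _ _ hb
    have := hgen _ h1
    rwa [AlgEquiv.symm_apply_apply] at this
  exact h3

end Quot

section Main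

variable {k A : Type u} [Field k] [CommRing A] [Algebra k A]

theorem core (E P : Type u) [Field E] [Field P] [Algebra k E]
    [Algebra k P] [Algebra E P] [IsScalarTower k E P] [PerfectField P]
    (hN : nilradical (P ⊗[k] A) ≤ (nilradical (E ⊗[k] A)).map
      (Algebra.TensorProduct.map (IsScalarTower.toAlgHom k E P) (AlgHom.id k A)).toRingHom) :
    Algebra.IsGeometricallyReduced E ((E ⊗[k] A) ⧸ nilradical (E ⊗[k] A)) :=
  isGeometricallyReduced_of_perfect E P _ (isReduced_tensor_quot_nilradical E P hN)

/-- If `P ⊗ A` is Noetherian for the perfect closure `P` of `k`, then after a finite purely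
inseparable extension `k'/k` the reduction of `k' ⊗ A` is geometrically reduced. -/
theorem exists_finite_pi_geomReduced
    [IsNoetherianRing ((perfectClosure k (AlgebraicClosure k)) ⊗[k] A)] :
    ∃ (k' : Type u) (_ : Field k') (_ : Algebra k k'), FiniteDimensional k k' ∧
      IsPurelyInseparable k k' ∧
      Algebra.IsGeometricallyReduced k' ((k' ⊗[k] A) ⧸ nilradical (k' ⊗[k] A)) := by
  classical
  obtain ⟨s, hs⟩ := (isNoetherianRing_iff_ideal_fg _).mp inferInstance
    (nilradical ((perfectClosure k (AlgebraicClosure k)) ⊗[k] A))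
  obtain ⟨E, hE, hF⟩ := Groth.Agent.H48.GeomNormal.exists_finite_intermediateField_finset
    (A := A) s
  have : PerfectField (perfectClosure k (AlgebraicClosure k)) :=
    perfectClosure.perfectField k (AlgebraicClosure k)
  have hpi : IsPurelyInseparable k E :=
    IsPurelyInseparable.tower_bot k E (perfectClosure k (AlgebraicClosure k))
  refine ⟨E, inferInstance, inferInstance, hE, hpi,
    core (A := A) E (perfectClosure k (AlgebraicClosure k)) ?_⟩
  rw [← hs, Ideal.span_le]
  intro n hn
  obtain ⟨n', hn'⟩ := hF n hn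
  change Groth.Agent.H48.jE A E n' = n at hn'
  have hnil : IsNilpotent n := by
    have : n ∈ nilradical ((perfectClosure k (AlgebraicClosure k)) ⊗[k] A) :=
      hs ▸ Ideal.subset_span hn
    exact mem_nilradical.mp this
  have hn'nil : IsNilpotent n' := by
    obtain ⟨m, hm⟩ := hnil
    refine ⟨m, Groth.Agent.H48.jE_injective (R := A) E ?_⟩
    have h1 : (Groth.Agent.H48.jE A E) (n' ^ m) = (Groth.Agent.H48.jE A E n') ^ m :=
      map_pow (Groth.Agent.H48.jE A E).toRingHom n' m
    have h0 : (Groth.Agent.H48.jE A E) 0 = 0 := map_zero (Groth.Agent.H48.jE A E).toRingHom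
    rw [h1, hn', hm, h0]
  rw [← hn']
  exact Ideal.mem_map_of_mem _ (mem_nilradical.mpr hn'nil)

/-- An algebra essentially of finite type over a Noetherian ring is Noetherian. -/
theorem isNoetherianRing_of_essFiniteType (R B : Type*) [CommRing R] [CommRing B] [Algebra R B]
    [IsNoetherianRing R] [Algebra.EssFiniteType R B] : IsNoetherianRing B := by
  have : IsNoetherianRing (Algebra.EssFiniteType.subalgebra R B) :=
    Algebra.FiniteType.isNoetherianRing R _
  exact IsLocalization.isNoetherianRing (Algebra.EssFiniteType.submonoid R B) B inferInstance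

/-- for `k'/k` purely inseparable and `K/k` a field, `k' ⊗ K` has a unique prime ideal -/
theorem eq_nilradical_of_isMaximal (k' K : Type u) [Field k'] [Field K] [Algebra k k']
    [Algebra k K] [IsPurelyInseparable k k'] (m : Ideal (k' ⊗[k] K)) (hm : m.IsMaximal) :
    m = nilradical (k' ⊗[k] K) := by
  have h := PrimeSpectrum.isHomeomorph_comap_of_isPurelyInseparable k k' K
  have hsub : Subsingleton (PrimeSpectrum (K ⊗[k] k')) := h.injective.subsingleton
  have hsub' : Subsingleton (PrimeSpectrum (k' ⊗[k] K)) :=
    (PrimeSpectrum.comap_injective_of_surjective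
      (Algebra.TensorProduct.comm k K k').toRingEquiv.toRingHom
      (Algebra.TensorProduct.comm k K k').surjective).subsingleton
  rw [nilradical_eq_sInf]
  apply le_antisymm
  · refine le_sInf (fun J hJ => ?_)
    have : (⟨m, hm.isPrime⟩ : PrimeSpectrum (k' ⊗[k] K)) = ⟨J, hJ⟩ := Subsingleton.elim _ _
    exact (congrArg PrimeSpectrum.asIdeal this).le
  · exact sInf_le hm.isPrime

/-- `S4677`-type statement -/
theorem exists_finite_pi_residue_geomReduced (K : Type u) [Field K] [Algebra k K]
    [Algebra.EssFiniteType k K] :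
    ∃ (k' : Type u) (_ : Field k') (_ : Algebra k k'), FiniteDimensional k k' ∧
      IsPurelyInseparable k k' ∧ ∀ (m : Ideal (k' ⊗[k] K)), m.IsMaximal →
        Algebra.IsGeometricallyReduced k' ((k' ⊗[k] K) ⧸ m) := by
  have : IsNoetherianRing ((perfectClosure k (AlgebraicClosure k)) ⊗[k] K) :=
    isNoetherianRing_of_essFiniteType (perfectClosure k (AlgebraicClosure k))
      ((perfectClosure k (AlgebraicClosure k)) ⊗[k] K)
  obtain ⟨k', hF, hA, hfin, hpi, hgr⟩ := exists_finite_pi_geomReduced (k := k) (A := K)
  refine ⟨k', hF, hA, hfin, hpi, fun m hm => ?_⟩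
  obtain rfl := eq_nilradical_of_isMaximal k' K m hm
  exact hgr

end Main

end Groth.Agent.H48.GeomRedPI
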