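import Groth.Agent.H48.TensorNormal4

/-!
# Variant: `A`, `B` normal and geometrically reduced over `k` ⇒ `A ⊗ B` normal
-/

set_option autoImplicit false
set_option linter.style.haveILetI false
set_option linter.unusedVariables false
universe u
open TensorProduct EGA4

namespace Groth.Agent.H48.TensorNormal

section Core'

variable (k : Type u) [Field k] (A B : Type u) [CommRing A] [CommRing B] [Algebra k A] [Algebra k B]

/-- geometric reducedness passes to localizations -/
theorem isGeometricallyReduced_of_isLocalization [Algebra.IsGeometricallyReduced k A]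
    (M : Submonoid A) (A' : Type u) [CommRing A'] [Algebra A A'] [Algebra k A']
    [IsScalarTower k A A'] [IsLocalization M A'] : Algebra.IsGeometricallyReduced k A' := by
  rw [Algebra.isGeometricallyReduced_field_iff]
  letI : Algebra (AlgebraicClosure k ⊗[k] A) (AlgebraicClosure k ⊗[k] A') :=
    (Algebra.TensorProduct.map (AlgHom.id k (AlgebraicClosure k))
      (IsScalarTower.toAlgHom k A A')).toRingHom.toAlgebra
  haveI := isLocalization_tensor_right k (AlgebraicClosure k) A M A'
  exact isReduced_localizationPreserves
    (M.map (Algebra.TensorProduct.includeRight (R := k) (A := AlgebraicClosure k) (B := A)))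
    (AlgebraicClosure k ⊗[k] A') inferInstance

/-- core with the normality of `A ⊗ L` as a hypothesis. -/
theorem core' [IsSepClosed k] [IsDomain A] [IsDomain B]
    [Algebra.IsGeometricallyReduced k (FractionRing A)]
    (hR2 : IsNormalRing (A ⊗[k] FractionRing B)) (hB : IsNormalRing B) :
    IsDomain (A ⊗[k] B) ∧ IsIntegrallyClosed (A ⊗[k] B) := by
  let K := FractionRing A
  let L := FractionRing B
  have hR1 : IsNormalRing (K ⊗[k] B) :=
    Groth.Agent.H47.NSE.isNormalRing_tensor_of_isGeometricallyReduced k K B hB
  have hQn : IsNormalRing (K ⊗[k] L) :=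
    Groth.Agent.H47.NSE.isNormalRing_tensor_of_isGeometricallyReduced k K L
      (Groth.Agent.H47.SN.isNormalRing_of_isIntegrallyClosed L)
  haveI : IsReduced (K ⊗[k] L) := isReduced_of_isNormalRing hQn
  haveI : IrreducibleSpace (PrimeSpectrum (K ⊗[k] L)) :=
    Groth.Agent.H48.irreducibleSpace_tensor_of_isSepClosed (k := k) (R := K) (S := L)
  haveI : IsDomain (K ⊗[k] L) := isDomain_of_irreducibleSpace_of_isReduced _
  let iA : A →ₐ[k] K := IsScalarTower.toAlgHom k A K
  let iB : B →ₐ[k] L := IsScalarTower.toAlgHom k B L
  have hiA : Function.Injective iA := IsFractionRing.injective A K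
  have hiB : Function.Injective iB := IsFractionRing.injective B L
  letI a1 : Algebra (A ⊗[k] B) (K ⊗[k] B) :=
    (Algebra.TensorProduct.map iA (AlgHom.id k B)).toRingHom.toAlgebra
  letI a2 : Algebra (A ⊗[k] B) (A ⊗[k] L) :=
    (Algebra.TensorProduct.map (AlgHom.id k A) iB).toRingHom.toAlgebra
  letI a3 : Algebra (K ⊗[k] B) (K ⊗[k] L) :=
    (Algebra.TensorProduct.map (AlgHom.id k K) iB).toRingHom.toAlgebra
  letI a4 : Algebra (A ⊗[k] L) (K ⊗[k] L) :=
    (Algebra.TensorProduct.map iA (AlgHom.id k L)).toRingHom.toAlgebra
  letI a5 : Algebra (A ⊗[k] B) (K ⊗[k] L) :=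
    (Algebra.TensorProduct.map iA iB).toRingHom.toAlgebra
  haveI t1 : IsScalarTower (A ⊗[k] B) (K ⊗[k] B) (K ⊗[k] L) :=
    IsScalarTower.of_algebraMap_eq (fun z => by
      show Algebra.TensorProduct.map iA iB z = Algebra.TensorProduct.map (AlgHom.id k K) iB
        (Algebra.TensorProduct.map iA (AlgHom.id k B) z)
      induction z using TensorProduct.induction_on with
      | zero => simp
      | tmul a b => simp
      | add a b ha hb => rw [map_add, map_add, map_add, ha, hb])
  haveI t2 : IsScalarTower (A ⊗[k] B) (A ⊗[k] L) (K ⊗[k] L) :=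
    IsScalarTower.of_algebraMap_eq (fun z => by
      show Algebra.TensorProduct.map iA iB z = Algebra.TensorProduct.map iA (AlgHom.id k L)
        (Algebra.TensorProduct.map (AlgHom.id k A) iB z)
      induction z using TensorProduct.induction_on with
      | zero => simp
      | tmul a b => simp
      | add a b ha hb => rw [map_add, map_add, map_add, ha, hb])
  haveI l1 := isLocalization_tensor_right k K B (nonZeroDivisors B) L
  haveI l2 := isLocalization_tensor_left k A L (nonZeroDivisors A) K
  refine isIntegrallyClosed_of_inter (R := A ⊗[k] B) (R1 := K ⊗[k] B) (R2 := A ⊗[k] L)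
    (Q := K ⊗[k] L)
    (Groth.Agent.H48.tensorMap_injective iA iB hiA hiB)
    (Groth.Agent.H48.tensorMap_injective (AlgHom.id k K) iB Function.injective_id hiB)
    (Groth.Agent.H48.tensorMap_injective iA (AlgHom.id k L) hiA Function.injective_id)
    ((nonZeroDivisors B).map (Algebra.TensorProduct.includeRight (R := k) (A := K) (B := B)))
    (Algebra.algebraMapSubmonoid (A ⊗[k] L) (nonZeroDivisors A)) hR1 hR2 ?_
  intro x y hxy
  exact exists_of_map_eq_map k iA iB hiB x y hxy

/-- the separably closed case, geometrically reduced variant -/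
theorem isNormalRing_tensor_of_isSepClosed' [IsSepClosed k]
    [Algebra.IsGeometricallyReduced k A] [Algebra.IsGeometricallyReduced k B]
    (hA : IsNormalRing A) (hB : IsNormalRing B) : IsNormalRing (A ⊗[k] B) := by
  apply isNormalRing_tensor_of_localization_left
  intro p hp
  apply isNormalRing_tensor_of_localization_right
  intro q hq
  obtain ⟨hdA, hicA⟩ := hA p
  obtain ⟨hdB, hicB⟩ := hB q
  haveI := hdA
  haveI := hdB
  haveI := hicA
  haveI := hicB
  haveI : Algebra.IsGeometricallyReduced k (Localization.AtPrime p) :=
    isGeometricallyReduced_of_isLocalization k A p.primeCompl _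
  haveI : Algebra.IsGeometricallyReduced k (Localization.AtPrime q) :=
    isGeometricallyReduced_of_isLocalization k B q.primeCompl _
  haveI : Algebra.IsGeometricallyReduced k (FractionRing (Localization.AtPrime p)) :=
    isGeometricallyReduced_of_isLocalization k (Localization.AtPrime p)
      (nonZeroDivisors (Localization.AtPrime p)) _
  haveI : Algebra.IsGeometricallyReduced k (FractionRing (Localization.AtPrime q)) :=
    isGeometricallyReduced_of_isLocalization k (Localization.AtPrime q)
      (nonZeroDivisors (Localization.AtPrime q)) _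
  have hR2 : IsNormalRing (Localization.AtPrime p ⊗[k] FractionRing (Localization.AtPrime q)) :=
    Groth.Agent.H47.isNormalRing_of_ringEquiv
      (Algebra.TensorProduct.comm k (FractionRing (Localization.AtPrime q))
        (Localization.AtPrime p)).toRingEquiv
      (Groth.Agent.H47.NSE.isNormalRing_tensor_of_isGeometricallyReduced k
        (FractionRing (Localization.AtPrime q)) (Localization.AtPrime p)
        (Groth.Agent.H47.SN.isNormalRing_of_isIntegrallyClosed _))
  obtain ⟨hd, hic⟩ := core' k (Localization.AtPrime p) (Localization.AtPrime q) hR2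
    (Groth.Agent.H47.SN.isNormalRing_of_isIntegrallyClosed _)
  haveI := hd
  haveI := hic
  exact Groth.Agent.H47.SN.isNormalRing_of_isIntegrallyClosed _

/-- descent from a separably closed separable extension, geometrically reduced variant -/
theorem isNormalRing_tensor_aux' (ks : Type u) [Field ks] [Algebra k ks] [IsSepClosed ks]
    [Algebra.IsSeparable k ks]
    [Algebra.IsGeometricallyReduced k A] [Algebra.IsGeometricallyReduced k B]
    (hA : IsNormalRing A) (hB : IsNormalRing B) :
    IsNormalRing (A ⊗[k] B) := by
  haveI : Algebra.IsGeometricallyReduced k ks := by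
    rw [Algebra.isGeometricallyReduced_field_iff]
    haveI : IsReduced (ks ⊗[k] AlgebraicClosure k) :=
      Groth.Agent.H48.GeomRed.isReduced_tensor_of_separable ks
    exact isReduced_of_injective (Algebra.TensorProduct.comm k (AlgebraicClosure k) ks)
      (Algebra.TensorProduct.comm k (AlgebraicClosure k) ks).injective
  have hA' : IsNormalRing (ks ⊗[k] A) :=
    Groth.Agent.H47.NSE.isNormalRing_tensor_of_isGeometricallyReduced k ks A hA
  have hB' : IsNormalRing (ks ⊗[k] B) :=
    Groth.Agent.H47.NSE.isNormalRing_tensor_of_isGeometricallyReduced k ks B hB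
  have hgr : ∀ (C : Type u) [CommRing C] [Algebra k C] [Algebra.IsGeometricallyReduced k C],
      Algebra.IsGeometricallyReduced ks (ks ⊗[k] C) := by
    intro C _ _ _
    rw [Algebra.isGeometricallyReduced_field_iff]
    haveI : IsReduced (AlgebraicClosure ks ⊗[k] C) :=
      Groth.Agent.H13.isReduced_tensorProduct_of_isGeometricallyReduced k C (AlgebraicClosure ks)
    exact isReduced_of_injective
      (Algebra.TensorProduct.cancelBaseChange k ks ks (AlgebraicClosure ks) C)
      (Algebra.TensorProduct.cancelBaseChange k ks ks (AlgebraicClosure ks) C).injective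
  haveI := hgr A
  haveI := hgr B
  have h1 : IsNormalRing ((ks ⊗[k] A) ⊗[ks] (ks ⊗[k] B)) :=
    isNormalRing_tensor_of_isSepClosed' ks _ _ hA' hB'
  have e1 := (Algebra.TensorProduct.cancelBaseChange k ks ks (ks ⊗[k] A) B).toRingEquiv
  have e2 := (Algebra.TensorProduct.assoc k k k ks A B).toRingEquiv
  have e3 := (Algebra.TensorProduct.comm k ks (A ⊗[k] B)).toRingEquiv
  have h2 : IsNormalRing ((A ⊗[k] B) ⊗[k] ks) :=
    Groth.Agent.H47.isNormalRing_of_ringEquiv ((e1.trans e2).trans e3) h1
  exact Groth.Agent.H47.SN.isNormalRing_of_faithfullyFlat (A ⊗[k] B) ((A ⊗[k] B) ⊗[k] ks) h2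

/-- normal and geometrically reduced ⊗ normal and geometrically reduced is normal. -/
theorem isNormalRing_tensor_of_isGeometricallyReduced
    [Algebra.IsGeometricallyReduced k A] [Algebra.IsGeometricallyReduced k B]
    (hA : IsNormalRing A) (hB : IsNormalRing B) : IsNormalRing (A ⊗[k] B) :=
  isNormalRing_tensor_aux' k A B (SeparableClosure k) hA hB

end Core'

end Groth.Agent.H48.TensorNormal
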