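import Mathlib
import Groth.Agent.H48.FieldTensor
import Groth.Agent.H48.GeomFibre
import Groth.Agent.H48.GeomIrr

/-!
# Geometric connectedness over separably closed fields
-/

open scoped TensorProduct

namespace Groth.Agent.H48

universe u

theorem connectedSpace_of_isOpenMap_of_fibres {X Y : Type*} [TopologicalSpace X] [TopologicalSpace Y]
    [ConnectedSpace Y] (f : X → Y) (hopen : IsOpenMap f) (hfib : ∀ y, IsConnected (f ⁻¹' {y})) :
    ConnectedSpace X := by
  have hne : Nonempty X := by
    obtain ⟨y⟩ := (inferInstance : Nonempty Y)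
    obtain ⟨x, _⟩ := (hfib y).nonempty
    exact ⟨x⟩
  have hpre : PreconnectedSpace X := by
    rw [preconnectedSpace_iff_clopen]
    intro s hs
    obtain ⟨V, hV, rfl⟩ := exists_isClopen_preimage_eq f hopen hfib s hs
    rcases isClopen_iff.mp hV with h | h
    · left; rw [h, Set.preimage_empty]
    · right; rw [h, Set.preimage_univ]
  exact { toPreconnectedSpace := hpre, toNonempty := hne }

section

variable {k R S : Type u} [Field k] [CommRing R] [CommRing S] [Algebra k R] [Algebra k S]

theorem connectedSpace_tensor_of_geomConn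
    (hS : ∀ (k' : Type u) [Field k'] [Algebra k k'], ConnectedSpace (PrimeSpectrum (k' ⊗[k] S)))
    [ConnectedSpace (PrimeSpectrum R)] : ConnectedSpace (PrimeSpectrum (R ⊗[k] S)) :=
  connectedSpace_of_isOpenMap_of_fibres _
    (PrimeSpectrum.isOpenMap_comap_algebraMap_tensorProduct_of_field (K := k) (A := R) (B := S))
    (fun p => isConnected_fibre_tensor (R := R) hS p)

/-- (2) ⇒ (1) for geometric irreducibility -/
theorem geomIrr_of_finite_separable
    (h : ∀ (k' : Type u) [Field k'] [Algebra k k'] [Module.Finite k k'] [Algebra.IsSeparable k k'],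
      IrreducibleSpace (PrimeSpectrum (k' ⊗[k] S)))
    (k' : Type u) [Field k'] [Algebra k k'] : IrreducibleSpace (PrimeSpectrum (k' ⊗[k] S)) := by
  have h3 : IrreducibleSpace (PrimeSpectrum (SeparableClosure k ⊗[k] S)) := by
    apply irr_of_irr_finite_subextensions
    intro E hE
    have : Algebra.IsSeparable k E :=
      Algebra.isSeparable_tower_bot_of_isSeparable k E (SeparableClosure k)
    exact h E
  have h4 : IrreducibleSpace (PrimeSpectrum (AlgebraicClosure k ⊗[k] S)) :=
    irr_algClosure_of_sepClosure
  exact geomIrr_of_algClosure k'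

/-- Over a separably closed field, irreducible implies geometrically irreducible. -/
theorem geomIrr_of_isSepClosed [IsSepClosed k] [IrreducibleSpace (PrimeSpectrum S)]
    (k' : Type u) [Field k'] [Algebra k k'] : IrreducibleSpace (PrimeSpectrum (k' ⊗[k] S)) := by
  apply geomIrr_of_finite_separable
  intro K _ _ _ _
  have hbij : Function.Bijective (algebraMap k K) :=
    ⟨(algebraMap k K).injective, IsSepClosed.algebraMap_surjective k K⟩
  let e : k ≃ₐ[k] K := AlgEquiv.ofBijective (Algebra.ofId k K) hbij
  let e2 : K ⊗[k] S ≃ₐ[k] S :=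
    (Algebra.TensorProduct.congr e.symm (AlgEquiv.refl : S ≃ₐ[k] S)).trans (Algebra.TensorProduct.lid k S)
  exact (PrimeSpectrum.homeomorphOfRingEquiv e2.toRingEquiv).irreducibleSpace_iff.mpr inferInstance

/-- Over a separably closed field, connected implies geometrically connected. -/
theorem geomConn_of_isSepClosed [IsSepClosed k] [ConnectedSpace (PrimeSpectrum S)]
    (k' : Type u) [Field k'] [Algebra k k'] : ConnectedSpace (PrimeSpectrum (k' ⊗[k] S)) := by
  have h1 : ConnectedSpace (PrimeSpectrum (S ⊗[k] k')) := by
    apply connectedSpace_tensor_of_geomConn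
    intro κ _ _
    have := geomIrr_of_isSepClosed (k := k) (S := k') κ
    infer_instance
  exact (PrimeSpectrum.homeomorphOfRingEquiv
    (Algebra.TensorProduct.comm k S k').toRingEquiv).connectedSpace_iff.mp h1

theorem connectedSpace_tensor_of_isSepClosed [IsSepClosed k] [ConnectedSpace (PrimeSpectrum R)]
    [ConnectedSpace (PrimeSpectrum S)] : ConnectedSpace (PrimeSpectrum (R ⊗[k] S)) :=
  connectedSpace_tensor_of_geomConn (fun k' _ _ => geomConn_of_isSepClosed k')

theorem irreducibleSpace_tensor_of_isSepClosed [IsSepClosed k] [IrreducibleSpace (PrimeSpectrum R)]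
    [IrreducibleSpace (PrimeSpectrum S)] : IrreducibleSpace (PrimeSpectrum (R ⊗[k] S)) :=
  irreducibleSpace_tensor_of_geomIrr (fun k' _ _ => geomIrr_of_isSepClosed k')

end

end Groth.Agent.H48
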