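import Mathlib
import Groth.Prelude.Def_EGA4b
import Groth.Agent.H48.GeomNormal
import Groth.Agent.H48.GeomConn
import Groth.Agent.H14.GeomBC.Normal

/-!
# Tensor products of a geometrically normal algebra with a normal algebra are normal

No finiteness hypotheses.  Route: faithfully flat descent to a separably closed base field,
localization of both factors, and `A ⊗ B = (K ⊗ B) ∩ (A ⊗ L)` inside the domain `K ⊗ L`.
-/

set_option autoImplicit false
set_option linter.unusedSectionVars false
set_option linter.style.haveILetI false
set_option linter.unusedVariables false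

universe u

namespace Groth.Agent.H48.TensorNormal

open TensorProduct EGA4

/-- a normal ring is reduced -/
theorem isReduced_of_isNormalRing {R : Type u} [CommRing R] (h : IsNormalRing R) : IsReduced R := by
  apply isReduced_ofLocalizationMaximal
  intro p hp
  haveI : p.IsPrime := hp.isPrime
  haveI := (h p).1
  infer_instance

/-- a normal domain is integrally closed -/
theorem isIntegrallyClosed_of_isNormalRing {R : Type u} [CommRing R] [IsDomain R]
    (h : IsNormalRing R) : IsIntegrallyClosed R := by
  apply IsIntegrallyClosed.of_localization_maximal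
  intro p _ hp
  haveI : p.IsPrime := hp.isPrime
  exact (h p).2

section Loc

variable (k : Type u) [Field k] (A B : Type u) [CommRing A] [CommRing B] [Algebra k A] [Algebra k B]

/-- `A ⊗ B'` is a localization of `A ⊗ B` when `B'` is a localization of `B`. -/
theorem isLocalization_tensor_right (M : Submonoid B) (B' : Type u) [CommRing B'] [Algebra B B']
    [Algebra k B'] [IsScalarTower k B B'] [IsLocalization M B'] :
    @IsLocalization (A ⊗[k] B) _
      (M.map (Algebra.TensorProduct.includeRight (R := k) (A := A) (B := B))) (A ⊗[k] B') _
      (Algebra.TensorProduct.map (AlgHom.id k A) (IsScalarTower.toAlgHom k B B')).toRingHom.toAlgebra := by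
  letI : Algebra (A ⊗[k] B) (A ⊗[k] B') :=
    (Algebra.TensorProduct.map (AlgHom.id k A) (IsScalarTower.toAlgHom k B B')).toRingHom.toAlgebra
  haveI : IsScalarTower A (A ⊗[k] B) (A ⊗[k] B') := IsScalarTower.of_algebraMap_eq (fun a => by
    simp [RingHom.algebraMap_toAlgebra])
  have H : (algebraMap (A ⊗[k] B) (A ⊗[k] B')).comp
      (Algebra.TensorProduct.includeRight (R := k) (A := A) (B := B)).toRingHom =
      (Algebra.TensorProduct.includeRight (R := k) (A := A) (B := B')).toRingHom.comp
        (algebraMap B B') := by
    ext b
    simp [RingHom.algebraMap_toAlgebra]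
  exact IsLocalization.tensorProduct_tensorProduct_right k A M B' H

/-- normality of `A ⊗ B` can be tested after localizing `B` at its primes. -/
theorem isNormalRing_tensor_of_localization_right
    (h : ∀ (q : Ideal B) [q.IsPrime], IsNormalRing (A ⊗[k] Localization.AtPrime q)) :
    IsNormalRing (A ⊗[k] B) := by
  intro r hr
  let q : Ideal B := r.comap (Algebra.TensorProduct.includeRight (R := k) (A := A) (B := B)).toRingHom
  haveI : q.IsPrime := Ideal.comap_isPrime _ _
  letI : Algebra (A ⊗[k] B) (A ⊗[k] Localization.AtPrime q) :=
    (Algebra.TensorProduct.map (AlgHom.id k A)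
      (IsScalarTower.toAlgHom k B (Localization.AtPrime q))).toRingHom.toAlgebra
  haveI := isLocalization_tensor_right k A B q.primeCompl (Localization.AtPrime q)
  refine Groth.Agent.H47.SN.normalAt_of_isLocalization
    (q.primeCompl.map (Algebra.TensorProduct.includeRight (R := k) (A := A) (B := B))) (h q) r ?_
  rw [Set.disjoint_left]
  rintro _ ⟨b, hb, rfl⟩ hbr
  exact hb hbr

/-- normality of `A ⊗ B` can be tested after localizing `A` at its primes. -/
theorem isNormalRing_tensor_of_localization_left
    (h : ∀ (p : Ideal A) [p.IsPrime], IsNormalRing (Localization.AtPrime p ⊗[k] B)) :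
    IsNormalRing (A ⊗[k] B) := by
  refine Groth.Agent.H47.isNormalRing_of_ringEquiv (Algebra.TensorProduct.comm k B A).toRingEquiv ?_
  apply isNormalRing_tensor_of_localization_right
  intro p hp
  exact Groth.Agent.H47.isNormalRing_of_ringEquiv
    (Algebra.TensorProduct.comm k (Localization.AtPrime p) B).toRingEquiv (h p)

/-- strong geometric normality passes to localizations. -/
theorem strong_localization
    (hA : ∀ (K : Type u) [Field K] [Algebra k K], IsNormalRing (K ⊗[k] A))
    (p : Ideal A) [p.IsPrime] (K : Type u) [Field K] [Algebra k K] :
    IsNormalRing (K ⊗[k] Localization.AtPrime p) := by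
  letI : Algebra (K ⊗[k] A) (K ⊗[k] Localization.AtPrime p) :=
    (Algebra.TensorProduct.map (AlgHom.id k K)
      (IsScalarTower.toAlgHom k A (Localization.AtPrime p))).toRingHom.toAlgebra
  haveI := isLocalization_tensor_right k K A p.primeCompl (Localization.AtPrime p)
  exact Groth.Agent.H47.isNormalRing_of_isLocalization
    (p.primeCompl.map (Algebra.TensorProduct.includeRight (R := k) (A := K) (B := A))) (hA K)

end Loc

end Groth.Agent.H48.TensorNormal
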