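import Mathlib
import Groth.Agent.H48.FieldTensor
import Groth.Agent.H48.GeomConn

/-!
# Geometric irreducibility of a field extension vs. separable closedness of the base
-/

open scoped TensorProduct Polynomial IntermediateField

namespace Groth.Agent.H48

universe u

section Forward

variable {k K : Type u} [Field k] [Field K] [Algebra k K]

/-- If `E/k` is finite separable, embeds in `K`, and `Spec (E ⊗ K)` is irreducible, then `E = k`. -/
theorem finrank_eq_one_of_irreducibleSpace_tensor {E : Type u} [Field E] [Algebra k E]
    [Module.Finite k E] [Algebra.IsSeparable k E] (i : E →ₐ[k] K)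
    [IrreducibleSpace (PrimeSpectrum (E ⊗[k] K))] : Module.finrank k E = 1 := by
  have hEE : IrreducibleSpace (PrimeSpectrum (E ⊗[k] E)) :=
    irreducibleSpace_of_injective (Algebra.TensorProduct.map (AlgHom.id k E) i).toRingHom
      (tensorMap_injective _ _ Function.injective_id i.injective)
  have hun : Algebra.FormallyUnramified k E := Algebra.FormallyUnramified.of_isSeparable k E
  let t := Algebra.FormallyUnramified.elem k E
  have ht1 : ∀ s : E, ((1 : E) ⊗ₜ[k] s - s ⊗ₜ[k] (1 : E)) * t = 0 :=
    Algebra.FormallyUnramified.one_tmul_sub_tmul_one_mul_elem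
  have ht2 : Algebra.TensorProduct.lmul' k t = 1 := Algebra.FormallyUnramified.lmul_elem
  -- t annihilates the kernel of multiplication
  have hann : ∀ x ∈ KaehlerDifferential.ideal k E, x * t = 0 := by
    intro x hx
    rw [← KaehlerDifferential.span_range_eq_ideal] at hx
    induction hx using Submodule.span_induction with
    | mem y hy =>
      obtain ⟨s, rfl⟩ := hy
      exact ht1 s
    | zero => rw [zero_mul]
    | add x y _ _ hx hy => rw [add_mul, hx, hy, add_zero]
    | smul a x _ hx => rw [smul_eq_mul, mul_assoc, hx, mul_zero]
  have hidem : IsIdempotentElem t := by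
    have h1 : t - 1 ∈ KaehlerDifferential.ideal k E := by
      show Algebra.TensorProduct.lmul' k (t - 1) = 0
      rw [map_sub, ht2, map_one, sub_self]
    have := hann _ h1
    rw [sub_mul, one_mul, sub_eq_zero] at this
    exact this
  have htriv := idem_trivial_of_preconnected t hidem
  have ht : t = 1 := by
    rcases htriv with h | h
    · exfalso
      rw [h, map_zero] at ht2
      exact zero_ne_one ht2
    · exact h
  -- hence the multiplication map is injective
  have hker : ∀ x ∈ KaehlerDifferential.ideal k E, x = 0 := by
    intro x hx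
    have := hann x hx
    rwa [ht, mul_one] at this
  have hinj : Function.Injective (Algebra.TensorProduct.lmul' (S := E) k) := by
    rw [injective_iff_map_eq_zero]
    intro x hx
    exact hker x hx
  have hle : Module.finrank k (E ⊗[k] E) ≤ Module.finrank k E :=
    LinearMap.finrank_le_finrank_of_injective (f := (Algebra.TensorProduct.lmul' (S := E) k).toLinearMap) hinj
  rw [Module.finrank_tensorProduct] at hle
  have hpos : 0 < Module.finrank k E := Module.finrank_pos
  nlinarith

/-- forward direction of the criterion -/
theorem mem_range_of_isSeparable_of_geomIrr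
    (h : ∀ (k' : Type u) [Field k'] [Algebra k k'], IrreducibleSpace (PrimeSpectrum (k' ⊗[k] K)))
    (α : K) (hα : IsSeparable k α) : α ∈ Set.range (algebraMap k K) := by
  have hint : IsIntegral k α := hα.isIntegral
  have hfin : FiniteDimensional k k⟮α⟯ := IntermediateField.adjoin.finiteDimensional hint
  have hsep : Algebra.IsSeparable k k⟮α⟯ :=
    (IntermediateField.isSeparable_adjoin_simple_iff_isSeparable k K).mpr hα
  have hirr := h k⟮α⟯
  have h1 : Module.finrank k k⟮α⟯ = 1 :=
    finrank_eq_one_of_irreducibleSpace_tensor (k⟮α⟯).val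
  have h2 := IntermediateField.finrank_adjoin_simple_eq_one_iff.mp h1
  exact IntermediateField.mem_bot.mp h2

end Forward

section Backward

variable {k K : Type u} [Field k] [Field K] [Algebra k K]

/-- If `k` is separably closed in `K`, monic factors over `K` of separable polynomials over `k` have
coefficients in `k`. -/
theorem mem_lifts_of_monic_dvd_of_separable
    (hK : ∀ α : K, IsSeparable k α → α ∈ Set.range (algebraMap k K))
    (f : k[X]) (hf : f.Separable) (g : K[X]) (hg : g.Monic) (hgf : g ∣ f.map (algebraMap k K)) :
    g ∈ Polynomial.lifts (algebraMap k K) := by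
  rw [Polynomial.lifts_iff_coeff_lifts]
  intro n
  apply hK
  let Om := AlgebraicClosure K
  let G : Polynomial Om := g.map (algebraMap K Om)
  have hGs : G.Splits := IsAlgClosed.splits G
  have hGm : G.Monic := hg.map _
  have hroots : ∀ a ∈ G.roots, a ∈ (algebraMap (separableClosure k Om) Om).range := by
    intro a ha
    have ha0 : Polynomial.aeval a G = 0 := by
      have := (Polynomial.mem_roots'.mp ha).2
      rwa [Polynomial.IsRoot, ← Polynomial.coe_aeval_eq_eval] at this
    have hfa : Polynomial.aeval a f = 0 := by
      obtain ⟨q, hq⟩ := hgf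
      have h1 : (f.map (algebraMap k K)).map (algebraMap K Om) = G * q.map (algebraMap K Om) := by
        rw [hq, Polynomial.map_mul]
      have h2 : Polynomial.aeval a ((f.map (algebraMap k K)).map (algebraMap K Om)) = 0 := by
        rw [h1, map_mul, ha0, zero_mul]
      rw [Polynomial.map_map, ← IsScalarTower.algebraMap_eq, Polynomial.aeval_map_algebraMap] at h2
      exact h2
    have hsep : IsSeparable k a := hf.of_dvd (minpoly.dvd k a hfa)
    exact ⟨⟨a, hsep⟩, rfl⟩
  have hlift := hGs.mem_lift_of_roots_mem_range hGm (algebraMap (separableClosure k Om) Om) hroots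
  rw [Polynomial.lifts_iff_coeff_lifts] at hlift
  obtain ⟨⟨c, hc⟩, hc'⟩ := hlift n
  have hc'' : c = algebraMap K Om (g.coeff n) := by
    have : G.coeff n = algebraMap K Om (g.coeff n) := Polynomial.coeff_map _ _
    rw [← this, ← hc']
    rfl
  have hsepc : IsSeparable k (algebraMap K Om (g.coeff n)) := hc'' ▸ hc
  unfold IsSeparable at hsepc ⊢
  rwa [minpoly.algebraMap_eq (algebraMap K Om).injective] at hsepc

/-- If `k` is separably closed in `K`, then the minimal polynomial over `K` of a root of an irreducible
separable polynomial over `k` is that polynomial. -/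
theorem minpoly_eq_map_of_sepClosedIn
    (hK : ∀ α : K, IsSeparable k α → α ∈ Set.range (algebraMap k K))
    {Om : Type u} [Field Om] [Algebra K Om] [Algebra k Om] [IsScalarTower k K Om]
    (β : Om) (hβ : IsSeparable k β) :
    minpoly K β = (minpoly k β).map (algebraMap k K) := by
  have hint : IsIntegral k β := hβ.isIntegral
  have hintK : IsIntegral K β := hint.tower_top
  set f := minpoly k β with hf
  set g := minpoly K β with hg
  have hgm : g.Monic := minpoly.monic hintK
  have hgf : g ∣ f.map (algebraMap k K) := by
    apply minpoly.dvd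
    rw [Polynomial.aeval_map_algebraMap]
    exact minpoly.aeval k β
  have hlift := mem_lifts_of_monic_dvd_of_separable hK f hβ g hgm hgf
  obtain ⟨g₀, hg₀, hdeg, hg₀m⟩ := Polynomial.lifts_and_degree_eq_and_monic hlift hgm
  have hdvd : g₀ ∣ f := by
    rw [← Polynomial.map_dvd_map' (algebraMap k K), hg₀]
    exact hgf
  have hirr : Irreducible f := minpoly.irreducible hint
  have hnu : ¬ IsUnit g₀ := by
    intro hu
    have h1 : g₀.degree = 0 := Polynomial.degree_eq_zero_of_isUnit hu
    rw [hdeg] at h1
    have h2 : 0 < g.degree := minpoly.degree_pos hintK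
    rw [h1] at h2
    exact lt_irrefl _ h2
  have hassoc : Associated g₀ f := by
    rcases (hirr.dvd_iff).mp hdvd with h | h
    · exact absurd h hnu
    · exact h.symm
  have heq : g₀ = f := Polynomial.eq_of_monic_of_associated hg₀m (minpoly.monic hint) hassoc
  rw [← hg₀, heq]

/-- If `k` is separably closed in `K`, then `k' ⊗ K` is a domain for finite separable `k'/k`. -/
theorem irreducibleSpace_tensor_of_sepClosedIn
    (hK : ∀ α : K, IsSeparable k α → α ∈ Set.range (algebraMap k K))
    (k' : Type u) [Field k'] [Algebra k k'] [Module.Finite k k'] [Algebra.IsSeparable k k'] :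
    IrreducibleSpace (PrimeSpectrum (k' ⊗[k] K)) := by
  classical
  let Om := AlgebraicClosure K
  let pb := Field.powerBasisOfFiniteOfSeparable k k'
  let σ : k' →ₐ[k] Om := IsAlgClosed.lift
  let β : Om := σ pb.gen
  have hminβ : minpoly k β = minpoly k pb.gen := minpoly.algHom_eq σ σ.injective pb.gen
  have hβsep : IsSeparable k β := by
    unfold IsSeparable
    rw [hminβ]
    exact Algebra.IsSeparable.isSeparable k pb.gen
  have hmin : minpoly K β = (minpoly k β).map (algebraMap k K) :=
    minpoly_eq_map_of_sepClosedIn hK β hβsep
  have hdeg : (minpoly K β).natDegree = pb.dim := by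
    rw [hmin, Polynomial.natDegree_map, hminβ, pb.natDegree_minpoly]
  let m : K ⊗[k] k' →ₐ[K] Om :=
    Algebra.TensorProduct.lift (Algebra.ofId K Om) σ (fun _ _ => Commute.all _ _)
  let B := pb.basis.baseChange K
  have hB : ∀ i, m (B i) = β ^ (i : ℕ) := by
    intro i
    simp [B, m, β]
  have hli : LinearIndependent K (fun i : Fin pb.dim => β ^ (i : ℕ)) := by
    have h0 := linearIndependent_pow (K := K) β
    have h1 := h0.comp (Fin.cast hdeg.symm) (Fin.cast_injective _)
    exact h1
  have hinj : Function.Injective m := by
    rw [injective_iff_map_eq_zero]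
    intro x hx
    have h1 : m x = Finsupp.linearCombination K (fun i : Fin pb.dim => β ^ (i : ℕ)) (B.repr x) := by
      conv_lhs => rw [← B.linearCombination_repr x]
      have := Finsupp.apply_linearCombination K m.toLinearMap (⇑B) (B.repr x)
      rw [AlgHom.toLinearMap_apply] at this
      rw [this]
      have e : (⇑m.toLinearMap ∘ ⇑B) = fun i : Fin pb.dim => β ^ (i : ℕ) := by
        funext i
        exact hB i
      rw [e]
    rw [h1] at hx
    have h2 := linearIndependent_iff.mp hli _ hx
    exact B.repr.map_eq_zero_iff.mp h2
  have hdom : IsDomain (K ⊗[k] k') := hinj.isDomain m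
  have hirr : IrreducibleSpace (PrimeSpectrum (K ⊗[k] k')) := inferInstance
  exact (PrimeSpectrum.homeomorphOfRingEquiv
    (Algebra.TensorProduct.comm k k' K).toRingEquiv).irreducibleSpace_iff.mpr hirr

/-- the criterion -/
theorem geomIrr_iff_sepClosedIn :
    (∀ (k' : Type u) [Field k'] [Algebra k k'], IrreducibleSpace (PrimeSpectrum (k' ⊗[k] K))) ↔
      ∀ α : K, IsSeparable k α → α ∈ Set.range (algebraMap k K) := by
  constructor
  · intro h α hα
    exact mem_range_of_isSeparable_of_geomIrr h α hα
  · intro hK k' _ _
    exact geomIrr_of_finite_separable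
      (fun k'' _ _ _ _ => irreducibleSpace_tensor_of_sepClosedIn hK k'') k'

end Backward

end Groth.Agent.H48
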