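import Mathlib

/-!
# Transitivity of the Galois action on primes of `K ⊗[k] E` for a normal extension `E/k`
-/

open TensorProduct

namespace Groth.Agent.H48

universe u

/-- Key step: for `E/k` normal, two `k`-embeddings `a b : E → Ω` differ by an automorphism. -/
theorem exists_algEquiv_comp_eq {k E Ω : Type*} [Field k] [Field E] [Field Ω] [Algebra k E]
    [Algebra k Ω] [Normal k E] (a b : E →ₐ[k] Ω) :
    ∃ σ : E ≃ₐ[k] E, ∀ x, a (σ x) = b x := by
  let _ : Algebra E Ω := a.toRingHom.toAlgebra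
  have : IsScalarTower k E Ω := IsScalarTower.of_algebraMap_eq fun x => (a.commutes x).symm
  refine ⟨b.restrictNormal' E, fun x => ?_⟩
  exact AlgHom.restrictNormal_commutes b E x

theorem exists_algEquiv_comap_eq_left {k K E : Type u} [Field k] [Field K] [Field E]
    [Algebra k K] [Algebra k E] [Normal k E]
    (P Q : Ideal (K ⊗[k] E)) [P.IsPrime] [Q.IsPrime] :
    ∃ σ : E ≃ₐ[k] E,
      Q = P.comap (Algebra.TensorProduct.map (AlgHom.id k K) (σ : E →ₐ[k] E)) := by
  have hE : Algebra.IsIntegral k E := inferInstance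
  have hT : Algebra.IsIntegral K (K ⊗[k] E) := inferInstance
  have hcomap : Q.comap (algebraMap K (K ⊗[k] E)) = ⊥ := by
    have : (Q.comap (algebraMap K (K ⊗[k] E))).IsPrime := inferInstance
    rcases Ideal.eq_bot_or_top (Q.comap (algebraMap K (K ⊗[k] E))) with h | h
    · exact h
    · exact absurd h this.ne_top
  have hQmax : Q.IsMaximal :=
    Ideal.isMaximal_of_isIntegral_of_isMaximal_comap (R := K) Q (hcomap ▸ Ideal.bot_isMaximal)
  have hsurj : Function.Surjective (algebraMap (K ⊗[k] E) Q.ResidueField) :=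
    Ideal.algebraMap_residueField_surjective Q
  have hQint : Algebra.IsIntegral K Q.ResidueField :=
    Algebra.IsIntegral.of_surjective (IsScalarTower.toAlgHom K (K ⊗[k] E) Q.ResidueField) hsurj
  let Ω := AlgebraicClosure P.ResidueField
  let φ : Q.ResidueField →ₐ[K] Ω := IsAlgClosed.lift
  -- the two projections `K ⊗ E → Ω`
  let πP : K ⊗[k] E →ₐ[k] Ω := IsScalarTower.toAlgHom k (K ⊗[k] E) Ω
  let πQ : K ⊗[k] E →ₐ[k] Ω :=
    (φ.restrictScalars k).comp (IsScalarTower.toAlgHom k (K ⊗[k] E) Q.ResidueField)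
  have hkerP : RingHom.ker πP = P := by
    ext t
    rw [RingHom.mem_ker]
    change algebraMap (K ⊗[k] E) Ω t = 0 ↔ _
    rw [IsScalarTower.algebraMap_apply (K ⊗[k] E) P.ResidueField Ω, map_eq_zero_iff _
      (algebraMap P.ResidueField Ω).injective, ← RingHom.mem_ker,
      Ideal.ker_algebraMap_residueField]
  have hkerQ : RingHom.ker πQ = Q := by
    ext t
    rw [RingHom.mem_ker]
    change φ (algebraMap (K ⊗[k] E) Q.ResidueField t) = 0 ↔ _
    rw [map_eq_zero_iff φ φ.injective, ← RingHom.mem_ker, Ideal.ker_algebraMap_residueField]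
  let a : E →ₐ[k] Ω := πP.comp Algebra.TensorProduct.includeRight
  let b : E →ₐ[k] Ω := πQ.comp Algebra.TensorProduct.includeRight
  obtain ⟨σ, hσ⟩ := exists_algEquiv_comp_eq a b
  refine ⟨σ, ?_⟩
  have hcomp : πQ = πP.comp (Algebra.TensorProduct.map (AlgHom.id k K) (σ : E →ₐ[k] E)) := by
    apply Algebra.TensorProduct.ext
    · ext y
      change φ (algebraMap (K ⊗[k] E) Q.ResidueField (y ⊗ₜ 1)) =
        algebraMap (K ⊗[k] E) Ω (Algebra.TensorProduct.map (AlgHom.id k K) (σ : E →ₐ[k] E) (y ⊗ₜ 1))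
      have h1 : (y ⊗ₜ[k] (1 : E)) = algebraMap K (K ⊗[k] E) y := rfl
      rw [Algebra.TensorProduct.map_tmul, map_one, AlgHom.id_apply, h1,
        ← IsScalarTower.algebraMap_apply K (K ⊗[k] E) Q.ResidueField,
        ← IsScalarTower.algebraMap_apply K (K ⊗[k] E) Ω, φ.commutes]
    · ext x
      have := hσ x
      change πQ (1 ⊗ₜ x) = πP (Algebra.TensorProduct.map (AlgHom.id k K) (σ : E →ₐ[k] E) (1 ⊗ₜ x))
      rw [Algebra.TensorProduct.map_tmul, map_one]
      exact this.symm
  have hP : ∀ t, t ∈ P ↔ πP t = 0 := fun t => by rw [← RingHom.mem_ker, hkerP]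
  have hQ : ∀ t, t ∈ Q ↔ πQ t = 0 := fun t => by rw [← RingHom.mem_ker, hkerQ]
  ext t
  rw [Ideal.mem_comap, hP, hQ, hcomp]
  rfl

theorem exists_algEquiv_comap_eq_right {k K E : Type u} [Field k] [Field K] [Field E]
    [Algebra k K] [Algebra k E] [Normal k E]
    (P Q : Ideal (E ⊗[k] K)) [P.IsPrime] [Q.IsPrime] :
    ∃ σ : E ≃ₐ[k] E,
      Q = P.comap (Algebra.TensorProduct.map (σ : E →ₐ[k] E) (AlgHom.id k K)) := by
  let c : K ⊗[k] E ≃ₐ[k] E ⊗[k] K := Algebra.TensorProduct.comm k K E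
  obtain ⟨σ, hσ⟩ := exists_algEquiv_comap_eq_left (P.comap c) (Q.comap c)
  refine ⟨σ, ?_⟩
  have hc : ∀ t : E ⊗[k] K, c (Algebra.TensorProduct.map (AlgHom.id k K) (σ : E →ₐ[k] E)
      (c.symm t)) = Algebra.TensorProduct.map (σ : E →ₐ[k] E) (AlgHom.id k K) t := by
    intro t
    induction t using TensorProduct.induction_on with
    | zero => simp
    | tmul x y => simp [c]
    | add x y hx hy => simp only [map_add, hx, hy]
  ext t
  have h1 : t ∈ Q ↔ c.symm t ∈ Q.comap c := by simp [Ideal.mem_comap]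
  rw [h1, hσ, Ideal.mem_comap, Ideal.mem_comap, Ideal.mem_comap, hc]

end Groth.Agent.H48
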