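import Groth.Agent.H48.TensorNormal

set_option autoImplicit false
set_option linter.style.haveILetI false
set_option linter.unusedVariables false
universe u
open TensorProduct EGA4

namespace Groth.Agent.H48.TensorNormal

section Inter

variable (k : Type u) [Field k] {A K B L : Type u} [CommRing A] [CommRing K] [CommRing B] [CommRing L]
  [Algebra k A] [Algebra k K] [Algebra k B] [Algebra k L]

/-- `(K ⊗ B) ∩ (A ⊗ L) = A ⊗ B` inside `K ⊗ L`, for `A ⊆ K`, `B ⊆ L` over a field. -/
theorem exists_of_map_eq_map (i : A →ₐ[k] K) (j : B →ₐ[k] L)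
    (hj : Function.Injective j) (x : K ⊗[k] B) (y : A ⊗[k] L)
    (hxy : Algebra.TensorProduct.map (AlgHom.id k K) j x = Algebra.TensorProduct.map i (AlgHom.id k L) y) :
    ∃ z : A ⊗[k] B, Algebra.TensorProduct.map i (AlgHom.id k B) z = x := by
  have e1 : ∀ x : K ⊗[k] B,
      LinearMap.lTensor K j.toLinearMap x = Algebra.TensorProduct.map (AlgHom.id k K) j x := by
    intro x
    induction x using TensorProduct.induction_on with
    | zero => simp
    | tmul a b => simp
    | add a b ha hb => rw [map_add, map_add, ha, hb]
  have e2 : ∀ y : A ⊗[k] L,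
      LinearMap.rTensor L i.toLinearMap y = Algebra.TensorProduct.map i (AlgHom.id k L) y := by
    intro y
    induction y using TensorProduct.induction_on with
    | zero => simp
    | tmul a b => simp
    | add a b ha hb => rw [map_add, map_add, ha, hb]
  have e3 : ∀ z : A ⊗[k] B,
      LinearMap.rTensor B i.toLinearMap z = Algebra.TensorProduct.map i (AlgHom.id k B) z := by
    intro z
    induction z using TensorProduct.induction_on with
    | zero => simp
    | tmul a b => simp
    | add a b ha hb => rw [map_add, map_add, ha, hb]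
  let π : K →ₗ[k] (K ⧸ LinearMap.range i.toLinearMap) := (LinearMap.range i.toLinearMap).mkQ
  have hex : Function.Exact i.toLinearMap π := by
    intro a
    simp only [π, Submodule.mkQ_apply, Submodule.Quotient.mk_eq_zero]
    rfl
  have hsurj : Function.Surjective π := Submodule.mkQ_surjective _
  have hex' := rTensor_exact B hex hsurj
  -- x maps to zero in (K/A) ⊗ B
  have hinj : Function.Injective (LinearMap.lTensor (K ⧸ LinearMap.range i.toLinearMap) j.toLinearMap) :=
    Module.Flat.lTensor_preserves_injective_linearMap _ hj
  have h0 : LinearMap.rTensor B π x = 0 := by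
    apply hinj
    rw [map_zero]
    have h1 : LinearMap.lTensor (K ⧸ LinearMap.range i.toLinearMap) j.toLinearMap (LinearMap.rTensor B π x) =
        LinearMap.rTensor L π (LinearMap.lTensor K j.toLinearMap x) := by
      rw [← LinearMap.comp_apply, ← LinearMap.comp_apply, LinearMap.lTensor_comp_rTensor,
        LinearMap.rTensor_comp_lTensor]
    have h2 : LinearMap.lTensor K j.toLinearMap x = LinearMap.rTensor L i.toLinearMap y := by
      rw [e1, e2, hxy]
    rw [h1, h2, ← LinearMap.comp_apply, ← LinearMap.rTensor_comp]
    have : π ∘ₗ i.toLinearMap = 0 := by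
      ext a
      exact (hex (i a)).mpr ⟨a, rfl⟩
    rw [this, LinearMap.rTensor_zero, LinearMap.zero_apply]
  obtain ⟨z, hz⟩ := (hex' x).mp h0
  exact ⟨z, by rw [← hz, e3]⟩

end Inter


/-- the fraction field of a localization `S = M⁻¹R` (a domain) is a fraction field of `R`. -/
theorem isFractionRing_of_isLocalization_domain {R S T : Type*} [CommRing R] [CommRing S]
    [CommRing T] [IsDomain S] [Algebra R S] [Algebra S T] [Algebra R T] [IsScalarTower R S T]
    (M : Submonoid R) [IsLocalization M S] (hinj : Function.Injective (algebraMap R S))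
    [IsFractionRing S T] : IsFractionRing R T := by
  haveI : IsDomain R := hinj.isDomain (algebraMap R S)
  have h := IsLocalization.localization_localization_isLocalization_of_has_all_units M
    (nonZeroDivisors S) T (fun x hx => hx.mem_nonZeroDivisors)
  have e : (nonZeroDivisors S).comap (algebraMap R S) = nonZeroDivisors R := by
    ext r
    rw [Submonoid.mem_comap, mem_nonZeroDivisors_iff_ne_zero, mem_nonZeroDivisors_iff_ne_zero,
      Ne, Ne, map_eq_zero_iff _ hinj]
  rw [e] at h
  exact h

/-- `R = R1 ∩ R2` inside a common localization `Q` (a domain) of two normal rings is an integrally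
closed domain. -/
theorem isIntegrallyClosed_of_inter {R R1 R2 Q : Type u} [CommRing R] [CommRing R1] [CommRing R2]
    [CommRing Q] [IsDomain Q]
    [Algebra R R1] [Algebra R R2] [Algebra R1 Q] [Algebra R2 Q] [Algebra R Q]
    [IsScalarTower R R1 Q] [IsScalarTower R R2 Q]
    (hR : Function.Injective (algebraMap R Q))
    (h1 : Function.Injective (algebraMap R1 Q)) (h2 : Function.Injective (algebraMap R2 Q))
    (M1 : Submonoid R1) [IsLocalization M1 Q] (M2 : Submonoid R2) [IsLocalization M2 Q]
    (hn1 : IsNormalRing R1) (hn2 : IsNormalRing R2)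
    (hint : ∀ (x : R1) (y : R2), algebraMap R1 Q x = algebraMap R2 Q y →
      ∃ z : R, algebraMap R R1 z = x) :
    IsDomain R ∧ IsIntegrallyClosed R := by
  haveI : IsDomain R := hR.isDomain (algebraMap R Q)
  haveI : IsDomain R1 := h1.isDomain (algebraMap R1 Q)
  haveI : IsDomain R2 := h2.isDomain (algebraMap R2 Q)
  have ic1 : IsIntegrallyClosed R1 := isIntegrallyClosed_of_isNormalRing hn1
  have ic2 : IsIntegrallyClosed R2 := isIntegrallyClosed_of_isNormalRing hn2
  let F := FractionRing Q
  haveI : IsScalarTower R R1 F := IsScalarTower.of_algebraMap_eq (fun r => by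
    rw [IsScalarTower.algebraMap_apply R Q F, IsScalarTower.algebraMap_apply R1 Q F,
      ← IsScalarTower.algebraMap_apply R R1 Q])
  haveI : IsScalarTower R R2 F := IsScalarTower.of_algebraMap_eq (fun r => by
    rw [IsScalarTower.algebraMap_apply R Q F, IsScalarTower.algebraMap_apply R2 Q F,
      ← IsScalarTower.algebraMap_apply R R2 Q])
  haveI fr1 : IsFractionRing R1 F :=
    isFractionRing_of_isLocalization_domain M1 h1
  haveI fr2 : IsFractionRing R2 F :=
    isFractionRing_of_isLocalization_domain M2 h2
  refine ⟨inferInstance, ?_⟩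
  rw [isIntegrallyClosed_iff (FractionRing R)]
  intro x hx
  have hRF : Function.Injective (algebraMap R F) := by
    rw [IsScalarTower.algebraMap_eq R Q F]
    exact (IsFractionRing.injective Q F).comp hR
  let g : FractionRing R →+* F := IsFractionRing.lift hRF
  have hg : ∀ r, g (algebraMap R _ r) = algebraMap R F r := IsFractionRing.lift_algebraMap hRF
  have hgx : IsIntegral R (g x) := by
    obtain ⟨p, hp, hpx⟩ := hx
    refine ⟨p, hp, ?_⟩
    rw [show algebraMap R F = g.comp (algebraMap R (FractionRing R)) from by
      ext r; exact (hg r).symm, ← Polynomial.hom_eval₂, hpx, map_zero]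
  obtain ⟨r1, hr1⟩ := (isIntegrallyClosed_iff F).mp ic1 hgx.tower_top
  obtain ⟨r2, hr2⟩ := (isIntegrallyClosed_iff F).mp ic2 hgx.tower_top
  have heq : algebraMap R1 Q r1 = algebraMap R2 Q r2 := by
    apply IsFractionRing.injective Q F
    rw [← IsScalarTower.algebraMap_apply, ← IsScalarTower.algebraMap_apply, hr1, hr2]
  obtain ⟨z, hz⟩ := hint r1 r2 heq
  refine ⟨z, ?_⟩
  apply g.injective
  rw [hg, ← hr1, ← hz, ← IsScalarTower.algebraMap_apply]


section Core

variable (k : Type u) [Field k] (A B : Type u) [CommRing A] [CommRing B] [Algebra k A] [Algebra k B]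

/-- `A' ⊗ B` is a localization of `A ⊗ B` when `A'` is a localization of `A`. -/
theorem isLocalization_tensor_left (M : Submonoid A) (A' : Type u) [CommRing A'] [Algebra A A']
    [Algebra k A'] [IsScalarTower k A A'] [IsLocalization M A'] :
    @IsLocalization (A ⊗[k] B) _ (Algebra.algebraMapSubmonoid (A ⊗[k] B) M) (A' ⊗[k] B) _
      (Algebra.TensorProduct.map (IsScalarTower.toAlgHom k A A') (AlgHom.id k B)).toRingHom.toAlgebra := by
  letI : Algebra (A ⊗[k] B) (A' ⊗[k] B) :=
    (Algebra.TensorProduct.map (IsScalarTower.toAlgHom k A A') (AlgHom.id k B)).toRingHom.toAlgebra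
  haveI : IsScalarTower A (A ⊗[k] B) (A' ⊗[k] B) := IsScalarTower.of_algebraMap_eq (fun a => by
    simp [RingHom.algebraMap_toAlgebra])
  have H : (algebraMap (A ⊗[k] B) (A' ⊗[k] B)).comp
      (Algebra.TensorProduct.includeRight (R := k) (A := A) (B := B)).toRingHom =
      (Algebra.TensorProduct.includeRight (R := k) (A := A') (B := B)).toRingHom := by
    ext b
    simp [RingHom.algebraMap_toAlgebra]
  exact IsLocalization.tensorProduct_tensorProduct k B M A' H

end Core


section Core

variable (k : Type u) [Field k] (A B : Type u) [CommRing A] [CommRing B] [Algebra k A] [Algebra k B]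

/-- the fraction field of a strongly geometrically normal domain is geometrically reduced -/
theorem isGeometricallyReduced_fractionRing [IsDomain A]
    (hA : ∀ (K : Type u) [Field K] [Algebra k K], IsNormalRing (K ⊗[k] A)) :
    Algebra.IsGeometricallyReduced k (FractionRing A) := by
  rw [Algebra.isGeometricallyReduced_field_iff]
  letI : Algebra (AlgebraicClosure k ⊗[k] A) (AlgebraicClosure k ⊗[k] FractionRing A) :=
    (Algebra.TensorProduct.map (AlgHom.id k (AlgebraicClosure k))
      (IsScalarTower.toAlgHom k A (FractionRing A))).toRingHom.toAlgebra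
  haveI := isLocalization_tensor_right k (AlgebraicClosure k) A (nonZeroDivisors A) (FractionRing A)
  haveI : IsReduced (AlgebraicClosure k ⊗[k] A) := isReduced_of_isNormalRing (hA _)
  exact isReduced_localizationPreserves
    ((nonZeroDivisors A).map (Algebra.TensorProduct.includeRight (R := k) (A := AlgebraicClosure k) (B := A)))
    (AlgebraicClosure k ⊗[k] FractionRing A) inferInstance

end Core

end Groth.Agent.H48.TensorNormal
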