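import Mathlib
import Groth.Prelude.Def_CohB1

set_option autoImplicit false
universe u

open AlgebraicGeometry CategoryTheory CategoryTheory.Limits

namespace Groth.Agent.H48

theorem terminal_comp {S S' : Scheme.{u}} (g : S' ⟶ S) :
    g ≫ specULiftZIsTerminal.from S = specULiftZIsTerminal.from S' :=
  specULiftZIsTerminal.hom_ext _ _

/-- The map `P^n_{S'} ⟶ P^n_S` induced by `g : S' ⟶ S` (on the underlying pullbacks). -/
noncomputable def projSpaceOverMap' (n : ℕ) {S S' : Scheme.{u}} (g : S' ⟶ S) :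
    pullback (CohB1.ProjSpace.toSpec n (ULift.{u} ℤ)) (specULiftZIsTerminal.from S') ⟶
      pullback (CohB1.ProjSpace.toSpec n (ULift.{u} ℤ)) (specULiftZIsTerminal.from S) :=
  pullback.lift (pullback.fst _ _) (pullback.snd _ _ ≫ g)
    (by
      have h := pullback.condition (f := CohB1.ProjSpace.toSpec n (ULift.{u} ℤ))
        (g := specULiftZIsTerminal.from S')
      rw [Category.assoc, terminal_comp g]
      exact h)

theorem isPullback_projSpaceOverMap' (n : ℕ) {S S' : Scheme.{u}} (g : S' ⟶ S) :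
    IsPullback (projSpaceOverMap' n g)
      (pullback.snd (CohB1.ProjSpace.toSpec n (ULift.{u} ℤ)) (specULiftZIsTerminal.from S'))
      (pullback.snd (CohB1.ProjSpace.toSpec n (ULift.{u} ℤ)) (specULiftZIsTerminal.from S)) g := by
  refine IsPullback.of_right ?_ (pullback.lift_snd _ _ _)
    (IsPullback.of_hasPullback (CohB1.ProjSpace.toSpec n (ULift.{u} ℤ)) (specULiftZIsTerminal.from S))
  have h1 : projSpaceOverMap' n g ≫ pullback.fst (CohB1.ProjSpace.toSpec n (ULift.{u} ℤ))
      (specULiftZIsTerminal.from S) = pullback.fst _ _ := pullback.lift_fst _ _ _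
  rw [h1, terminal_comp g]
  exact IsPullback.of_hasPullback _ _

/-- The map `P^n_{S'} ⟶ P^n_S` induced by `g : S' ⟶ S`. -/
noncomputable def projSpaceOverMap (n : ℕ) {S S' : Scheme.{u}} (g : S' ⟶ S) :
    CohB1.ProjSpaceOver n S' ⟶ CohB1.ProjSpaceOver n S :=
  projSpaceOverMap' n g

theorem isPullback_projSpaceOverMap (n : ℕ) {S S' : Scheme.{u}} (g : S' ⟶ S) :
    IsPullback (projSpaceOverMap n g) (CohB1.ProjSpaceOver.toBase n S')
      (CohB1.ProjSpaceOver.toBase n S) g :=
  isPullback_projSpaceOverMap' n g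

/-- base change of a morphism to `P^n_S` -/
theorem isPullback_lift_projSpaceOver (n : ℕ) {X S S' : Scheme.{u}} (f : X ⟶ S) (g : S' ⟶ S)
    (i : X ⟶ CohB1.ProjSpaceOver n S) (hi : i ≫ CohB1.ProjSpaceOver.toBase n S = f) :
    ∃ i' : pullback f g ⟶ CohB1.ProjSpaceOver n S',
      i' ≫ CohB1.ProjSpaceOver.toBase n S' = pullback.snd f g ∧
      IsPullback i' (pullback.fst f g) (projSpaceOverMap n g) i := by
  have hP := isPullback_projSpaceOverMap n g
  have hcond : (pullback.fst f g ≫ i) ≫ CohB1.ProjSpaceOver.toBase n S = pullback.snd f g ≫ g := by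
    rw [Category.assoc, hi, pullback.condition]
  refine ⟨hP.lift (pullback.fst f g ≫ i) (pullback.snd f g) hcond, hP.lift_snd _ _ _, ?_⟩
  refine IsPullback.of_right ?_ (hP.lift_fst _ _ _) hP.flip
  rw [hP.lift_snd, hi]
  exact (IsPullback.of_hasPullback f g).flip

end Groth.Agent.H48
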