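import Mathlib
import Groth.Prelude.Def_Cyc

/-!
# Functoriality of the pushforward of algebraic cycles
-/

set_option autoImplicit false
set_option linter.unusedSectionVars false
set_option linter.style.haveILetI false
universe u

open AlgebraicGeometry CategoryTheory TopologicalSpace Opposite

namespace Groth.Agent.H48.CycPush

section Finsum

variable {α β M : Type*} [AddCommMonoid M]

/-- Summation over the fibres of a map. -/
theorem finsum_mem_fiberwise (p : α → β) (W : Set β) (h : α → M)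
    (hfin : (p ⁻¹' W ∩ Function.support h).Finite) :
    ∑ᶠ y ∈ W, ∑ᶠ x ∈ p ⁻¹' {y}, h x = ∑ᶠ x ∈ p ⁻¹' W, h x := by
  classical
  set T := hfin.toFinset with hT
  have hTmem : ∀ x, x ∈ T ↔ p x ∈ W ∧ h x ≠ 0 := by
    intro x
    simp [hT, Set.Finite.mem_toFinset]
  have hR : ∑ᶠ x ∈ p ⁻¹' W, h x = ∑ x ∈ T, h x := by
    apply finsum_mem_eq_sum_of_inter_support_eq
    ext x
    simp only [Set.mem_inter_iff, Set.mem_preimage, Function.mem_support, Finset.mem_coe, hTmem]
    tauto
  have hin : ∀ y ∈ W, ∑ᶠ x ∈ p ⁻¹' {y}, h x = ∑ x ∈ T with p x = y, h x := by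
    intro y hy
    apply finsum_mem_eq_sum_of_inter_support_eq
    ext x
    simp only [Set.mem_inter_iff, Set.mem_preimage, Set.mem_singleton_iff, Function.mem_support,
      Finset.coe_filter, Set.mem_ofPred_eq, hTmem]
    constructor
    · rintro ⟨rfl, hx⟩
      exact ⟨⟨⟨hy, hx⟩, rfl⟩, hx⟩
    · rintro ⟨⟨-, rfl⟩, hx⟩
      exact ⟨rfl, hx⟩
  rw [hR, finsum_mem_congr rfl hin]
  have hout : ∑ᶠ y ∈ W, ∑ x ∈ T with p x = y, h x =
      ∑ y ∈ T.image p, ∑ x ∈ T with p x = y, h x := by
    apply finsum_mem_eq_sum_of_inter_support_eq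
    ext y
    simp only [Set.mem_inter_iff, Function.mem_support, Finset.coe_image, Set.mem_image,
      Finset.mem_coe]
    constructor
    · rintro ⟨hy, hne⟩
      refine ⟨?_, hne⟩
      obtain ⟨x, hx, -⟩ := Finset.exists_ne_zero_of_sum_ne_zero hne
      rw [Finset.mem_filter] at hx
      exact ⟨x, hx.1, hx.2⟩
    · rintro ⟨⟨x, hx, rfl⟩, hne⟩
      exact ⟨((hTmem x).mp hx).1, hne⟩
  rw [hout]
  exact Finset.sum_fiberwise_of_maps_to (fun x hx => Finset.mem_image_of_mem p hx) h

end Finsum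

section ResDeg

variable {X Y Z : Scheme.{u}} (f : X ⟶ Y) (g : Y ⟶ Z)

theorem residueDegree_comp (x : X) :
    (f ≫ g).residueDegree x = g.residueDegree (f x) * f.residueDegree x := by
  letI a1 : Algebra (Z.residueField (g (f x))) (Y.residueField (f x)) :=
    (g.residueFieldMap (f x)).hom.toAlgebra
  letI a2 : Algebra (Y.residueField (f x)) (X.residueField x) :=
    (f.residueFieldMap x).hom.toAlgebra
  letI a3 : Algebra (Z.residueField (g (f x))) (X.residueField x) :=
    ((f ≫ g).residueFieldMap x).hom.toAlgebra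
  haveI : IsScalarTower (Z.residueField (g (f x))) (Y.residueField (f x)) (X.residueField x) := by
    refine IsScalarTower.of_algebraMap_eq fun a => ?_
    change ((f ≫ g).residueFieldMap x).hom a = _
    rw [Scheme.residueFieldMap_comp]
    rfl
  exact (Module.finrank_mul_finrank (Z.residueField (g (f x))) (Y.residueField (f x))
    (X.residueField x)).symm

end ResDeg

section Map

variable {X Y Z : Scheme.{u}} (f : X ⟶ Y) (g : Y ⟶ Z) [QuasiCompact f] [QuasiCompact g]
  (δX : X → ℤ) (δY : Y → ℤ) (δZ : Z → ℤ)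

open AlgebraicCycle in
theorem map_map (hmul : ∀ x, mapCoeff (f ≫ g) δX δZ x =
      mapCoeff f δX δY x * mapCoeff g δY δZ (f x)) (α : AlgebraicCycle X ℤ) :
    AlgebraicCycle.map g δY δZ (AlgebraicCycle.map f δX δY α) =
      AlgebraicCycle.map (f ≫ g) δX δZ α := by
  ext z
  simp only [AlgebraicCycle.map, Function.locallyFinsupp.map_apply]
  have hcompact : IsCompact ((f ≫ g) ⁻¹' {z}) := Scheme.Hom.isCompact_preimage_singleton (f ≫ g) z
  have hfinα : (((f ≫ g) ⁻¹' {z}) ∩ Function.support α).Finite :=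
    α.locallyFiniteSupport.finite_inter_support_of_isCompact hcompact
  have hset : (f : X → Y) ⁻¹' ((g : Y → Z) ⁻¹' {z}) = (f ≫ g) ⁻¹' {z} := by
    ext x; simp
  let h : X → ℤ := fun x => α x * (mapCoeff f δX δY x : ℤ) * (mapCoeff g δY δZ (f x) : ℤ)
  have step1 : ∀ y ∈ (g : Y → Z) ⁻¹' {z},
      (∑ᶠ x ∈ (f : X → Y) ⁻¹' {y}, α x * (mapCoeff f δX δY x : ℤ)) * (mapCoeff g δY δZ y : ℤ) =
        ∑ᶠ x ∈ (f : X → Y) ⁻¹' {y}, h x := by
    intro y _
    rw [finsum_mem_mul]
    refine finsum_mem_congr rfl fun x hx => ?_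
    have : f x = y := hx
    simp only [h, this]
  rw [finsum_mem_congr rfl step1, finsum_mem_fiberwise (f : X → Y) ((g : Y → Z) ⁻¹' {z}) h
    (by
      rw [hset]
      refine hfinα.subset ?_
      rintro x ⟨hx1, hx2⟩
      refine ⟨hx1, ?_⟩
      rw [Function.mem_support] at hx2 ⊢
      intro h0
      apply hx2
      simp [h, h0])]
  refine finsum_mem_congr hset fun x _ => ?_
  simp only [h]
  rw [hmul x, mul_assoc]
  push_cast
  rfl

end Map

section Cyc

variable {X Y Z : Scheme.{u}} (f : X ⟶ Y) (g : Y ⟶ Z)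
  (δX : X → ℤ) (δY : Y → ℤ) (δZ : Z → ℤ)

open AlgebraicCycle in
theorem mapCoeff_comp (hf : Cyc.DeltaCompat f δX δY) (hg : Cyc.DeltaCompat g δY δZ) (x : X) :
    mapCoeff (f ≫ g) δX δZ x = mapCoeff f δX δY x * mapCoeff g δY δZ (f x) := by
  obtain ⟨nf, -, hnf⟩ := hf x
  obtain ⟨ng, -, hng⟩ := hg (f x)
  unfold mapCoeff
  have hcomp : (f ≫ g).base x = g (f x) := rfl
  rw [hcomp]
  by_cases h1 : δX x = δY (f x)
  · by_cases h2 : δY (f x) = δZ (g (f x))
    · have h3 : δX x = δZ (g (f x)) := h1.trans h2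
      rw [if_pos h1, if_pos h3]
      change _ = _ * (if δY (f x) = δZ (g (f x)) then _ else _)
      rw [if_pos h2, residueDegree_comp, mul_comm]
    · have h3 : δX x ≠ δZ (g (f x)) := by omega
      rw [if_neg h3]
      change _ = _ * (if δY (f x) = δZ (g (f x)) then _ else _)
      rw [if_neg h2, mul_zero]
  · have h3 : δX x ≠ δZ (g (f x)) := by omega
    rw [if_neg h3, if_neg h1, zero_mul]

end Cyc

end Groth.Agent.H48.CycPush
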