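import Mathlib
import Groth.Agent.H49.FibreDimBC

/-!
# Dimension of a product of schemes locally of finite type over a field

`ringKrullDim_tensor_eq_add`: `dim (A ⊗[k] B) = dim A + dim B` for finite type `k`-algebras.
`topologicalKrullDim_eq_add_of_isPullback`: `dim (X ×_k Y) = dim X + dim Y`.
-/

set_option autoImplicit false

universe u

open CategoryTheory CategoryTheory.Limits AlgebraicGeometry TensorProduct

namespace Groth.Agent.H48.ProdDim

section ring

theorem subsingleton_tensor_left (k A B : Type*) [CommRing k] [CommRing A] [CommRing B]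
    [Algebra k A] [Algebra k B] [Subsingleton A] : Subsingleton (A ⊗[k] B) := by
  refine ⟨fun x y => ?_⟩
  have h1 : (1 : A ⊗[k] B) = 0 := by
    rw [Algebra.TensorProduct.one_def, Subsingleton.elim (1 : A) 0, zero_tmul]
  rw [← mul_one x, ← mul_one y, h1, mul_zero, mul_zero]

theorem subsingleton_tensor_right (k A B : Type*) [CommRing k] [CommRing A] [CommRing B]
    [Algebra k A] [Algebra k B] [Subsingleton B] : Subsingleton (A ⊗[k] B) := by
  refine ⟨fun x y => ?_⟩
  have h1 : (1 : A ⊗[k] B) = 0 := by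
    rw [Algebra.TensorProduct.one_def, Subsingleton.elim (1 : B) 0, tmul_zero]
  rw [← mul_one x, ← mul_one y, h1, mul_zero, mul_zero]

/-- Tensor product of integral algebra maps is integral. -/
theorem isIntegral_tensor_map {k P Q A B : Type*} [CommRing k] [CommRing P] [CommRing Q]
    [CommRing A] [CommRing B] [Algebra k P] [Algebra k Q] [Algebra k A] [Algebra k B]
    (g : P →ₐ[k] A) (h : Q →ₐ[k] B) (hg : g.toRingHom.IsIntegral) (hh : h.toRingHom.IsIntegral) :
    (Algebra.TensorProduct.map g h).toRingHom.IsIntegral := by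
  intro x
  induction x using TensorProduct.induction_on with
  | zero => exact RingHom.isIntegralElem_zero _
  | add x y hx hy => exact RingHom.IsIntegralElem.add _ hx hy
  | tmul a b =>
    have h1 : (a ⊗ₜ[k] b : A ⊗[k] B) = (a ⊗ₜ 1) * (1 ⊗ₜ b) := by
      rw [Algebra.TensorProduct.tmul_mul_tmul, mul_one, one_mul]
    rw [h1]
    refine RingHom.IsIntegralElem.mul _ ?_ ?_
    · obtain ⟨p, hp, hp0⟩ := hg a
      refine ⟨p.map (Algebra.TensorProduct.includeLeft : P →ₐ[k] P ⊗[k] Q).toRingHom,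
        hp.map _, ?_⟩
      rw [Polynomial.eval₂_map]
      have hcomp : (Algebra.TensorProduct.map g h).toRingHom.comp
          (Algebra.TensorProduct.includeLeft : P →ₐ[k] P ⊗[k] Q).toRingHom =
          (Algebra.TensorProduct.includeLeft : A →ₐ[k] A ⊗[k] B).toRingHom.comp g.toRingHom := by
        ext x
        simp
      have ha1 : (a ⊗ₜ[k] (1 : B)) =
          (Algebra.TensorProduct.includeLeft : A →ₐ[k] A ⊗[k] B).toRingHom a := rfl
      rw [hcomp, ha1, ← Polynomial.hom_eval₂, hp0, map_zero]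
    · obtain ⟨p, hp, hp0⟩ := hh b
      refine ⟨p.map (Algebra.TensorProduct.includeRight : Q →ₐ[k] P ⊗[k] Q).toRingHom,
        hp.map _, ?_⟩
      rw [Polynomial.eval₂_map]
      have hcomp : (Algebra.TensorProduct.map g h).toRingHom.comp
          (Algebra.TensorProduct.includeRight : Q →ₐ[k] P ⊗[k] Q).toRingHom =
          (Algebra.TensorProduct.includeRight : B →ₐ[k] A ⊗[k] B).toRingHom.comp h.toRingHom := by
        ext x
        simp
      have hb1 : ((1 : A) ⊗ₜ[k] b) =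
          (Algebra.TensorProduct.includeRight : B →ₐ[k] A ⊗[k] B).toRingHom b := rfl
      rw [hcomp, hb1, ← Polynomial.hom_eval₂, hp0, map_zero]

/-- `dim (A ⊗[k] B) = dim A + dim B` for finite type algebras over a field. -/
theorem ringKrullDim_tensor_eq_add (k A B : Type u) [Field k] [CommRing A] [CommRing B]
    [Algebra k A] [Algebra k B] [Algebra.FiniteType k A] [Algebra.FiniteType k B] :
    ringKrullDim (A ⊗[k] B) = ringKrullDim A + ringKrullDim B := by
  rcases subsingleton_or_nontrivial A with hA | hA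
  · have := subsingleton_tensor_left k A B
    rw [ringKrullDim_eq_bot_of_subsingleton, ringKrullDim_eq_bot_of_subsingleton (R := A), WithBot.bot_add]
  rcases subsingleton_or_nontrivial B with hB | hB
  · have := subsingleton_tensor_right k A B
    rw [ringKrullDim_eq_bot_of_subsingleton, ringKrullDim_eq_bot_of_subsingleton (R := B), WithBot.add_bot]
  obtain ⟨s, g, hginj, hgint⟩ := exists_integral_inj_algHom_of_fg k A
  obtain ⟨t, h, hhinj, hhint⟩ := exists_integral_inj_algHom_of_fg k B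
  have h1 : ringKrullDim A = s := by
    rw [← Groth.Agent.H54.ringKrullDim_eq_of_ringHom_isIntegral_of_injective g.toRingHom hgint hginj,
      Groth.Agent.H54.ringKrullDim_mvPolynomial_fin_field]
  have h2 : ringKrullDim B = t := by
    rw [← Groth.Agent.H54.ringKrullDim_eq_of_ringHom_isIntegral_of_injective h.toRingHom hhint hhinj,
      Groth.Agent.H54.ringKrullDim_mvPolynomial_fin_field]
  have hint := isIntegral_tensor_map g h hgint hhint
  have hinj : Function.Injective (Algebra.TensorProduct.map g h).toRingHom := by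
    have := TensorProduct.map_injective_of_flat_flat g.toLinearMap h.toLinearMap hginj hhinj
    exact this
  have h3 := Groth.Agent.H54.ringKrullDim_eq_of_ringHom_isIntegral_of_injective _ hint hinj
  rw [← h3, h1, h2,
    ringKrullDim_eq_of_ringEquiv (MvPolynomial.tensorEquivSum k (Fin s) (Fin t) k).toRingEquiv,
    MvPolynomial.ringKrullDim_of_isNoetherianRing, ringKrullDim_eq_zero_of_field]
  simp

/-- Pushout form. -/
theorem ringKrullDim_eq_add_of_isPushout (k A B C : Type u) [Field k] [CommRing A] [CommRing B]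
    [CommRing C] [Algebra k A] [Algebra k B] [Algebra.FiniteType k A] [Algebra.FiniteType k B]
    [Algebra k C] [Algebra A C] [Algebra B C] [IsScalarTower k A C] [IsScalarTower k B C]
    [Algebra.IsPushout k A B C] :
    ringKrullDim C = ringKrullDim A + ringKrullDim B :=
  (ringKrullDim_eq_of_ringEquiv (Algebra.IsPushout.equiv k A B C).toRingEquiv).symm.trans
    (ringKrullDim_tensor_eq_add k A B)

end ring

section order

theorem iSup_add_le' {ι : Sort*} (b : ι → WithBot ℕ∞) (y D : WithBot ℕ∞)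
    (h : ∀ i, b i + y ≤ D) : (⨆ i, b i) + y ≤ D := by
  by_cases hbot : ∀ i, b i = ⊥
  · have : (⨆ i, b i) = ⊥ := by
      rw [eq_bot_iff]
      exact iSup_le fun i => (hbot i).le
    rw [this, WithBot.bot_add]
    exact bot_le
  push Not at hbot
  obtain ⟨i₀, hi₀⟩ := hbot
  obtain ⟨x₀, hx₀⟩ := WithBot.ne_bot_iff_exists.mp hi₀
  induction y with
  | bot => rw [WithBot.add_bot]; exact bot_le
  | coe y' =>
    induction D with
    | bot =>
      exfalso
      have := h i₀
      rw [le_bot_iff, WithBot.add_eq_bot] at this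
      rcases this with h1 | h1
      · exact hi₀ h1
      · exact WithBot.coe_ne_bot h1
    | coe D' =>
      have h0 : (x₀ + y' : ℕ∞) ≤ D' := by
        have := h i₀
        rw [← hx₀] at this
        exact_mod_cast this
      rcases eq_or_ne y' ⊤ with hy | hy
      · subst hy
        have : D' = ⊤ := by simpa using h0
        subst this
        exact le_top
      have hb : ∀ i, b i ≤ ((D' - y' : ℕ∞) : WithBot ℕ∞) := by
        intro i
        have hi := h i
        generalize b i = z at hi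
        induction z with
        | bot => exact bot_le
        | coe z =>
          have h2 : (z + y' : ℕ∞) ≤ D' := by exact_mod_cast hi
          exact WithBot.coe_le_coe.mpr (ENat.le_sub_of_add_le_right hy h2)
      have hyD : y' ≤ D' := le_trans le_add_self h0
      calc (⨆ i, b i) + (y' : WithBot ℕ∞)
          ≤ ((D' - y' : ℕ∞) : WithBot ℕ∞) + (y' : WithBot ℕ∞) := by
            gcongr
            exact iSup_le hb
        _ = ((D' - y' + y' : ℕ∞) : WithBot ℕ∞) := by norm_cast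
        _ = (D' : WithBot ℕ∞) := by rw [tsub_add_cancel_of_le hyD]

theorem iSup_add_iSup_le' {ι κ : Sort*} (a : ι → WithBot ℕ∞) (b : κ → WithBot ℕ∞) (D : WithBot ℕ∞)
    (h : ∀ i j, a i + b j ≤ D) : (⨆ i, a i) + (⨆ j, b j) ≤ D := by
  refine iSup_add_le' a _ D fun i => ?_
  rw [add_comm]
  refine iSup_add_le' b _ D fun j => ?_
  rw [add_comm]
  exact h i j

end order

section scheme

/-- Sections over the product of two affine opens. -/
theorem ringKrullDim_inf_preimage {X Y W : Scheme.{u}} (k : Type u) [Field k]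
    (f : X ⟶ Spec (.of k)) (g : Y ⟶ Spec (.of k)) [LocallyOfFiniteType f] [LocallyOfFiniteType g]
    (p : W ⟶ X) (q : W ⟶ Y) (hpb : IsPullback p q f g)
    {U : X.Opens} (hU : IsAffineOpen U) {V : Y.Opens} (hV : IsAffineOpen V) :
    IsAffineOpen (p ⁻¹ᵁ U ⊓ q ⁻¹ᵁ V) ∧
      ringKrullDim Γ(W, p ⁻¹ᵁ U ⊓ q ⁻¹ᵁ V) = ringKrullDim Γ(X, U) + ringKrullDim Γ(Y, V) := by
  have hS : IsAffineOpen (⊤ : (Spec (.of k)).Opens) := isAffineOpen_top _
  have hVS : V ≤ g ⁻¹ᵁ ⊤ := by simp
  have hUS : U ≤ f ⁻¹ᵁ ⊤ := by simp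
  have haff : IsAffineOpen (p ⁻¹ᵁ U ⊓ q ⁻¹ᵁ V) :=
    Groth.Agent.H49.FlatInf.isAffineOpen_inf_preimage hpb hS hV hU hVS hUS
  refine ⟨haff, ?_⟩
  have hpo : IsPushout (f.appLE ⊤ U hUS) (g.appLE ⊤ V hVS)
      (p.appLE U (p ⁻¹ᵁ U ⊓ q ⁻¹ᵁ V) inf_le_left)
      (q.appLE V (p ⁻¹ᵁ U ⊓ q ⁻¹ᵁ V) inf_le_right) := by
    have := isIso_pushoutSection_of_isAffineOpen hpb hVS hUS rfl hS hV hU
    exact (isIso_pushoutSection_iff hpb hVS hUS rfl).mp this
  let e₁ := Scheme.ΓSpecIso (CommRingCat.of k)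
  have hpo' : IsPushout (e₁.inv ≫ f.appLE ⊤ U hUS) (e₁.inv ≫ g.appLE ⊤ V hVS)
      (p.appLE U (p ⁻¹ᵁ U ⊓ q ⁻¹ᵁ V) inf_le_left)
      (q.appLE V (p ⁻¹ᵁ U ⊓ q ⁻¹ᵁ V) inf_le_right) := by
    refine IsPushout.of_iso hpo e₁ (Iso.refl _) (Iso.refl _) (Iso.refl _) ?_ ?_ ?_ ?_ <;> simp
  let _ : Algebra k Γ(X, U) := (e₁.inv ≫ f.appLE ⊤ U hUS).hom.toAlgebra
  let _ : Algebra k Γ(Y, V) := (e₁.inv ≫ g.appLE ⊤ V hVS).hom.toAlgebra
  let _ : Algebra Γ(X, U) Γ(W, p ⁻¹ᵁ U ⊓ q ⁻¹ᵁ V) :=
    (p.appLE U (p ⁻¹ᵁ U ⊓ q ⁻¹ᵁ V) inf_le_left).hom.toAlgebra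
  let _ : Algebra Γ(Y, V) Γ(W, p ⁻¹ᵁ U ⊓ q ⁻¹ᵁ V) :=
    (q.appLE V (p ⁻¹ᵁ U ⊓ q ⁻¹ᵁ V) inf_le_right).hom.toAlgebra
  let _ : Algebra k Γ(W, p ⁻¹ᵁ U ⊓ q ⁻¹ᵁ V) :=
    ((e₁.inv ≫ f.appLE ⊤ U hUS) ≫ (p.appLE U (p ⁻¹ᵁ U ⊓ q ⁻¹ᵁ V) inf_le_left)).hom.toAlgebra
  have t1 : IsScalarTower k Γ(X, U) Γ(W, p ⁻¹ᵁ U ⊓ q ⁻¹ᵁ V) :=
    IsScalarTower.of_algebraMap_eq fun r => rfl
  have t2 : IsScalarTower k Γ(Y, V) Γ(W, p ⁻¹ᵁ U ⊓ q ⁻¹ᵁ V) :=
    IsScalarTower.of_algebraMap_eq fun r => congr($(hpo'.w).hom r)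
  have hftX : Algebra.FiniteType k Γ(X, U) := by
    have hft : RingHom.FiniteType (f.appLE ⊤ U hUS).hom :=
      HasRingHomProperty.appLE @LocallyOfFiniteType f inferInstance ⟨⊤, isAffineOpen_top _⟩
        ⟨U, hU⟩ hUS
    have : RingHom.FiniteType (e₁.inv ≫ f.appLE ⊤ U hUS).hom := by
      rw [CommRingCat.hom_comp]
      refine hft.comp ?_
      exact RingHom.FiniteType.of_surjective _
        (ConcreteCategory.bijective_of_isIso e₁.inv).2
    exact this
  have hftY : Algebra.FiniteType k Γ(Y, V) := by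
    have hft : RingHom.FiniteType (g.appLE ⊤ V hVS).hom :=
      HasRingHomProperty.appLE @LocallyOfFiniteType g inferInstance ⟨⊤, isAffineOpen_top _⟩
        ⟨V, hV⟩ hVS
    have : RingHom.FiniteType (e₁.inv ≫ g.appLE ⊤ V hVS).hom := by
      rw [CommRingCat.hom_comp]
      refine hft.comp ?_
      exact RingHom.FiniteType.of_surjective _
        (ConcreteCategory.bijective_of_isIso e₁.inv).2
    exact this
  have hpo'' : Algebra.IsPushout k Γ(X, U) Γ(Y, V) Γ(W, p ⁻¹ᵁ U ⊓ q ⁻¹ᵁ V) :=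
    CommRingCat.isPushout_iff_isPushout.mp hpo'
  exact ringKrullDim_eq_add_of_isPushout k Γ(X, U) Γ(Y, V) Γ(W, p ⁻¹ᵁ U ⊓ q ⁻¹ᵁ V)

/-- **Dimension of a product** of schemes locally of finite type over a field. -/
theorem topologicalKrullDim_eq_add_of_isPullback {X Y W : Scheme.{u}} (k : Type u) [Field k]
    (f : X ⟶ Spec (.of k)) (g : Y ⟶ Spec (.of k)) [LocallyOfFiniteType f] [LocallyOfFiniteType g]
    (p : W ⟶ X) (q : W ⟶ Y) (hpb : IsPullback p q f g) :
    topologicalKrullDim W = topologicalKrullDim X + topologicalKrullDim Y := by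
  have hX : (⨆ U : X.affineOpens, (U : X.Opens)) = ⊤ := iSup_affineOpens_eq_top X
  have hY : (⨆ V : Y.affineOpens, (V : Y.Opens)) = ⊤ := iSup_affineOpens_eq_top Y
  have hW : (⨆ UV : X.affineOpens × Y.affineOpens,
      p ⁻¹ᵁ (UV.1 : X.Opens) ⊓ q ⁻¹ᵁ (UV.2 : Y.Opens)) = ⊤ := by
    rw [iSup_prod, eq_top_iff]
    intro w _
    have h1 : p w ∈ (⨆ U : X.affineOpens, (U : X.Opens)) := by rw [hX]; trivial
    have h2 : q w ∈ (⨆ V : Y.affineOpens, (V : Y.Opens)) := by rw [hY]; trivial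
    obtain ⟨U, hU⟩ := TopologicalSpace.Opens.mem_iSup.mp h1
    obtain ⟨V, hV⟩ := TopologicalSpace.Opens.mem_iSup.mp h2
    exact TopologicalSpace.Opens.mem_iSup.mpr ⟨U, TopologicalSpace.Opens.mem_iSup.mpr ⟨V, hU, hV⟩⟩
  have key : ∀ UV : X.affineOpens × Y.affineOpens,
      topologicalKrullDim ↥(p ⁻¹ᵁ (UV.1 : X.Opens) ⊓ q ⁻¹ᵁ (UV.2 : Y.Opens)) =
        topologicalKrullDim ↥(UV.1 : X.Opens) + topologicalKrullDim ↥(UV.2 : Y.Opens) := by
    intro UV
    obtain ⟨haff, hdim⟩ := ringKrullDim_inf_preimage k f g p q hpb UV.1.2 UV.2.2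
    rw [Groth.Agent.H49.FibreDimBC.topologicalKrullDim_affineOpen haff,
      Groth.Agent.H49.FibreDimBC.topologicalKrullDim_affineOpen UV.1.2,
      Groth.Agent.H49.FibreDimBC.topologicalKrullDim_affineOpen UV.2.2, hdim]
  rw [Groth.Agent.H49.FibreDimBC.topologicalKrullDim_eq_iSup_of_openCover W _ hW]
  refine le_antisymm (iSup_le fun UV => ?_) ?_
  · rw [key UV]
    exact add_le_add (topologicalKrullDim_subspace_le X _) (topologicalKrullDim_subspace_le Y _)
  · rw [Groth.Agent.H49.FibreDimBC.topologicalKrullDim_eq_iSup_of_openCover X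
        (fun U : X.affineOpens => (U : X.Opens)) hX,
      Groth.Agent.H49.FibreDimBC.topologicalKrullDim_eq_iSup_of_openCover Y
        (fun V : Y.affineOpens => (V : Y.Opens)) hY]
    refine iSup_add_iSup_le' _ _ _ fun U V => ?_
    rw [← key (U, V)]
    exact le_iSup (fun UV : X.affineOpens × Y.affineOpens =>
      topologicalKrullDim ↥(p ⁻¹ᵁ (UV.1 : X.Opens) ⊓ q ⁻¹ᵁ (UV.2 : Y.Opens))) (U, V)

end scheme

end Groth.Agent.H48.ProdDim
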