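import Mathlib
import Groth.Agent.H48.FieldDim2
import Groth.Agent.H48.CycPush
import Groth.Agent.H48.ProdDim
import Groth.Agent.H48.CycDim7

/-!
# Relative transcendence degree and fibre dimension for morphisms of schemes locally of finite
type over a field
-/

set_option autoImplicit false
set_option linter.unusedSectionVars false
set_option linter.style.haveILetI false
universe u

open AlgebraicGeometry CategoryTheory CategoryTheory.Limits TopologicalSpace Opposite

namespace Groth.Agent.H48.RelDelta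

open Groth.Agent.H48.DimFunSch Groth.Agent.H48.FieldDim Groth.Agent.H48.FieldDim2
  Groth.Agent.H48.CycDim6 Groth.Agent.H48.CycFib

section Trdeg

variable {X Y Z : Scheme.{u}} (f : X ⟶ Y) (g : Y ⟶ Z)

/-- Additivity of the transcendence degree of residue field extensions. -/
theorem trdeg_residueField_comp (x : X) :
    (letI : Algebra (Z.residueField (g (f x))) (X.residueField x) :=
       ((f ≫ g).residueFieldMap x).hom.toAlgebra
     Algebra.trdeg (Z.residueField (g (f x))) (X.residueField x)) =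
    (letI := (g.residueFieldMap (f x)).hom.toAlgebra
     Algebra.trdeg (Z.residueField (g (f x))) (Y.residueField (f x))) +
    (letI := (f.residueFieldMap x).hom.toAlgebra
     Algebra.trdeg (Y.residueField (f x)) (X.residueField x)) := by
  letI a1 : Algebra (Z.residueField (g (f x))) (Y.residueField (f x)) :=
    (g.residueFieldMap (f x)).hom.toAlgebra
  letI a2 : Algebra (Y.residueField (f x)) (X.residueField x) :=
    (f.residueFieldMap x).hom.toAlgebra
  letI a3 : Algebra (Z.residueField (g (f x))) (X.residueField x) :=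
    ((f ≫ g).residueFieldMap x).hom.toAlgebra
  haveI : IsScalarTower (Z.residueField (g (f x))) (Y.residueField (f x)) (X.residueField x) := by
    refine IsScalarTower.of_algebraMap_eq fun a => ?_
    change ((f ≫ g).residueFieldMap x).hom a = _
    rw [Scheme.residueFieldMap_comp]
    rfl
  exact (trdeg_add_eq (Z.residueField (g (f x))) (Y.residueField (f x))
    (A := X.residueField x)).symm

end Trdeg

section Delta

variable {k : Type u} [Field k] {X Y : Scheme.{u}} (q : Y ⟶ Spec (CommRingCat.of k))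
  [LocallyOfFiniteType q] (f : X ⟶ Y) [LocallyOfFiniteType f]

/-- `δ_X = δ_Y ∘ f + trdeg`. -/
theorem deltaCompat_comp : Cyc.DeltaCompat f (FieldDim.δ (f ≫ q)) (FieldDim.δ q) := by
  intro x
  obtain ⟨n, hn⟩ := Groth.Agent.H48.DimIneqSch2.exists_trdeg_eq_nat f x
  obtain ⟨m, hm⟩ := Groth.Agent.H48.DimIneqSch2.exists_trdeg_eq_nat q (f x)
  refine ⟨n, hn, ?_⟩
  have h := trdeg_residueField_comp f q x
  rw [hm, hn] at h
  have h2 := congrArg Cardinal.toNat h
  rw [← Nat.cast_add, Cardinal.toNat_natCast] at h2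
  simp only [FieldDim.δ]
  rw [hm, Cardinal.toNat_natCast]
  have h3 : (((m + n : ℕ) : ℤ)) = (m : ℤ) + (n : ℤ) := by push_cast; ring
  rw [← h3]
  exact congrArg (fun t : ℕ => (t : ℤ)) h2

end Delta

section Fibre

variable {X Y : Scheme.{u}} (f : X ⟶ Y) [LocallyOfFiniteType f] (δX : X → ℤ) (δY : Y → ℤ)
  (hδX : Cyc.IsDimFun X δX) (hδ : Cyc.DeltaCompat f δX δY)

include hδX hδ in
/-- The dimension of a fibre as a supremum of relative transcendence degrees. -/
theorem topologicalKrullDim_fiber (y : Y) :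
    topologicalKrullDim (f.fiber y) =
      ⨆ t : f.fiber y, ((((δX (f.fiberι y t)) - δY y).toNat : ℕ∞) : WithBot ℕ∞) := by
  have hdF := isDimFun_fiber f δX hδX y (δY y)
  have h0 : ∀ t : f.fiber y, IsClosed ({t} : Set (f.fiber y)) →
      δX (f.fiberι y t) - δY y = 0 := by
    intro t ht
    have hz := map_fiberι f y t
    obtain ⟨n, hn, hδn⟩ := hδ (f.fiberι y t)
    have h0 := trdeg_eq_zero_of_isClosed f y (f.fiberι y t) hz t rfl ht
    rw [hn] at h0
    have hn0 : n = 0 := by exact_mod_cast h0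
    rw [hδn, hz, hn0]
    simp
  have h := topologicalKrullDim_of_isLocallyClosed (f.fiber y)
    (fun t => δX (f.fiberι y t) - δY y) hdF h0 Set.univ isClosed_univ.isLocallyClosed
  rw [(Homeomorph.Set.univ (f.fiber y)).isHomeomorph.topologicalKrullDim_eq] at h
  rw [h]
  apply le_antisymm
  · exact iSup_le fun t => le_iSup (fun t : f.fiber y =>
      ((((δX (f.fiberι y t)) - δY y).toNat : ℕ∞) : WithBot ℕ∞)) t.1
  · exact iSup_le fun t => le_iSup (fun t : (Set.univ : Set (f.fiber y)) =>
      ((((δX (f.fiberι y t.1)) - δY y).toNat : ℕ∞) : WithBot ℕ∞)) ⟨t, trivial⟩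

include hδX hδ in
/-- The dimension of the set-theoretic fibre. -/
theorem topologicalKrullDim_preimage_singleton (y : Y) :
    topologicalKrullDim ↥(f ⁻¹' {y}) =
      ⨆ t : f.fiber y, ((((δX (f.fiberι y t)) - δY y).toNat : ℕ∞) : WithBot ℕ∞) := by
  rw [← topologicalKrullDim_fiber f δX δY hδX hδ y]
  exact (IsHomeomorph.topologicalKrullDim_eq _ (f.fiberHomeo y).isHomeomorph).symm

theorem exists_le_of_le_iSup {ι : Type*} (a : ι → ℕ) (r : ℕ)
    (h : (r : WithBot ℕ∞) ≤ ⨆ i, (((a i : ℕ) : ℕ∞) : WithBot ℕ∞)) : ∃ i, r ≤ a i := by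
  by_contra hcon
  push Not at hcon
  rcases isEmpty_or_nonempty ι with hι | hι
  · rw [iSup_of_empty] at h
    exact absurd h (by simp)
  · have hr : 1 ≤ r := by
      obtain ⟨i⟩ := hι
      have := hcon i
      omega
    have hle : (⨆ i, (((a i : ℕ) : ℕ∞) : WithBot ℕ∞)) ≤ (((r - 1 : ℕ) : ℕ∞) : WithBot ℕ∞) := by
      refine iSup_le fun i => ?_
      have := hcon i
      have h2 : a i ≤ r - 1 := by omega
      exact_mod_cast h2
    have h3 := le_trans h hle
    have h4 : r ≤ r - 1 := by exact_mod_cast h3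
    omega

end Fibre

section Main

variable {k : Type u} [Field k] {X Y : Scheme.{u}} (q : Y ⟶ Spec (CommRingCat.of k))
  [LocallyOfFiniteType q] (f : X ⟶ Y) [LocallyOfFiniteType f]

include q in
/-- Statement S10885 (without quasi-compactness). -/
theorem add_le_topologicalKrullDim (r : ℕ)
    (hfib : ∀ η : Y, (∀ y : Y, y ⤳ η → y = η) →
      (r : WithBot ℕ∞) ≤ topologicalKrullDim ↥(f ⁻¹' {η})) :
    (r : WithBot ℕ∞) + topologicalKrullDim Y ≤ topologicalKrullDim X := by
  have hδX := isDimFun (f ≫ q)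
  have hδ := deltaCompat_comp q f
  rw [add_comm, topologicalKrullDim_eq_iSup q]
  refine Groth.Agent.H48.ProdDim.iSup_add_le' _ _ _ fun y => ?_
  obtain ⟨η, hηmax, hηy⟩ := Groth.Agent.H48.CycDim7.exists_isGen_specializes y
  have h1 := hfib η hηmax
  rw [topologicalKrullDim_preimage_singleton f (FieldDim.δ (f ≫ q)) (FieldDim.δ q) hδX hδ η] at h1
  obtain ⟨t, ht⟩ := exists_le_of_le_iSup _ r h1
  have ht' : r ≤ (FieldDim.δ (f ≫ q) (f.fiberι η t) - FieldDim.δ q η).toNat := ht
  have hx := delta_le_topologicalKrullDim (f ≫ q) (f.fiberι η t)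
  refine le_trans ?_ hx
  have hmono : FieldDim.δ q y ≤ FieldDim.δ q η := by
    haveI : JacobsonSpace Y := LocallyOfFiniteType.jacobsonSpace q
    exact delta_mono Y (FieldDim.δ q) (isDimFun q) hηy
  have hnn := FieldDim.delta_nonneg q y
  obtain ⟨n, -, hn⟩ := hδ (f.fiberι η t)
  rw [map_fiberι f η t] at hn
  have h2 : (FieldDim.δ q y).toNat + r ≤ (FieldDim.δ (f ≫ q) (f.fiberι η t)).toNat := by
    omega
  exact_mod_cast h2

end Main

end Groth.Agent.H48.RelDelta
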