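import Groth.Agent.H48.TensorNormal3

set_option autoImplicit false
set_option linter.style.haveILetI false
set_option linter.unusedVariables false
universe u
open TensorProduct EGA4

namespace Groth.Agent.H48.TensorNormal

section Main

variable (k : Type u) [Field k] (A B : Type u) [CommRing A] [CommRing B] [Algebra k A] [Algebra k B]

/-- the separably closed case -/
theorem isNormalRing_tensor_of_isSepClosed [IsSepClosed k]
    (hA : ∀ (K : Type u) [Field K] [Algebra k K], IsNormalRing (K ⊗[k] A)) (hB : IsNormalRing B) :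
    IsNormalRing (A ⊗[k] B) := by
  have hAn : IsNormalRing A :=
    Groth.Agent.H47.isNormalRing_of_ringEquiv (Algebra.TensorProduct.lid k A).toRingEquiv (hA k)
  apply isNormalRing_tensor_of_localization_left
  intro p hp
  apply isNormalRing_tensor_of_localization_right
  intro q hq
  obtain ⟨hdA, hicA⟩ := hAn p
  obtain ⟨hdB, hicB⟩ := hB q
  haveI := hdA
  haveI := hdB
  haveI := hicA
  haveI := hicB
  obtain ⟨hd, hic⟩ := core k (Localization.AtPrime p) (Localization.AtPrime q)
    (strong_localization k A hA p) (Groth.Agent.H47.SN.isNormalRing_of_isIntegrallyClosed _)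
  haveI := hd
  haveI := hic
  exact Groth.Agent.H47.SN.isNormalRing_of_isIntegrallyClosed _

/-- descent from a separably closed separable extension -/
theorem isNormalRing_tensor_aux (ks : Type u) [Field ks] [Algebra k ks] [IsSepClosed ks]
    [Algebra.IsSeparable k ks] (hA : IsGeomNormal k A) (hB : IsNormalRing B) :
    IsNormalRing (A ⊗[k] B) := by
  have hA' : IsGeomNormal ks (ks ⊗[k] A) :=
    (Groth.Agent.H14.GeomBC.isGeomNormal_iff_baseChange k A ks).mp hA
  have hAs : ∀ (K : Type u) [Field K] [Algebra ks K], IsNormalRing (K ⊗[ks] (ks ⊗[k] A)) :=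
    fun K _ _ => Groth.Agent.H48.GeomNormal.isNormalRing_of_purelyInseparable
      (fun k' _ _ hfin _ => hA' k' hfin) K
  haveI : Algebra.IsGeometricallyReduced k ks := by
    rw [Algebra.isGeometricallyReduced_field_iff]
    haveI : IsReduced (ks ⊗[k] AlgebraicClosure k) :=
      Groth.Agent.H48.GeomRed.isReduced_tensor_of_separable ks
    exact isReduced_of_injective (Algebra.TensorProduct.comm k (AlgebraicClosure k) ks)
      (Algebra.TensorProduct.comm k (AlgebraicClosure k) ks).injective
  have hB' : IsNormalRing (ks ⊗[k] B) :=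
    Groth.Agent.H47.NSE.isNormalRing_tensor_of_isGeometricallyReduced k ks B hB
  have h1 : IsNormalRing ((ks ⊗[k] A) ⊗[ks] (ks ⊗[k] B)) :=
    isNormalRing_tensor_of_isSepClosed ks _ _ hAs hB'
  have e1 := (Algebra.TensorProduct.cancelBaseChange k ks ks (ks ⊗[k] A) B).toRingEquiv
  have e2 := (Algebra.TensorProduct.assoc k k k ks A B).toRingEquiv
  have e3 := (Algebra.TensorProduct.comm k ks (A ⊗[k] B)).toRingEquiv
  have h2 : IsNormalRing ((A ⊗[k] B) ⊗[k] ks) :=
    Groth.Agent.H47.isNormalRing_of_ringEquiv ((e1.trans e2).trans e3) h1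
  exact Groth.Agent.H47.SN.isNormalRing_of_faithfullyFlat (A ⊗[k] B) ((A ⊗[k] B) ⊗[k] ks) h2

/-- **Main theorem**: geometrically normal ⊗ normal is normal. -/
theorem isNormalRing_tensor (hA : IsGeomNormal k A) (hB : IsNormalRing B) :
    IsNormalRing (A ⊗[k] B) :=
  isNormalRing_tensor_aux k A B (SeparableClosure k) hA hB

end Main

end Groth.Agent.H48.TensorNormal
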