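import Mathlib

set_option autoImplicit false
universe u v

namespace Groth.Agent.H48

open Submodule

section Complete

variable {R : Type u} [CommRing R] (I : Ideal R) (M : Type v) [AddCommGroup M] [Module R M]

theorem ker_eval_anti {m n : ℕ} (hmn : m ≤ n) :
    LinearMap.ker (AdicCompletion.eval I M n) ≤ LinearMap.ker (AdicCompletion.eval I M m) := by
  intro x hx
  rw [LinearMap.mem_ker, AdicCompletion.eval_apply] at hx ⊢
  rw [← x.property hmn, hx, map_zero]

theorem of_mem_pow_smul_top {n : ℕ} {m : M} (hm : m ∈ (I ^ n • ⊤ : Submodule R M)) :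
    AdicCompletion.of I M m ∈ (I ^ n • ⊤ : Submodule R (AdicCompletion I M)) := by
  have : Submodule.map (AdicCompletion.of I M) (I ^ n • ⊤ : Submodule R M) ≤ I ^ n • ⊤ := by
    rw [Submodule.map_smul'']
    exact smul_mono_right _ le_top
  exact this ⟨m, hm, rfl⟩

theorem exists_sub_mem_ker_eval_succ {n : ℕ} (x : AdicCompletion I M)
    (hx : x ∈ LinearMap.ker (AdicCompletion.eval I M n)) :
    ∃ w : AdicCompletion I M, x - w ∈ (I ^ n • ⊤ : Submodule R (AdicCompletion I M)) ∧
      w ∈ LinearMap.ker (AdicCompletion.eval I M (n + 1)) := by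
  obtain ⟨m₀, hm₀⟩ := Submodule.Quotient.mk_surjective _ (x.val (n + 1))
  have h1 : m₀ ∈ (I ^ n • ⊤ : Submodule R M) := by
    rw [LinearMap.mem_ker, AdicCompletion.eval_apply] at hx
    have := x.property (Nat.le_succ n)
    rw [hx, ← hm₀] at this
    rw [← Submodule.Quotient.mk_eq_zero]
    simpa using this
  refine ⟨x - AdicCompletion.of I M m₀, ?_, ?_⟩
  · rw [sub_sub_cancel]
    exact of_mem_pow_smul_top I M h1
  · rw [LinearMap.mem_ker, map_sub, AdicCompletion.eval_apply, AdicCompletion.eval_of, ← hm₀]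
    simp

theorem ker_eval_le_of_isPrecomplete [IsPrecomplete I (AdicCompletion I M)] (n : ℕ) :
    LinearMap.ker (AdicCompletion.eval I M n) ≤ (I ^ n • ⊤ : Submodule R (AdicCompletion I M)) := by
  intro x hx
  have hA : ∀ (k : ℕ) (z : AdicCompletion I M), ∃ w : AdicCompletion I M,
      z ∈ LinearMap.ker (AdicCompletion.eval I M k) →
      (z - w ∈ (I ^ k • ⊤ : Submodule R (AdicCompletion I M)) ∧
        w ∈ LinearMap.ker (AdicCompletion.eval I M (k + 1))) := by
    intro k z
    by_cases hz : z ∈ LinearMap.ker (AdicCompletion.eval I M k)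
    · obtain ⟨w, hw⟩ := exists_sub_mem_ker_eval_succ I M z hz
      exact ⟨w, fun _ => hw⟩
    · exact ⟨0, fun h => absurd h hz⟩
  choose F hF using hA
  let xs : ℕ → AdicCompletion I M := fun j => Nat.rec x (fun j z => F (n + j) z) j
  have hxs0 : xs 0 = x := rfl
  have hxsS : ∀ j, xs (j + 1) = F (n + j) (xs j) := fun j => rfl
  have hker : ∀ j, xs j ∈ LinearMap.ker (AdicCompletion.eval I M (n + j)) := by
    intro j
    induction j with
    | zero => exact hx
    | succ j ih => rw [hxsS]; exact (hF (n + j) (xs j) ih).2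
  have hdiff : ∀ j, xs j - xs (j + 1) ∈ (I ^ (n + j) • ⊤ : Submodule R (AdicCompletion I M)) := by
    intro j
    rw [hxsS]
    exact (hF (n + j) (xs j) (hker j)).1
  have hle : ∀ j, (I ^ (n + j) • ⊤ : Submodule R (AdicCompletion I M)) ≤ I ^ n • ⊤ := fun j =>
    Submodule.smul_mono_left (Ideal.pow_le_pow_right (by omega))
  have hle' : ∀ j, (I ^ (n + j) • ⊤ : Submodule R (AdicCompletion I M)) ≤ I ^ j • ⊤ := fun j =>
    Submodule.smul_mono_left (Ideal.pow_le_pow_right (by omega))
  have hg : ∀ j, x - xs j ∈ (I ^ n • ⊤ : Submodule R (AdicCompletion I M)) := by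
    intro j
    induction j with
    | zero => rw [hxs0, sub_self]; exact Submodule.zero_mem _
    | succ j ih =>
      have : x - xs (j + 1) = (x - xs j) + (xs j - xs (j + 1)) := by abel
      rw [this]
      exact Submodule.add_mem _ ih (hle j (hdiff j))
  -- Cauchy
  have hcauchy : ∀ {m k : ℕ}, m ≤ k →
      (x - xs m) ≡ (x - xs k) [SMOD (I ^ m • ⊤ : Submodule R (AdicCompletion I M))] := by
    have : AdicCompletion.IsAdicCauchy I (AdicCompletion I M) (fun j => x - xs j) :=
        (AdicCompletion.isAdicCauchy_iff I (AdicCompletion I M) (fun j => x - xs j)).mpr (by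
      intro j
      rw [SModEq.sub_mem]
      have : (x - xs j) - (x - xs (j + 1)) = -(xs j - xs (j + 1)) := by abel
      rw [this]
      exact Submodule.neg_mem _ (hle' j (hdiff j)))
    intro m k hmk
    exact this hmk
  obtain ⟨L, hL⟩ := IsPrecomplete.prec ‹_› hcauchy
  have hxL : x = L := by
    apply AdicCompletion.ext
    intro j
    have h1 : x - L ∈ LinearMap.ker (AdicCompletion.eval I M j) := by
      have : x - L = xs j + ((x - xs j) - L) := by abel
      rw [this]
      refine Submodule.add_mem _ (ker_eval_anti I M (by omega) (hker j)) ?_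
      apply AdicCompletion.pow_smul_top_le_ker_eval
      rw [← SModEq.sub_mem]
      exact hL j
    rw [LinearMap.mem_ker, map_sub, sub_eq_zero] at h1
    exact h1
  rw [hxL]
  have h2 := hL n
  rw [SModEq.sub_mem] at h2
  have : L = (x - xs n) - ((x - xs n) - L) := by abel
  rw [this]
  exact Submodule.sub_mem _ (hg n) h2

end Complete

section Complete2

variable {R : Type u} [CommRing R] (I : Ideal R) (M : Type v) [AddCommGroup M] [Module R M]

theorem isPrecomplete_adicCompletion_of_ker_eval_le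
    (h : ∀ n : ℕ, LinearMap.ker (AdicCompletion.eval I M n) ≤ (I ^ n • ⊤ : Submodule R (AdicCompletion I M))) :
    IsPrecomplete I (AdicCompletion I M) := by
  refine ⟨fun {f} hf => ?_⟩
  have hcompat : ∀ {m n : ℕ} (hmn : m ≤ n), (f m).val m = (f n).val m := by
    intro m n hmn
    have h1 := hf hmn
    rw [SModEq.sub_mem] at h1
    have h2 := AdicCompletion.pow_smul_top_le_ker_eval (I := I) (M := M) m h1
    rw [LinearMap.mem_ker, map_sub, sub_eq_zero] at h2
    exact h2
  let L : AdicCompletion I M := ⟨fun n => (f n).val n, by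
    intro m n hmn
    show AdicCompletion.transitionMap I M hmn ((f n).val n) = (f m).val m
    rw [(f n).property hmn, hcompat hmn]⟩
  refine ⟨L, fun n => ?_⟩
  rw [SModEq.sub_mem]
  apply h n
  rw [LinearMap.mem_ker, map_sub, sub_eq_zero]
  rfl

end Complete2

section UnitsCompletion

variable {R : Type u} [CommRing R] (I : Ideal R)

theorem evalOne_mk (a : AdicCompletion.AdicCauchySequence I R) :
    AdicCompletion.evalOneₐ I (AdicCompletion.mk I R a) = Ideal.Quotient.mk I (a 1) := by
  rw [← AdicCompletion.factorₐ_evalₐ_one, AdicCompletion.evalₐ_mk]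
  rfl

theorem isUnit_adicCompletion_of_isUnit_evalOne (x : AdicCompletion I R)
    (hx : IsUnit (AdicCompletion.evalOneₐ I x)) : IsUnit x := by
  induction x using AdicCompletion.induction_on with | h a => ?_
  rw [evalOne_mk] at hx
  -- units at each level
  have hunit : ∀ n : ℕ, ∃ b : R, a n * b - 1 ∈ I ^ n := by
    intro n
    rcases Nat.eq_zero_or_pos n with rfl | hn
    · exact ⟨0, by simp⟩
    · have h1 : Ideal.Quotient.mk I (a n) = Ideal.Quotient.mk I (a 1) := by
        have := a.property hn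
        rw [SModEq.sub_mem] at this
        rw [eq_comm, Ideal.Quotient.eq]
        have hle : (I ^ 1 • ⊤ : Submodule R R) ≤ I := by simp
        exact hle this
      have h2 : IsUnit (Ideal.Quotient.mk (I ^ n) (a n)) := by
        rw [Ideal.Quotient.isUnit_mk_pow_iff_isUnit_mk I (Nat.pos_iff_ne_zero.mp hn), h1]
        exact hx
      obtain ⟨c, hc⟩ := h2.exists_right_inv
      obtain ⟨b, rfl⟩ := Ideal.Quotient.mk_surjective c
      refine ⟨b, ?_⟩
      rw [← map_mul, ← map_one (Ideal.Quotient.mk (I ^ n)), Ideal.Quotient.eq] at hc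
      exact hc
  choose b hb using hunit
  have hcauchy : ∀ n, b n ≡ b (n + 1) [SMOD (I ^ n • ⊤ : Submodule R R)] := by
    intro n
    rw [SModEq.sub_mem]
    have htop : (I ^ n • ⊤ : Submodule R R) = I ^ n := by simp
    rw [htop]
    have h1 : a n - a (n + 1) ∈ I ^ n := by
      have := a.property (Nat.le_succ n)
      rw [SModEq.sub_mem, htop] at this
      exact this
    have h2 : a (n + 1) * b (n + 1) - 1 ∈ I ^ n := Ideal.pow_le_pow_right (Nat.le_succ n) (hb (n + 1))
    have e : b n - b (n + 1) = b n * (a (n + 1) * b (n + 1) - 1) * (-1) + b (n + 1) * (a n * b n - 1)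
        + b n * b (n + 1) * (-1) * (a n - a (n + 1)) := by ring
    rw [e]
    refine Ideal.add_mem _ (Ideal.add_mem _ ?_ ?_) ?_
    · exact Ideal.mul_mem_right _ _ (Ideal.mul_mem_left _ _ h2)
    · exact Ideal.mul_mem_left _ _ (hb n)
    · exact Ideal.mul_mem_left _ _ h1
  let bs : AdicCompletion.AdicCauchySequence I R := AdicCompletion.AdicCauchySequence.mk I R b hcauchy
  apply IsUnit.of_mul_eq_one (AdicCompletion.mk I R bs)
  apply AdicCompletion.ext_evalₐ
  intro n
  rw [map_mul, AdicCompletion.evalₐ_mk, AdicCompletion.evalₐ_mk, map_one, ← map_mul,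
    ← map_one (Ideal.Quotient.mk (I ^ n)), Ideal.Quotient.eq]
  exact hb n

end UnitsCompletion

section PrecompleteSup

variable {R : Type u} [CommRing R]

theorem sup_pow_add_le (I J : Ideal R) (m n : ℕ) : (I ⊔ J) ^ (m + n) ≤ I ^ m ⊔ J ^ n := by
  induction m generalizing n with
  | zero => simp
  | succ m ihm =>
    induction n with
    | zero => simp
    | succ n ihn =>
      have e : (I ⊔ J) ^ (m + 1 + (n + 1)) = I * (I ⊔ J) ^ (m + (n + 1)) ⊔ J * (I ⊔ J) ^ (m + 1 + n) := by
        rw [show m + 1 + (n + 1) = (m + (n + 1)) + 1 by ring, pow_succ', Ideal.sup_mul]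
        congr 2
        rw [show m + 1 + n = m + (n + 1) by ring]
      rw [e]
      have h1 : I * (I ⊔ J) ^ (m + (n + 1)) ≤ I ^ (m + 1) ⊔ J ^ (n + 1) := by
        refine le_trans (Ideal.mul_mono_right (ihm (n + 1))) ?_
        rw [Ideal.mul_sup]
        refine sup_le ?_ ?_
        · rw [pow_succ' I m]; exact le_sup_left
        · exact le_trans (Ideal.mul_le_right (I := I) (J := J ^ (n + 1))) le_sup_right
      have h2 : J * (I ⊔ J) ^ (m + 1 + n) ≤ I ^ (m + 1) ⊔ J ^ (n + 1) := by
        refine le_trans (Ideal.mul_mono_right ihn) ?_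
        rw [Ideal.mul_sup]
        refine sup_le ?_ ?_
        · exact le_trans (Ideal.mul_le_right (I := J) (J := I ^ (m + 1))) le_sup_left
        · rw [pow_succ' J n]; exact le_sup_right
      exact sup_le h1 h2

variable (M : Type v) [AddCommGroup M] [Module R M]

theorem isPrecomplete_sup (I J : Ideal R) [hI : IsPrecomplete I M] [hJ : IsPrecomplete J M] :
    IsPrecomplete (I ⊔ J) M := by
  refine ⟨fun {f} hf => ?_⟩
  have hdec : ∀ n : ℕ, ∃ u ∈ (I ^ n • ⊤ : Submodule R M), ∃ v ∈ (J ^ n • ⊤ : Submodule R M),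
      u + v = f (2 * (n + 1)) - f (2 * n) := by
    intro n
    have h1 := hf (show 2 * n ≤ 2 * (n + 1) by omega)
    rw [SModEq.sub_mem] at h1
    have h2 : ((I ⊔ J) ^ (2 * n) • ⊤ : Submodule R M) ≤ I ^ n • ⊤ ⊔ J ^ n • ⊤ := by
      rw [← Submodule.sup_smul, two_mul]
      exact Submodule.smul_mono_left (sup_pow_add_le I J n n)
    have h3 : f (2 * (n + 1)) - f (2 * n) ∈ (I ^ n • ⊤ ⊔ J ^ n • ⊤ : Submodule R M) := by
      rw [← neg_sub]
      exact Submodule.neg_mem _ (h2 h1)
    exact Submodule.mem_sup.mp h3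
  choose u hu v hv huv using hdec
  let U : ℕ → M := fun N => ∑ k ∈ Finset.range N, u k
  let V : ℕ → M := fun N => ∑ k ∈ Finset.range N, v k
  have hUc : AdicCompletion.IsAdicCauchy I M U := by
    rw [AdicCompletion.isAdicCauchy_iff]
    intro n
    rw [SModEq.sub_mem]
    show (∑ k ∈ Finset.range n, u k) - (∑ k ∈ Finset.range (n + 1), u k) ∈ _
    rw [Finset.sum_range_succ, sub_add_cancel_left]
    exact Submodule.neg_mem _ (hu n)
  have hVc : AdicCompletion.IsAdicCauchy J M V := by
    rw [AdicCompletion.isAdicCauchy_iff]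
    intro n
    rw [SModEq.sub_mem]
    show (∑ k ∈ Finset.range n, v k) - (∑ k ∈ Finset.range (n + 1), v k) ∈ _
    rw [Finset.sum_range_succ, sub_add_cancel_left]
    exact Submodule.neg_mem _ (hv n)
  obtain ⟨LU, hLU⟩ := IsPrecomplete.prec hI (fun {m n} hmn => hUc hmn)
  obtain ⟨LV, hLV⟩ := IsPrecomplete.prec hJ (fun {m n} hmn => hVc hmn)
  have hf2 : ∀ N, f (2 * N) = f 0 + U N + V N := by
    intro N
    induction N with
    | zero => simp [U, V]
    | succ N ih =>
      have := huv N
      have e : f (2 * (N + 1)) = f (2 * N) + (u N + v N) := by rw [this]; abel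
      rw [e, ih]
      show _ = f 0 + (∑ k ∈ Finset.range (N + 1), u k) + (∑ k ∈ Finset.range (N + 1), v k)
      rw [Finset.sum_range_succ, Finset.sum_range_succ]
      show f 0 + (∑ k ∈ Finset.range N, u k) + (∑ k ∈ Finset.range N, v k) + (u N + v N) = _
      abel
  refine ⟨f 0 + LU + LV, fun n => ?_⟩
  have h1 : f n ≡ f (2 * n) [SMOD ((I ⊔ J) ^ n • ⊤ : Submodule R M)] := hf (by omega)
  refine h1.trans ?_
  rw [SModEq.sub_mem, hf2 n]
  have e : f 0 + U n + V n - (f 0 + LU + LV) = (U n - LU) + (V n - LV) := by abel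
  rw [e]
  have hIle : (I ^ n • ⊤ : Submodule R M) ≤ (I ⊔ J) ^ n • ⊤ :=
    Submodule.smul_mono_left (Ideal.pow_right_mono le_sup_left n)
  have hJle : (J ^ n • ⊤ : Submodule R M) ≤ (I ⊔ J) ^ n • ⊤ :=
    Submodule.smul_mono_left (Ideal.pow_right_mono le_sup_right n)
  refine Submodule.add_mem _ (hIle ?_) (hJle ?_)
  · rw [← SModEq.sub_mem]; exact hLU n
  · rw [← SModEq.sub_mem]; exact hLV n

theorem isPrecomplete_span_finset (s : Finset R)
    (h : ∀ a ∈ s, IsPrecomplete (Ideal.span {a}) M) : IsPrecomplete (Ideal.span (s : Set R)) M := by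
  classical
  induction s using Finset.induction_on with
  | empty =>
    simp only [Finset.coe_empty, Ideal.span_empty]
    infer_instance
  | insert a s _ ih =>
    rw [Finset.coe_insert, Ideal.span_insert]
    have := h a (Finset.mem_insert_self a s)
    have := ih (fun b hb => h b (Finset.mem_insert_of_mem hb))
    exact isPrecomplete_sup M _ _

end PrecompleteSup

section CompleteEquiv

variable {R : Type u} [CommRing R] (M : Type v) [AddCommGroup M] [Module R M]

theorem isAdicComplete_of_pow_le (I J : Ideal R) (c d : ℕ) (hc : 0 < c) (hd : 0 < d)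
    (hI : I ^ c ≤ J) (hJ : J ^ d ≤ I) [h : IsAdicComplete I M] : IsAdicComplete J M := by
  have hJI : ∀ n : ℕ, (J ^ (d * n) • ⊤ : Submodule R M) ≤ I ^ n • ⊤ := by
    intro n
    rw [pow_mul]
    exact Submodule.smul_mono_left (Ideal.pow_right_mono hJ n)
  have hIJ : ∀ n : ℕ, (I ^ (c * n) • ⊤ : Submodule R M) ≤ J ^ n • ⊤ := by
    intro n
    rw [pow_mul]
    exact Submodule.smul_mono_left (Ideal.pow_right_mono hI n)
  have hH : IsHausdorff J M := by
    refine ⟨fun x hx => ?_⟩
    apply h.toIsHausdorff.haus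
    intro n
    rw [SModEq.zero]
    apply hJI n
    rw [← SModEq.zero]
    exact hx (d * n)
  have hP : IsPrecomplete J M := by
    refine ⟨fun {f} hf => ?_⟩
    have hg : ∀ {m n : ℕ}, m ≤ n → f (d * m) ≡ f (d * n) [SMOD (I ^ m • ⊤ : Submodule R M)] := by
      intro m n hmn
      have := hf (Nat.mul_le_mul_left d hmn)
      rw [SModEq.sub_mem] at this ⊢
      exact hJI m this
    obtain ⟨L, hL⟩ := h.toIsPrecomplete.prec hg
    refine ⟨L, fun n => ?_⟩
    have h1 : f n ≡ f (d * (c * n)) [SMOD (J ^ n • ⊤ : Submodule R M)] := by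
      apply hf
      calc n = 1 * (1 * n) := by ring
        _ ≤ d * (c * n) := Nat.mul_le_mul hd (Nat.mul_le_mul_right n hc)
    refine h1.trans ?_
    have h2 := hL (c * n)
    rw [SModEq.sub_mem] at h2 ⊢
    exact hIJ n h2
  exact { toIsHausdorff := hH, toIsPrecomplete := hP }

end CompleteEquiv

end Groth.Agent.H48
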