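import Mathlib

set_option autoImplicit false
universe u v

namespace Groth.Agent.H48

open Submodule

section AdicExact

variable {R : Type u} [CommRing R] (I : Ideal R)

theorem adicMk_eq_zero_iff {M : Type v} [AddCommGroup M] [Module R M] (a : AdicCompletion.AdicCauchySequence I M) :
    AdicCompletion.mk I M a = 0 ↔ ∀ n, a n ∈ (I ^ n • ⊤ : Submodule R M) := by
  constructor
  · intro h n
    have := congrArg (fun x => x.val n) h
    simpa using this
  · intro h
    ext n
    simpa using h n

theorem adicMk_eq_iff {M : Type v} [AddCommGroup M] [Module R M] (a b : AdicCompletion.AdicCauchySequence I M) :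
    AdicCompletion.mk I M a = AdicCompletion.mk I M b ↔ ∀ n, a n - b n ∈ (I ^ n • ⊤ : Submodule R M) := by
  rw [← sub_eq_zero, ← map_sub, adicMk_eq_zero_iff]
  rfl

variable {K M N : Type u} [AddCommGroup K] [Module R K] [AddCommGroup M] [Module R M]
  [AddCommGroup N] [Module R N] (i : K →ₗ[R] M) (g : M →ₗ[R] N)

theorem adicMap_injective_of_strict (k : ℕ)
    (hk : ∀ (n : ℕ) (x : K), i x ∈ (I ^ (n + k) • ⊤ : Submodule R M) → x ∈ (I ^ n • ⊤ : Submodule R K)) :
    Function.Injective (AdicCompletion.map I i) := by
  rw [injective_iff_map_eq_zero]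
  intro x
  induction x using AdicCompletion.induction_on with | h a => ?_
  intro hx
  rw [AdicCompletion.map_mk, adicMk_eq_zero_iff] at hx
  rw [adicMk_eq_zero_iff]
  intro n
  have h1 : a (n + k) ∈ (I ^ n • ⊤ : Submodule R K) := hk n _ (hx (n + k))
  have h2 := a.property (show n ≤ n + k by omega)
  rw [SModEq.sub_mem] at h2
  have : a n = (a n - a (n + k)) + a (n + k) := by abel
  rw [this]
  exact Submodule.add_mem _ h2 h1

theorem adicMap_exact_of_strict (hg : Function.Surjective g) (hig : Function.Exact i g) (k : ℕ)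
    (hk : ∀ (n : ℕ) (x : K), i x ∈ (I ^ (n + k) • ⊤ : Submodule R M) → x ∈ (I ^ n • ⊤ : Submodule R K)) :
    Function.Exact (AdicCompletion.map I i) (AdicCompletion.map I g) := by
  intro y
  constructor
  · induction y using AdicCompletion.induction_on with | h b => ?_
    intro hy
    rw [AdicCompletion.map_mk, adicMk_eq_zero_iff] at hy
    -- for each n choose d_n ∈ I^n M and c_n ∈ K with i c_n = b_n - d_n
    have h1 : ∀ n, ∃ c : K, b n - i c ∈ (I ^ n • ⊤ : Submodule R M) := by
      intro n
      have hmem : g (b n) ∈ Submodule.map g (I ^ n • ⊤ : Submodule R M) := by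
        rw [Submodule.map_smul'', Submodule.map_top, LinearMap.range_eq_top.mpr hg]
        exact hy n
      obtain ⟨d, hd, hgd⟩ := hmem
      have : g (b n - d) = 0 := by rw [map_sub, hgd, sub_self]
      obtain ⟨c, hc⟩ := (hig _).mp this
      refine ⟨c, ?_⟩
      rw [hc]
      simpa using hd
    choose c hc using h1
    have hcauchy : ∀ n, c (n + k) ≡ c (n + 1 + k) [SMOD (I ^ n • ⊤ : Submodule R K)] := by
      intro n
      rw [SModEq.sub_mem]
      apply hk n
      rw [map_sub]
      have e1 : i (c (n + k)) - i (c (n + 1 + k)) =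
          (b (n + 1 + k) - i (c (n + 1 + k))) - (b (n + k) - i (c (n + k))) - (b (n + 1 + k) - b (n + k)) := by
        abel
      rw [e1]
      have hle : (I ^ (n + 1 + k) • ⊤ : Submodule R M) ≤ I ^ (n + k) • ⊤ :=
        Submodule.smul_mono_left (Ideal.pow_le_pow_right (by omega))
      refine Submodule.sub_mem _ (Submodule.sub_mem _ (hle (hc _)) (hc _)) ?_
      have h2 := b.property (show n + k ≤ n + 1 + k by omega)
      rw [SModEq.sub_mem] at h2
      rw [← Submodule.neg_mem_iff, neg_sub]
      exact h2
    refine ⟨AdicCompletion.mk I K (AdicCompletion.AdicCauchySequence.mk I K (fun n => c (n + k)) hcauchy), ?_⟩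
    rw [AdicCompletion.map_mk, adicMk_eq_iff]
    intro n
    show i (c (n + k)) - b n ∈ _
    have e1 : i (c (n + k)) - b n = -(b (n + k) - i (c (n + k))) - (b n - b (n + k)) := by abel
    rw [e1]
    have hle : (I ^ (n + k) • ⊤ : Submodule R M) ≤ I ^ n • ⊤ :=
      Submodule.smul_mono_left (Ideal.pow_le_pow_right (by omega))
    refine Submodule.sub_mem _ (Submodule.neg_mem _ (hle (hc _))) ?_
    have h2 := b.property (show n ≤ n + k by omega)
    rw [SModEq.sub_mem] at h2
    exact h2
  · rintro ⟨x, rfl⟩
    rw [← LinearMap.comp_apply, AdicCompletion.map_comp, hig.linearMap_comp_eq_zero, AdicCompletion.map_zero]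
    rfl

end AdicExact

section FlatPure

variable {R : Type u} [CommRing R] {K M N : Type u} [AddCommGroup K] [Module R K] [AddCommGroup M] [Module R M]
  [AddCommGroup N] [Module R N] (i : K →ₗ[R] M) (g : M →ₗ[R] N)

theorem mem_smul_top_of_flat_quotient [Module.Flat R N] (hi : Function.Injective i)
    (hg : Function.Surjective g) (hig : Function.Exact i g) (J : Ideal R) (x : K)
    (hx : i x ∈ (J • ⊤ : Submodule R M)) : x ∈ (J • ⊤ : Submodule R K) := by
  classical
  have hspan : (⊤ : Submodule R M) = Submodule.span R (Set.range (id : M → M)) := by simp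
  rw [hspan, Submodule.mem_ideal_smul_span_iff_exists_sum] at hx
  obtain ⟨a, haJ, hsum⟩ := hx
  have hsum' : ∑ m : a.support, a m • (m : M) = i x := by
    rw [← hsum, Finsupp.sum, Finset.sum_coe_sort a.support (fun m => a m • m)]
    rfl
  -- relation in N
  have hrel : ∑ m : a.support, a m • g m = 0 := by
    have : g (i x) = 0 := (hig _).mpr ⟨x, rfl⟩
    rw [← hsum', map_sum] at this
    rw [← this]
    refine Finset.sum_congr rfl (fun m _ => ?_)
    rw [map_smul]
  obtain ⟨l, b, y, hy1, hy2⟩ := Module.Flat.isTrivialRelation_of_sum_smul_eq_zero hrel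
  dsimp only at hy1 hy2
  choose m' hm' using fun j => hg (y j)
  have hker : ∀ m : a.support, ∃ κ : K, i κ = (m : M) - ∑ j, b m j • m' j := by
    intro m
    apply (hig _).mp
    rw [map_sub, map_sum, hy1 m, sub_eq_zero]
    refine Finset.sum_congr rfl (fun j _ => ?_)
    rw [map_smul, hm']
  choose κ hκ using hker
  have hx_eq : x = ∑ m : a.support, a m • κ m := by
    apply hi
    rw [map_sum, ← hsum']
    have h1 : ∀ m : a.support, i (a m • κ m) = a m • (m : M) - ∑ j, (a m * b m j) • m' j := by
      intro m
      rw [map_smul, hκ, smul_sub, Finset.smul_sum]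
      simp only [mul_smul]
    rw [Finset.sum_congr rfl (fun m _ => h1 m), Finset.sum_sub_distrib, Finset.sum_comm]
    have h2 : ∀ j, ∑ m : a.support, (a m * b m j) • m' j = 0 := by
      intro j
      rw [← Finset.sum_smul, hy2 j, zero_smul]
    rw [Finset.sum_congr rfl (fun j _ => h2 j), Finset.sum_const_zero, sub_zero]
  rw [hx_eq]
  refine Submodule.sum_mem _ (fun m _ => ?_)
  exact Submodule.smul_mem_smul (haJ m) trivial

end FlatPure

end Groth.Agent.H48
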