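import Mathlib
import Groth.Agent.H48.CompDimBC2
import Groth.Agent.H48.ProdDim

/-!
# Irreducible components of a product of integral schemes of finite type over a field
-/

set_option autoImplicit false
set_option linter.unusedSectionVars false
set_option linter.style.haveILetI false
universe u

open AlgebraicGeometry CategoryTheory CategoryTheory.Limits TopologicalSpace Opposite TensorProduct

namespace Groth.Agent.H48.ProdComp

open Groth.Agent.H48.DimFunSch Groth.Agent.H48.FieldDim Groth.Agent.H48.FieldDim2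
  Groth.Agent.H48.CompDim Groth.Agent.H48.CompDimBC Groth.Agent.H48.CompDimBC2
  Groth.Agent.H11.FtDimBC Groth.Agent.H54

section ring

variable (k : Type u) [Field k] (A₁ : Type u) [CommRing A₁] [IsDomain A₁] [Algebra k A₁]
  [Algebra.FiniteType k A₁]

instance isDomainPolyTensor (s : ℕ) : IsDomain (MvPolynomial (Fin s) k ⊗[k] A₁) :=
  (((Algebra.TensorProduct.comm k (MvPolynomial (Fin s) k) A₁).toRingEquiv).trans
    (MvPolynomial.algebraTensorAlgEquiv k A₁).toRingEquiv).toMulEquiv.isDomain _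

theorem dimPolyTensor (s : ℕ) :
    ringKrullDim (MvPolynomial (Fin s) k ⊗[k] A₁) = ringKrullDim A₁ + (s : WithBot ℕ∞) := by
  haveI : IsNoetherianRing A₁ := Algebra.FiniteType.isNoetherianRing k A₁
  rw [ringKrullDim_eq_of_ringEquiv
    (((Algebra.TensorProduct.comm k (MvPolynomial (Fin s) k) A₁).toRingEquiv).trans
    (MvPolynomial.algebraTensorAlgEquiv k A₁).toRingEquiv),
    MvPolynomial.ringKrullDim_of_isNoetherianRing]
  simp

attribute [local instance] Algebra.TensorProduct.rightAlgebra in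
/-- All irreducible components of `A₁ ⊗[k] D`, for finite type domains `A₁`, `D` over `k`, have
dimension `dim A₁ + dim D`. -/
theorem ringKrullDim_tensor_quotient_minimalPrime_add (D : Type u) [CommRing D] [IsDomain D]
    [Algebra k D] [Algebra.FiniteType k D] (Q : Ideal (A₁ ⊗[k] D))
    (hQ : Q ∈ minimalPrimes (A₁ ⊗[k] D)) :
    ringKrullDim ((A₁ ⊗[k] D) ⧸ Q) = ringKrullDim A₁ + ringKrullDim D := by
  obtain ⟨s, g, hginj, hgfin⟩ := exists_finite_inj_algHom_of_fg k D
  letI : Algebra (MvPolynomial (Fin s) k) D := g.toRingHom.toAlgebra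
  haveI : IsScalarTower k (MvPolynomial (Fin s) k) D :=
    IsScalarTower.of_algebraMap_eq' g.comp_algebraMap.symm
  haveI : Module.Finite (MvPolynomial (Fin s) k) D := hgfin
  have hinj : Function.Injective (algebraMap (MvPolynomial (Fin s) k) D) := hginj
  have hdimD : ringKrullDim D = (s : WithBot ℕ∞) := by
    rw [← ringKrullDim_eq_of_isIntegral_of_injective (R := MvPolynomial (Fin s) k) hinj,
      ringKrullDim_mvPolynomial_fin_field]
  let e := (Algebra.IsPushout.cancelBaseChangeAlg k A₁ (MvPolynomial (Fin s) k)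
      (MvPolynomial (Fin s) k ⊗[k] A₁) D)
  rw [hdimD]
  refine dim_quotient_minimalPrime_of_ringEquiv e.toAlgHom.toRingHom e.bijective _
    (fun Q' hQ' => ?_) Q hQ
  rw [ringKrullDim_quotient_minimalPrime (MvPolynomial (Fin s) k)
    (MvPolynomial (Fin s) k ⊗[k] A₁) D hinj Q' hQ', dimPolyTensor]

/-- Pushout form. -/
theorem ringKrullDim_quotient_minimalPrime_of_isPushout (D C : Type u) [CommRing D] [IsDomain D]
    [Algebra k D] [Algebra.FiniteType k D] [CommRing C] [Algebra k C] [Algebra A₁ C] [Algebra D C]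
    [IsScalarTower k A₁ C] [IsScalarTower k D C] [Algebra.IsPushout k A₁ D C]
    (Q : Ideal C) (hQ : Q ∈ minimalPrimes C) :
    ringKrullDim (C ⧸ Q) = ringKrullDim A₁ + ringKrullDim D := by
  let e := Algebra.IsPushout.equiv k A₁ D C
  exact dim_quotient_minimalPrime_of_ringEquiv e.toAlgHom.toRingHom e.bijective _
    (fun Q' hQ' => ringKrullDim_tensor_quotient_minimalPrime_add k A₁ D Q' hQ') Q hQ

end ring

/-- Categorical form. -/
theorem ringKrullDim_quotient_minimalPrime_of_isPushout_cat {k : Type u} [Field k]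
    {A D C : CommRingCat.{u}} [IsDomain A] [IsDomain D]
    (α : CommRingCat.of k ⟶ A) (β : CommRingCat.of k ⟶ D)
    (γ : A ⟶ C) (δ : D ⟶ C) (hpo : IsPushout α β γ δ) (hα : α.hom.FiniteType)
    (hβ : β.hom.FiniteType) (Q : Ideal C) (hQ : Q ∈ minimalPrimes C) :
    ringKrullDim (C ⧸ Q) = ringKrullDim A + ringKrullDim D := by
  let _ : Algebra k A := α.hom.toAlgebra
  let _ : Algebra k D := β.hom.toAlgebra
  let _ : Algebra A C := γ.hom.toAlgebra
  let _ : Algebra D C := δ.hom.toAlgebra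
  let _ : Algebra k C := (α ≫ γ).hom.toAlgebra
  have t1 : IsScalarTower k A C := IsScalarTower.of_algebraMap_eq fun r => rfl
  have t2 : IsScalarTower k D C := IsScalarTower.of_algebraMap_eq fun r => congr($(hpo.w).hom r)
  have hα' : Algebra.FiniteType k A := hα
  have hβ' : Algebra.FiniteType k D := hβ
  have hpo'' : Algebra.IsPushout k A D C := CommRingCat.isPushout_iff_isPushout.mp hpo
  exact ringKrullDim_quotient_minimalPrime_of_isPushout k A D C Q hQ

section scheme

/-- Sections over a product of affine opens form a pushout (extracted from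
`ProdDim.ringKrullDim_inf_preimage`). -/
theorem isPushout_sections_prod {X Y W : Scheme.{u}} (k : Type u) [Field k]
    (f : X ⟶ Spec (.of k)) (g : Y ⟶ Spec (.of k)) [LocallyOfFiniteType f] [LocallyOfFiniteType g]
    (p : W ⟶ X) (q : W ⟶ Y) (hpb : IsPullback p q f g)
    {U : X.Opens} (hU : IsAffineOpen U) {V : Y.Opens} (hV : IsAffineOpen V) :
    IsAffineOpen (p ⁻¹ᵁ U ⊓ q ⁻¹ᵁ V) ∧
    IsPushout ((Scheme.ΓSpecIso (CommRingCat.of k)).inv ≫ f.appLE ⊤ U (by simp))
      ((Scheme.ΓSpecIso (CommRingCat.of k)).inv ≫ g.appLE ⊤ V (by simp))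
      (p.appLE U (p ⁻¹ᵁ U ⊓ q ⁻¹ᵁ V) inf_le_left)
      (q.appLE V (p ⁻¹ᵁ U ⊓ q ⁻¹ᵁ V) inf_le_right) ∧
    ((Scheme.ΓSpecIso (CommRingCat.of k)).inv ≫ f.appLE ⊤ U (by simp)).hom.FiniteType ∧
    ((Scheme.ΓSpecIso (CommRingCat.of k)).inv ≫ g.appLE ⊤ V (by simp)).hom.FiniteType := by
  have hS : IsAffineOpen (⊤ : (Spec (.of k)).Opens) := isAffineOpen_top _
  have hVS : V ≤ g ⁻¹ᵁ ⊤ := by simp
  have hUS : U ≤ f ⁻¹ᵁ ⊤ := by simp
  have haff : IsAffineOpen (p ⁻¹ᵁ U ⊓ q ⁻¹ᵁ V) :=
    Groth.Agent.H49.FlatInf.isAffineOpen_inf_preimage hpb hS hV hU hVS hUS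
  refine ⟨haff, ?_, ?_, ?_⟩
  · have hpo : IsPushout (f.appLE ⊤ U hUS) (g.appLE ⊤ V hVS)
        (p.appLE U (p ⁻¹ᵁ U ⊓ q ⁻¹ᵁ V) inf_le_left)
        (q.appLE V (p ⁻¹ᵁ U ⊓ q ⁻¹ᵁ V) inf_le_right) := by
      have := isIso_pushoutSection_of_isAffineOpen hpb hVS hUS rfl hS hV hU
      exact (isIso_pushoutSection_iff hpb hVS hUS rfl).mp this
    refine IsPushout.of_iso hpo (Scheme.ΓSpecIso (CommRingCat.of k)) (Iso.refl _) (Iso.refl _)
      (Iso.refl _) ?_ ?_ ?_ ?_ <;> simp
  · have hft : RingHom.FiniteType (f.appLE ⊤ U hUS).hom :=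
      HasRingHomProperty.appLE @LocallyOfFiniteType f inferInstance ⟨⊤, isAffineOpen_top _⟩
        ⟨U, hU⟩ hUS
    rw [CommRingCat.hom_comp]
    refine hft.comp ?_
    exact RingHom.FiniteType.of_surjective _
      (ConcreteCategory.bijective_of_isIso (Scheme.ΓSpecIso (CommRingCat.of k)).inv).2
  · have hft : RingHom.FiniteType (g.appLE ⊤ V hVS).hom :=
      HasRingHomProperty.appLE @LocallyOfFiniteType g inferInstance ⟨⊤, isAffineOpen_top _⟩
        ⟨V, hV⟩ hVS
    rw [CommRingCat.hom_comp]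
    refine hft.comp ?_
    exact RingHom.FiniteType.of_surjective _
      (ConcreteCategory.bijective_of_isIso (Scheme.ΓSpecIso (CommRingCat.of k)).inv).2

/-- A nonempty open subset of an irreducible scheme locally of finite type over a field has the
same dimension. -/
theorem topologicalKrullDim_open_eq_of_irreducible {X : Scheme.{u}} {k : Type u} [Field k]
    (f : X ⟶ Spec (.of k)) [LocallyOfFiniteType f] [IrreducibleSpace X] (U : X.Opens)
    (hne : (U : Set X).Nonempty) : topologicalKrullDim ↥U = topologicalKrullDim X := by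
  have hgen : IsGenericPoint (genericPoint X) (⊤ : Set X) := genericPoint_spec X
  have hξU : genericPoint X ∈ (U : Set X) := by
    rw [hgen.mem_open_set_iff U.isOpen]
    simpa using hne
  have hcl : closure ({genericPoint X} : Set X) = Set.univ := hgen.def
  have h := topologicalKrullDim_closure_inter_open f (genericPoint X) (U : Set X) U.2 hξU
  rw [hcl, Set.univ_inter] at h
  rw [← (Homeomorph.Set.univ X).isHomeomorph.topologicalKrullDim_eq]
  exact h

/-- A maximal point of an affine open corresponds to a minimal prime. -/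
theorem mem_minimalPrimes_of_maximal' {W : Scheme.{u}} {O : W.Opens} (hO : IsAffineOpen O)
    (b' : PrimeSpectrum Γ(W, O)) (hmax : ∀ η' : W, η' ⤳ hO.fromSpec b' → η' = hO.fromSpec b') :
    b'.asIdeal ∈ minimalPrimes Γ(W, O) := by
  refine ⟨⟨b'.2, bot_le⟩, ?_⟩
  rintro J ⟨hJp, -⟩ hJQ
  let c : PrimeSpectrum Γ(W, O) := ⟨J, hJp⟩
  have h1 : hO.fromSpec c ⤳ hO.fromSpec b' := (fromSpec_specializes_iff hO c b').mpr hJQ
  have h4 : c = b' := fromSpec_injective hO (hmax _ h1)
  rw [← h4]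

/-- **Irreducible components of a product of integral schemes** locally of finite type over a
field have dimension `dim X + dim Y` (statement S4662 for a general pullback square). -/
theorem topologicalKrullDim_component_prod {X Y W : Scheme.{u}} (k : Type u) [Field k]
    (f : X ⟶ Spec (.of k)) (g : Y ⟶ Spec (.of k)) [IsIntegral X] [IsIntegral Y]
    [LocallyOfFiniteType f] [LocallyOfFiniteType g]
    (p : W ⟶ X) (q : W ⟶ Y) (hpb : IsPullback p q f g)
    (T : Set W) (hT : T ∈ irreducibleComponents W) :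
    topologicalKrullDim ↥T = topologicalKrullDim X + topologicalKrullDim Y := by
  obtain ⟨ξ', hξ'⟩ := exists_generic_of_mem_irreducibleComponents T hT
  have hmax : ∀ η' : W, η' ⤳ ξ' → η' = ξ' := fun η' h =>
    eq_of_specializes_of_closure_mem_irreducibleComponents (by rw [hξ']; exact hT) h
  haveI : LocallyOfFiniteType p :=
    MorphismProperty.of_isPullback (P := @LocallyOfFiniteType) hpb.flip inferInstance
  haveI : LocallyOfFiniteType (p ≫ f) := inferInstance
  obtain ⟨U, hU, hxU, -⟩ := exists_isAffineOpen_mem_and_subset (x := p ξ') (U := ⊤) trivial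
  obtain ⟨V, hV, hyV, -⟩ := exists_isAffineOpen_mem_and_subset (x := q ξ') (U := ⊤) trivial
  obtain ⟨hO, hpo, hα, hβ⟩ := isPushout_sections_prod k f g p q hpb hU hV
  have hξ'O : ξ' ∈ p ⁻¹ᵁ U ⊓ q ⁻¹ᵁ V := ⟨hxU, hyV⟩
  set b' : PrimeSpectrum Γ(W, p ⁻¹ᵁ U ⊓ q ⁻¹ᵁ V) := hO.primeIdealOf ⟨ξ', hξ'O⟩ with hb'
  have hfb' : hO.fromSpec b' = ξ' := hO.fromSpec_primeIdealOf ⟨ξ', hξ'O⟩
  have hmin : b'.asIdeal ∈ minimalPrimes Γ(W, p ⁻¹ᵁ U ⊓ q ⁻¹ᵁ V) := by
    refine mem_minimalPrimes_of_maximal' hO b' ?_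
    rw [hfb']
    exact hmax
  haveI : Nonempty (U : Scheme.{u}) := ⟨⟨p ξ', hxU⟩⟩
  haveI : Nonempty (V : Scheme.{u}) := ⟨⟨q ξ', hyV⟩⟩
  haveI : IsDomain Γ(X, U) := IsIntegral.component_integral U
  haveI : IsDomain Γ(Y, V) := IsIntegral.component_integral V
  have hring := ringKrullDim_quotient_minimalPrime_of_isPushout_cat _ _ _ _ hpo hα hβ
    b'.asIdeal hmin
  have e1 := topologicalKrullDim_closure_inter_affine hO b'
  rw [hfb'] at e1
  rw [← hξ', ← topologicalKrullDim_closure_inter_open (p ≫ f) ξ'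
    ((p ⁻¹ᵁ U ⊓ q ⁻¹ᵁ V : W.Opens) : Set W) (p ⁻¹ᵁ U ⊓ q ⁻¹ᵁ V).2 hξ'O, e1, hring,
    ← Groth.Agent.H49.FibreDimBC.topologicalKrullDim_affineOpen hU,
    ← Groth.Agent.H49.FibreDimBC.topologicalKrullDim_affineOpen hV,
    topologicalKrullDim_open_eq_of_irreducible f U ⟨p ξ', hxU⟩,
    topologicalKrullDim_open_eq_of_irreducible g V ⟨q ξ', hyV⟩]

end scheme

end Groth.Agent.H48.ProdComp
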