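import Mathlib
import Groth.Agent.H48.ProdComp
import Groth.Agent.H11.FtDim

/-!
# The affine dimension theorem (ring level): for primes `P, Q` of a polynomial ring in `n`
variables over a field and `R` minimal over `P + Q`, `dim A/P + dim A/Q ≤ dim A/R + n`.
-/

set_option autoImplicit false
set_option linter.unusedSectionVars false
set_option linter.style.haveILetI false
universe u

open TensorProduct

namespace Groth.Agent.H48.AffineDimThm

section R1

/-- In a finite type domain over a field, a prime minimal over `n` elements has coheight at least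
`dim D - n`. -/
theorem ringKrullDim_le_quotient_add_card (k D : Type u) [Field k] [CommRing D] [IsDomain D]
    [Algebra k D] [Algebra.FiniteType k D] (s : Finset D) (R' : Ideal D)
    (hR' : R' ∈ (Ideal.span (s : Set D)).minimalPrimes) :
    ringKrullDim D ≤ ringKrullDim (D ⧸ R') + (s.card : WithBot ℕ∞) := by
  haveI : IsNoetherianRing D := Algebra.FiniteType.isNoetherianRing k D
  haveI : R'.IsPrime := hR'.1.1
  have h1 : R'.height ≤ s.card := Ideal.height_le_card_of_mem_minimalPrimes_span_finset hR'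
  let P : PrimeSpectrum D := ⟨R', inferInstance⟩
  have h2 := Groth.Agent.H11.FtDim.height_add_coheight_eq k D P
  have h3 := Groth.Agent.H24.coheight_eq_ringKrullDim_quotient P
  have h4 : Order.height P = R'.height := (PrimeSpectrum.height_eq_orderHeight P).symm
  rw [← h2, ← h3]
  have h5 : (Order.height P + Order.coheight P : ℕ∞) ≤ Order.coheight P + (s.card : ℕ∞) := by
    rw [add_comm]
    gcongr
    rw [h4]
    exact h1
  exact_mod_cast WithBot.coe_le_coe.mpr h5

end R1

section Quot

/-- Quotients by a prime and by its preimage under a surjection have the same dimension. -/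
theorem ringKrullDim_quotient_comap {R S : Type*} [CommRing R] [CommRing S] (f : R →+* S)
    (hf : Function.Surjective f) (J : Ideal S) :
    ringKrullDim (R ⧸ J.comap f) = ringKrullDim (S ⧸ J) := by
  let g : R →+* S ⧸ J := (Ideal.Quotient.mk J).comp f
  have hg : Function.Surjective g := Ideal.Quotient.mk_surjective.comp hf
  have hker : RingHom.ker g = J.comap f := by
    ext x
    simp only [g, RingHom.mem_ker, RingHom.comp_apply, Ideal.Quotient.eq_zero_iff_mem,
      Ideal.mem_comap]
  have e1 : (R ⧸ RingHom.ker g) ≃+* S ⧸ J := RingHom.quotientKerEquivOfSurjective hg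
  rw [← ringKrullDim_eq_of_ringEquiv e1]
  exact ringKrullDim_eq_of_ringEquiv (Ideal.quotEquivOfEq hker.symm)

/-- Minimal primes over a finite set map to minimal primes over the image under a surjection whose
kernel they contain. -/
theorem map_mem_minimalPrimes_span_image {C D : Type*} [CommRing C] [CommRing D] (f : C →+* D)
    (hf : Function.Surjective f) (s : Finset C) [DecidableEq D] (Rt : Ideal C) [Rt.IsPrime]
    (hRt : Rt ∈ (Ideal.span (s : Set C)).minimalPrimes) (hker : RingHom.ker f ≤ Rt) :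
    Rt.map f ∈ (Ideal.span ((s.image f : Finset D) : Set D)).minimalPrimes := by
  have h1 : Ideal.span ((s.image f : Finset D) : Set D) = (Ideal.span (s : Set C)).map f := by
    rw [Ideal.map_span, Finset.coe_image]
  rw [h1, Ideal.minimalPrimes_map_of_surjective hf]
  refine ⟨Rt, ?_, rfl⟩
  exact ⟨⟨inferInstance, sup_le hRt.1.2 hker⟩,
    fun J hJ hJR => hRt.2 ⟨hJ.1, le_sup_left.trans hJ.2⟩ hJR⟩

/-- In a finite type algebra over a field, if `Rt` is minimal over `n` elements and contains the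
minimal prime `W`, then `dim C/W ≤ dim C/Rt + n`. -/
theorem ringKrullDim_quotient_minimalPrime_le (k C : Type u) [Field k] [CommRing C] [Algebra k C]
    [Algebra.FiniteType k C] (s : Finset C) (Rt : Ideal C)
    (hRt : Rt ∈ (Ideal.span (s : Set C)).minimalPrimes) (W : Ideal C) [W.IsPrime]
    (hWRt : W ≤ Rt) :
    ringKrullDim (C ⧸ W) ≤ ringKrullDim (C ⧸ Rt) + (s.card : WithBot ℕ∞) := by
  classical
  haveI : Rt.IsPrime := hRt.1.1
  let mkW := Ideal.Quotient.mk W
  have hmkW : Function.Surjective mkW := Ideal.Quotient.mk_surjective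
  have hmin := map_mem_minimalPrimes_span_image mkW hmkW s Rt hRt
    (by rw [Ideal.mk_ker]; exact hWRt)
  have hR1 := ringKrullDim_le_quotient_add_card k (C ⧸ W) (s.image mkW) (Rt.map mkW) hmin
  have e1 : ringKrullDim ((C ⧸ W) ⧸ Rt.map mkW) = ringKrullDim (C ⧸ Rt) :=
    ringKrullDim_eq_of_ringEquiv (DoubleQuot.quotQuotEquivQuotOfLE hWRt)
  rw [e1] at hR1
  refine hR1.trans ?_
  gcongr
  have h2 : (s.image mkW).card ≤ s.card := Finset.card_image_le
  exact_mod_cast h2

end Quot

section R2

variable (k : Type u) [Field k] (A : Type u) [CommRing A] [Algebra k A]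
  {σ : Type u} [Fintype σ] (x : σ → A)
variable (P Q : Ideal A)

/-- The tensor product of the two quotients. -/
abbrev CC : Type u := (A ⧸ P) ⊗[k] (A ⧸ Q)

noncomputable def ι₁ : A →ₐ[k] CC k A P Q :=
  (Algebra.TensorProduct.includeLeft : (A ⧸ P) →ₐ[k] CC k A P Q).comp
    (Ideal.Quotient.mkₐ k P)

noncomputable def ι₂ : A →ₐ[k] CC k A P Q :=
  (Algebra.TensorProduct.includeRight : (A ⧸ Q) →ₐ[k] CC k A P Q).comp
    (Ideal.Quotient.mkₐ k Q)

/-- The diagonal generators. -/
noncomputable def dd (i : σ) : CC k A P Q := ι₁ k A P Q (x i) - ι₂ k A P Q (x i)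

noncomputable def ss : Finset (CC k A P Q) := by
  classical
  exact Finset.univ.image (dd k A x P Q)

theorem card_ss_le : (ss k A x P Q).card ≤ Fintype.card σ := by
  classical
  unfold ss
  exact Finset.card_image_le.trans (le_of_eq Finset.card_univ)

/-- The multiplication map. -/
noncomputable def μ : CC k A P Q →ₐ[k] A ⧸ (P ⊔ Q) :=
  Algebra.TensorProduct.productMap (Ideal.Quotient.factorₐ k le_sup_left)
    (Ideal.Quotient.factorₐ k le_sup_right)

theorem μ_ι₁ (a : A) : μ k A P Q (ι₁ k A P Q a) = Ideal.Quotient.mk (P ⊔ Q) a := by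
  simp [μ, ι₁]

theorem μ_ι₂ (a : A) : μ k A P Q (ι₂ k A P Q a) = Ideal.Quotient.mk (P ⊔ Q) a := by
  simp [μ, ι₂]

theorem μ_surjective : Function.Surjective (μ k A P Q) := by
  intro y
  obtain ⟨a, rfl⟩ := Ideal.Quotient.mk_surjective y
  exact ⟨ι₁ k A P Q a, μ_ι₁ k A P Q a⟩

theorem dd_mem_span (i : σ) :
    dd k A x P Q i ∈ Ideal.span ((ss k A x P Q : Finset _) : Set (CC k A P Q)) := by
  classical
  apply Ideal.subset_span
  unfold ss
  exact Finset.mem_coe.mpr (Finset.mem_image.mpr ⟨i, Finset.mem_univ _, rfl⟩)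

theorem ker_μ (hx : Algebra.adjoin k (Set.range x) = ⊤) :
    RingHom.ker (μ k A P Q).toRingHom =
      Ideal.span ((ss k A x P Q : Finset _) : Set (CC k A P Q)) := by
  classical
  set Δ := Ideal.span ((ss k A x P Q : Finset _) : Set (CC k A P Q)) with hΔ
  apply le_antisymm
  · -- ker ≤ Δ
    let ν : CC k A P Q →ₐ[k] CC k A P Q ⧸ Δ := Ideal.Quotient.mkₐ k Δ
    have hcomp : ν.comp (ι₁ k A P Q) = ν.comp (ι₂ k A P Q) := by
      apply AlgHom.ext_of_adjoin_eq_top hx
      rintro _ ⟨i, rfl⟩
      change Ideal.Quotient.mk Δ _ = Ideal.Quotient.mk Δ _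
      rw [Ideal.Quotient.eq]
      exact dd_mem_span k A x P Q i
    have hzero : ∀ a ∈ P ⊔ Q, (ν.comp (ι₁ k A P Q)) a = 0 := by
      intro a ha
      obtain ⟨p, hp, q, hq, rfl⟩ := Submodule.mem_sup.mp ha
      rw [map_add]
      have h1 : (ν.comp (ι₁ k A P Q)) p = 0 := by
        have : ι₁ k A P Q p = 0 := by
          simp only [ι₁, AlgHom.comp_apply, Ideal.Quotient.mkₐ_eq_mk]
          rw [Ideal.Quotient.eq_zero_iff_mem.mpr hp, map_zero]
        rw [AlgHom.comp_apply, this, map_zero]
      have h2 : (ν.comp (ι₁ k A P Q)) q = 0 := by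
        rw [hcomp]
        have : ι₂ k A P Q q = 0 := by
          simp only [ι₂, AlgHom.comp_apply, Ideal.Quotient.mkₐ_eq_mk]
          rw [Ideal.Quotient.eq_zero_iff_mem.mpr hq, map_zero]
        rw [AlgHom.comp_apply, this, map_zero]
      rw [h1, h2, add_zero]
    let θ : A ⧸ (P ⊔ Q) →ₐ[k] CC k A P Q ⧸ Δ :=
      Ideal.Quotient.liftₐ (P ⊔ Q) (ν.comp (ι₁ k A P Q)) hzero
    have hθ : θ.comp (μ k A P Q) = ν := by
      apply Algebra.TensorProduct.ext
      · apply Ideal.Quotient.algHom_ext
        apply AlgHom.ext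
        intro a
        change θ (μ k A P Q (ι₁ k A P Q a)) = ν (ι₁ k A P Q a)
        rw [μ_ι₁]
        rfl
      · apply Ideal.Quotient.algHom_ext
        apply AlgHom.ext
        intro a
        change θ (μ k A P Q (ι₂ k A P Q a)) = ν (ι₂ k A P Q a)
        rw [μ_ι₂]
        change (ν.comp (ι₁ k A P Q)) a = (ν.comp (ι₂ k A P Q)) a
        rw [hcomp]
    intro c hc
    have h1 : ν c = θ (μ k A P Q c) := by rw [← hθ]; rfl
    have h2 : μ k A P Q c = 0 := hc
    rw [h2, map_zero] at h1
    exact Ideal.Quotient.eq_zero_iff_mem.mp h1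
  · rw [hΔ, Ideal.span_le]
    intro c hc
    unfold ss at hc
    obtain ⟨i, -, rfl⟩ := Finset.mem_image.mp (Finset.mem_coe.mp hc)
    change μ k A P Q (dd k A x P Q i) = 0
    unfold dd
    rw [map_sub, μ_ι₁, μ_ι₂, sub_self]

theorem finiteType_tensor (k A B : Type u) [Field k] [CommRing A] [CommRing B] [Algebra k A]
    [Algebra k B] [Algebra.FiniteType k A] [Algebra.FiniteType k B] :
    Algebra.FiniteType k (A ⊗[k] B) :=
  Algebra.FiniteType.trans (S := A) inferInstance inferInstance

/-- **Affine dimension theorem**, ring level: `A` a `k`-algebra generated by `n` elements, `P`, `Q`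
primes and `R` minimal over `P + Q`; then `dim A/P + dim A/Q ≤ dim A/R + n`. -/
theorem ringKrullDim_quotient_add_le [Algebra.FiniteType k A]
    (hx : Algebra.adjoin k (Set.range x) = ⊤) [P.IsPrime] [Q.IsPrime] (R : Ideal A)
    (hR : R ∈ (P ⊔ Q).minimalPrimes) :
    ringKrullDim (A ⧸ P) + ringKrullDim (A ⧸ Q) ≤
      ringKrullDim (A ⧸ R) + (Fintype.card σ : WithBot ℕ∞) := by
  classical
  rw [Ideal.minimalPrimes_eq_comap] at hR
  obtain ⟨Rb, hRb, rfl⟩ := hR
  have hsurj : Function.Surjective (μ k A P Q).toRingHom := μ_surjective k A P Q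
  have hRt : Rb.comap (μ k A P Q).toRingHom ∈
      (Ideal.span ((ss k A x P Q : Finset _) : Set (CC k A P Q))).minimalPrimes := by
    have h := Ideal.minimalPrimes_comap_of_surjective hsurj (I := ⊥) hRb
    rw [← RingHom.ker_eq_comap_bot, ker_μ k A x P Q hx] at h
    exact h
  set Rt := Rb.comap (μ k A P Q).toRingHom with hRtdef
  haveI : Rt.IsPrime := hRt.1.1
  obtain ⟨W, hW, hWRt⟩ := Ideal.exists_minimalPrimes_le (bot_le : (⊥ : Ideal (CC k A P Q)) ≤ Rt)
  haveI : W.IsPrime := hW.1.1
  haveI : Algebra.FiniteType k (CC k A P Q) := finiteType_tensor k (A ⧸ P) (A ⧸ Q)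
  -- dimension of `C/W`
  have hdimD : ringKrullDim (CC k A P Q ⧸ W) = ringKrullDim (A ⧸ P) + ringKrullDim (A ⧸ Q) :=
    Groth.Agent.H48.ProdComp.ringKrullDim_tensor_quotient_minimalPrime_add k (A ⧸ P) (A ⧸ Q) W hW
  have hR1 := ringKrullDim_quotient_minimalPrime_le k (CC k A P Q) (ss k A x P Q) Rt hRt W hWRt
  have e2 : ringKrullDim (CC k A P Q ⧸ Rt) = ringKrullDim ((A ⧸ (P ⊔ Q)) ⧸ Rb) :=
    ringKrullDim_quotient_comap _ hsurj Rb
  have e3 : ringKrullDim (A ⧸ Rb.comap (Ideal.Quotient.mk (P ⊔ Q))) =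
      ringKrullDim ((A ⧸ (P ⊔ Q)) ⧸ Rb) :=
    ringKrullDim_quotient_comap _ Ideal.Quotient.mk_surjective Rb
  rw [e2, ← e3, hdimD] at hR1
  refine hR1.trans ?_
  gcongr
  have h2 : (ss k A x P Q).card ≤ Fintype.card σ := card_ss_le k A x P Q
  exact_mod_cast h2

end R2

end Groth.Agent.H48.AffineDimThm
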