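import Mathlib
import Groth.Agent.H48.AffineDimThm
import Groth.Agent.H48.CompDim

/-!
# The affine dimension theorem for closed subsets of affine space over a field
-/

set_option autoImplicit false
set_option linter.unusedSectionVars false
set_option linter.style.haveILetI false
universe u

open AlgebraicGeometry CategoryTheory CategoryTheory.Limits TopologicalSpace Opposite

namespace Groth.Agent.H48.AffineDimThmSch

open Groth.Agent.H48.DimFunSch Groth.Agent.H48.CompDim Groth.Agent.H48.AffineDimThm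

section Transport

/-- The affine dimension theorem for a ring isomorphic to a polynomial ring over a field. -/
theorem ringKrullDim_quotient_add_le_of_ringEquiv (k : Type u) [Field k] (σ : Type u) [Fintype σ]
    (B : Type u) [CommRing B] (e : MvPolynomial σ k ≃+* B) (P Q : Ideal B) [P.IsPrime]
    [Q.IsPrime] (R : Ideal B) (hR : R ∈ (P ⊔ Q).minimalPrimes) :
    ringKrullDim (B ⧸ P) + ringKrullDim (B ⧸ Q) ≤
      ringKrullDim (B ⧸ R) + (Fintype.card σ : WithBot ℕ∞) := by
  letI : Algebra k B := (e.toRingHom.comp (algebraMap k (MvPolynomial σ k))).toAlgebra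
  let eA : MvPolynomial σ k ≃ₐ[k] B := AlgEquiv.ofRingEquiv (f := e) (fun r => rfl)
  haveI : Algebra.FiniteType k B := Algebra.FiniteType.equiv inferInstance eA
  have hx : Algebra.adjoin k (Set.range (fun i : σ => eA (MvPolynomial.X i))) = ⊤ := by
    have h1 : Set.range (fun i : σ => eA (MvPolynomial.X i)) =
        eA.toAlgHom '' Set.range (MvPolynomial.X : σ → MvPolynomial σ k) := by
      rw [← Set.range_comp]
      rfl
    rw [h1, ← AlgHom.map_adjoin, MvPolynomial.adjoin_range_X, Algebra.map_top]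
    exact (AlgHom.range_eq_top _).mpr eA.surjective
  exact ringKrullDim_quotient_add_le k B (fun i : σ => eA (MvPolynomial.X i)) P Q hx R hR

end Transport

section Top

variable {Y : Type u} [TopologicalSpace Y] [QuasiSober Y] [T0Space Y]

/-- An irreducible component of a closed subspace `T` is the closure of a point maximal in
`T`. -/
theorem exists_generic_of_mem_irreducibleComponents_subtype' (T : Set Y) (hT : IsClosed T)
    (W : Set ↥T) (hW : W ∈ irreducibleComponents ↥T) :
    ∃ ξ' : Y, ξ' ∈ T ∧ closure ({ξ'} : Set Y) = Subtype.val '' W ∧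
      (∀ η' ∈ T, η' ⤳ ξ' → η' = ξ') ∧
      topologicalKrullDim ↥W = topologicalKrullDim ↥(closure ({ξ'} : Set Y)) := by
  haveI : QuasiSober ↥T := hT.isClosedEmbedding_subtypeVal.quasiSober
  have hWirr : IsIrreducible W := hW.1
  have hWcl : IsClosed W := isClosed_of_mem_irreducibleComponents W hW
  obtain ⟨w, hw⟩ := QuasiSober.sober hWirr hWcl
  have hwW : closure ({w} : Set ↥T) = W := hw.def
  have hcl : closure ({w.1} : Set Y) = Subtype.val '' W := by
    rw [← hwW, ← hT.isClosedEmbedding_subtypeVal.closure_image_eq, Set.image_singleton]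
  refine ⟨w.1, w.2, hcl, ?_, ?_⟩
  · intro η' hη' hsp
    have h1 : (⟨η', hη'⟩ : ↥T) ⤳ w := (subtype_specializes_iff _ _).mpr hsp
    have h2 : W ≤ closure ({⟨η', hη'⟩} : Set ↥T) := by
      rw [← hwW]
      exact specializes_iff_closure_subset.mp h1
    have h3 : closure ({⟨η', hη'⟩} : Set ↥T) ≤ W :=
      hW.2 isIrreducible_singleton.closure h2
    have h4 : w ⤳ (⟨η', hη'⟩ : ↥T) := by
      rw [specializes_iff_mem_closure, hwW]
      exact h3 (subset_closure rfl)
    exact congrArg Subtype.val (h1.antisymm h4).eq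
  · rw [hcl]
    exact (IsHomeomorph.topologicalKrullDim_eq _
      (Topology.IsEmbedding.subtypeVal.homeomorphImage W).isHomeomorph)

/-- Every point of a closed subset lies in an irreducible component of it, which is the closure
of a generic point. -/
theorem exists_generic_component_through (T : Set Y) (hT : IsClosed T) (z : Y) (hz : z ∈ T) :
    ∃ (C : Set ↥T) (_ : C ∈ irreducibleComponents ↥T) (ξ : Y), ξ ∈ T ∧ ξ ⤳ z ∧
      topologicalKrullDim ↥C = topologicalKrullDim ↥(closure ({ξ} : Set Y)) := by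
  let zT : ↥T := ⟨z, hz⟩
  have hC : irreducibleComponent zT ∈ irreducibleComponents ↥T :=
    irreducibleComponent_mem_irreducibleComponents zT
  obtain ⟨ξ, hξT, hcl, -, hdim⟩ :=
    exists_generic_of_mem_irreducibleComponents_subtype' T hT _ hC
  refine ⟨_, hC, ξ, hξT, ?_, hdim⟩
  rw [specializes_iff_mem_closure, hcl]
  exact ⟨zT, mem_irreducibleComponent, rfl⟩

end Top

section Main

/-- The ring of global functions on affine space over a field is a polynomial ring. -/
noncomputable def gammaEquiv (k : Type u) [Field k] (σ : Type u) :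
    MvPolynomial σ k ≃+* Γ(𝔸(σ; Spec (CommRingCat.of k)), ⊤) :=
  ((Scheme.ΓSpecIso (.of (MvPolynomial σ k))).symm ≪≫
    Scheme.Γ.mapIso (AffineSpace.SpecIso σ (CommRingCat.of k)).op).commRingCatIsoToRingEquiv

/-- The affine dimension theorem on an affine scheme whose ring of functions is a polynomial ring
over a field. -/
theorem add_le_topologicalKrullDim_component_inter_aux (k : Type u) [Field k] (σ : Type u)
    [Fintype σ] (S : Scheme.{u}) [IsAffine S] (e : MvPolynomial σ k ≃+* Γ(S, ⊤)) (r s : ℕ)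
    (X Y : Set ↥S) (hX : IsClosed X)
    (hY : IsClosed Y)
    (hXr : ∀ Z ∈ irreducibleComponents X, topologicalKrullDim Z = r)
    (hYs : ∀ Z ∈ irreducibleComponents Y, topologicalKrullDim Z = s)
    (Z : Set ↥(X ∩ Y)) (hZ : Z ∈ irreducibleComponents ↥(X ∩ Y)) :
    ((r + s : ℕ) : WithBot ℕ∞) ≤ topologicalKrullDim Z + (Fintype.card σ : WithBot ℕ∞) := by
  have hS : IsAffineOpen (⊤ : S.Opens) := isAffineOpen_top S
  obtain ⟨z, hzT, -, hzmax, hzdim⟩ :=
    exists_generic_of_mem_irreducibleComponents_subtype' (X ∩ Y) (hX.inter hY) Z hZ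
  obtain ⟨CX, hCX, ξ, hξX, hξz, hξdim⟩ := exists_generic_component_through X hX z hzT.1
  obtain ⟨CY, hCY, η, hηY, hηz, hηdim⟩ := exists_generic_component_through Y hY z hzT.2
  -- primes
  set a : PrimeSpectrum Γ(S, ⊤) := hS.primeIdealOf ⟨ξ, trivial⟩ with ha
  set b : PrimeSpectrum Γ(S, ⊤) := hS.primeIdealOf ⟨η, trivial⟩ with hb
  set c : PrimeSpectrum Γ(S, ⊤) := hS.primeIdealOf ⟨z, trivial⟩ with hc
  have hfa : hS.fromSpec a = ξ := hS.fromSpec_primeIdealOf ⟨ξ, trivial⟩
  have hfb : hS.fromSpec b = η := hS.fromSpec_primeIdealOf ⟨η, trivial⟩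
  have hfc : hS.fromSpec c = z := hS.fromSpec_primeIdealOf ⟨z, trivial⟩
  have hac : a ≤ c := by
    rw [← fromSpec_specializes_iff hS, hfa, hfc]; exact hξz
  have hbc : b ≤ c := by
    rw [← fromSpec_specializes_iff hS, hfb, hfc]; exact hηz
  have hmin : c.asIdeal ∈ (a.asIdeal ⊔ b.asIdeal).minimalPrimes := by
    refine ⟨⟨c.2, sup_le hac hbc⟩, ?_⟩
    rintro J ⟨hJp, hJle⟩ hJc
    let j : PrimeSpectrum Γ(S, ⊤) := ⟨J, hJp⟩
    have h1 : hS.fromSpec j ⤳ z := by
      rw [← hfc, fromSpec_specializes_iff hS]; exact hJc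
    have h2 : ξ ⤳ hS.fromSpec j := by
      rw [← hfa, fromSpec_specializes_iff hS]; exact le_sup_left.trans hJle
    have h3 : η ⤳ hS.fromSpec j := by
      rw [← hfb, fromSpec_specializes_iff hS]; exact le_sup_right.trans hJle
    have h4 : hS.fromSpec j ∈ X ∩ Y := ⟨h2.mem_closed hX hξX, h3.mem_closed hY hηY⟩
    have h5 := hzmax _ h4 h1
    have h6 : j = c := fromSpec_injective hS (h5.trans hfc.symm)
    rw [← h6]
  -- dimensions
  have dimeq : ∀ p : PrimeSpectrum Γ(S, ⊤),
      topologicalKrullDim ↥(closure ({hS.fromSpec p} : Set S)) =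
        ringKrullDim (Γ(S, ⊤) ⧸ p.asIdeal) := by
    intro p
    have h := topologicalKrullDim_closure_inter_affine hS p
    rw [TopologicalSpace.Opens.coe_top, Set.inter_univ] at h
    exact h
  have hr : ringKrullDim (Γ(S, ⊤) ⧸ a.asIdeal) = r := by
    rw [← dimeq a, hfa, ← hξdim]
    exact hXr CX hCX
  have hs : ringKrullDim (Γ(S, ⊤) ⧸ b.asIdeal) = s := by
    rw [← dimeq b, hfb, ← hηdim]
    exact hYs CY hCY
  have hzd : ringKrullDim (Γ(S, ⊤) ⧸ c.asIdeal) = topologicalKrullDim Z := by
    rw [← dimeq c, hfc, ← hzdim]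
  have key := ringKrullDim_quotient_add_le_of_ringEquiv k σ Γ(S, ⊤) e
    a.asIdeal b.asIdeal c.asIdeal hmin
  rw [hr, hs, hzd] at key
  refine le_trans (le_of_eq ?_) key
  push_cast
  rfl

/-- **Affine dimension theorem** (statement S7674). -/
theorem add_le_topologicalKrullDim_component_inter (k : Type u) [Field k] (n r s : ℕ)
    (X Y : Set ↥(𝔸(ULift.{u} (Fin n); Spec (CommRingCat.of k)))) (hX : IsClosed X)
    (hY : IsClosed Y)
    (hXr : ∀ Z ∈ irreducibleComponents X, topologicalKrullDim Z = r)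
    (hYs : ∀ Z ∈ irreducibleComponents Y, topologicalKrullDim Z = s)
    (Z : Set ↥(X ∩ Y)) (hZ : Z ∈ irreducibleComponents ↥(X ∩ Y)) :
    ((r + s : ℕ) : WithBot ℕ∞) ≤ topologicalKrullDim Z + (n : WithBot ℕ∞) := by
  have h := add_le_topologicalKrullDim_component_inter_aux k (ULift.{u} (Fin n))
    (𝔸(ULift.{u} (Fin n); Spec (CommRingCat.of k))) (gammaEquiv k (ULift.{u} (Fin n))) r s X Y
    hX hY hXr hYs Z hZ
  have hcard : Fintype.card (ULift.{u} (Fin n)) = n := by simp
  rw [hcard] at h
  exact h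

end Main

end Groth.Agent.H48.AffineDimThmSch
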