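import Mathlib

set_option autoImplicit false
set_option linter.unusedSectionVars false
universe u

namespace Groth.Agent.H48

section ArtinLocal

variable {R S : Type u} [CommRing R] [CommRing S] [Algebra R S] [IsLocalRing S]

theorem maximalIdeal_pow_eq_bot [IsArtinianRing S] :
    ∃ k : ℕ, (IsLocalRing.maximalIdeal S) ^ k = ⊥ := by
  have h : IsNilpotent (Ideal.jacobson (⊥ : Ideal S)) := IsArtinianRing.isNilpotent_jacobson_bot
  rw [IsLocalRing.jacobson_eq_maximalIdeal ⊥ bot_ne_top] at h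
  obtain ⟨k, hk⟩ := h
  exact ⟨k, hk⟩

/-- key approximation step -/
theorem approx_step (T : Subalgebra R S) (Xs : Finset S)
    (hXs : Ideal.span (Xs : Set S) = IsLocalRing.maximalIdeal S) (hXT : ∀ x ∈ Xs, x ∈ T)
    (hT : ∀ s : S, ∃ t ∈ T, s - t ∈ IsLocalRing.maximalIdeal S) (i : ℕ) :
    ∀ μ ∈ (IsLocalRing.maximalIdeal S) ^ i,
      ∃ t ∈ T, t ∈ (IsLocalRing.maximalIdeal S) ^ i ∧ μ - t ∈ (IsLocalRing.maximalIdeal S) ^ (i + 1) := by
  set m := IsLocalRing.maximalIdeal S with hm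
  induction i with
  | zero =>
    intro μ _
    obtain ⟨t, ht, hμ⟩ := hT μ
    refine ⟨t, ht, by rw [pow_zero, Ideal.one_eq_top]; trivial, by rw [zero_add, pow_one]; exact hμ⟩
  | succ i ih =>
    -- Q(a) for a ∈ m
    have hQ : ∀ a ∈ m, ∀ b ∈ m ^ i, ∃ t ∈ T, t ∈ m ^ (i + 1) ∧ a * b - t ∈ m ^ (i + 1 + 1) := by
      intro a ha
      rw [← hXs] at ha
      induction ha using Submodule.span_induction with
      | mem x hx =>
        intro b hb
        obtain ⟨t, ht, htm, hbt⟩ := ih b hb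
        have hxm : x ∈ m := by rw [← hXs]; exact Ideal.subset_span hx
        refine ⟨x * t, T.mul_mem (hXT x hx) ht, ?_, ?_⟩
        · rw [pow_succ']
          exact Ideal.mul_mem_mul hxm htm
        · have : x * b - x * t = x * (b - t) := by ring
          rw [this, pow_succ' m (i + 1)]
          exact Ideal.mul_mem_mul hxm hbt
      | zero =>
        intro b _
        exact ⟨0, T.zero_mem, Ideal.zero_mem _, by simp⟩
      | add a₁ a₂ _ _ h₁ h₂ =>
        intro b hb
        obtain ⟨t₁, ht₁, htm₁, h₁'⟩ := h₁ b hb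
        obtain ⟨t₂, ht₂, htm₂, h₂'⟩ := h₂ b hb
        refine ⟨t₁ + t₂, T.add_mem ht₁ ht₂, Ideal.add_mem _ htm₁ htm₂, ?_⟩
        have : (a₁ + a₂) * b - (t₁ + t₂) = (a₁ * b - t₁) + (a₂ * b - t₂) := by ring
        rw [this]
        exact Ideal.add_mem _ h₁' h₂'
      | smul c a' _ h' =>
        intro b hb
        obtain ⟨t, ht, htm, h''⟩ := h' (c * b) (Ideal.mul_mem_left _ c hb)
        refine ⟨t, ht, htm, ?_⟩
        have : c • a' * b - t = a' * (c * b) - t := by rw [smul_eq_mul]; ring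
        rw [this]
        exact h''
    intro μ hμ
    rw [pow_succ'] at hμ
    induction hμ using Submodule.mul_induction_on' with
    | mem_mul_mem a ha b hb => exact hQ a ha b hb
    | add x _ y _ hx hy =>
      obtain ⟨t₁, ht₁, htm₁, h₁'⟩ := hx
      obtain ⟨t₂, ht₂, htm₂, h₂'⟩ := hy
      refine ⟨t₁ + t₂, T.add_mem ht₁ ht₂, Ideal.add_mem _ htm₁ htm₂, ?_⟩
      have : x + y - (t₁ + t₂) = (x - t₁) + (y - t₂) := by ring
      rw [this]
      exact Ideal.add_mem _ h₁' h₂'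

theorem approx_all (T : Subalgebra R S) (Xs : Finset S)
    (hXs : Ideal.span (Xs : Set S) = IsLocalRing.maximalIdeal S) (hXT : ∀ x ∈ Xs, x ∈ T)
    (hT : ∀ s : S, ∃ t ∈ T, s - t ∈ IsLocalRing.maximalIdeal S) (i : ℕ) (s : S) :
    ∃ t ∈ T, s - t ∈ (IsLocalRing.maximalIdeal S) ^ i := by
  induction i with
  | zero => exact ⟨0, T.zero_mem, by rw [pow_zero, Ideal.one_eq_top]; trivial⟩
  | succ i ih =>
    obtain ⟨t, ht, hst⟩ := ih
    obtain ⟨t', ht', _, h'⟩ := approx_step T Xs hXs hXT hT i (s - t) hst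
    refine ⟨t + t', T.add_mem ht ht', ?_⟩
    have : s - (t + t') = s - t - t' := by ring
    rw [this]
    exact h'

theorem finiteType_of_residue [IsArtinianRing S]
    (h : Algebra.FiniteType R (S ⧸ IsLocalRing.maximalIdeal S)) : Algebra.FiniteType R S := by
  classical
  obtain ⟨Ybar, hYbar⟩ := h.out
  have hlift : ∀ y : S ⧸ IsLocalRing.maximalIdeal S, ∃ s : S, Ideal.Quotient.mk _ s = y :=
    Ideal.Quotient.mk_surjective
  choose lift hlift using hlift
  obtain ⟨Xs, hXs⟩ := (IsNoetherian.noetherian (IsLocalRing.maximalIdeal S) :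
    (IsLocalRing.maximalIdeal S).FG)
  set T : Subalgebra R S := Algebra.adjoin R ((Ybar.image lift ∪ Xs : Finset S) : Set S) with hTdef
  have hXT : ∀ x ∈ Xs, x ∈ T := fun x hx =>
    Algebra.subset_adjoin (Finset.mem_coe.mpr (Finset.mem_union_right _ hx))
  have hYT : ∀ y ∈ Ybar, lift y ∈ T := fun y hy =>
    Algebra.subset_adjoin (Finset.mem_coe.mpr (Finset.mem_union_left _ (Finset.mem_image_of_mem _ hy)))
  have hT : ∀ s : S, ∃ t ∈ T, s - t ∈ IsLocalRing.maximalIdeal S := by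
    intro s
    let φ : T →ₐ[R] S ⧸ IsLocalRing.maximalIdeal S :=
      (Ideal.Quotient.mkₐ R (IsLocalRing.maximalIdeal S)).comp T.val
    have hrange : φ.range = ⊤ := by
      rw [eq_top_iff, ← hYbar]
      apply Algebra.adjoin_le
      intro y hy
      refine ⟨⟨lift y, hYT y (Finset.mem_coe.mp hy)⟩, ?_⟩
      exact hlift y
    have : Ideal.Quotient.mk (IsLocalRing.maximalIdeal S) s ∈ φ.range := by rw [hrange]; trivial
    obtain ⟨⟨t, ht⟩, hts⟩ := this
    refine ⟨t, ht, ?_⟩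
    rw [← Ideal.Quotient.eq]
    exact hts.symm
  obtain ⟨k, hk⟩ := maximalIdeal_pow_eq_bot (S := S)
  have htop : T = ⊤ := by
    rw [eq_top_iff]
    intro s _
    obtain ⟨t, ht, hst⟩ := approx_all T Xs hXs hXT hT k s
    rw [hk, Ideal.mem_bot, sub_eq_zero] at hst
    rw [hst]; exact ht
  exact ⟨⟨_, htop⟩⟩

theorem isIntegral_of_residue [IsArtinianRing S]
    (h : Algebra.IsIntegral R (S ⧸ IsLocalRing.maximalIdeal S)) : Algebra.IsIntegral R S := by
  obtain ⟨k, hk⟩ := maximalIdeal_pow_eq_bot (S := S)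
  refine ⟨fun s => ?_⟩
  obtain ⟨P, hP, hPs⟩ := h.isIntegral (Ideal.Quotient.mk (IsLocalRing.maximalIdeal S) s)
  have h1 : Polynomial.eval₂ (algebraMap R S) s P ∈ IsLocalRing.maximalIdeal S := by
    rw [← Ideal.Quotient.eq_zero_iff_mem, Polynomial.hom_eval₂]
    have : (Ideal.Quotient.mk (IsLocalRing.maximalIdeal S)).comp (algebraMap R S) =
        algebraMap R (S ⧸ IsLocalRing.maximalIdeal S) := rfl
    rw [this]
    exact hPs
  refine ⟨P ^ k, hP.pow k, ?_⟩
  rw [Polynomial.eval₂_pow]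
  have : Polynomial.eval₂ (algebraMap R S) s P ^ k ∈ (IsLocalRing.maximalIdeal S) ^ k :=
    Ideal.pow_mem_pow h1 k
  rwa [hk, Ideal.mem_bot] at this

end ArtinLocal

end Groth.Agent.H48
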