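import Mathlib
import Groth.Prelude.Def_Cyc
import Groth.Agent.H10.LengthOrd
import Groth.Agent.H27.LengthSemilocal

/-!
# Orders of vanishing along a finite birational extension of a one-dimensional local domain

`A` a one-dimensional Noetherian local domain, `B` a domain finite over `A` with the same fraction
field.  Then `ord_A(a) = length_A(B/aB) = ∑_n [κ(n) : κ(A)] ord_{B_n}(a)`.
-/

set_option autoImplicit false
set_option linter.unusedSectionVars false
set_option linter.style.haveILetI false
universe u

open IsLocalRing Pointwise

namespace Groth.Agent.H48.BiratAlg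

section Semilocal

variable (A B : Type u) [CommRing A] [IsLocalRing A] [CommRing B] [Algebra A B] [Module.Finite A B]

theorem comap_eq_maximalIdeal (n : Ideal B) [n.IsMaximal] :
    n.comap (algebraMap A B) = maximalIdeal A := by
  haveI : Algebra.IsIntegral A B := Algebra.IsIntegral.of_finite A B
  haveI := Ideal.isMaximal_comap_of_isIntegral_of_isMaximal (R := A) n
  exact IsLocalRing.eq_maximalIdeal inferInstance

include A in
theorem finite_maximalSpectrum : Finite (MaximalSpectrum B) := by
  set I := (maximalIdeal A).map (algebraMap A B) with hI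
  haveI : Module.Finite (A ⧸ maximalIdeal A) (B ⧸ I) :=
    Module.Finite.of_restrictScalars_finite A _ _
  letI : Field (A ⧸ maximalIdeal A) := Ideal.Quotient.field _
  haveI : IsArtinianRing (B ⧸ I) := IsArtinianRing.of_finite (A ⧸ maximalIdeal A) _
  have hfin : (Set.range (PrimeSpectrum.comap (Ideal.Quotient.mk I))).Finite := Set.finite_range _
  have hsub : Set.range (MaximalSpectrum.toPrimeSpectrum (R := B)) ⊆
      Set.range (PrimeSpectrum.comap (Ideal.Quotient.mk I)) := by
    rintro _ ⟨n, rfl⟩
    rw [range_comap_of_surjective _ _ Ideal.Quotient.mk_surjective, Ideal.mk_ker]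
    change I ≤ n.asIdeal
    rw [hI, Ideal.map_le_iff_le_comap, comap_eq_maximalIdeal A B n.asIdeal]
  haveI : Finite (Set.range (MaximalSpectrum.toPrimeSpectrum (R := B))) :=
    (hfin.subset hsub).to_subtype
  exact Finite.of_injective_finite_range MaximalSpectrum.toPrimeSpectrum_injective

end Semilocal

section Core

variable {A B K : Type u} [CommRing A] [IsLocalRing A] [IsDomain A] [IsNoetherianRing A]
  [Ring.KrullDimLE 1 A] [CommRing B] [IsDomain B] [Algebra A B] [Module.Finite A B]
  [Field K] [Algebra A K] [Algebra B K] [IsScalarTower A B K] [IsFractionRing A K]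
  [IsFractionRing B K]

include K in
theorem algebraMap_injective : Function.Injective (algebraMap A B) := by
  intro a b hab
  apply IsFractionRing.injective A K
  rw [IsScalarTower.algebraMap_apply A B K, IsScalarTower.algebraMap_apply A B K, hab]

include K in
/-- The cokernel of `A → B` has finite length. -/
theorem length_coker_lt_top :
    Module.length A (B ⧸ LinearMap.range (Algebra.linearMap A B)) < ⊤ := by
  apply Groth.Agent.H10.length_lt_top_of_support_subset
  intro p hp
  by_contra hne
  have hbot : p.asIdeal = ⊥ := by
    by_contra hb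
    exact hne (IsLocalRing.eq_maximalIdeal (p.2.isMaximal_of_ne_bot hb))
  revert hp
  rw [imp_false, Module.notMem_support_iff']
  intro q
  obtain ⟨b, rfl⟩ := Submodule.Quotient.mk_surjective _ q
  obtain ⟨x, s, hs, hxs⟩ := IsFractionRing.div_surjective (A := A) (algebraMap B K b)
  have hs0 : s ≠ 0 := nonZeroDivisors.ne_zero hs
  refine ⟨s, ?_, ?_⟩
  · rw [hbot]
    exact hs0
  · rw [← Submodule.Quotient.mk_smul, Submodule.Quotient.mk_eq_zero]
    refine ⟨x, ?_⟩
    apply IsFractionRing.injective B K
    have hsK : algebraMap A K s ≠ 0 := by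
      intro h
      exact hs0 (IsFractionRing.injective A K (h.trans (map_zero _).symm))
    rw [Algebra.linearMap_apply, ← IsScalarTower.algebraMap_apply A B K, Algebra.smul_def,
      map_mul, ← IsScalarTower.algebraMap_apply A B K, ← hxs]
    field_simp

include K in
/-- `length_A(B/aB) = ord_A(a)` for nonzero `a`. -/
theorem length_quot_smul_eq_ord (a : A) (ha : a ≠ 0) :
    Module.length A (B ⧸ a • (⊤ : Submodule A B)) = Ring.ord A a := by
  have hinj := algebraMap_injective (A := A) (B := B) (K := K)
  have six := Groth.Agent.H10.six_term (R := A) a (Algebra.linearMap A B)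
    (LinearMap.range (Algebra.linearMap A B)).mkQ hinj
    (Submodule.mkQ_surjective _)
    (LinearMap.exact_map_mkQ_range (Algebra.linearMap A B))
  have hkA : LinearMap.ker (LinearMap.lsmul A A a) = ⊥ := by
    rw [LinearMap.ker_eq_bot]
    intro x y hxy
    exact mul_left_cancel₀ ha hxy
  have hkB : LinearMap.ker (LinearMap.lsmul A B a) = ⊥ := by
    rw [LinearMap.ker_eq_bot]
    intro x y hxy
    have hab : algebraMap A B a ≠ 0 := fun h => ha (hinj (h.trans (map_zero _).symm))
    have : algebraMap A B a * x = algebraMap A B a * y := by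
      simpa [Algebra.smul_def] using hxy
    exact mul_left_cancel₀ hab this
  have hQ := Groth.Agent.H10.length_quot_smul_eq_length_ker
    (B ⧸ LinearMap.range (Algebra.linearMap A B)) a (length_coker_lt_top (A := A) (B := B) (K := K))
  rw [hkA, hkB] at six
  have h0A : Module.length A (⊥ : Submodule A A) = 0 := Module.length_eq_zero
  have h0B : Module.length A (⊥ : Submodule A B) = 0 := Module.length_eq_zero
  rw [h0A, h0B, zero_add, add_zero, hQ] at six
  have hfin : Module.length A (LinearMap.ker (LinearMap.lsmul A
      (B ⧸ LinearMap.range (Algebra.linearMap A B)) a)) ≠ ⊤ := by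
    refine ne_top_of_le_ne_top (length_coker_lt_top (A := A) (B := B) (K := K)).ne ?_
    exact Module.length_le_of_injective (Submodule.subtype _) (Submodule.subtype_injective _)
  have h1 := ENat.add_left_injective_of_ne_top hfin six
  rw [h1]
  unfold Ring.ord
  refine LinearEquiv.length_eq ?_
  refine Submodule.quotEquivOfEq _ _ ?_
  ext x
  rw [Ideal.mem_span_singleton', Submodule.mem_smul_pointwise_iff_exists]
  constructor
  · rintro ⟨y, -, rfl⟩
    exact ⟨y, by rw [smul_eq_mul, mul_comm]⟩
  · rintro ⟨y, rfl⟩
    exact ⟨y, Submodule.mem_top, by rw [smul_eq_mul, mul_comm]⟩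

end Core

end Groth.Agent.H48.BiratAlg
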