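import Mathlib
import Groth.Prelude.Def_Cyc
import Groth.Agent.H48.BiratAlg
import Groth.Agent.H54.OrdEquiv

/-!
# `ord_A(a) = ∑_n [κ(n) : κ(A)] ord_{B_n}(a)` for a finite birational extension `A ⊆ B`
-/

set_option autoImplicit false
set_option linter.unusedSectionVars false
set_option linter.style.haveILetI false
universe u

open IsLocalRing Pointwise

namespace Groth.Agent.H48.BiratAlg

section LocQuot

variable {B : Type u} [CommRing B] (n : Ideal B) [n.IsPrime]

/-- The length of the localisation of `B/bB` at `n` is the order of `b` in `B_n`. -/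
theorem length_localizedModule_quot_span (b : B) :
    Module.length (Localization.AtPrime n)
        (LocalizedModule n.primeCompl (B ⧸ Ideal.span {b})) =
      Ring.ord (Localization.AtPrime n) (algebraMap B (Localization.AtPrime n) b) := by
  unfold Ring.ord
  have h1 : Ideal.span {algebraMap B (Localization.AtPrime n) b} =
      (Ideal.span {b}).map (algebraMap B (Localization.AtPrime n)) := by
    rw [Ideal.map_span, Set.image_singleton]
  rw [h1, (Algebra.TensorProduct.quotIdealMapEquivTensorQuot (Localization.AtPrime n)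
    (Ideal.span {b})).toLinearEquiv.length_eq]
  exact ((IsLocalizedModule.isBaseChange n.primeCompl (Localization.AtPrime n)
    (LocalizedModule.mkLinearMap n.primeCompl (B ⧸ Ideal.span {b}))).equiv).length_eq.symm

end LocQuot

section Dim

variable (A B : Type u) [CommRing A] [IsDomain A] [Ring.KrullDimLE 1 A]
  [CommRing B] [IsDomain B] [Algebra A B] [Algebra.IsIntegral A B]

include A in
theorem krullDimLE_one_of_isIntegral : Ring.KrullDimLE 1 B := by
  refine Ring.KrullDimLE.mk₁' fun q hq0 hq => ?_
  haveI := hq
  have h1 : q.comap (algebraMap A B) ≠ ⊥ := Ideal.IsIntegral.comap_ne_bot A hq0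
  have h2 : (q.comap (algebraMap A B)).IsMaximal :=
    Ideal.IsPrime.isMaximal_of_ne_bot (Ideal.IsPrime.comap _) h1
  exact Ideal.isMaximal_of_isIntegral_of_isMaximal_comap q h2

end Dim

section Core

variable {A B K : Type u} [CommRing A] [IsLocalRing A] [IsDomain A] [IsNoetherianRing A]
  [Ring.KrullDimLE 1 A] [CommRing B] [IsDomain B] [Algebra A B] [Module.Finite A B]
  [Field K] [Algebra A K] [Algebra B K] [IsScalarTower A B K] [IsFractionRing A K]
  [IsFractionRing B K]

include K in
/-- `ord_A(a) = ∑_n [κ(n) : κ(A)] ord_{B_n}(a)`. -/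
theorem ord_eq_finsum (a : A) (ha : a ≠ 0) :
    Ring.ord A a = ∑ᶠ n : MaximalSpectrum B,
      (Module.finrank (A ⧸ n.asIdeal.comap (algebraMap A B)) (B ⧸ n.asIdeal) : ℕ∞) *
        Ring.ord (Localization.AtPrime n.asIdeal)
          (algebraMap B (Localization.AtPrime n.asIdeal) (algebraMap A B a)) := by
  haveI := finite_maximalSpectrum A B
  haveI : Algebra.IsIntegral A B := Algebra.IsIntegral.of_finite A B
  haveI : IsNoetherianRing B := IsNoetherianRing.of_finite A B
  haveI : Ring.KrullDimLE 1 B := krullDimLE_one_of_isIntegral A B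
  have hinj := algebraMap_injective (A := A) (B := B) (K := K)
  have hb : algebraMap A B a ≠ 0 := fun h => ha (hinj (h.trans (map_zero _).symm))
  have hover : ∀ n : MaximalSpectrum B,
      n.asIdeal.comap (algebraMap A B) = maximalIdeal A :=
    fun n => comap_eq_maximalIdeal A B n.asIdeal
  have hfin : ∀ n : MaximalSpectrum B,
      Module.Finite (A ⧸ n.asIdeal.comap (algebraMap A B)) (B ⧸ n.asIdeal) :=
    fun n => Module.Finite.of_restrictScalars_finite A _ _
  have hFL : IsFiniteLength B (B ⧸ Ideal.span {algebraMap A B a}) :=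
    isFiniteLength_quotient_span_singleton B (mem_nonZeroDivisors_of_ne_zero hb)
  have key := Groth.Agent.H27.LengthSemilocal.length_eq_finsum hover hfin
    (B ⧸ Ideal.span {algebraMap A B a}) hFL
  rw [← length_quot_smul_eq_ord (B := B) (K := K) a ha]
  have e1 : (B ⧸ a • (⊤ : Submodule A B)) ≃ₗ[A] (B ⧸ Ideal.span {algebraMap A B a}) := by
    refine (Submodule.quotEquivOfEq _ ((Ideal.span {algebraMap A B a}).restrictScalars A) ?_).trans
      (Submodule.Quotient.restrictScalarsEquiv A (Ideal.span {algebraMap A B a}))
    ext x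
    rw [Submodule.restrictScalars_mem, Ideal.mem_span_singleton',
      Submodule.mem_smul_pointwise_iff_exists]
    constructor
    · rintro ⟨y, -, rfl⟩
      exact ⟨y, by rw [Algebra.smul_def, mul_comm]⟩
    · rintro ⟨y, rfl⟩
      exact ⟨y, Submodule.mem_top, by rw [Algebra.smul_def, mul_comm]⟩
  rw [e1.length_eq, key]
  exact finsum_congr fun n => by rw [length_localizedModule_quot_span]

end Core

end Groth.Agent.H48.BiratAlg
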