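import Mathlib
import Groth.Prelude.Def_Cyc
import Groth.Agent.H48.BiratAlg2
import Groth.Agent.H36.LatticeDist

/-!
# `ordFrac_A(g) = ∑_n [κ(n) : κ(A)] ordFrac_{B_n}(g)` for a finite birational extension `A ⊆ B`
-/

set_option autoImplicit false
set_option linter.unusedSectionVars false
set_option linter.style.haveILetI false
universe u

open IsLocalRing Pointwise

namespace Groth.Agent.H48.BiratAlg

section Dim'

theorem krullDimLE_one_loc (A B : Type u) [CommRing A] [IsDomain A] [Ring.KrullDimLE 1 A]
    [CommRing B] [IsDomain B] [Algebra A B] [Module.Finite A B] (n : Ideal B) [n.IsPrime]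
    (L : Type u) [CommRing L] [Algebra B L] [IsLocalization.AtPrime L n] :
    Ring.KrullDimLE 1 L := by
  haveI : Algebra.IsIntegral A B := Algebra.IsIntegral.of_finite A B
  haveI : Ring.KrullDimLE 1 B := krullDimLE_one_of_isIntegral A B
  rw [Ring.krullDimLE_iff, IsLocalization.AtPrime.ringKrullDim_eq_height n L]
  exact Ideal.height_le_ringKrullDim_of_isPrime.trans (Ring.krullDimLE_iff.mp inferInstance)

end Dim'

section Core

variable {A B K : Type u} [CommRing A] [IsLocalRing A] [IsDomain A] [IsNoetherianRing A]
  [Ring.KrullDimLE 1 A] [CommRing B] [IsDomain B] [Algebra A B] [Module.Finite A B]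
  [Field K] [Algebra A K] [Algebra B K] [IsScalarTower A B K] [IsFractionRing A K]
  [IsFractionRing B K]
  {ι : Type u} (n : ι → Ideal B) [∀ i, (n i).IsMaximal]
  (hninj : Function.Injective n) (hnsurj : ∀ m : Ideal B, m.IsMaximal → ∃ i, n i = m)
  (L : ι → Type u) [∀ i, CommRing (L i)] [∀ i, Algebra B (L i)]
  [∀ i, IsLocalization.AtPrime (L i) (n i)] [∀ i, Algebra (L i) K]
  [∀ i, IsScalarTower B (L i) K]

include K hninj hnsurj in
/-- `ordFrac_A(g) = ∑_i [κ(n_i) : κ(A)] ordFrac_{B_{n_i}}(g)`, the `n_i` being the maximal ideals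
of `B`. -/
theorem ordFrac_eq_finsum (g : K) (hg : g ≠ 0) :
    CycAlg.ordFrac A K g = ∑ᶠ i : ι,
      (Module.finrank (A ⧸ (n i).comap (algebraMap A B)) (B ⧸ n i) : ℤ) *
        CycAlg.ordFrac (L i) K g := by
  classical
  haveI := finite_maximalSpectrum A B
  haveI := Fintype.ofFinite (MaximalSpectrum B)
  let e : ι ≃ MaximalSpectrum B := Equiv.ofBijective (fun i => ⟨n i, inferInstance⟩)
    ⟨fun i j hij => hninj (congrArg MaximalSpectrum.asIdeal hij), fun m => by
      obtain ⟨i, hi⟩ := hnsurj m.asIdeal m.isMaximal
      exact ⟨i, MaximalSpectrum.ext hi⟩⟩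
  haveI : Finite ι := Finite.of_equiv _ e.symm
  haveI := Fintype.ofFinite ι
  haveI : IsNoetherianRing B := IsNoetherianRing.of_finite A B
  have hinj := algebraMap_injective (A := A) (B := B) (K := K)
  haveI : ∀ i, IsDomain (L i) := fun i => IsLocalization.isDomain_of_atPrime (L i) (n i)
  haveI : ∀ i, IsNoetherianRing (L i) := fun i =>
    IsLocalization.isNoetherianRing (n i).primeCompl (L i) inferInstance
  haveI : ∀ i, Ring.KrullDimLE 1 (L i) := fun i => krullDimLE_one_loc A B (n i) (L i)
  haveI : ∀ i, IsFractionRing (L i) K := fun i =>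
    IsFractionRing.isFractionRing_of_isDomain_of_isLocalization (n i).primeCompl (L i) K
  -- the key identity on natural numbers
  have key : ∀ a : A, a ≠ 0 →
      ((Ring.ord A a).toNat : ℤ) = ∑ i : ι,
        (Module.finrank (A ⧸ (n i).comap (algebraMap A B)) (B ⧸ n i) : ℤ) *
          ((Ring.ord (L i) (algebraMap B (L i) (algebraMap A B a))).toNat : ℤ) := by
    intro a ha
    have hb : algebraMap A B a ≠ 0 := fun h => ha (hinj (h.trans (map_zero _).symm))
    have h1 := ord_eq_finsum (B := B) (K := K) a ha
    rw [finsum_eq_sum_of_fintype, ← e.sum_comp] at h1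
    have h2 : ∀ i : ι,
        Ring.ord (Localization.AtPrime (n i))
          (algebraMap B (Localization.AtPrime (n i)) (algebraMap A B a)) =
        ((Ring.ord (L i) (algebraMap B (L i) (algebraMap A B a))).toNat : ℕ∞) := by
      intro i
      let e' : Localization.AtPrime (n i) ≃ₐ[B] L i :=
        IsLocalization.algEquiv (n i).primeCompl _ _
      have he := Groth.Agent.H54.OrdEquiv.ord_ringEquiv e'.toRingEquiv
        (algebraMap B (Localization.AtPrime (n i)) (algebraMap A B a))
      have he2 : e'.toRingEquiv (algebraMap B (Localization.AtPrime (n i))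
          (algebraMap A B a)) = algebraMap B (L i) (algebraMap A B a) := e'.commutes _
      rw [he2] at he
      rw [← he]
      have hne : algebraMap B (L i) (algebraMap A B a) ≠ 0 := by
        intro h
        apply hb
        exact IsLocalization.injective (L i) (n i).primeCompl_le_nonZeroDivisors
          (h.trans (map_zero _).symm)
      exact (ENat.natCast_toNat (Ring.ord_ne_top (mem_nonZeroDivisors_of_ne_zero hne))).symm
    have h1' : Ring.ord A a = ∑ i : ι,
        (Module.finrank (A ⧸ (n i).comap (algebraMap A B)) (B ⧸ n i) : ℕ∞) *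
          Ring.ord (Localization.AtPrime (n i))
            (algebraMap B (Localization.AtPrime (n i)) (algebraMap A B a)) := h1
    simp only [h2] at h1'
    have h3 : Ring.ord A a = ((∑ i : ι,
        Module.finrank (A ⧸ (n i).comap (algebraMap A B)) (B ⧸ n i) *
          (Ring.ord (L i) (algebraMap B (L i) (algebraMap A B a))).toNat : ℕ) : ℕ∞) := by
      rw [h1']
      push_cast
      rfl
    rw [h3, ENat.toNat_natCast]
    push_cast
    rfl
  obtain ⟨x, s, hs, rfl⟩ := IsFractionRing.div_surjective (A := A) g
  have hs0 : s ≠ 0 := nonZeroDivisors.ne_zero hs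
  have hx0 : x ≠ 0 := by
    rintro rfl
    apply hg
    simp
  rw [finsum_eq_sum_of_fintype,
    Groth.Agent.H36.LatticeDist.ordFrac_div A K x s hx0 hs0, key x hx0, key s hs0,
    ← Finset.sum_sub_distrib]
  refine Finset.sum_congr rfl fun i _ => ?_
  have hxn : algebraMap A K x = algebraMap (L i) K (algebraMap B (L i) (algebraMap A B x)) := by
    rw [← IsScalarTower.algebraMap_apply B (L i) K, ← IsScalarTower.algebraMap_apply A B K]
  have hsn : algebraMap A K s = algebraMap (L i) K (algebraMap B (L i) (algebraMap A B s)) := by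
    rw [← IsScalarTower.algebraMap_apply B (L i) K, ← IsScalarTower.algebraMap_apply A B K]
  have hx1 : algebraMap B (L i) (algebraMap A B x) ≠ 0 := by
    intro h
    have : algebraMap A K x = 0 := by rw [hxn, h, map_zero]
    exact hx0 (IsFractionRing.injective A K (this.trans (map_zero _).symm))
  have hs1 : algebraMap B (L i) (algebraMap A B s) ≠ 0 := by
    intro h
    have : algebraMap A K s = 0 := by rw [hsn, h, map_zero]
    exact hs0 (IsFractionRing.injective A K (this.trans (map_zero _).symm))
  rw [hxn, hsn, Groth.Agent.H36.LatticeDist.ordFrac_div (L i) K _ _ hx1 hs1]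
  ring

end Core

end Groth.Agent.H48.BiratAlg
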