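import Mathlib
import Groth.Prelude.Def_Cyc
import Groth.Agent.H48.BiratAlg3

/-!
# The order formula for a finite birational extension of domains, at a height one prime

`R ⊆ B'` a finite extension of Noetherian domains with the same fraction field `K`, `p` a prime
of `R` with `R_p` of dimension `≤ 1`.  Then
`ordFrac_{R_p}(g) = ∑_{q over p} [κ(q) : κ(p)] ordFrac_{B'_q}(g)`.
-/

set_option autoImplicit false
set_option linter.unusedSectionVars false
set_option linter.style.haveILetI false
universe u

open IsLocalRing Pointwise

namespace Groth.Agent.H48.BiratAlg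

section Global

variable {R B' K O B : Type u} [CommRing R] [IsDomain R] [IsNoetherianRing R]
  [CommRing B'] [IsDomain B'] [Algebra R B'] [Module.Finite R B']
  [Field K] [Algebra R K] [Algebra B' K] [IsScalarTower R B' K] [IsFractionRing R K]
  [IsFractionRing B' K]
  (p : Ideal R) [p.IsPrime]
  [CommRing O] [Algebra R O] [IsLocalization.AtPrime O p] [Algebra O K] [IsScalarTower R O K]
  [CommRing B] [Algebra B' B] [IsLocalization (Algebra.algebraMapSubmonoid B' p.primeCompl) B]
  [Algebra O B] [Algebra R B] [IsScalarTower R B' B] [IsScalarTower R O B]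

include K in
theorem algebraMap_injective' : Function.Injective (algebraMap R B') := by
  intro a b hab
  apply IsFractionRing.injective R K
  rw [IsScalarTower.algebraMap_apply R B' K, IsScalarTower.algebraMap_apply R B' K, hab]

include K in
theorem submonoid_le_nonZeroDivisors :
    Algebra.algebraMapSubmonoid B' p.primeCompl ≤ nonZeroDivisors B' := by
  rintro _ ⟨s, hs, rfl⟩
  apply mem_nonZeroDivisors_of_ne_zero
  intro h
  have : s = 0 := algebraMap_injective' (K := K) (h.trans (map_zero _).symm)
  exact hs (this ▸ p.zero_mem)

/-- Primes of `B'` over `p` are disjoint from the image of the complement of `p`. -/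
theorem disjoint_of_comap_eq (q : Ideal B') (hq : q.comap (algebraMap R B') = p) :
    Disjoint (Algebra.algebraMapSubmonoid B' p.primeCompl : Set B') (q : Set B') := by
  rw [Set.disjoint_left]
  rintro _ ⟨s, hs, rfl⟩ hmem
  apply hs
  rw [← hq]
  exact hmem

variable (O B) in
include O in
/-- The maximal ideal of the semilocal ring attached to a prime over `p`. -/
theorem isMaximal_map (q : Ideal B') [q.IsPrime] (hq : q.comap (algebraMap R B') = p) :
    (q.map (algebraMap B' B)).IsMaximal := by
  haveI : IsLocalRing O := IsLocalization.AtPrime.isLocalRing O p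
  haveI : q.LiesOver p := ⟨hq.symm⟩
  haveI : Module.Finite O B := Module.Finite.of_isLocalization R B' p.primeCompl
  haveI : Algebra.IsIntegral O B := Algebra.IsIntegral.of_finite O B
  haveI hprime : (q.map (algebraMap B' B)).IsPrime :=
    IsLocalization.AtPrime.isPrime_map_of_liesOver B' p B q
  have hlies : (q.map (algebraMap B' B)).LiesOver (maximalIdeal O) :=
    IsLocalization.AtPrime.liesOver_map_of_liesOver p O B q
  have hmax : ((q.map (algebraMap B' B)).comap (algebraMap O B)).IsMaximal := by
    rw [← Ideal.under_def, ← hlies.over]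
    infer_instance
  exact Ideal.isMaximal_of_isIntegral_of_isMaximal_comap _ hmax

variable {ι : Type u} (q : ι → Ideal B') [∀ i, (q i).IsPrime]
  (hq : ∀ i, (q i).comap (algebraMap R B') = p) (hqinj : Function.Injective q)
  (hqsurj : ∀ Q : Ideal B', Q.IsPrime → Q.comap (algebraMap R B') = p → ∃ i, q i = Q)
  (L : ι → Type u) [∀ i, CommRing (L i)] [∀ i, Algebra B' (L i)]
  [∀ i, IsLocalization.AtPrime (L i) (q i)] [∀ i, Algebra (L i) K]
  [∀ i, IsScalarTower B' (L i) K]
  (φ : ∀ i, O →+* L i)
  (hφ : ∀ i, (φ i).comp (algebraMap R O) = (algebraMap B' (L i)).comp (algebraMap R B'))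

/-- Units: the image of the complement of `p` consists of units in `B'_q`. -/
theorem isUnit_algebraMap_of_mem (i : ι) (hqi : (q i).comap (algebraMap R B') = p) (s : B')
    (hs : s ∈ Algebra.algebraMapSubmonoid B' p.primeCompl) : IsUnit (algebraMap B' (L i) s) := by
  have hdis := disjoint_of_comap_eq p (q i) hqi
  have hs' : s ∈ (q i).primeCompl := fun hmem => Set.disjoint_left.mp hdis hs hmem
  exact IsLocalization.map_units (L i) ⟨s, hs'⟩

include O B K hq hqinj hqsurj hφ in
/-- `ordFrac_{R_p}(g) = ∑_{q over p} [κ(q) : κ(p)] ordFrac_{B'_q}(g)`. -/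
theorem ordFrac_eq_finsum_primesOver [IsLocalRing O] [∀ i, IsLocalRing (L i)]
    [∀ i, IsLocalHom (φ i)]
    (hdim : Ring.KrullDimLE 1 O) (g : K) (hg : g ≠ 0) :
    CycAlg.ordFrac O K g = ∑ᶠ i : ι,
      (@Module.finrank (ResidueField O) (ResidueField (L i)) _ _
        (ResidueField.map (φ i)).toAlgebra.toModule : ℤ) *
        CycAlg.ordFrac (L i) K g := by
  classical
  set S' := Algebra.algebraMapSubmonoid B' p.primeCompl with hS'
  have hinjRB := algebraMap_injective' (R := R) (B' := B') (K := K)
  have hS'le : S' ≤ nonZeroDivisors B' := submonoid_le_nonZeroDivisors (K := K) p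
  haveI : IsDomain O := IsLocalization.isDomain_of_atPrime O p
  haveI : IsNoetherianRing O := IsLocalization.isNoetherianRing p.primeCompl O inferInstance
  haveI : IsDomain B := IsLocalization.isDomain_of_le_nonZeroDivisors B hS'le
  haveI : Module.Finite O B := Module.Finite.of_isLocalization R B' p.primeCompl
  haveI : IsFractionRing O K :=
    IsFractionRing.isFractionRing_of_isDomain_of_isLocalization p.primeCompl O K
  -- the algebra structure `B → K`
  have hunitK : ∀ s : S', IsUnit (algebraMap B' K s) := by
    intro s
    have hs0 : (s : B') ≠ 0 := nonZeroDivisors.ne_zero (hS'le s.2)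
    have : algebraMap B' K s ≠ 0 := fun h =>
      hs0 (IsFractionRing.injective B' K (h.trans (map_zero _).symm))
    exact this.isUnit
  letI algBK : Algebra B K := (IsLocalization.lift (M := S') hunitK).toAlgebra
  have hBK : ∀ b : B', algebraMap B K (algebraMap B' B b) = algebraMap B' K b :=
    fun b => IsLocalization.lift_eq hunitK b
  haveI : IsScalarTower B' B K := IsScalarTower.of_algebraMap_eq fun b => (hBK b).symm
  haveI : IsFractionRing B K :=
    IsFractionRing.isFractionRing_of_isDomain_of_isLocalization S' B K
  haveI : IsScalarTower O B K := by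
    refine IsScalarTower.of_algebraMap_eq' ?_
    refine IsLocalization.ringHom_ext p.primeCompl ?_
    ext r
    simp only [RingHom.comp_apply]
    rw [← IsScalarTower.algebraMap_apply R O K, ← IsScalarTower.algebraMap_apply R O B,
      IsScalarTower.algebraMap_apply R B' B, hBK, ← IsScalarTower.algebraMap_apply R B' K]
  -- the algebra structures `B → L i`
  have hunitL : ∀ i, ∀ s : S', IsUnit (algebraMap B' (L i) s) :=
    fun i s => isUnit_algebraMap_of_mem p q L i (hq i) s s.2
  letI algBL : ∀ i, Algebra B (L i) := fun i => (IsLocalization.lift (M := S') (hunitL i)).toAlgebra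
  have hBL : ∀ i, ∀ b : B', algebraMap B (L i) (algebraMap B' B b) = algebraMap B' (L i) b :=
    fun i b => IsLocalization.lift_eq (hunitL i) b
  haveI : ∀ i, IsScalarTower B' B (L i) := fun i =>
    IsScalarTower.of_algebraMap_eq fun b => (hBL i b).symm
  haveI : ∀ i, IsScalarTower B (L i) K := by
    intro i
    refine IsScalarTower.of_algebraMap_eq' ?_
    refine IsLocalization.ringHom_ext S' ?_
    ext b
    simp only [RingHom.comp_apply]
    rw [hBK, hBL, ← IsScalarTower.algebraMap_apply B' (L i) K]
  -- the maximal ideals
  let n : ι → Ideal B := fun i => (q i).map (algebraMap B' B)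
  haveI : ∀ i, (n i).IsMaximal := fun i => isMaximal_map O B p (q i) (hq i)
  have hcomap : ∀ i, (n i).comap (algebraMap B' B) = q i := fun i =>
    IsLocalization.under_map_of_isPrime_disjoint S' B inferInstance
      (disjoint_of_comap_eq p (q i) (hq i))
  have hninj : Function.Injective n := by
    intro i j hij
    apply hqinj
    rw [← hcomap i, ← hcomap j, hij]
  have hnsurj : ∀ m : Ideal B, m.IsMaximal → ∃ i, n i = m := by
    intro m hm
    haveI := hm
    have h1 : m.comap (algebraMap O B) = maximalIdeal O := comap_eq_maximalIdeal O B m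
    have h2 : (m.comap (algebraMap B' B)).comap (algebraMap R B') = p := by
      rw [Ideal.comap_comap, ← IsScalarTower.algebraMap_eq R B' B,
        IsScalarTower.algebraMap_eq R O B, ← Ideal.comap_comap, h1]
      exact IsLocalization.AtPrime.comap_maximalIdeal O p
    obtain ⟨i, hi⟩ := hqsurj _ (Ideal.IsPrime.comap _) h2
    refine ⟨i, ?_⟩
    change (q i).map (algebraMap B' B) = m
    rw [hi]
    exact IsLocalization.map_under S' B m
  haveI : ∀ i, IsLocalization.AtPrime (L i) (n i) := by
    intro i
    have hle : S' ≤ (q i).primeCompl := by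
      intro s hs hmem
      exact Set.disjoint_left.mp (disjoint_of_comap_eq p (q i) (hq i)) hs hmem
    have key := IsLocalization.isLocalization_of_submonoid_le B (L i) S' (q i).primeCompl hle
    change IsLocalization (n i).primeCompl (L i)
    refine @IsLocalization.of_le _ _ _ _ _ _ key (n i).primeCompl ?_ ?_
    · rintro _ ⟨b, hb, rfl⟩
      change _ ∉ n i
      intro hmem
      apply hb
      rw [← hcomap i]
      exact hmem
    · intro y hy
      obtain ⟨b, s, rfl⟩ := IsLocalization.exists_mk'_eq S' y
      have hb : b ∉ q i := by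
        intro hb
        apply hy
        change IsLocalization.mk' B b s ∈ n i
        rw [IsLocalization.mk'_mem_map_algebraMap_iff S']
        exact ⟨1, S'.one_mem, by simpa using hb⟩
      have h3 : algebraMap B (L i) (IsLocalization.mk' B b s) * algebraMap B' (L i) s =
          algebraMap B' (L i) b := by
        rw [← hBL i s, ← map_mul, IsLocalization.mk'_spec, hBL]
      have hub : IsUnit (algebraMap B' (L i) b) :=
        IsLocalization.map_units (M := (q i).primeCompl) (L i) ⟨b, hb⟩
      rw [← h3] at hub
      exact isUnit_of_mul_isUnit_left hub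
  have main := ordFrac_eq_finsum (A := O) (B := B) (K := K) n hninj hnsurj L g hg
  rw [main]
  refine finsum_congr fun i => ?_
  congr 2
  letI : Algebra (ResidueField O) (ResidueField (L i)) := (ResidueField.map (φ i)).toAlgebra
  have hcm : (n i).comap (algebraMap O B) = maximalIdeal O := comap_eq_maximalIdeal O B (n i)
  have hφ' : (algebraMap B (L i)).comp (algebraMap O B) = φ i := by
    refine IsLocalization.ringHom_ext p.primeCompl ?_
    ext r
    simp only [RingHom.comp_apply]
    have h4 := congrArg (fun ψ => ψ r) (hφ i)
    simp only [RingHom.comp_apply] at h4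
    rw [h4, ← IsScalarTower.algebraMap_apply R O B, IsScalarTower.algebraMap_apply R B' B, hBL]
  let e1 : (O ⧸ (n i).comap (algebraMap O B)) ≃+* ResidueField O := Ideal.quotEquivOfEq hcm
  let e2 : (B ⧸ n i) ≃+* ResidueField (L i) :=
    IsLocalization.AtPrime.equivQuotMaximalIdeal (n i) (L i)
  refine Algebra.finrank_eq_of_equiv_equiv e1 e2 ?_
  ext a
  have h5 := congrArg (fun ψ => ψ a) hφ'
  simp only [RingHom.comp_apply] at h5
  change residue (L i) (φ i a) = Ideal.Quotient.mk _ (algebraMap B (L i) (algebraMap O B a))
  rw [h5]
  rfl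

end Global

end Groth.Agent.H48.BiratAlg
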