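import Mathlib
import Groth.Prelude.Def_Cyc
import Groth.Agent.H48.BiratAlg4

/-!
# The order formula for a finite birational extension of domains (final form)
-/

set_option autoImplicit false
set_option linter.unusedSectionVars false
set_option linter.style.haveILetI false
universe u

open IsLocalRing Pointwise

namespace Groth.Agent.H48.BiratAlg

/-- `ordFrac_{R_p}(g) = ∑_{q over p} [κ(q) : κ(p)] ordFrac_{B'_q}(g)` for a finite extension of
Noetherian domains `R ⊆ B'` with the same fraction field `K` and a prime `p` of `R` whose local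
ring `O` has dimension at most one; `q i` runs over the primes of `B'` over `p` and `L i` is the
local ring of `B'` at `q i`. -/
theorem ordFrac_eq_finsum_primesOver' {R B' K O : Type u} [CommRing R] [IsDomain R]
    [IsNoetherianRing R] [CommRing B'] [IsDomain B'] [Algebra R B'] [Module.Finite R B']
    [Field K] [Algebra R K] [Algebra B' K] [IsScalarTower R B' K] [IsFractionRing R K]
    [IsFractionRing B' K] (p : Ideal R) [p.IsPrime]
    [CommRing O] [Algebra R O] [IsLocalization.AtPrime O p] [Algebra O K] [IsScalarTower R O K]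
    {ι : Type u} (q : ι → Ideal B') [∀ i, (q i).IsPrime]
    (hq : ∀ i, (q i).comap (algebraMap R B') = p) (hqinj : Function.Injective q)
    (hqsurj : ∀ Q : Ideal B', Q.IsPrime → Q.comap (algebraMap R B') = p → ∃ i, q i = Q)
    (L : ι → Type u) [∀ i, CommRing (L i)] [∀ i, Algebra B' (L i)]
    [∀ i, IsLocalization.AtPrime (L i) (q i)] [∀ i, Algebra (L i) K]
    [∀ i, IsScalarTower B' (L i) K]
    (φ : ∀ i, O →+* L i)
    (hφ : ∀ i, (φ i).comp (algebraMap R O) = (algebraMap B' (L i)).comp (algebraMap R B'))
    [IsLocalRing O] [∀ i, IsLocalRing (L i)] [∀ i, IsLocalHom (φ i)]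
    (hdim : Ring.KrullDimLE 1 O) (g : K) (hg : g ≠ 0) :
    CycAlg.ordFrac O K g = ∑ᶠ i : ι,
      (@Module.finrank (ResidueField O) (ResidueField (L i)) _ _
        (ResidueField.map (φ i)).toAlgebra.toModule : ℤ) *
        CycAlg.ordFrac (L i) K g := by
  letI : Algebra O (Localization (Algebra.algebraMapSubmonoid B' p.primeCompl)) :=
    localizationAlgebra p.primeCompl B'
  haveI : IsScalarTower R O (Localization (Algebra.algebraMapSubmonoid B' p.primeCompl)) :=
    isScalarTower_localizationAlgebra p.primeCompl B'
  exact ordFrac_eq_finsum_primesOver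
    (B := Localization (Algebra.algebraMapSubmonoid B' p.primeCompl)) p q hq hqinj hqsurj L φ hφ
    hdim g hg

end Groth.Agent.H48.BiratAlg
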