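import Mathlib
import Groth.Agent.H29.DimL2

/-!
# Points maximal in their fibre: the local dimension inequality with zero-dimensional fibre

For a local homomorphism `A → B` of Noetherian local rings such that the only prime of `B`
containing `𝔪_A B` is `𝔪_B`, and any prime `p` of `B`: `dim B/p ≤ dim A/(p ∩ A)`.
-/

set_option autoImplicit false
set_option linter.unusedSectionVars false
set_option linter.style.haveILetI false
universe u

namespace Groth.Agent.H48.FibreMax

open IsLocalRing

/-- A ring whose primes are all equal has Krull dimension `≤ 0`. -/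
theorem ringKrullDim_le_zero_of_forall_prime_eq (C : Type*) [CommRing C]
    (h : ∀ P Q : Ideal C, P.IsPrime → Q.IsPrime → P = Q) : ringKrullDim C ≤ 0 := by
  haveI : Subsingleton (PrimeSpectrum C) :=
    ⟨fun a b => PrimeSpectrum.ext (h a.asIdeal b.asIdeal a.isPrime b.isPrime)⟩
  exact Order.krullDim_nonpos_of_subsingleton

theorem ringKrullDim_quotient_le_of_fibre_eq (A B : Type u) [CommRing A] [CommRing B]
    [IsLocalRing A] [IsLocalRing B] [IsNoetherianRing A] [IsNoetherianRing B] [Algebra A B]
    [IsLocalHom (algebraMap A B)]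
    (hfib : ∀ P : Ideal B, P.IsPrime → (maximalIdeal A).map (algebraMap A B) ≤ P →
      P = maximalIdeal B)
    (p : Ideal B) [hp : p.IsPrime] :
    ringKrullDim (B ⧸ p) ≤ ringKrullDim (A ⧸ p.comap (algebraMap A B)) := by
  set q := p.comap (algebraMap A B) with hq
  haveI : q.IsPrime := Ideal.IsPrime.comap _
  haveI : IsLocalRing (A ⧸ q) := IsLocalRing.of_surjective' (Ideal.Quotient.mk q)
    Ideal.Quotient.mk_surjective
  haveI : IsLocalRing (B ⧸ p) := IsLocalRing.of_surjective' (Ideal.Quotient.mk p)
    Ideal.Quotient.mk_surjective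
  haveI : IsLocalHom (algebraMap (A ⧸ q) (B ⧸ p)) := by
    constructor
    intro a ha
    obtain ⟨a, rfl⟩ := Ideal.Quotient.mk_surjective a
    have h1 : algebraMap (A ⧸ q) (B ⧸ p) (Ideal.Quotient.mk q a) =
        Ideal.Quotient.mk p (algebraMap A B a) := rfl
    rw [h1] at ha
    have h2 : IsUnit (algebraMap A B a) := by
      by_contra hnu
      have hmem : algebraMap A B a ∈ maximalIdeal B := hnu
      have : Ideal.Quotient.mk p (algebraMap A B a) ∈ maximalIdeal (B ⧸ p) := by
        rw [mem_maximalIdeal]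
        intro hu
        have hloc : IsLocalHom (Ideal.Quotient.mk p) :=
          IsLocalHom.of_surjective _ Ideal.Quotient.mk_surjective
        exact hnu (hloc.map_nonunit _ hu)
      exact this ha
    exact (isUnit_of_map_unit (algebraMap A B) a h2).map _
  refine (Groth.Agent.H29.DimL.ringKrullDim_le_add_fibre (A ⧸ q) (B ⧸ p)).trans ?_
  have hz : ringKrullDim ((B ⧸ p) ⧸ (maximalIdeal (A ⧸ q)).map (algebraMap (A ⧸ q) (B ⧸ p))) ≤ 0 := by
    apply ringKrullDim_le_zero_of_forall_prime_eq
    set J := (maximalIdeal (A ⧸ q)).map (algebraMap (A ⧸ q) (B ⧸ p)) with hJ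
    let π : B →+* (B ⧸ p) ⧸ J := (Ideal.Quotient.mk J).comp (Ideal.Quotient.mk p)
    have hπ : Function.Surjective π :=
      Ideal.Quotient.mk_surjective.comp Ideal.Quotient.mk_surjective
    have key : ∀ Q : Ideal ((B ⧸ p) ⧸ J), Q.IsPrime → Q.comap π = maximalIdeal B := by
      intro Q hQ
      refine hfib _ (Ideal.IsPrime.comap _) ?_
      rw [Ideal.map_le_iff_le_comap]
      intro a ha
      rw [Ideal.mem_comap, Ideal.mem_comap]
      have h1 : π (algebraMap A B a) = Ideal.Quotient.mk J
          (algebraMap (A ⧸ q) (B ⧸ p) (Ideal.Quotient.mk q a)) := rfl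
      rw [h1]
      have h2 : Ideal.Quotient.mk q a ∈ maximalIdeal (A ⧸ q) := by
        rw [mem_maximalIdeal]
        intro hu
        have hloc : IsLocalHom (Ideal.Quotient.mk q) :=
          IsLocalHom.of_surjective _ Ideal.Quotient.mk_surjective
        exact ha (hloc.map_nonunit _ hu)
      have h3 : algebraMap (A ⧸ q) (B ⧸ p) (Ideal.Quotient.mk q a) ∈ J :=
        Ideal.mem_map_of_mem _ h2
      rw [Ideal.Quotient.eq_zero_iff_mem.mpr h3]
      exact Q.zero_mem
    intro P Q hP hQ
    apply Ideal.comap_injective_of_surjective π hπ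
    rw [key P hP, key Q hQ]
  calc ringKrullDim (A ⧸ q) + ringKrullDim ((B ⧸ p) ⧸ _)
      ≤ ringKrullDim (A ⧸ q) + 0 := by gcongr
    _ = ringKrullDim (A ⧸ q) := add_zero _

end Groth.Agent.H48.FibreMax
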