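import Mathlib
import Groth.Prelude.Def_Cyc
import Groth.Agent.H48.FibreMax

/-!
# Points maximal in their fibre, scheme level

If `w` has no proper generization inside its fibre `f⁻¹(f w)`, then for every generization `ξ ⤳ w`
`dim O_{S,w}/𝔭_ξ ≤ dim O_{X,f w}/𝔭_{f ξ}`.
-/

set_option autoImplicit false
set_option linter.unusedSectionVars false
set_option linter.style.haveILetI false
universe u

open AlgebraicGeometry CategoryTheory IsLocalRing

namespace Groth.Agent.H48.FibreMaxSch

variable {S X : Scheme.{u}} (f : S ⟶ X)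

/-- Compatibility of `Cyc.specMap` with stalk maps. -/
theorem specMap_comp_stalkMap (w ξ : S) (hξ : ξ ⤳ w) :
    (Cyc.specMap w ξ hξ).comp (f.stalkMap w).hom =
      (f.residueFieldMap ξ).hom.comp (Cyc.specMap (f w) (f ξ) (hξ.map f.continuous)) := by
  unfold Cyc.specMap
  rw [← CommRingCat.hom_comp, ← CommRingCat.hom_comp]
  congr 1
  rw [← Category.assoc, ← Scheme.Hom.stalkSpecializes_stalkMap f ξ w hξ, Category.assoc,
    Category.assoc, Scheme.residue_residueFieldMap]

theorem comap_ker_specMap (w ξ : S) (hξ : ξ ⤳ w) :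
    (RingHom.ker (Cyc.specMap w ξ hξ)).comap (f.stalkMap w).hom =
      RingHom.ker (Cyc.specMap (f w) (f ξ) (hξ.map f.continuous)) := by
  ext a
  simp only [Ideal.mem_comap, RingHom.mem_ker]
  have := congrArg (fun g => g a) (specMap_comp_stalkMap f w ξ hξ)
  simp only [RingHom.comp_apply] at this
  rw [this]
  exact map_eq_zero_iff _ (f.residueFieldMap ξ).hom.injective

/-- A prime of the stalk is the kernel of `specMap` to the corresponding point. -/
theorem ker_specMap_of_fromSpecStalk_eq (w s' : S) (h : s' ⤳ w)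
    (P : PrimeSpectrum (S.presheaf.stalk w)) (hP : S.fromSpecStalk w P = s') :
    RingHom.ker (Cyc.specMap w s' h) = P.asIdeal := by
  let P' : PrimeSpectrum (S.presheaf.stalk w) :=
    (Spec.map (S.presheaf.stalkSpecializes h)) (closedPoint (S.presheaf.stalk s'))
  have h1 : S.fromSpecStalk w P' = s' := by
    have := Scheme.SpecMap_stalkSpecializes_fromSpecStalk h
    have h2 := congrArg (fun g => g (closedPoint (S.presheaf.stalk s'))) this
    simp only [Scheme.Hom.comp_apply] at h2
    rw [Scheme.fromSpecStalk_closedPoint] at h2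
    exact h2
  have h3 : P' = P := (S.fromSpecStalk w).isEmbedding.injective (h1.trans hP.symm)
  rw [← h3]
  ext a
  change _ ↔ a ∈ (closedPoint (S.presheaf.stalk s')).asIdeal.comap
    (S.presheaf.stalkSpecializes h).hom
  rw [Ideal.mem_comap, RingHom.mem_ker]
  change (S.residue s').hom ((S.presheaf.stalkSpecializes h).hom a) = 0 ↔ _
  change IsLocalRing.residue _ _ = 0 ↔ _
  rw [IsLocalRing.residue_eq_zero_iff]
  rfl

variable [IsLocallyNoetherian S] [IsLocallyNoetherian X]

theorem ringKrullDim_locQuot_le (w ξ : S) (hξ : ξ ⤳ w)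
    (hmax : ∀ s' : S, s' ⤳ w → f s' = f w → s' = w) :
    ringKrullDim (Cyc.LocQuot w ξ hξ) ≤
      ringKrullDim (Cyc.LocQuot (f w) (f ξ) (hξ.map f.continuous)) := by
  letI : Algebra (X.presheaf.stalk (f w)) (S.presheaf.stalk w) := (f.stalkMap w).hom.toAlgebra
  haveI : IsLocalHom (algebraMap (X.presheaf.stalk (f w)) (S.presheaf.stalk w)) :=
    inferInstanceAs (IsLocalHom (f.stalkMap w).hom)
  haveI : (RingHom.ker (Cyc.specMap w ξ hξ)).IsPrime := RingHom.ker_isPrime _
  have key := Groth.Agent.H48.FibreMax.ringKrullDim_quotient_le_of_fibre_eq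
    (X.presheaf.stalk (f w)) (S.presheaf.stalk w) ?_ (RingHom.ker (Cyc.specMap w ξ hξ))
  · refine key.trans (le_of_eq ?_)
    have he : (RingHom.ker (Cyc.specMap w ξ hξ)).comap
        (algebraMap (X.presheaf.stalk (f w)) (S.presheaf.stalk w)) =
        RingHom.ker (Cyc.specMap (f w) (f ξ) (hξ.map f.continuous)) := comap_ker_specMap f w ξ hξ
    exact ringKrullDim_eq_of_ringEquiv (Ideal.quotEquivOfEq he)
  · intro P hP hle
    let Pp : PrimeSpectrum (S.presheaf.stalk w) := ⟨P, hP⟩
    set s' := S.fromSpecStalk w Pp with hs'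
    have hsw : s' ⤳ w := by
      have : s' ∈ Set.range (S.fromSpecStalk w) := ⟨Pp, rfl⟩
      rw [Scheme.range_fromSpecStalk] at this
      exact this
    have hcomap : (Spec.map (f.stalkMap w)) Pp = closedPoint (X.presheaf.stalk (f w)) := by
      apply PrimeSpectrum.ext
      change P.comap (f.stalkMap w).hom = maximalIdeal _
      have h1 : maximalIdeal (X.presheaf.stalk (f w)) ≤ P.comap (f.stalkMap w).hom :=
        Ideal.map_le_iff_le_comap.mp hle
      exact ((maximalIdeal.isMaximal _).eq_of_le (Ideal.IsPrime.comap _).ne_top h1).symm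
    have hfs : f s' = f w := by
      have := Scheme.SpecMap_stalkMap_fromSpecStalk (f := f) (x := w)
      have h2 := congrArg (fun g => g Pp) this
      simp only [Scheme.Hom.comp_apply] at h2
      rw [hcomap, Scheme.fromSpecStalk_closedPoint] at h2
      exact h2.symm
    have hsw' : s' = w := hmax s' hsw hfs
    have h3 : Pp = closedPoint (S.presheaf.stalk w) := by
      apply (S.fromSpecStalk w).isEmbedding.injective
      rw [Scheme.fromSpecStalk_closedPoint]
      exact hsw'
    exact congrArg PrimeSpectrum.asIdeal h3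

end Groth.Agent.H48.FibreMaxSch
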