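import Mathlib
import Groth.Prelude.Def_Cyc
import Groth.Agent.H54.OrdEquiv

/-!
# Transport of `CycAlg.ordFrac` along isomorphisms and flat local extensions
-/

set_option autoImplicit false
set_option linter.unusedSectionVars false
set_option linter.style.haveILetI false
universe u v

namespace Groth.Agent.H48.OrdFracLib

section Transport

variable {R R' : Type u} {K K' : Type v} [CommRing R] [CommRing R'] [Field K] [Field K']
  [Algebra R K] [Algebra R' K'] (e : R ≃+* R') (eK : K ≃+* K')
  (hcomp : ∀ r, eK (algebraMap R K r) = algebraMap R' K' (e r))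

include hcomp in
theorem isFractionRing_of_ringEquiv [IsFractionRing R K] : IsFractionRing R' K' := by
  have hinj : Function.Injective (algebraMap R' K') := by
    intro a b hab
    obtain ⟨a, rfl⟩ := e.surjective a
    obtain ⟨b, rfl⟩ := e.surjective b
    rw [← hcomp, ← hcomp] at hab
    rw [IsFractionRing.injective R K (eK.injective hab)]
  haveI : FaithfulSMul R' K' := (faithfulSMul_iff_algebraMap_injective _ _).mpr hinj
  apply IsFractionRing.of_field
  intro z
  obtain ⟨a, b, _, hab⟩ := IsFractionRing.div_surjective (A := R) (eK.symm z)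
  refine ⟨e a, e b, ?_⟩
  rw [← hcomp, ← hcomp, ← map_div₀, hab, RingEquiv.apply_symm_apply]

include hcomp in
theorem cond_of_ringEquiv
    (h : IsNoetherianRing R ∧ Ring.KrullDimLE 1 R ∧ Nontrivial R ∧ IsFractionRing R K) :
    IsNoetherianRing R' ∧ Ring.KrullDimLE 1 R' ∧ Nontrivial R' ∧ IsFractionRing R' K' := by
  obtain ⟨h1, h2, h3, h4⟩ := h
  refine ⟨isNoetherianRing_of_ringEquiv R e, ?_, e.toEquiv.symm.nontrivial, ?_⟩
  · have := Ring.krullDimLE_iff.mp h2
    rw [ringKrullDim_eq_of_ringEquiv e] at this
    exact Ring.krullDimLE_iff.mpr this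
  · exact isFractionRing_of_ringEquiv e eK hcomp

include hcomp in
/-- `CycAlg.ordFrac` is invariant under compatible isomorphisms of the ring and the field. -/
theorem ordFrac_ringEquiv (g : K) :
    CycAlg.ordFrac R' K' (eK g) = CycAlg.ordFrac R K g := by
  unfold CycAlg.ordFrac
  by_cases h : IsNoetherianRing R ∧ Ring.KrullDimLE 1 R ∧ Nontrivial R ∧ IsFractionRing R K
  · have h' := cond_of_ringEquiv e eK hcomp h
    rw [dif_pos h, dif_pos h']
    obtain ⟨h1, h2, h3, h4⟩ := h
    obtain ⟨h1', h2', h3', h4'⟩ := h'
    haveI : IsDomain R :=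
      (IsFractionRing.injective R K).isDomain (algebraMap R K)
    haveI : IsDomain R' :=
      (IsFractionRing.injective R' K').isDomain (algebraMap R' K')
    have key := Groth.Agent.H54.OrdEquiv.ordFrac_ringEquiv (K := K) (K' := K') e
      (eK : K →+* K') hcomp g
    have key' : Ring.ordFrac R' (eK g) = Ring.ordFrac R g := key
    simp only [key']
  · have h' : ¬ (IsNoetherianRing R' ∧ Ring.KrullDimLE 1 R' ∧ Nontrivial R' ∧
        IsFractionRing R' K') := by
      intro h'
      apply h
      refine cond_of_ringEquiv e.symm eK.symm ?_ h'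
      intro r'
      obtain ⟨r, rfl⟩ := e.surjective r'
      rw [← hcomp, RingEquiv.symm_apply_apply, RingEquiv.symm_apply_apply]
    rw [dif_neg h, dif_neg h']

end Transport

end Groth.Agent.H48.OrdFracLib
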