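import Mathlib
import Groth.Prelude.Def_Cyc
import Groth.Agent.H48.OrdFracLib

/-!
# Order of vanishing along flat local extensions of one-dimensional local domains
-/

set_option autoImplicit false
set_option linter.unusedSectionVars false
set_option linter.style.haveILetI false
universe u v

namespace Groth.Agent.H48.OrdFracFlat

open IsLocalRing

section Flat

variable {A B : Type u} [CommRing A] [CommRing B] [IsLocalRing A] [IsLocalRing B] [Algebra A B]
  [IsLocalHom (algebraMap A B)] [Module.Flat A B]

theorem ord_algebraMap_of_flat (a : A) :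
    Ring.ord B (algebraMap A B a) = Ring.ord A a *
      Module.length B (B ⧸ (maximalIdeal A).map (algebraMap A B)) := by
  unfold Ring.ord
  have h1 : Ideal.span {algebraMap A B a} = (Ideal.span {a}).map (algebraMap A B) := by
    rw [Ideal.map_span, Set.image_singleton]
  rw [h1, (Algebra.TensorProduct.quotIdealMapEquivTensorQuot B
    (Ideal.span {a})).toLinearEquiv.length_eq, IsLocalRing.length_baseChange]

variable {K L : Type v} [Field K] [Field L] [Algebra A K] [Algebra B L] [IsFractionRing A K]
  [IsFractionRing B L] [IsNoetherianRing A] [IsNoetherianRing B] [Ring.KrullDimLE 1 A]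
  [Ring.KrullDimLE 1 B] (ψ : K →+* L)
  (hψ : ∀ a, ψ (algebraMap A K a) = algebraMap B L (algebraMap A B a)) (e : ℕ)
  (he : Module.length B (B ⧸ (maximalIdeal A).map (algebraMap A B)) = e)

include he in
theorem ordMonoidWithZeroHom_algebraMap_of_flat [IsDomain A] [IsDomain B] (a : A) (ha : a ≠ 0) :
    Ring.ordMonoidWithZeroHom B (algebraMap A B a) = (Ring.ordMonoidWithZeroHom A a) ^ e := by
  haveI : Module.FaithfullyFlat A B := Module.FaithfullyFlat.of_flat_of_isLocalHom
  have hinj : Function.Injective (algebraMap A B) := FaithfulSMul.algebraMap_injective A B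
  have hφa : algebraMap A B a ≠ 0 := by
    intro h
    exact ha (hinj (h.trans (map_zero _).symm))
  have ha' : a ∈ nonZeroDivisors A := mem_nonZeroDivisors_of_ne_zero ha
  have hφa' : algebraMap A B a ∈ nonZeroDivisors B := mem_nonZeroDivisors_of_ne_zero hφa
  obtain ⟨n, hn⟩ := ENat.ne_top_iff_exists.mp (Ring.ord_ne_top ha')
  have hn' : Ring.ord B (algebraMap A B a) = ((n * e : ℕ) : ℕ∞) := by
    rw [ord_algebraMap_of_flat, he, ← hn]
    push_cast
    rfl
  rw [Ring.ordMonoidWithZeroHom_eq_coe _ ha' hn.symm, Ring.ordMonoidWithZeroHom_eq_coe _ hφa' hn',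
    ← WithZero.coe_pow, ← ofAdd_nsmul]
  congr 2
  push_cast
  ring

include hψ he in
theorem ringOrdFrac_map_of_flat [IsDomain A] [IsDomain B] (g : K) :
    Ring.ordFrac B (ψ g) = (Ring.ordFrac A g) ^ e := by
  haveI : Module.FaithfullyFlat A B := Module.FaithfullyFlat.of_flat_of_isLocalHom
  have hinj : Function.Injective (algebraMap A B) := FaithfulSMul.algebraMap_injective A B
  obtain ⟨a, b, hb, rfl⟩ := IsFractionRing.div_surjective (A := A) g
  have hb0 : b ≠ 0 := nonZeroDivisors.ne_zero hb
  have hφb0 : algebraMap A B b ≠ 0 := fun h => hb0 (hinj (h.trans (map_zero _).symm))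
  by_cases ha0 : a = 0
  · subst ha0
    by_cases he0 : e = 0
    · exfalso
      subst he0
      have hlt := IsLocalRing.map_maximalIdeal_lt_top (algebraMap A B)
      have : Subsingleton (B ⧸ (maximalIdeal A).map (algebraMap A B)) :=
        Module.length_eq_zero_iff.mp (by rw [he]; rfl)
      rw [Ideal.Quotient.subsingleton_iff] at this
      exact hlt.ne this
    · simp [he0]
  have hφa0 : algebraMap A B a ≠ 0 := fun h => ha0 (hinj (h.trans (map_zero _).symm))
  rw [map_div₀, map_div₀, map_div₀, hψ, hψ, Ring.ordFrac_eq_ord A ha0, Ring.ordFrac_eq_ord A hb0,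
    Ring.ordFrac_eq_ord B hφa0, Ring.ordFrac_eq_ord B hφb0,
    ordMonoidWithZeroHom_algebraMap_of_flat e he a ha0,
    ordMonoidWithZeroHom_algebraMap_of_flat e he b hb0, div_pow]

include hψ he in
/-- `ord_B(ψ g) = e · ord_A(g)` for a flat local extension `A → B` of one-dimensional Noetherian
local domains, with `e` the length of `B/𝔪_A B`. -/
theorem ordFrac_map_of_flat [Nontrivial A] [Nontrivial B] (g : K) (hg : g ≠ 0) :
    CycAlg.ordFrac B L (ψ g) = e * CycAlg.ordFrac A K g := by
  haveI : IsDomain A := (IsFractionRing.injective A K).isDomain (algebraMap A K)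
  haveI : IsDomain B := (IsFractionRing.injective B L).isDomain (algebraMap B L)
  have hA : IsNoetherianRing A ∧ Ring.KrullDimLE 1 A ∧ Nontrivial A ∧ IsFractionRing A K :=
    ⟨inferInstance, inferInstance, inferInstance, inferInstance⟩
  have hB : IsNoetherianRing B ∧ Ring.KrullDimLE 1 B ∧ Nontrivial B ∧ IsFractionRing B L :=
    ⟨inferInstance, inferInstance, inferInstance, inferInstance⟩
  unfold CycAlg.ordFrac
  rw [dif_pos hA, dif_pos hB]
  have key := ringOrdFrac_map_of_flat ψ hψ e he g
  simp only [key]
  have hne : Ring.ordFrac A g ≠ 0 := (map_ne_zero _).mpr hg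
  obtain ⟨z, hz⟩ := WithZero.ne_zero_iff_exists.mp hne
  rw [← hz, ← WithZero.coe_pow]
  simp only [WithZero.recZeroCoe_coe]
  rw [toAdd_pow]
  simp

/-- The order of the image of a unit vanishes. -/
theorem ordFrac_algebraMap_of_isUnit {R : Type u} {F : Type v} [CommRing R] [Field F] [Algebra R F]
    (u : R) (hu : IsUnit u) : CycAlg.ordFrac R F (algebraMap R F u) = 0 := by
  unfold CycAlg.ordFrac
  by_cases h : IsNoetherianRing R ∧ Ring.KrullDimLE 1 R ∧ Nontrivial R ∧ IsFractionRing R F
  · rw [dif_pos h]
    obtain ⟨h1, h2, h3, h4⟩ := h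
    haveI : IsDomain R := (IsFractionRing.injective R F).isDomain (algebraMap R F)
    have : Ring.ordFrac R (algebraMap R F u) = 1 := Ring.ordFrac_of_isUnit hu
    simp only [this]
    rfl
  · rw [dif_neg h]

end Flat

end Groth.Agent.H48.OrdFracFlat
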