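import Mathlib
import Groth.Prelude.Def_Cyc
import Groth.Agent.H79.CycComp

/-!
# Flat pullback of cycles along flat maps with a shift of the dimension function
-/

set_option autoImplicit false
set_option linter.unusedSectionVars false
set_option linter.style.haveILetI false
universe u

open AlgebraicGeometry CategoryTheory CategoryTheory.Limits TopologicalSpace Opposite

namespace Groth.Agent.H48.ShiftPull

section Max

variable {X X' : Scheme.{u}} (p : X' ⟶ X)

/-- Every point has a generalization in its fibre which is maximal in the fibre. -/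
theorem exists_fibMax_generalization (x' : X') :
    ∃ y' : X', y' ⤳ x' ∧ p y' = p x' ∧ ∀ z : X', p z = p y' → z ⤳ y' → z = y' := by
  set φ := (p.stalkMap x').hom with hφ
  set I := Ideal.map φ (IsLocalRing.maximalIdeal (X.presheaf.stalk (p x'))) with hI
  have hIle : I ≤ IsLocalRing.maximalIdeal (X'.presheaf.stalk x') :=
    ((IsLocalRing.local_hom_TFAE φ).out 0 2).mp (by rw [hφ]; infer_instance)
  obtain ⟨q, hq, hqle⟩ := Ideal.exists_minimalPrimes_le hIle
  haveI hqp : q.IsPrime := hq.1.1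
  let qs : PrimeSpectrum (X'.presheaf.stalk x') := ⟨q, hqp⟩
  have hcl : ∀ r : PrimeSpectrum (X'.presheaf.stalk x'), I ≤ r.asIdeal →
      Spec.map (p.stalkMap x') r = IsLocalRing.closedPoint (X.presheaf.stalk (p x')) := by
    intro r hr
    apply PrimeSpectrum.ext
    change r.asIdeal.comap φ = IsLocalRing.maximalIdeal _
    exact le_antisymm (IsLocalRing.le_maximalIdeal (Ideal.comap_ne_top _ r.2.ne_top))
      (Ideal.map_le_iff_le_comap.mp hr)
  have hpt : ∀ r : PrimeSpectrum (X'.presheaf.stalk x'),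
      p (X'.fromSpecStalk x' r) = X.fromSpecStalk (p x') (Spec.map (p.stalkMap x') r) := by
    intro r
    have := Scheme.SpecMap_stalkMap_fromSpecStalk p (x := x')
    exact (congr($(this) r)).symm
  refine ⟨X'.fromSpecStalk x' qs, ?_, ?_, ?_⟩
  · have : X'.fromSpecStalk x' qs ∈ Set.range (X'.fromSpecStalk x') := Set.mem_range_self _
    rw [Scheme.range_fromSpecStalk] at this
    exact this
  · rw [hpt, hcl qs hq.1.2, Scheme.fromSpecStalk_closedPoint]
  · intro z hz hzs
    have hpy : p (X'.fromSpecStalk x' qs) = p x' := by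
      rw [hpt, hcl qs hq.1.2, Scheme.fromSpecStalk_closedPoint]
    have hzx : z ⤳ x' := by
      refine hzs.trans ?_
      have : X'.fromSpecStalk x' qs ∈ Set.range (X'.fromSpecStalk x') := Set.mem_range_self _
      rw [Scheme.range_fromSpecStalk] at this
      exact this
    have hzr : z ∈ Set.range (X'.fromSpecStalk x') := by
      rw [Scheme.range_fromSpecStalk]; exact hzx
    obtain ⟨qz, rfl⟩ := hzr
    have h1 : qz ⤳ qs := (X'.fromSpecStalk x').isEmbedding.isInducing.specializes_iff.mp hzs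
    have h2 : qz.asIdeal ≤ q := (PrimeSpectrum.le_iff_specializes qz qs).mpr h1
    have h3 : Spec.map (p.stalkMap x') qz = IsLocalRing.closedPoint _ := by
      apply (X.fromSpecStalk (p x')).isEmbedding.injective
      rw [← hpt, hz, hpy, Scheme.fromSpecStalk_closedPoint]
    have h4 : I ≤ qz.asIdeal := by
      rw [hI, Ideal.map_le_iff_le_comap]
      have := congrArg PrimeSpectrum.asIdeal h3
      change qz.asIdeal.comap φ = IsLocalRing.maximalIdeal _ at this
      rw [this]
    have h5 : q ≤ qz.asIdeal := hq.2 ⟨qz.2, h4⟩ h2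
    have : qz = qs := PrimeSpectrum.ext (le_antisymm h2 h5)
    rw [this]

variable (δ : X → ℤ) (δ' : X' → ℤ) (hδ' : Cyc.IsDimFun X' δ') (c : ℤ)
  (hc : ∀ x' : X', (∀ y, p y = p x' → y ⤳ x' → y = x') → δ' x' = δ (p x') + c)

include hδ' hc in
theorem delta_le_add_shift (x' : X') : δ' x' ≤ δ (p x') + c := by
  obtain ⟨y', hy's, hy'p, hy'max⟩ := exists_fibMax_generalization p x'
  have h1 := hc y' hy'max
  rw [hy'p] at h1
  by_cases hne : y' = x'
  · rw [← hne] at h1 ⊢
    rw [hne] at h1 ⊢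
    omega
  · have := (hδ' y' x' hy's hne).1
    omega

include hδ' hc in
theorem fibMax_of_delta_eq (x' : X') (h : δ' x' = δ (p x') + c) :
    ∀ y, p y = p x' → y ⤳ x' → y = x' := by
  obtain ⟨y', hy's, hy'p, hy'max⟩ := exists_fibMax_generalization p x'
  have h1 := hc y' hy'max
  rw [hy'p] at h1
  by_cases hne : y' = x'
  · rw [← hne]; exact hy'max
  · have := (hδ' y' x' hy's hne).1
    omega

end Max

section Comp

variable {X X' X'' : Scheme.{u}} (p : X' ⟶ X) (p' : X'' ⟶ X') [Flat p']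

theorem fibMax_fst_of_comp (x'' : X'')
    (h : ∀ y, (p' ≫ p) y = (p' ≫ p) x'' → y ⤳ x'' → y = x'') :
    ∀ y, p' y = p' x'' → y ⤳ x'' → y = x'' := by
  intro y hy hys
  apply h y _ hys
  change p (p' y) = p (p' x'')
  rw [hy]

theorem fibMax_snd_of_comp (x'' : X'')
    (h : ∀ y, (p' ≫ p) y = (p' ≫ p) x'' → y ⤳ x'' → y = x'') :
    ∀ y, p y = p (p' x'') → y ⤳ p' x'' → y = p' x'' := by
  intro y hy hys
  obtain ⟨y'', hy''s, hy''p⟩ := (Flat.generalizingMap p') hys
  have := h y'' (by change p (p' y'') = p (p' x''); rw [hy''p, hy]) hy''s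
  rw [← hy''p, this]

variable (δ : X → ℤ) (δ' : X' → ℤ) (δ'' : X'' → ℤ)
  (c c' : ℤ)
  (hc : ∀ x' : X', (∀ y, p y = p x' → y ⤳ x' → y = x') → δ' x' = δ (p x') + c)
  (hc' : ∀ x'' : X'', (∀ y, p' y = p' x'' → y ⤳ x'' → y = x'') → δ'' x'' = δ' (p' x'') + c')

include hc hc' in
theorem shift_comp (x'' : X'')
    (h : ∀ y, (p' ≫ p) y = (p' ≫ p) x'' → y ⤳ x'' → y = x'') :
    δ'' x'' = δ ((p' ≫ p) x'') + (c + c') := by
  have h1 := hc' x'' (fibMax_fst_of_comp p p' x'' h)
  have h2 := hc (p' x'') (fibMax_snd_of_comp p p' x'' h)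
  change δ'' x'' = δ (p (p' x'')) + (c + c')
  omega

variable [IsLocallyNoetherian X'] (hδ' : Cyc.IsDimFun X' δ') (hδ'' : Cyc.IsDimFun X'' δ'')

include hc hc' hδ' hδ'' in
theorem pullFun_comp (α : X → ℤ) :
    Cyc.pullFun (p' ≫ p) δ'' δ (c + c') α =
      Cyc.pullFun p' δ'' δ' c' (Cyc.pullFun p δ' δ c α) := by
  funext x''
  have hcomp : (p' ≫ p) x'' = p (p' x'') := rfl
  have hle1 := delta_le_add_shift p' δ' δ'' hδ'' c' hc' x''
  have hle2 := delta_le_add_shift p δ δ' hδ' c hc (p' x'')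
  simp only [Cyc.pullFun]
  by_cases h1 : δ'' x'' = δ' (p' x'') + c'
  · rw [if_pos h1]
    by_cases h2 : δ' (p' x'') = δ (p (p' x'')) + c
    · rw [if_pos h2, if_pos (by rw [hcomp]; omega)]
      have hmax := fibMax_of_delta_eq p δ δ' hδ' c hc (p' x'') h2
      have hfl := Groth.Agent.H79.CycComp.isFiniteLength_fibre_stalk p (p' x'') (by
        intro y' hy' hgy'
        exact hmax y' hgy' hy')
      rw [Groth.Agent.H79.CycComp.length_fibre_comp p' p x'' hfl, ENat.toNat_mul]
      push_cast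
      rw [mul_assoc]
      rfl
    · rw [if_neg h2, zero_mul, if_neg (by rw [hcomp]; omega)]
  · rw [if_neg h1, if_neg (by rw [hcomp]; omega)]

end Comp

end Groth.Agent.H48.ShiftPull
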