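import Mathlib
import Groth.Prelude.Def_Cyc
import Groth.Agent.H48.ShiftPull
import Groth.Agent.H48.CycFib
import Groth.Agent.H48.CompDimBC2
import Groth.Agent.H48.DimFunSch

/-!
# Base change of cycles commutes with flat pullback
-/

set_option autoImplicit false
set_option linter.unusedSectionVars false
set_option linter.style.haveILetI false
universe u

open AlgebraicGeometry CategoryTheory CategoryTheory.Limits TopologicalSpace Opposite

namespace Groth.Agent.H48.ShiftPull2

open Groth.Agent.H48.CycFib Groth.Agent.H48.DimFunSch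

section Shift

variable {X Y : Scheme.{u}} (f : Y ⟶ X) [LocallyOfFiniteType f] [Flat f] (δY : Y → ℤ) (δ : X → ℤ)
  (hδY : Cyc.IsDimFun Y δY) (hf : Cyc.DeltaCompat f δY δ) (r : ℕ) (hr : Cyc.HasRelDim f r)

include hδY hf hr in
/-- A flat morphism of relative dimension `r` shifts the induced dimension function by `r` at
points maximal in their fibres. -/
theorem shift_of_hasRelDim (y : Y) (hmax : ∀ z, f z = f y → z ⤳ y → z = y) :
    δY y = δ (f y) + r := by
  refine (generic_of_component_preimage_flat f δY δ hδY hf r hr (f y) y (subset_closure rfl) ?_).2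
  intro x' hx' hsp
  refine hmax x' ?_ hsp
  have h1 : f y ⤳ f x' := specializes_iff_mem_closure.mpr hx'
  have h2 : f x' ⤳ f y := hsp.map f.continuous
  exact (h2.antisymm h1).eq

end Shift

section BC

variable {X X' Y : Scheme.{u}} (f : Y ⟶ X) (p : X' ⟶ X) [LocallyOfFiniteType f] (r : ℕ)
  (hr : Cyc.HasRelDim f r)

include hr in
/-- Relative dimension is stable under base change. -/
theorem hasRelDim_snd : Cyc.HasRelDim (pullback.snd f p) r := by
  intro x' T hT
  have hpb := isPullback_fiberToSpecResidueField_of_isPullback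
    (IsPullback.of_hasPullback f p) x'
  haveI : LocallyOfFiniteType (f.fiberToSpecResidueField (p x')) :=
    MorphismProperty.pullback_snd _ _ inferInstance
  have himg := Groth.Agent.H48.CompDimBC2.image_topologicalKrullDim_irreducibleComponents
    (X.residueField (p x')) (X'.residueField x') (p.residueFieldMap x').hom
    (f.fiberToSpecResidueField (p x')) _ ((pullback.snd f p).fiberToSpecResidueField x') hpb
  have hmem : topologicalKrullDim ↥T ∈ (fun Z : Set ↥((pullback.snd f p).fiber x') =>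
      topologicalKrullDim ↥Z) '' irreducibleComponents ↥((pullback.snd f p).fiber x') :=
    ⟨T, hT, rfl⟩
  rw [himg] at hmem
  obtain ⟨Z, hZ, hZe⟩ := hmem
  rw [← hZe]
  exact hr (p x') Z hZ

variable [Flat f] [Flat p] (δ : X → ℤ) (δ' : X' → ℤ) (δY : Y → ℤ) (δY' : ↥(pullback f p) → ℤ)
  (hX' : Cyc.IsSetup X' δ') (hY : Cyc.IsSetup Y δY)
  (hf : Cyc.DeltaCompat f δY δ) (hf' : Cyc.DeltaCompat (pullback.snd f p) δY' δ') (c : ℤ)
  (hc : ∀ x' : X', (∀ y, p y = p x' → y ⤳ x' → y = x') → δ' x' = δ (p x') + c)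
  (hcY : ∀ y' : ↥(pullback f p), (∀ y, pullback.fst f p y = pullback.fst f p y' → y ⤳ y' → y = y') →
    δY' y' = δY (pullback.fst f p y') + c)

include hr hX' hY hf hf' hc hcY in
theorem pullFun_baseChange_comm (α : X → ℤ) :
    Cyc.pullFun (pullback.snd f p) δY' δ' r (Cyc.pullFun p δ' δ c α) =
      Cyc.pullFun (pullback.fst f p) δY' δY c (Cyc.pullFun f δY δ r α) := by
  have hδY' : Cyc.IsDimFun (pullback f p) δY' :=
    isDimFun_of_deltaCompat (pullback.snd f p) δ' hX' δY' hf'
  obtain ⟨hNX', -, hδ'⟩ := hX'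
  obtain ⟨hNY, -, hδY⟩ := hY
  haveI := hNX'
  haveI := hNY
  have hr' := hasRelDim_snd f p r hr
  have hsf : ∀ y : Y, (∀ z, f z = f y → z ⤳ y → z = y) → δY y = δ (f y) + (r : ℤ) :=
    fun y hy => shift_of_hasRelDim f δY δ hδY hf r hr y hy
  have hsf' : ∀ y' : ↥(pullback f p), (∀ z, pullback.snd f p z = pullback.snd f p y' → z ⤳ y' →
      z = y') → δY' y' = δ' (pullback.snd f p y') + (r : ℤ) :=
    fun y' hy' => shift_of_hasRelDim (pullback.snd f p) δY' δ' hδY' hf' r hr' y' hy'
  have e1 := Groth.Agent.H48.ShiftPull.pullFun_comp f (pullback.fst f p) δ δY δY' (r : ℤ) c hsf hcY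
    hδY hδY' α
  have e2 := Groth.Agent.H48.ShiftPull.pullFun_comp p (pullback.snd f p) δ δ' δY' c (r : ℤ) hc hsf'
    hδ' hδY' α
  rw [← e1, ← e2]
  have hcond : pullback.fst f p ≫ f = pullback.snd f p ≫ p := pullback.condition
  rw [hcond, add_comm]

end BC

end Groth.Agent.H48.ShiftPull2
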