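import Mathlib
import Groth.Prelude.Def_Cyc
import Groth.Agent.H48.OrdFracFlat
import Groth.Agent.H48.FibreMaxSch
import Groth.Agent.H48.ShiftPull2
import Groth.Agent.H54.OrdAtOrd
import Groth.Agent.H54.DivZero
import Groth.Agent.H79.CycRelDim
import Groth.Agent.H79.CycComp

/-!
# Flat pullback of a principal divisor (integral case)
-/

set_option autoImplicit false
set_option linter.unusedSectionVars false
set_option linter.style.haveILetI false
universe u

open AlgebraicGeometry CategoryTheory CategoryTheory.Limits TopologicalSpace Opposite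

namespace Groth.Agent.H48.DivPull

open Groth.Agent.H48.OrdFracLib Groth.Agent.H48.OrdFracFlat

section General

variable {Z : Scheme.{u}}

/-- When the kernel of `specMap` vanishes, `ordAt` is the order for the stalk itself. -/
theorem ordAt_eq_ordFrac_stalk (ζ z : Z) (h : ζ ⤳ z)
    (hker : RingHom.ker (Cyc.specMap z ζ h) = ⊥) (t : Z.residueField ζ) :
    Cyc.ordAt z ζ h t =
      @CycAlg.ordFrac (Z.presheaf.stalk z) _ (Z.residueField ζ) _
        (Cyc.specMap z ζ h).toAlgebra t := by
  letI := (Cyc.specMap z ζ h).toAlgebra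
  have hbij : Function.Bijective
      (Ideal.Quotient.mk (RingHom.ker (Cyc.specMap z ζ h))) := by
    refine ⟨?_, Ideal.Quotient.mk_surjective⟩
    rw [injective_iff_map_eq_zero]
    intro a ha
    rw [Ideal.Quotient.eq_zero_iff_mem, hker, Ideal.mem_bot] at ha
    exact ha
  let e : Z.presheaf.stalk z ≃+* Cyc.LocQuot z ζ h := RingEquiv.ofBijective _ hbij
  exact ordFrac_ringEquiv e (RingEquiv.refl _) (fun r => rfl) t

/-- At a point equal to `ζ`, every nonzero element of `κ(ζ)` is the image of a unit. -/
theorem exists_isUnit_specMap_eq (ζ z : Z) (h : ζ ⤳ z) (heq : z = ζ) (g : Z.residueField ζ)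
    (hg : g ≠ 0) : ∃ a : Z.presheaf.stalk z, IsUnit a ∧ Cyc.specMap z ζ h a = g := by
  subst heq
  obtain ⟨a, rfl⟩ : ∃ a : Z.presheaf.stalk z, (Z.residue z).hom a = g :=
    IsLocalRing.residue_surjective (R := Z.presheaf.stalk z) g
  have hsp : ∀ b : Z.presheaf.stalk z, Cyc.specMap z z h b = (Z.residue z).hom b := by
    intro b
    unfold Cyc.specMap
    rw [show Z.presheaf.stalkSpecializes h = 𝟙 _ from Z.presheaf.stalkSpecializes_refl z]
    rfl
  refine ⟨a, ?_, hsp a⟩
  by_contra hna
  apply hg
  change IsLocalRing.residue _ a = 0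
  rw [IsLocalRing.residue_eq_zero_iff]
  exact (IsLocalRing.mem_maximalIdeal a).mpr hna

end General

section Generic

variable {Z : Scheme.{u}} [IsIntegral Z]

theorem ker_specMap_eq_bot (ζ z : Z) (hζ : ζ = genericPoint Z) (h : ζ ⤳ z) :
    RingHom.ker (Cyc.specMap z ζ h) = ⊥ := by
  subst hζ
  exact Groth.Agent.H54.OrdAtOrd.ker_specMap z h

theorem isFractionRing_specMap (ζ z : Z) (hζ : ζ = genericPoint Z) (h : ζ ⤳ z) :
    @IsFractionRing (Z.presheaf.stalk z) _ (Z.residueField ζ) _
      (Cyc.specMap z ζ h).toAlgebra := by
  subst hζ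
  letI := (Cyc.specMap z (genericPoint Z) h).toAlgebra
  have hbij : Function.Bijective (Z.residue (genericPoint Z)).hom :=
    ⟨RingHom.injective (f := ((Z.residue (genericPoint Z)).hom : Z.functionField →+* _)),
      IsLocalRing.residue_surjective⟩
  let eK : Z.functionField ≃+* Z.residueField (genericPoint Z) := RingEquiv.ofBijective _ hbij
  exact isFractionRing_of_ringEquiv (RingEquiv.refl (Z.presheaf.stalk z)) eK (fun r => rfl)

end Generic

section Main

variable {X Y : Scheme.{u}} [IsIntegral X] [IsIntegral Y] (f : X ⟶ Y) [Flat f]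

theorem map_genericPoint : f (genericPoint X) = genericPoint Y := by
  have hsp : genericPoint Y ⤳ f (genericPoint X) := genericPoint_specializes _
  obtain ⟨x', hx', hfx'⟩ := (Flat.generalizingMap f) hsp
  have : x' = genericPoint X := (hx'.antisymm (genericPoint_specializes x')).eq
  rw [← hfx', this]

variable [LocallyOfFiniteType f] (δX : X → ℤ) (δY : Y → ℤ) (hX : Cyc.IsSetup X δX)
  (hY : Cyc.IsSetup Y δY) (r : ℕ) (hr : Cyc.HasRelDim f r) (hδ : Cyc.DeltaCompat f δX δY)

include hX hY hr hδ in
theorem pullFun_divFun (g : Y.residueField (f (genericPoint X))) (hg : g ≠ 0) :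
    Cyc.pullFun f δX δY r (Cyc.divFun δY (f (genericPoint X)) g) =
      Cyc.divFun δX (genericPoint X) (f.residueFieldMap (genericPoint X) g) := by
  obtain ⟨hNX, -, hdX⟩ := hX
  obtain ⟨hNY, -, hdY⟩ := hY
  haveI := hNX
  haveI := hNY
  have hηY := map_genericPoint f
  have hle : ∀ x, δX x ≤ δY (f x) + r := fun x =>
    Groth.Agent.H79.CycRelDim.delta_le_add_relDim f δX δY hdX hδ r hr x
  have hgen : δX (genericPoint X) = δY (f (genericPoint X)) + r :=
    Groth.Agent.H48.ShiftPull2.shift_of_hasRelDim f δX δY hdX hδ r hr _
      (fun z _ hz => (hz.antisymm (genericPoint_specializes z)).eq)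
  funext x
  have hηx : genericPoint X ⤳ x := genericPoint_specializes x
  have hηy : f (genericPoint X) ⤳ f x := hηx.map f.continuous
  have hkerX := ker_specMap_eq_bot (genericPoint X) x rfl hηx
  have hkerY := ker_specMap_eq_bot (f (genericPoint X)) (f x) hηY hηy
  simp only [Cyc.pullFun, Cyc.divFun]
  by_cases h1 : δX x = δY (f x) + r
  · rw [if_pos h1]
    by_cases h2 : δY (f x) + 1 = δY (f (genericPoint X))
    · have h2' : δX x + 1 = δX (genericPoint X) := by omega
      rw [dif_pos ⟨hηy, h2⟩, dif_pos ⟨hηx, h2'⟩]
      rw [ordAt_eq_ordFrac_stalk _ _ hηx hkerX, ordAt_eq_ordFrac_stalk _ _ hηy hkerY]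
      -- the flat local extension of stalks
      letI algAB : Algebra (Y.presheaf.stalk (f x)) (X.presheaf.stalk x) :=
        (f.stalkMap x).hom.toAlgebra
      letI algAK : Algebra (Y.presheaf.stalk (f x)) (Y.residueField (f (genericPoint X))) :=
        (Cyc.specMap (f x) (f (genericPoint X)) hηy).toAlgebra
      letI algBL : Algebra (X.presheaf.stalk x) (X.residueField (genericPoint X)) :=
        (Cyc.specMap x (genericPoint X) hηx).toAlgebra
      haveI : IsLocalHom (algebraMap (Y.presheaf.stalk (f x)) (X.presheaf.stalk x)) :=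
        inferInstanceAs (IsLocalHom (f.stalkMap x).hom)
      haveI : Module.Flat (Y.presheaf.stalk (f x)) (X.presheaf.stalk x) := Flat.stalkMap f x
      haveI : IsFractionRing (Y.presheaf.stalk (f x)) (Y.residueField (f (genericPoint X))) :=
        isFractionRing_specMap (f (genericPoint X)) (f x) hηY hηy
      haveI : IsFractionRing (X.presheaf.stalk x) (X.residueField (genericPoint X)) :=
        isFractionRing_specMap (genericPoint X) x rfl hηx
      have hcohX : Order.coheight x = 1 :=
        Groth.Agent.H54.DivZero.coheight_eq_one_of_dimFun δX hdX x h2'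
      have hcohY : Order.coheight (f x) = 1 :=
        Groth.Agent.H54.DivZero.coheight_eq_one_of_dimFun δY hdY (f x) (by rw [← hηY]; exact h2)
      haveI : Ring.KrullDimLE 1 (X.presheaf.stalk x) := krullDimLE_of_coheight_le hcohX.le
      haveI : Ring.KrullDimLE 1 (Y.presheaf.stalk (f x)) := krullDimLE_of_coheight_le hcohY.le
      have hmax : ∀ y' : X, y' ⤳ x → f y' = f x → y' = x := by
        intro y' hy' hfy'
        by_contra hne
        have h3 := (hdX y' x hy' hne).1
        have h4 := hle y'
        rw [hfy'] at h4
        omega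
      have hfl := Groth.Agent.H79.CycComp.isFiniteLength_fibre_stalk f x hmax
      have hlen : Module.length (X.presheaf.stalk x)
          (X.presheaf.stalk x ⧸ Ideal.map (f.stalkMap x).hom
            (IsLocalRing.maximalIdeal (Y.presheaf.stalk (f x)))) ≠ ⊤ :=
        Module.length_ne_top_iff.mpr hfl
      obtain ⟨e, he⟩ := ENat.ne_top_iff_exists.mp hlen
      have hψ : ∀ a : Y.presheaf.stalk (f x),
          (f.residueFieldMap (genericPoint X)).hom
            (algebraMap (Y.presheaf.stalk (f x)) (Y.residueField (f (genericPoint X))) a) =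
          algebraMap (X.presheaf.stalk x) (X.residueField (genericPoint X))
            (algebraMap (Y.presheaf.stalk (f x)) (X.presheaf.stalk x) a) := by
        intro a
        have := congrArg (fun φ => φ a)
          (Groth.Agent.H48.FibreMaxSch.specMap_comp_stalkMap f x (genericPoint X) hηx)
        exact this.symm
      have key := ordFrac_map_of_flat (A := Y.presheaf.stalk (f x)) (B := X.presheaf.stalk x)
        (K := Y.residueField (f (genericPoint X))) (L := X.residueField (genericPoint X))
        (f.residueFieldMap (genericPoint X)).hom hψ e he.symm g hg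
      rw [← he]
      simp only [ENat.toNat_natCast]
      rw [mul_comm]
      exact key.symm
    · rw [dif_neg (fun h => h2 h.2), zero_mul, dif_neg (fun h => h2 (by have := h.2; omega))]
  · rw [if_neg h1]
    by_cases h3 : δX x + 1 = δX (genericPoint X)
    · rw [dif_pos ⟨hηx, h3⟩]
      have hy : f x = f (genericPoint X) := by
        by_contra hne
        have h4 := (hdY (f (genericPoint X)) (f x) hηy (Ne.symm hne)).1
        have h5 := hle x
        omega
      obtain ⟨a, hau, hag⟩ := exists_isUnit_specMap_eq (f (genericPoint X)) (f x) hηy hy g hg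
      rw [ordAt_eq_ordFrac_stalk _ _ hηx hkerX]
      letI algBL : Algebra (X.presheaf.stalk x) (X.residueField (genericPoint X)) :=
        (Cyc.specMap x (genericPoint X) hηx).toAlgebra
      have hu : IsUnit ((f.stalkMap x).hom a) := hau.map _
      have himg : (f.residueFieldMap (genericPoint X)).hom g =
          algebraMap (X.presheaf.stalk x) (X.residueField (genericPoint X))
            ((f.stalkMap x).hom a) := by
        have := congrArg (fun φ => φ a)
          (Groth.Agent.H48.FibreMaxSch.specMap_comp_stalkMap f x (genericPoint X) hηx)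
        simp only [RingHom.comp_apply] at this
        rw [← hag]
        exact this.symm
      symm
      change CycAlg.ordFrac _ _ ((f.residueFieldMap (genericPoint X)).hom g) = 0
      rw [himg]
      exact ordFrac_algebraMap_of_isUnit _ hu
    · rw [dif_neg (fun h => h3 h.2)]

end Main

end Groth.Agent.H48.DivPull
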