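import Mathlib
import Groth.Prelude.Def_Cyc
import Groth.Agent.H48.BiratAlg5
import Groth.Agent.H48.DivPull

/-!
# Orders of a rational function along a finite birational morphism of integral schemes
-/

set_option autoImplicit false
set_option linter.unusedSectionVars false
set_option linter.style.haveILetI false
universe u

open AlgebraicGeometry CategoryTheory CategoryTheory.Limits TopologicalSpace Opposite Topology
open IsLocalRing

namespace Groth.Agent.H48.BiratGeom

open Groth.Agent.H48.OrdFracLib

section Frac

variable {X : Scheme.{u}} [IsIntegral X]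

/-- Sections over a nonempty affine open have the residue field of the generic point as fraction
field. -/
theorem isFractionRing_evaluation (U : X.Opens) (hU : IsAffineOpen U) (hη : genericPoint X ∈ U) :
    @IsFractionRing Γ(X, U) _ (X.residueField (genericPoint X)) _
      (X.evaluation U (genericPoint X) hη).hom.toAlgebra := by
  haveI : Nonempty U := ⟨⟨_, hη⟩⟩
  letI := (X.evaluation U (genericPoint X) hη).hom.toAlgebra
  haveI := functionField_isFractionRing_of_isAffineOpen X U hU
  have hbij : Function.Bijective (X.residue (genericPoint X)).hom :=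
    ⟨RingHom.injective (f := ((X.residue (genericPoint X)).hom : X.functionField →+* _)),
      IsLocalRing.residue_surjective⟩
  let eK : X.functionField ≃+* X.residueField (genericPoint X) := RingEquiv.ofBijective _ hbij
  exact isFractionRing_of_ringEquiv (RingEquiv.refl Γ(X, U)) eK (fun r => rfl)

end Frac

section Degree

variable {V W : Scheme.{u}} (h : V ⟶ W)

/-- The stalk map at `v`, as a map out of the stalk at a point equal to `h v`. -/
noncomputable def stalkMapOfEq (v : V) (w : W) (e : h v = w) :
    W.presheaf.stalk w →+* V.presheaf.stalk v :=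
  (h.stalkMap v).hom.comp (W.presheaf.stalkSpecializes (specializes_of_eq e)).hom

instance (v : V) (w : W) (e : h v = w) : IsLocalHom (stalkMapOfEq h v w e) := by
  subst e
  unfold stalkMapOfEq
  rw [show W.presheaf.stalkSpecializes (specializes_of_eq rfl) = 𝟙 _ from
    W.presheaf.stalkSpecializes_refl (h v)]
  change IsLocalHom ((h.stalkMap v).hom.comp (RingHom.id _))
  rw [RingHom.comp_id]
  infer_instance

theorem finrank_stalkMapOfEq (v : V) (w : W) (e : h v = w) :
    @Module.finrank (ResidueField (W.presheaf.stalk w)) (ResidueField (V.presheaf.stalk v)) _ _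
      (ResidueField.map (stalkMapOfEq h v w e)).toAlgebra.toModule = h.residueDegree v := by
  subst e
  have this : stalkMapOfEq h v (h v) rfl = (h.stalkMap v).hom := by
    unfold stalkMapOfEq
    rw [show W.presheaf.stalkSpecializes (specializes_of_eq rfl) = 𝟙 _ from
      W.presheaf.stalkSpecializes_refl (h v)]
    rfl
  have key : ∀ (φ : W.presheaf.stalk (h v) →+* V.presheaf.stalk v) [IsLocalHom φ],
      φ = (h.stalkMap v).hom →
      @Module.finrank (ResidueField (W.presheaf.stalk (h v))) (ResidueField (V.presheaf.stalk v))
        _ _ (ResidueField.map φ).toAlgebra.toModule = h.residueDegree v := by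
    intro φ _ hφ
    subst hφ
    rfl
  exact key _ this

end Degree

section Points

variable {V : Scheme.{u}} {U : V.Opens} (hU : IsAffineOpen U)

theorem fromSpec_mem (y : PrimeSpectrum Γ(V, U)) : hU.fromSpec y ∈ U := by
  have : hU.fromSpec y ∈ Set.range hU.fromSpec := ⟨y, rfl⟩
  rw [hU.range_fromSpec] at this
  exact this

theorem primeIdealOf_fromSpec (y : PrimeSpectrum Γ(V, U)) :
    hU.primeIdealOf ⟨hU.fromSpec y, fromSpec_mem hU y⟩ = y := by
  have h1 := hU.fromSpec_primeIdealOf ⟨hU.fromSpec y, fromSpec_mem hU y⟩
  exact hU.fromSpec.isOpenEmbedding.injective h1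

theorem primeIdealOf_injective (x y : U) (hxy : hU.primeIdealOf x = hU.primeIdealOf y) : x = y := by
  apply Subtype.ext
  rw [← hU.fromSpec_primeIdealOf x, ← hU.fromSpec_primeIdealOf y, hxy]

end Points

end Groth.Agent.H48.BiratGeom
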