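import Mathlib
import Groth.Prelude.Def_Cyc
import Groth.Prelude.Def_W4stkchowintpicEnv

/-!
# Pushforward of cycles along a completely decomposed morphism is surjective
-/

set_option autoImplicit false
set_option linter.unusedSectionVars false
set_option linter.style.haveILetI false
universe u

open AlgebraicGeometry CategoryTheory TopologicalSpace Opposite Topology

namespace Groth.Agent.H48.EnvelopeSurj

variable {X Y : Scheme.{u}} (f : Y ⟶ X)

/-- A surjective residue field map has transcendence degree zero. -/
theorem trdeg_eq_zero_of_surjective (y : Y) (h : Function.Surjective (f.residueFieldMap y).hom) :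
    letI := (f.residueFieldMap y).hom.toAlgebra
    Algebra.trdeg (X.residueField (f y)) (Y.residueField y) = 0 := by
  letI := (f.residueFieldMap y).hom.toAlgebra
  haveI : Algebra.IsAlgebraic (X.residueField (f y)) (Y.residueField y) := by
    haveI : Algebra.IsIntegral (X.residueField (f y)) (Y.residueField y) :=
      Algebra.isIntegral_of_surjective h
    infer_instance
  exact trdeg_eq_zero

theorem residueDegree_eq_one_of_surjective (y : Y)
    (h : Function.Surjective (f.residueFieldMap y).hom) : f.residueDegree y = 1 := by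
  unfold Scheme.Hom.residueDegree
  letI := (f.residueFieldMap y).hom.toAlgebra
  have hbij : Function.Bijective (Algebra.linearMap (X.residueField (f y)) (Y.residueField y)) :=
    ⟨(f.residueFieldMap y).hom.injective, h⟩
  rw [← (LinearEquiv.ofBijective _ hbij).finrank_eq]
  exact Module.finrank_self _

variable [QuasiCompact f] (δ : X → ℤ) (δY : Y → ℤ)

theorem main (hcd : Cyc.IsCompletelyDecomposed f) (hδ : Cyc.DeltaCompat f δY δ) (k : ℤ)
    (α : AlgebraicCycle X ℤ) (hα : α ∈ Cyc.Zk X δ k) :
    ∃ β : AlgebraicCycle Y ℤ, β ∈ Cyc.Zk Y δY k ∧ AlgebraicCycle.map f δY δ β = α := by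
  classical
  choose s hs1 hs2 using hcd
  have hδs : ∀ x : X, δY (s x) = δ (f (s x)) := by
    intro x
    obtain ⟨n, hn, hδn⟩ := hδ (s x)
    have h0 := trdeg_eq_zero_of_surjective f (s x) (hs2 x)
    rw [hn] at h0
    have : n = 0 := by exact_mod_cast h0
    rw [hδn, this]
    simp
  let βf : Y → ℤ := fun y => if y = s (f y) then α (f y) else 0
  have hβsupp : ∀ z ∈ (Set.univ : Set Y), ∃ t ∈ 𝓝 z, (t ∩ Function.support βf).Finite := by
    intro z _
    obtain ⟨t, ht, hfin⟩ := α.supportLocallyFiniteWithinDomain (f z) (Set.mem_univ _)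
    refine ⟨f ⁻¹' t, f.continuous.continuousAt ht, (hfin.image s).subset ?_⟩
    rintro y ⟨hyt, hy⟩
    have hy' : βf y ≠ 0 := hy
    simp only [βf] at hy'
    split_ifs at hy' with h1
    · exact ⟨f y, ⟨hyt, hy'⟩, h1.symm⟩
    · exact absurd rfl hy'
  let β : AlgebraicCycle Y ℤ := ⟨βf, fun _ _ => Set.mem_univ _, hβsupp⟩
  have hβ : ∀ y, β y = βf y := fun y => rfl
  refine ⟨β, ?_, ?_⟩
  · intro y hy
    rw [hβ]
    simp only [βf]
    split_ifs with h1
    · apply hα
      rw [h1, hδs] at hy
      rw [hs1] at hy
      exact hy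
    · rfl
  · ext x
    simp only [AlgebraicCycle.map, Function.locallyFinsupp.map_apply]
    have hmem : s x ∈ (f : Y → X) ⁻¹' {x} := hs1 x
    rw [finsum_mem_def, finsum_eq_single _ (s x)]
    · rw [Set.indicator_of_mem hmem, hβ]
      simp only [βf]
      rw [hs1, if_pos rfl]
      unfold AlgebraicCycle.mapCoeff
      rw [if_pos (hδs x), residueDegree_eq_one_of_surjective f (s x) (hs2 x)]
      simp
    · intro y hy
      by_cases hyx : y ∈ (f : Y → X) ⁻¹' {x}
      · rw [Set.indicator_of_mem hyx, hβ]
        simp only [βf]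
        have hfy : f y = x := hyx
        rw [hfy, if_neg hy, zero_mul]
      · rw [Set.indicator_of_notMem hyx]
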