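import Mathlib

/-!
# A proper morphism with a finite fibre is finite over an affine neighbourhood (ring level)
-/

set_option autoImplicit false
set_option linter.unusedSectionVars false
set_option linter.style.haveILetI false
universe u

open AlgebraicGeometry CategoryTheory CategoryTheory.Limits TopologicalSpace Opposite Topology

namespace Groth.Agent.H48.FiniteNhd

variable {V W : Scheme.{u}} (h : V ⟶ W)

/-- If `h ∣_ U₀` is finite, every point of `U₀` has an affine open neighbourhood `U` in `W` with
affine preimage and finite ring map. -/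
theorem exists_affine_of_isFinite_restrict (U₀ : W.Opens) [IsFinite (h ∣_ U₀)] (w : W)
    (hw : w ∈ U₀) :
    ∃ U : W.Opens, IsAffineOpen U ∧ w ∈ U ∧ IsAffineOpen (h ⁻¹ᵁ U) ∧ (h.app U).hom.Finite := by
  obtain ⟨_, ⟨j, hj : IsAffineOpen j, rfl⟩, hwj, -⟩ :=
    (U₀ : Scheme.{u}).isBasis_affineOpens.exists_subset_of_mem_open
      (Set.mem_univ (⟨w, hw⟩ : ↥U₀)) isOpen_univ
  refine ⟨U₀.ι ''ᵁ j, hj.image_of_isOpenImmersion U₀.ι, ⟨⟨w, hw⟩, hwj, rfl⟩, ?_, ?_⟩
  · rw [← image_morphismRestrict_preimage]
    exact (IsAffineHom.isAffine_preimage (f := h ∣_ U₀) j hj).image_of_isOpenImmersion _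
  · have h1 : ((h ∣_ U₀).app j).hom.Finite := IsFinite.finite_app (h ∣_ U₀) j hj
    rw [morphismRestrict_app] at h1
    have h2 : (h.app (U₀.ι ''ᵁ j)).hom =
        (V.presheaf.map (eqToHom (image_morphismRestrict_preimage h U₀ j)).op ≫
          inv (V.presheaf.map (eqToHom (image_morphismRestrict_preimage h U₀ j)).op)).hom.comp
        (h.app (U₀.ι ''ᵁ j)).hom := by
      rw [IsIso.hom_inv_id]
      rfl
    rw [h2, CommRingCat.hom_comp, RingHom.comp_assoc, ← CommRingCat.hom_comp]
    refine RingHom.Finite.comp ?_ h1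
    exact RingHom.Finite.of_surjective _
      (ConcreteCategory.bijective_of_isIso
        (inv (V.presheaf.map (eqToHom (image_morphismRestrict_preimage h U₀ j)).op))).2

/-- A proper morphism with finite fibre over `w` is finite over an affine neighbourhood of `w`. -/
theorem exists_affine_finite [IsProper h] (w : W) (hfib : (h ⁻¹' {w}).Finite) :
    ∃ U : W.Opens, IsAffineOpen U ∧ w ∈ U ∧ IsAffineOpen (h ⁻¹ᵁ U) ∧ (h.app U).hom.Finite := by
  obtain ⟨U₀, hwU₀, hfin⟩ := exists_isFinite_morphismRestrict_of_finite_preimage_singleton h w hfib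
  haveI := hfin
  exact exists_affine_of_isFinite_restrict h U₀ w hwU₀

end Groth.Agent.H48.FiniteNhd
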