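import Mathlib
import Groth.Prelude.Def_Cyc
import Groth.Agent.H48.OrdFracLib
import Groth.Agent.H48.FibreMaxSch

/-!
# Rational equivalence on an open subscheme extends up to a cycle on the complement
-/

set_option autoImplicit false
set_option linter.unusedSectionVars false
set_option linter.style.haveILetI false
universe u

open AlgebraicGeometry CategoryTheory CategoryTheory.Limits TopologicalSpace Opposite Topology

namespace Groth.Agent.H48.RatRestrict

open Groth.Agent.H48.OrdFracLib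

section Transport

variable {W X : Scheme.{u}} (j : W ⟶ X)

/-- `ordAt` is compatible with morphisms inducing isomorphisms on the local ring and on the
residue field. -/
theorem ordAt_map_of_isIso (u ξ : W) (h : ξ ⤳ u) [IsIso (j.stalkMap u)]
    [IsIso (j.residueFieldMap ξ)] (t : X.residueField (j ξ)) :
    Cyc.ordAt u ξ h ((j.residueFieldMap ξ).hom t) =
      Cyc.ordAt (j u) (j ξ) (h.map j.continuous) t := by
  let e₀ : X.presheaf.stalk (j u) ≃+* W.presheaf.stalk u :=
    (asIso (j.stalkMap u)).commRingCatIsoToRingEquiv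
  have he₀ : ∀ a, e₀ a = (j.stalkMap u).hom a := fun a => rfl
  set I := RingHom.ker (Cyc.specMap (j u) (j ξ) (h.map j.continuous)) with hI
  set J := RingHom.ker (Cyc.specMap u ξ h) with hJ
  have hcomap : J.comap (j.stalkMap u).hom = I :=
    Groth.Agent.H48.FibreMaxSch.comap_ker_specMap j u ξ h
  have hIJ : J = I.map (e₀ : X.presheaf.stalk (j u) →+* W.presheaf.stalk u) := by
    rw [← hcomap]
    exact (Ideal.map_comap_of_surjective _ e₀.surjective J).symm
  let e : Cyc.LocQuot (j u) (j ξ) (h.map j.continuous) ≃+* Cyc.LocQuot u ξ h :=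
    Ideal.quotientEquiv I J e₀ hIJ
  let eK : X.residueField (j ξ) ≃+* W.residueField ξ :=
    (asIso (j.residueFieldMap ξ)).commRingCatIsoToRingEquiv
  have hcomp : ∀ r : Cyc.LocQuot (j u) (j ξ) (h.map j.continuous),
      eK (algebraMap _ (X.residueField (j ξ)) r) = algebraMap _ (W.residueField ξ) (e r) := by
    intro r
    obtain ⟨a, rfl⟩ := Ideal.Quotient.mk_surjective r
    have := congrArg (fun φ => φ a)
      (Groth.Agent.H48.FibreMaxSch.specMap_comp_stalkMap j u ξ h)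
    exact this.symm
  exact ordFrac_ringEquiv e eK hcomp t

end Transport

section Open

variable {X : Scheme.{u}} (U : X.Opens) (δ : X → ℤ)

/-- The rational function on `X` corresponding to a rational function on `U`. -/
noncomputable def extFun (ξ : (U : Scheme.{u})) (g : (U : Scheme.{u}).residueField ξ) :
    X.residueField (U.ι ξ) :=
  (inv (U.ι.residueFieldMap ξ)).hom g

theorem residueFieldMap_extFun (ξ : (U : Scheme.{u})) (g : (U : Scheme.{u}).residueField ξ) :
    (U.ι.residueFieldMap ξ).hom (extFun U ξ g) = g := by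
  unfold extFun
  rw [← CommRingCat.comp_apply, IsIso.inv_hom_id]
  rfl

theorem extFun_ne_zero (ξ : (U : Scheme.{u})) (g : (U : Scheme.{u}).residueField ξ) (hg : g ≠ 0) :
    extFun U ξ g ≠ 0 := by
  intro h
  apply hg
  rw [← residueFieldMap_extFun U ξ g, h, map_zero]

theorem divFun_extFun (ξ u : (U : Scheme.{u})) (g : (U : Scheme.{u}).residueField ξ) :
    Cyc.divFun δ (U.ι ξ) (extFun U ξ g) (U.ι u) =
      Cyc.divFun (X := (U : Scheme.{u})) (fun v : (U : Scheme.{u}) => δ (U.ι v)) ξ g u := by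
  unfold Cyc.divFun
  beta_reduce
  have hsp : U.ι ξ ⤳ U.ι u ↔ ξ ⤳ u := U.ι.isOpenEmbedding.isInducing.specializes_iff
  by_cases h : ξ ⤳ u ∧ δ (U.ι u) + 1 = δ (U.ι ξ)
  · rw [dif_pos h, dif_pos ⟨hsp.mpr h.1, h.2⟩]
    have := ordAt_map_of_isIso U.ι u ξ h.1 (extFun U ξ g)
    rw [residueFieldMap_extFun] at this
    exact this.symm
  · rw [dif_neg h, dif_neg (fun h' => h ⟨hsp.mp h'.1, h'.2⟩)]

end Open

section LocFin

variable {X : Scheme.{u}} [IsLocallyNoetherian X] (U : X.Opens)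

/-- A family locally finite in `U` is locally finite in `X`. -/
theorem locallyFinite_closure_ι {I : Type u} (ξ : I → (U : Scheme.{u}))
    (hlf : ∀ u : (U : Scheme.{u}), ∃ W : Set (U : Scheme.{u}), IsOpen W ∧ u ∈ W ∧
      {i | (closure {ξ i} ∩ W).Nonempty}.Finite) :
    ∀ x : X, ∃ V : Set X, IsOpen V ∧ x ∈ V ∧
      {i | (closure {U.ι (ξ i)} ∩ V).Nonempty}.Finite := by
  intro x
  obtain ⟨V, hV, hxV, -⟩ := exists_isAffineOpen_mem_and_subset (x := x) (U := ⊤) trivial
  haveI : IsNoetherianRing Γ(X, V) := IsLocallyNoetherian.component_noetherian ⟨V, hV⟩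
  haveI : NoetherianSpace ↥V := noetherianSpace_of_isAffineOpen V hV
  refine ⟨V, V.2, hxV, ?_⟩
  have hK : IsCompact ((V : Set X) ∩ U) := by
    have : ((V : Set X) ∩ U) = Subtype.val '' {v : ↥V | v.1 ∈ U} := by
      ext p
      constructor
      · rintro ⟨h1, h2⟩
        exact ⟨⟨p, h1⟩, h2, rfl⟩
      · rintro ⟨v, hv, rfl⟩
        exact ⟨v.2, hv⟩
    rw [this]
    exact (NoetherianSpace.isCompact _).image continuous_subtype_val
  choose W hWo hWm hWf using hlf
  have hcover : (V : Set X) ∩ U ⊆ ⋃ u : (U : Scheme.{u}), U.ι '' W u := by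
    intro p hp
    exact Set.mem_iUnion.mpr ⟨⟨p, hp.2⟩, ⟨⟨p, hp.2⟩, hWm _, rfl⟩⟩
  obtain ⟨t, ht⟩ := hK.elim_finite_subcover (fun u => U.ι '' W u)
    (fun u => U.ι.isOpenEmbedding.isOpenMap _ (hWo u)) hcover
  refine (t.finite_toSet.biUnion (fun u _ => hWf u)).subset ?_
  intro i hi
  obtain ⟨p, hpc, hpV⟩ := hi
  have hsp : U.ι (ξ i) ⤳ p := specializes_iff_mem_closure.mpr hpc
  have hξV : U.ι (ξ i) ∈ (V : Set X) := hsp.mem_open V.2 hpV
  have hξU : U.ι (ξ i) ∈ (U : Set X) := (ξ i).2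
  obtain ⟨u, hut, hu⟩ := Set.mem_iUnion₂.mp (ht ⟨hξV, hξU⟩)
  obtain ⟨w, hwW, hw⟩ := hu
  have hwξ : w = ξ i := U.ι.isOpenEmbedding.injective hw
  subst hwξ
  exact Set.mem_biUnion hut ⟨_, subset_closure rfl, hwW⟩

variable (δ : X → ℤ) (hδ : Cyc.IsDimFun X δ)

include hδ in
/-- Only finitely many points of codimension one in `closure {ζ}` inside an affine open lie outside
an open set containing `ζ`. -/
theorem finite_codimOne_off_open (V : X.Opens) (hV : IsAffineOpen V) (ζ : X) (hζ : ζ ∈ U) :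
    {x : X | x ∈ V ∧ x ∉ U ∧ ζ ⤳ x ∧ δ x + 1 = δ ζ}.Finite := by
  haveI : IsNoetherianRing Γ(X, V) := IsLocallyNoetherian.component_noetherian ⟨V, hV⟩
  haveI : NoetherianSpace ↥V := noetherianSpace_of_isAffineOpen V hV
  haveI : QuasiSober ↥V := V.2.isOpenEmbedding_subtypeVal.quasiSober
  let C : Set ↥V := {v | ζ ⤳ v.1 ∧ v.1 ∉ U}
  have hC : IsClosed C := by
    have : C = Subtype.val ⁻¹' (closure {ζ} ∩ (U : Set X)ᶜ) := by
      ext v
      simp only [C, Set.mem_setOf_eq, Set.mem_preimage, Set.mem_inter_iff, Set.mem_compl_iff,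
        specializes_iff_mem_closure]
      rfl
    rw [this]
    exact (isClosed_closure.inter U.2.isClosed_compl).preimage continuous_subtype_val
  obtain ⟨S, hSf, hSc, hSi, hSU⟩ := NoetherianSpace.exists_finite_set_isClosed_irreducible hC
  classical
  let g : Set ↥V → X := fun T =>
    if h : IsIrreducible T ∧ IsClosed T then (Classical.choose (QuasiSober.sober h.1 h.2)).1 else ζ
  refine (hSf.image g).subset ?_
  rintro x ⟨hxV, hxU, hζx, hδx⟩
  have hvC : (⟨x, hxV⟩ : ↥V) ∈ C := ⟨hζx, hxU⟩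
  rw [hSU] at hvC
  obtain ⟨T, hTS, hvT⟩ := hvC
  refine ⟨T, hTS, ?_⟩
  have hT : IsIrreducible T ∧ IsClosed T := ⟨hSi T hTS, hSc T hTS⟩
  have hgT : g T = (Classical.choose (QuasiSober.sober hT.1 hT.2)).1 := dif_pos hT
  rw [hgT]
  set τ := Classical.choose (QuasiSober.sober hT.1 hT.2) with hτ
  have hτg : IsGenericPoint τ T := Classical.choose_spec (QuasiSober.sober hT.1 hT.2)
  have hτT : τ ∈ T := hτg.mem
  have hτC : τ ∈ C := by rw [hSU]; exact ⟨T, hTS, hτT⟩
  have hτv : τ ⤳ ⟨x, hxV⟩ := hτg.specializes hvT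
  have hτx : τ.1 ⤳ x := hτv.map continuous_subtype_val
  by_contra hne
  have h1 := (hδ τ.1 x hτx hne).1
  have hζτ : ζ ≠ τ.1 := fun h => hτC.2 (h ▸ hζ)
  have h2 := (hδ ζ τ.1 hτC.1 hζτ).1
  omega

end LocFin

section Main

variable {X : Scheme.{u}} (δ : X → ℤ) (hX : Cyc.IsSetup X δ) (U : X.Opens) (k : ℤ)

include hX in
theorem main (α β : AlgebraicCycle X ℤ) (hα : α ∈ Cyc.Zk X δ k) (hβ : β ∈ Cyc.Zk X δ k)
    (αU βU : AlgebraicCycle (U : Scheme.{u}) ℤ) (hαU : ∀ u : ↥U, αU u = α (U.ι u))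
    (hβU : ∀ u : ↥U, βU u = β (U.ι u))
    (h : Cyc.RatEquiv (fun u : ↥U => δ (U.ι u)) k αU βU) :
    ∃ γ : AlgebraicCycle X ℤ, γ ∈ Cyc.Zk X δ k ∧ (∀ x : X, x ∈ U → γ x = 0) ∧
      Cyc.RatEquiv δ k α (β + γ) := by
  obtain ⟨hN, -, hδ⟩ := hX
  haveI := hN
  obtain ⟨I, ξ, fU, hξδ, hfne, hlf, hsum⟩ := h
  classical
  set D : X → ℤ := fun x => ∑ᶠ i, Cyc.divFun δ (U.ι (ξ i)) (extFun U (ξ i) (fU i)) x with hD
  have hlfX := locallyFinite_closure_ι U ξ hlf
  have hDk : ∀ x, δ x ≠ k → D x = 0 := by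
    intro x hx
    apply finsum_eq_zero_of_forall_eq_zero
    intro i
    unfold Cyc.divFun
    rw [dif_neg]
    rintro ⟨-, h2⟩
    have h3 : δ (U.ι (ξ i)) = k + 1 := hξδ i
    apply hx
    omega
  have hDU : ∀ u : (U : Scheme.{u}), D (U.ι u) = α (U.ι u) - β (U.ι u) := by
    intro u
    have := hsum u
    rw [Function.locallyFinsuppWithin.coe_sub, Pi.sub_apply, hαU, hβU] at this
    rw [this]
    exact finsum_congr (fun i => divFun_extFun U δ (ξ i) u (fU i))
  let γf : X → ℤ := fun x => if x ∈ U then 0 else α x - β x - D x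
  have hγU : ∀ x, x ∈ U → γf x = 0 := fun x hx => if_pos hx
  have hγnU : ∀ x, x ∉ U → γf x = α x - β x - D x := fun x hx => if_neg hx
  have hγsupp : ∀ z ∈ (Set.univ : Set X), ∃ t ∈ 𝓝 z, (t ∩ Function.support γf).Finite := by
    intro z _
    obtain ⟨V₀, hV₀o, hzV₀, hV₀f⟩ := hlfX z
    obtain ⟨V, hV, hzV, hVV₀⟩ :=
      exists_isAffineOpen_mem_and_subset (x := z) (U := ⟨V₀, hV₀o⟩) hzV₀
    obtain ⟨tα, htα, hfα⟩ := α.supportLocallyFiniteWithinDomain z (Set.mem_univ z)
    obtain ⟨tβ, htβ, hfβ⟩ := β.supportLocallyFiniteWithinDomain z (Set.mem_univ z)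
    refine ⟨(V : Set X) ∩ tα ∩ tβ,
      Filter.inter_mem (Filter.inter_mem (V.2.mem_nhds hzV) htα) htβ, ?_⟩
    have hfin : (⋃ i ∈ {i | (closure {U.ι (ξ i)} ∩ V₀).Nonempty},
        {x : X | x ∈ V ∧ x ∉ U ∧ U.ι (ξ i) ⤳ x ∧ δ x + 1 = δ (U.ι (ξ i))}).Finite :=
      hV₀f.biUnion (fun i _ => finite_codimOne_off_open U δ hδ V hV (U.ι (ξ i)) (ξ i).2)
    refine ((hfα.union hfβ).union hfin).subset ?_
    rintro x ⟨⟨⟨hxV, hxα⟩, hxβ⟩, hxγ⟩
    have hxγ' : γf x ≠ 0 := hxγ
    by_cases hxU : x ∈ U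
    · exact absurd (hγU x hxU) hxγ'
    · rw [hγnU x hxU] at hxγ'
      by_cases hDx : D x = 0
      · have : α x ≠ 0 ∨ β x ≠ 0 := by
          by_contra hcon
          push Not at hcon
          apply hxγ'
          rw [hcon.1, hcon.2, hDx]
          simp
        rcases this with h | h
        · left; left; exact ⟨hxα, h⟩
        · left; right; exact ⟨hxβ, h⟩
      · right
        obtain ⟨i, hi⟩ : ∃ i, Cyc.divFun δ (U.ι (ξ i)) (extFun U (ξ i) (fU i)) x ≠ 0 := by
          by_contra hcon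
          push Not at hcon
          exact hDx (finsum_eq_zero_of_forall_eq_zero hcon)
        have hcond : U.ι (ξ i) ⤳ x ∧ δ x + 1 = δ (U.ι (ξ i)) := by
          by_contra hc
          apply hi
          unfold Cyc.divFun
          rw [dif_neg hc]
        refine Set.mem_biUnion (x := i) ?_ ⟨hxV, hxU, hcond.1, hcond.2⟩
        exact ⟨x, specializes_iff_mem_closure.mp hcond.1, hVV₀ hxV⟩
  let γ : AlgebraicCycle X ℤ := ⟨γf, fun _ _ => Set.mem_univ _, hγsupp⟩
  have hγ : ∀ x, γ x = γf x := fun x => rfl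
  refine ⟨γ, ?_, ?_, ?_⟩
  · intro x hx
    rw [hγ]
    by_cases hxU : x ∈ U
    · exact hγU x hxU
    · rw [hγnU x hxU, hα x hx, hβ x hx, hDk x hx]
      simp
  · intro x hx
    rw [hγ]
    exact hγU x hx
  · refine ⟨I, fun i => U.ι (ξ i), fun i => extFun U (ξ i) (fU i), hξδ,
      fun i => extFun_ne_zero U _ _ (hfne i), hlfX, ?_⟩
    intro x
    rw [Function.locallyFinsuppWithin.coe_sub, Function.locallyFinsuppWithin.coe_add]
    simp only [Pi.sub_apply, Pi.add_apply]
    rw [hγ]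
    change α x - (β x + γf x) = D x
    by_cases hxU : x ∈ U
    · rw [hγU x hxU]
      have := hDU ⟨x, hxU⟩
      rw [add_zero]
      exact this.symm
    · rw [hγnU x hxU]
      ring

end Main

end Groth.Agent.H48.RatRestrict
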