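import Mathlib
import Groth.Prelude.Def_Cyc
import Groth.Agent.H48.OrdFracLib
import Groth.Agent.H48.FibreMaxSch

/-!
# `ordAt` and `divFun` along morphisms surjective on stalks (e.g. closed immersions)
-/

set_option autoImplicit false
set_option linter.unusedSectionVars false
set_option linter.style.haveILetI false
universe u

open AlgebraicGeometry CategoryTheory CategoryTheory.Limits TopologicalSpace Opposite Topology

namespace Groth.Agent.H48.ClosedOrd

open Groth.Agent.H48.OrdFracLib

variable {W X : Scheme.{u}} (j : W ⟶ X)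

/-- If the stalk map is surjective, so is the residue field map. -/
theorem residueFieldMap_surjective (ξ : W) (hsurj : Function.Surjective (j.stalkMap ξ).hom) :
    Function.Surjective (j.residueFieldMap ξ).hom := by
  intro b
  obtain ⟨b', rfl⟩ := IsLocalRing.residue_surjective (R := W.presheaf.stalk ξ) b
  obtain ⟨a, rfl⟩ := hsurj b'
  refine ⟨(X.residue (j ξ)).hom a, ?_⟩
  have := congrArg (fun φ => φ.hom a) (Scheme.residue_residueFieldMap j ξ)
  exact this

/-- `ordAt` is compatible with morphisms inducing surjections on the local ring and on the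
residue field. -/
theorem ordAt_map_of_surjective (u ξ : W) (h : ξ ⤳ u)
    (hsurj : Function.Surjective (j.stalkMap u).hom)
    (hres : Function.Surjective (j.residueFieldMap ξ).hom) (t : X.residueField (j ξ)) :
    Cyc.ordAt u ξ h ((j.residueFieldMap ξ).hom t) =
      Cyc.ordAt (j u) (j ξ) (h.map j.continuous) t := by
  set I := RingHom.ker (Cyc.specMap (j u) (j ξ) (h.map j.continuous)) with hI
  set J := RingHom.ker (Cyc.specMap u ξ h) with hJ
  have hcomap : J.comap (j.stalkMap u).hom = I :=
    Groth.Agent.H48.FibreMaxSch.comap_ker_specMap j u ξ h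
  have hle : I ≤ J.comap (j.stalkMap u).hom := hcomap.ge
  let q : Cyc.LocQuot (j u) (j ξ) (h.map j.continuous) →+* Cyc.LocQuot u ξ h :=
    Ideal.quotientMap J (j.stalkMap u).hom hle
  have hqbij : Function.Bijective q :=
    ⟨Ideal.quotientMap_injective' hcomap.le, Ideal.quotientMap_surjective hsurj⟩
  let e : Cyc.LocQuot (j u) (j ξ) (h.map j.continuous) ≃+* Cyc.LocQuot u ξ h :=
    RingEquiv.ofBijective q hqbij
  let eK : X.residueField (j ξ) ≃+* W.residueField ξ :=
    RingEquiv.ofBijective (j.residueFieldMap ξ).hom ⟨(j.residueFieldMap ξ).hom.injective, hres⟩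
  have hcomp : ∀ r : Cyc.LocQuot (j u) (j ξ) (h.map j.continuous),
      eK (algebraMap _ (X.residueField (j ξ)) r) = algebraMap _ (W.residueField ξ) (e r) := by
    intro r
    obtain ⟨a, rfl⟩ := Ideal.Quotient.mk_surjective r
    have := congrArg (fun φ => φ a)
      (Groth.Agent.H48.FibreMaxSch.specMap_comp_stalkMap j u ξ h)
    exact this.symm
  exact ordFrac_ringEquiv e eK hcomp t

/-- Version of `ordAt_map_of_surjective` for morphisms surjective on stalks. -/
theorem ordAt_map_of_surjectiveOnStalks [SurjectiveOnStalks j] (u ξ : W) (h : ξ ⤳ u)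
    (t : X.residueField (j ξ)) :
    Cyc.ordAt u ξ h ((j.residueFieldMap ξ).hom t) =
      Cyc.ordAt (j u) (j ξ) (h.map j.continuous) t :=
  ordAt_map_of_surjective j u ξ h (j.stalkMap_surjective u)
    (residueFieldMap_surjective j ξ (j.stalkMap_surjective ξ)) t

/-- The principal divisor on a closed subscheme, pushed forward. -/
theorem divFun_map_of_isClosedImmersion [IsClosedImmersion j] (δ : X → ℤ) (ξ u : W)
    (t : X.residueField (j ξ)) :
    Cyc.divFun δ (j ξ) t (j u) =
      Cyc.divFun (X := W) (fun w : W => δ (j w)) ξ ((j.residueFieldMap ξ).hom t) u := by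
  unfold Cyc.divFun
  beta_reduce
  have hsp : j ξ ⤳ j u ↔ ξ ⤳ u := j.isEmbedding.isInducing.specializes_iff
  by_cases h : ξ ⤳ u ∧ δ (j u) + 1 = δ (j ξ)
  · rw [dif_pos h, dif_pos ⟨hsp.mpr h.1, h.2⟩]
    exact (ordAt_map_of_surjectiveOnStalks j u ξ h.1 t).symm
  · rw [dif_neg h, dif_neg (fun h' => h ⟨hsp.mp h'.1, h'.2⟩)]

/-- The principal divisor of a function on `closure {j ξ}` vanishes off the closed image. -/
theorem divFun_eq_zero_of_notMem_range [IsClosedImmersion j] (δ : X → ℤ) (ξ : W)
    (t : X.residueField (j ξ)) (x : X) (hx : x ∉ Set.range j) :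
    Cyc.divFun δ (j ξ) t x = 0 := by
  unfold Cyc.divFun
  rw [dif_neg]
  rintro ⟨h1, -⟩
  apply hx
  have hcl : IsClosed (Set.range j) := j.isClosedEmbedding.isClosed_range
  exact h1.mem_closed hcl ⟨ξ, rfl⟩

end Groth.Agent.H48.ClosedOrd
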