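import Mathlib
import Groth.Prelude.Def_Cyc
import Groth.Agent.H48.ClosedOrd
import Groth.Agent.H48.RelDelta
import Groth.Agent.H48.CycPush
import Groth.Agent.H48.EnvelopeSurj

/-!
# Dimension functions, `DeltaCompat` and `mapCoeff` along closed immersions
-/

set_option autoImplicit false
set_option linter.unusedSectionVars false
set_option linter.style.haveILetI false
universe u

open AlgebraicGeometry CategoryTheory CategoryTheory.Limits TopologicalSpace Opposite Topology

namespace Groth.Agent.H48.ClosedDim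

variable {W X : Scheme.{u}} (i : W ⟶ X) [IsClosedImmersion i]

/-- A dimension function restricts to a dimension function along a closed immersion. -/
theorem isDimFun_comp (δ : X → ℤ) (hd : Cyc.IsDimFun X δ) :
    Cyc.IsDimFun W (fun w : W => δ (i w)) := by
  intro x y hxy hne
  have hsp : ∀ a b : W, i a ⤳ i b ↔ a ⤳ b :=
    fun a b => i.isEmbedding.isInducing.specializes_iff
  have hinj : Function.Injective i := i.isEmbedding.injective
  have h1 := hd (i x) (i y) ((hsp x y).mpr hxy) (fun h => hne (hinj h))
  refine ⟨h1.1, fun himm => h1.2 ?_⟩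
  intro z hxz hzy
  have hcl : IsClosed (Set.range i) := i.isClosedEmbedding.isClosed_range
  obtain ⟨z', rfl⟩ : z ∈ Set.range i := hxz.mem_closed hcl ⟨x, rfl⟩
  rcases himm z' ((hsp _ _).mp hxz) ((hsp _ _).mp hzy) with h | h
  · exact Or.inl (congrArg _ h)
  · exact Or.inr (congrArg _ h)

theorem residueFieldMap_surjective (w : W) : Function.Surjective (i.residueFieldMap w).hom :=
  Groth.Agent.H48.ClosedOrd.residueFieldMap_surjective i w (i.stalkMap_surjective w)

theorem trdeg_eq_zero (w : W) :
    (letI := (i.residueFieldMap w).hom.toAlgebra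
     Algebra.trdeg (X.residueField (i w)) (W.residueField w)) = 0 :=
  Groth.Agent.H48.EnvelopeSurj.trdeg_eq_zero_of_surjective i w (residueFieldMap_surjective i w)

theorem residueDegree_eq_one (w : W) : i.residueDegree w = 1 :=
  Groth.Agent.H48.EnvelopeSurj.residueDegree_eq_one_of_surjective i w
    (residueFieldMap_surjective i w)

/-- The restricted dimension function is the induced one. -/
theorem deltaCompat (δ : X → ℤ) : Cyc.DeltaCompat i (fun w : W => δ (i w)) δ := by
  intro w
  refine ⟨0, ?_, ?_⟩
  · rw [trdeg_eq_zero i w]; simp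
  · simp

/-- `DeltaCompat` descends along a closed immersion of the target. -/
theorem deltaCompat_of_comp {V : Scheme.{u}} (h : V ⟶ W) (δV : V → ℤ) (δ : X → ℤ)
    (hδ : Cyc.DeltaCompat (h ≫ i) δV δ) : Cyc.DeltaCompat h δV (fun w : W => δ (i w)) := by
  intro v
  obtain ⟨n, hn, hδn⟩ := hδ v
  refine ⟨n, ?_, hδn⟩
  have h1 := Groth.Agent.H48.RelDelta.trdeg_residueField_comp h i v
  rw [trdeg_eq_zero i (h v), zero_add] at h1
  rw [← h1]
  exact hn

theorem mapCoeff_comp_right {V : Scheme.{u}} (h : V ⟶ W) (δV : V → ℤ) (δ : X → ℤ) (v : V) :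
    AlgebraicCycle.mapCoeff (h ≫ i) δV δ v =
      AlgebraicCycle.mapCoeff h δV (fun w : W => δ (i w)) v := by
  unfold AlgebraicCycle.mapCoeff
  have hcomp : (h ≫ i).base v = i (h v) := rfl
  rw [hcomp]
  have : (h ≫ i).residueDegree v = h.residueDegree v := by
    rw [Groth.Agent.H48.CycPush.residueDegree_comp, residueDegree_eq_one, one_mul]
  rw [this]

theorem mapCoeff_comp_left {Z : Scheme.{u}} (f : X ⟶ Z) (δ : X → ℤ) (δZ : Z → ℤ) (w : W) :
    AlgebraicCycle.mapCoeff (i ≫ f) (fun w : W => δ (i w)) δZ w =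
      AlgebraicCycle.mapCoeff f δ δZ (i w) := by
  unfold AlgebraicCycle.mapCoeff
  have hcomp : (i ≫ f).base w = f (i w) := rfl
  rw [hcomp]
  have : (i ≫ f).residueDegree w = f.residueDegree (i w) := by
    rw [Groth.Agent.H48.CycPush.residueDegree_comp, residueDegree_eq_one i, mul_one]
  rw [this]

end Groth.Agent.H48.ClosedDim
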