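import Mathlib
import Groth.Prelude.Def_Cyc
import Groth.Agent.H48.BiratPush
import Groth.Agent.H48.ClosedDim
import Groth.Agent.H22.CompLift
import Groth.Agent.H22.CompProper

/-!
# Proper birational pushforward of a principal divisor: integral source, general target
-/

set_option autoImplicit false
set_option linter.unusedSectionVars false
set_option linter.style.haveILetI false
universe u

open AlgebraicGeometry CategoryTheory CategoryTheory.Limits TopologicalSpace Opposite Topology

namespace Groth.Agent.H48.BiratPush

section Target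

variable {V W X : Scheme.{u}} [IsIntegral V] [IsIntegral W] [IsLocallyNoetherian V]
  [IsLocallyNoetherian X]

/-- Auxiliary form: the morphism `g` factors as `h ≫ i` with `i` a closed immersion from an
integral scheme whose generic point maps to `g η`. -/
theorem finsum_divFun_eq_aux (i : W ⟶ X) [IsClosedImmersion i] (h : V ⟶ W) (g : V ⟶ X)
    (hg : h ≫ i = g) [IsProper g] (δV : V → ℤ) (δ : X → ℤ)
    (hdV : Cyc.IsDimFun V δV) (hd : Cyc.IsDimFun X δ) (hδ : Cyc.DeltaCompat g δV δ)
    (hi : i (genericPoint W) = g (genericPoint V))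
    (hsurj : Function.Surjective (g.residueFieldMap (genericPoint V)).hom)
    (t : X.residueField (g (genericPoint V))) (ht : t ≠ 0) (x : X) :
    ∑ᶠ v ∈ (g : V → X) ⁻¹' {x},
        Cyc.divFun δV (genericPoint V) ((g.residueFieldMap (genericPoint V)).hom t) v *
          ((AlgebraicCycle.mapCoeff g δV δ v : ℕ) : ℤ) =
      Cyc.divFun δ (g (genericPoint V)) t x := by
  subst hg
  haveI : IsLocallyNoetherian W := LocallyOfFiniteType.isLocallyNoetherian i
  haveI : IsProper h := IsProper.of_comp h i
  have hinj : Function.Injective i := i.isEmbedding.injective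
  have hgen : h (genericPoint V) = genericPoint W := (hinj hi).symm
  have hdW := Groth.Agent.H48.ClosedDim.isDimFun_comp i δ hd
  have hδW := Groth.Agent.H48.ClosedDim.deltaCompat_of_comp i h δV δ hδ
  have hrescomp : ((h ≫ i).residueFieldMap (genericPoint V)).hom =
      (h.residueFieldMap (genericPoint V)).hom.comp (i.residueFieldMap (h (genericPoint V))).hom := by
    rw [Scheme.residueFieldMap_comp]
    rfl
  have hsurjh : Function.Surjective (h.residueFieldMap (genericPoint V)).hom := by
    rw [hrescomp] at hsurj
    exact Function.Surjective.of_comp hsurj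
  by_cases hx : x ∈ Set.range i
  · obtain ⟨w, rfl⟩ := hx
    have hfib : ((h ≫ i : V ⟶ X) : V → X) ⁻¹' {i w} = (h : V → W) ⁻¹' {w} := by
      ext v
      simp only [Set.mem_preimage, Set.mem_singleton_iff]
      exact ⟨fun hv => hinj hv, fun hv => congrArg i hv⟩
    rw [hfib]
    have hR := Groth.Agent.H48.ClosedOrd.divFun_map_of_isClosedImmersion i δ (h (genericPoint V)) w t
    have hne : (i.residueFieldMap (h (genericPoint V))).hom t ≠ 0 := by
      intro h0
      exact ht ((map_eq_zero _).mp h0)
    have main := finsum_divFun_eq h δV (fun w : W => δ (i w)) hdV hdW hδW hgen hsurjh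
      ((i.residueFieldMap (h (genericPoint V))).hom t) hne w
    refine Eq.trans ?_ (main.trans hR.symm)
    refine finsum_congr fun v => finsum_congr fun _ => ?_
    rw [Groth.Agent.H48.ClosedDim.mapCoeff_comp_right, hrescomp]
    rfl
  · have hR := Groth.Agent.H48.ClosedOrd.divFun_eq_zero_of_notMem_range i δ (h (genericPoint V)) t x hx
    refine Eq.trans ?_ hR.symm
    refine finsum_mem_eq_zero_of_forall_eq_zero fun v hv => ?_
    exfalso
    exact hx ⟨h v, hv⟩

/-- Proper birational pushforward of a principal divisor, integral source, general target. -/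
theorem finsum_divFun_eq_of_integral (g : V ⟶ X) [IsProper g] (δV : V → ℤ) (δ : X → ℤ)
    (hdV : Cyc.IsDimFun V δV) (hd : Cyc.IsDimFun X δ) (hδ : Cyc.DeltaCompat g δV δ)
    (hsurj : Function.Surjective (g.residueFieldMap (genericPoint V)).hom)
    (t : X.residueField (g (genericPoint V))) (ht : t ≠ 0) (x : X) :
    ∑ᶠ v ∈ (g : V → X) ⁻¹' {x},
        Cyc.divFun δV (genericPoint V) ((g.residueFieldMap (genericPoint V)).hom t) v *
          ((AlgebraicCycle.mapCoeff g δV δ v : ℕ) : ℤ) =
      Cyc.divFun δ (g (genericPoint V)) t x := by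
  let T : TopologicalSpace.Closeds X := ⟨closure {g (genericPoint V)}, isClosed_closure⟩
  have hT : IsIrreducible (T : Set X) := isIrreducible_singleton.closure
  haveI : IsIntegral (Scheme.IdealSheafData.vanishingIdeal T).subscheme :=
    Groth.Agent.H22.CompLift.isIntegral_subscheme_vanishingIdeal T hT
  have hrange : Set.range g ⊆ Set.range (Scheme.IdealSheafData.vanishingIdeal T).subschemeι := by
    rw [Groth.Agent.H22.CompLift.range_subschemeι_vanishingIdeal]
    rintro _ ⟨v, rfl⟩
    exact ((genericPoint_specializes v).map g.continuous).mem_closure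
  obtain ⟨h, hh⟩ := Groth.Agent.H22.CompProper.exists_lift_of_isReduced' g
    (Scheme.IdealSheafData.vanishingIdeal T).subschemeι hrange
  exact finsum_divFun_eq_aux _ h g hh δV δ hdV hd hδ
    (Groth.Agent.H22.CompLift.subschemeι_genericPoint T _ rfl) hsurj t ht x

end Target

end Groth.Agent.H48.BiratPush
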