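import Mathlib
import Groth.Prelude.Def_Cyc
import Groth.Agent.H48.BiratPush2
import Groth.Agent.H79.CycComp

/-!
# Proper birational pushforward of a principal divisor: general source and target
-/

set_option autoImplicit false
set_option linter.unusedSectionVars false
set_option linter.style.haveILetI false
universe u

open AlgebraicGeometry CategoryTheory CategoryTheory.Limits TopologicalSpace Opposite Topology

namespace Groth.Agent.H48.BiratPush

section Source

variable {V Y X : Scheme.{u}} [IsLocallyNoetherian Y] [IsLocallyNoetherian X]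

/-- Auxiliary form: `y` is the image of the generic point of an integral closed subscheme. -/
theorem finsum_divFun_eq_aux' [IsIntegral V] (j : V ⟶ Y) [IsClosedImmersion j] (f : Y ⟶ X)
    [IsProper f] (δY : Y → ℤ) (δ : X → ℤ)
    (hdY : Cyc.IsDimFun Y δY) (hd : Cyc.IsDimFun X δ) (hδ : Cyc.DeltaCompat f δY δ)
    (y : Y) (hj : j (genericPoint V) = y)
    (hsurj : Function.Surjective (f.residueFieldMap y).hom)
    (t : X.residueField (f y)) (ht : t ≠ 0) (x : X) :
    ∑ᶠ y' ∈ (f : Y → X) ⁻¹' {x},
        Cyc.divFun δY y ((f.residueFieldMap y).hom t) y' *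
          ((AlgebraicCycle.mapCoeff f δY δ y' : ℕ) : ℤ) =
      Cyc.divFun δ (f y) t x := by
  subst hj
  haveI : IsLocallyNoetherian V := LocallyOfFiniteType.isLocallyNoetherian j
  have hinj : Function.Injective j := j.isEmbedding.injective
  have hdV := Groth.Agent.H48.ClosedDim.isDimFun_comp j δY hdY
  have hδg : Cyc.DeltaCompat (j ≫ f) (fun v : V => δY (j v)) δ :=
    Groth.Agent.H79.CycComp.deltaCompat_comp j f _ δY δ
      (Groth.Agent.H48.ClosedDim.deltaCompat j δY) hδ
  have hrescomp : ((j ≫ f).residueFieldMap (genericPoint V)).hom =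
      (j.residueFieldMap (genericPoint V)).hom.comp (f.residueFieldMap (j (genericPoint V))).hom := by
    rw [Scheme.residueFieldMap_comp]
    rfl
  have hsurjg : Function.Surjective ((j ≫ f).residueFieldMap (genericPoint V)).hom := by
    rw [hrescomp]
    exact (Groth.Agent.H48.ClosedDim.residueFieldMap_surjective j _).comp hsurj
  have main := finsum_divFun_eq_of_integral (j ≫ f) (fun v : V => δY (j v)) δ hdV hd hδg hsurjg
    t ht x
  refine Eq.trans ?_ main
  set F : Y → ℤ := fun y' => Cyc.divFun δY (j (genericPoint V))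
    ((f.residueFieldMap (j (genericPoint V))).hom t) y' *
      ((AlgebraicCycle.mapCoeff f δY δ y' : ℕ) : ℤ) with hF
  have hsupp : Function.support F ⊆ Set.range j := by
    intro y' hy'
    by_contra hnot
    apply hy'
    simp only [hF]
    rw [Groth.Agent.H48.ClosedOrd.divFun_eq_zero_of_notMem_range j δY _ _ y' hnot, zero_mul]
  have h1 : ∑ᶠ y' ∈ (f : Y → X) ⁻¹' {x}, F y' =
      ∑ᶠ y' ∈ j '' (((j ≫ f : V ⟶ X) : V → X) ⁻¹' {x}), F y' := by
    apply finsum_mem_inter_support_eq
    ext y'
    constructor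
    · rintro ⟨h1, h2⟩
      obtain ⟨v, rfl⟩ := hsupp h2
      exact ⟨⟨v, h1, rfl⟩, h2⟩
    · rintro ⟨⟨v, h1, rfl⟩, h2⟩
      exact ⟨h1, h2⟩
  rw [h1, finsum_mem_image hinj.injOn]
  refine finsum_congr fun v => finsum_congr fun _ => ?_
  simp only [hF]
  rw [Groth.Agent.H48.ClosedOrd.divFun_map_of_isClosedImmersion j δY,
    Groth.Agent.H48.ClosedDim.mapCoeff_comp_left, hrescomp]
  rfl

/-- **Proper pushforward of a principal divisor, birational case.** If `f : Y ⟶ X` is proper and
the residue field extension at `y` is trivial, then `f_* div(t|_y) = div(t)` for `t ∈ κ(f y)^*`. -/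
theorem finsum_divFun_eq_general (f : Y ⟶ X)
    [IsProper f] (δY : Y → ℤ) (δ : X → ℤ)
    (hdY : Cyc.IsDimFun Y δY) (hd : Cyc.IsDimFun X δ) (hδ : Cyc.DeltaCompat f δY δ)
    (y : Y) (hsurj : Function.Surjective (f.residueFieldMap y).hom)
    (t : X.residueField (f y)) (ht : t ≠ 0) (x : X) :
    ∑ᶠ y' ∈ (f : Y → X) ⁻¹' {x},
        Cyc.divFun δY y ((f.residueFieldMap y).hom t) y' *
          ((AlgebraicCycle.mapCoeff f δY δ y' : ℕ) : ℤ) =
      Cyc.divFun δ (f y) t x := by
  let T : TopologicalSpace.Closeds Y := ⟨closure {y}, isClosed_closure⟩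
  have hT : IsIrreducible (T : Set Y) := isIrreducible_singleton.closure
  haveI : IsIntegral (Scheme.IdealSheafData.vanishingIdeal T).subscheme :=
    Groth.Agent.H22.CompLift.isIntegral_subscheme_vanishingIdeal T hT
  exact finsum_divFun_eq_aux' (Scheme.IdealSheafData.vanishingIdeal T).subschemeι f δY δ hdY hd hδ y
    (Groth.Agent.H22.CompLift.subschemeι_genericPoint T y rfl) hsurj t ht x

end Source

end Groth.Agent.H48.BiratPush
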