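import Mathlib
import Groth.Agent.H48.DimIneqSch2

/-!
# Lifting chains of specializations along surjective generalizing morphisms
-/

set_option autoImplicit false
set_option linter.unusedSectionVars false
set_option linter.style.haveILetI false
universe u

open AlgebraicGeometry CategoryTheory TopologicalSpace Opposite

namespace Groth.Agent.H48.ChainLift

variable {X' X : Scheme.{u}} (π : X' ⟶ X)

theorem exists_lift_ltSeries (hg : GeneralizingMap π) (n : ℕ) :
    ∀ (s : LTSeries X), s.length = n → ∀ x' : X', π x' = s.head →
      ∃ s' : LTSeries X', s'.length = n ∧ s'.head = x' := by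
  induction n with
  | zero =>
    intro s _ x' _
    exact ⟨RelSeries.singleton _ x', rfl, rfl⟩
  | succ n ih =>
    intro s hs x' hx'
    have hne : s.length ≠ 0 := by omega
    have hlt : s.head < (s.tail hne).head := by
      rw [RelSeries.head_tail]
      have h : (0 : Fin (s.length + 1)) < 1 := by
        rw [Fin.lt_def]
        have : (1 : Fin (s.length + 1)).val = 1 := by
          rw [Fin.val_one']
          rw [Nat.mod_eq_of_lt]; omega
        rw [this]; simp
      exact s.strictMono h
    have hsp : (s.tail hne).head ⤳ π x' := by
      rw [hx']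
      exact Scheme.le_iff_specializes.mp hlt.le
    obtain ⟨x'', hx''1, hx''2⟩ := hg hsp
    obtain ⟨t', ht'1, ht'2⟩ := ih (s.tail hne) (by simp [RelSeries.tail]; omega) x'' hx''2
    have hlt' : x' < t'.head := by
      rw [ht'2]
      refine lt_of_le_not_ge (Scheme.le_iff_specializes.mpr hx''1) ?_
      intro hle
      have h1 : x' ⤳ x'' := Scheme.le_iff_specializes.mp hle
      have h2 : π x' ⤳ π x'' := h1.map π.continuous
      rw [hx', hx''2] at h2
      exact hlt.not_ge (Scheme.le_iff_specializes.mpr h2)
    refine ⟨t'.cons x' hlt', ?_, ?_⟩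
    · simp [ht'1]
    · simp

theorem topologicalKrullDim_le_of_generalizing_surjective (hg : GeneralizingMap π)
    (hs : Function.Surjective π) : topologicalKrullDim X ≤ topologicalKrullDim X' := by
  rw [Groth.Agent.H48.DimIneqSch2.topologicalKrullDim_eq_krullDim,
    Groth.Agent.H48.DimIneqSch2.topologicalKrullDim_eq_krullDim]
  change Order.krullDim X ≤ Order.krullDim X'
  refine iSup_le fun s => ?_
  obtain ⟨x', hx'⟩ := hs s.head
  obtain ⟨s', hs'1, -⟩ := exists_lift_ltSeries π hg s.length s rfl x' hx'
  rw [← hs'1]
  exact Order.LTSeries.length_le_krullDim s'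

end Groth.Agent.H48.ChainLift
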