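import Mathlib
import Groth.Agent.H48.DimIneqSch2

/-!
# Lifting chains of specializations along closed maps, and heights in the specialization order
-/

set_option autoImplicit false
set_option linter.unusedSectionVars false
set_option linter.style.haveILetI false
universe u

open AlgebraicGeometry CategoryTheory TopologicalSpace Opposite

namespace Groth.Agent.H48.ChainLiftClosed

section Order

variable {α : Type*} [Preorder α]

/-- `height (head) + length ≤ height (last)` along a strict chain. -/
theorem height_head_add_length_le (r : LTSeries α) :
    Order.height r.head + r.length ≤ Order.height r.last := by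
  have key : ∀ m : ℕ, (m : ℕ∞) ≤ Order.height r.head →
      ((m + r.length : ℕ) : ℕ∞) ≤ Order.height r.last := by
    intro m hm
    obtain ⟨p, hp1, hp2⟩ := Order.exists_series_of_le_height r.head hm
    have h := Order.length_le_height_last (p := p.smash r hp1)
    simp only [RelSeries.smash_length, RelSeries.last_smash] at h
    rw [hp2] at h
    exact h
  rcases eq_or_ne (Order.height r.head) ⊤ with htop | hne
  · have : Order.height r.last = ⊤ := by
      rw [ENat.eq_top_iff_forall_ge]
      intro m
      have := key m (by rw [htop]; exact le_top)
      refine le_trans ?_ this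
      exact_mod_cast Nat.le_add_right m r.length
    rw [this]; exact le_top
  · obtain ⟨m, hm⟩ := ENat.ne_top_iff_exists.mp hne
    rw [← hm]
    have := key m (by rw [hm])
    exact_mod_cast this

end Order

variable {X' X : Scheme.{u}} (π : X' ⟶ X)

theorem exists_lift_ltSeries_of_isClosedMap (hc : IsClosedMap π) (n : ℕ) :
    ∀ (s : LTSeries X), s.length = n → ∀ x' : X', π x' = s.last →
      ∃ s' : LTSeries X', s'.length = n ∧ s'.last = x' := by
  induction n with
  | zero =>
    intro s _ x' _
    exact ⟨RelSeries.singleton _ x', rfl, rfl⟩
  | succ n ih =>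
    intro s hs x' hx'
    have hne : s.length ≠ 0 := by omega
    have hlt : s.eraseLast.last < s.last := s.eraseLast_last_rel_last hne
    have hsp : π x' ⤳ s.eraseLast.last := by
      rw [hx']
      exact Scheme.le_iff_specializes.mp hlt.le
    obtain ⟨x'', hx''1, hx''2⟩ := hc.specializingMap hsp
    obtain ⟨t', ht'1, ht'2⟩ := ih s.eraseLast (by simp [RelSeries.eraseLast]; omega) x'' hx''2
    have hlt' : t'.last < x' := by
      rw [ht'2]
      refine lt_of_le_not_ge (Scheme.le_iff_specializes.mpr hx''1) ?_
      intro hle
      have h1 : x'' ⤳ x' := Scheme.le_iff_specializes.mp hle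
      have h2 : π x'' ⤳ π x' := h1.map π.continuous
      rw [hx', hx''2] at h2
      exact hlt.not_ge (Scheme.le_iff_specializes.mpr h2)
    refine ⟨t'.snoc x' hlt', ?_, ?_⟩
    · simp [ht'1]
    · simp

/-- For a closed map, `dim cl(π x) ≤ dim cl(x)` in terms of heights. -/
theorem height_map_le_of_isClosedMap (hc : IsClosedMap π) (x' : X') :
    Order.height (π x') ≤ Order.height x' := by
  refine Order.height_le fun p hp => ?_
  obtain ⟨s', hs'1, hs'2⟩ := exists_lift_ltSeries_of_isClosedMap π hc p.length p rfl x' hp.symm
  rw [← hs'1, ← hs'2]
  exact Order.length_le_height_last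

end Groth.Agent.H48.ChainLiftClosed
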