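import Mathlib
import Groth.Prelude.Def_Cyc

/-!
# An affine line inside a scheme: the coordinate function and its values at field points
-/

set_option autoImplicit false
set_option linter.unusedSectionVars false
set_option linter.style.haveILetI false
universe u

open AlgebraicGeometry CategoryTheory CategoryTheory.Limits TopologicalSpace Opposite Topology

namespace Groth.Agent.H48.CurveDeg

variable {K : Type u} [Field K] {P : Scheme.{u}}
  (ι₀ : Spec (CommRingCat.of (Polynomial K)) ⟶ P) [IsOpenImmersion ι₀]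

/-- The chart, as an open of `P`. -/
noncomputable def U₀ : P.Opens := ι₀ ''ᵁ ⊤

/-- The coordinate function on the chart. -/
noncomputable def coord : Γ(P, U₀ ι₀) :=
  (ι₀.appIso ⊤).inv.hom
    ((Scheme.ΓSpecIso (CommRingCat.of (Polynomial K))).inv.hom (Polynomial.X : Polynomial K))

/-- The value of the coordinate at a point of the chart. -/
noncomputable def tAt (z : P) (hz : z ∈ U₀ ι₀) : P.residueField z :=
  (P.evaluation (U₀ ι₀) z hz).hom (coord ι₀)

theorem mem_U₀ (w : Spec (CommRingCat.of (Polynomial K))) : ι₀ w ∈ U₀ ι₀ :=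
  ⟨w, trivial, rfl⟩

/-- The value of the coordinate at the field point defined by `χ : K[X] → L` is `χ X`. -/
theorem desc_tAt (L : Type u) [Field L] (χ : Polynomial K →+* L)
    (hz : (Spec.map (CommRingCat.ofHom χ) ≫ ι₀) (IsLocalRing.closedPoint L) ∈ U₀ ι₀) :
    (Scheme.descResidueField (Scheme.stalkClosedPointTo
      (Spec.map (CommRingCat.ofHom χ) ≫ ι₀))).hom (tAt ι₀ _ hz) = χ Polynomial.X := by
  set g := Spec.map (CommRingCat.ofHom χ) with hg
  set a := (Scheme.ΓSpecIso (CommRingCat.of (Polynomial K))).inv.hom (Polynomial.X : Polynomial K)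
    with ha
  unfold tAt
  have h1 : (Scheme.descResidueField (Scheme.stalkClosedPointTo (g ≫ ι₀))).hom
      ((P.evaluation (U₀ ι₀) _ hz).hom (coord ι₀)) =
      (Scheme.stalkClosedPointTo (g ≫ ι₀)).hom
        ((P.presheaf.germ (U₀ ι₀) _ hz).hom (coord ι₀)) := by
    have := congrArg (fun m => m.hom ((P.presheaf.germ (U₀ ι₀) _ hz).hom (coord ι₀)))
      (Scheme.residue_descResidueField (Scheme.stalkClosedPointTo (g ≫ ι₀)))
    exact this
  rw [h1, Scheme.stalkClosedPointTo_comp]
  change (Scheme.stalkClosedPointTo g).hom ((ι₀.stalkMap (g (IsLocalRing.closedPoint L))).hom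
    ((P.presheaf.germ (U₀ ι₀) (ι₀ (g (IsLocalRing.closedPoint L))) hz).hom (coord ι₀))) = _
  rw [Scheme.Hom.germ_stalkMap_apply]
  have h2 : (ι₀.app (U₀ ι₀)).hom (coord ι₀) =
      ((Spec (CommRingCat.of (Polynomial K))).presheaf.map
        (eqToHom (ι₀.preimage_image_eq ⊤)).op).hom a := by
    have := congrArg (fun m => m.hom a) (ι₀.appIso_inv_app ⊤)
    exact this
  rw [h2]
  have h4 : ((Spec (CommRingCat.of (Polynomial K))).presheaf.germ (ι₀ ⁻¹ᵁ U₀ ι₀)
      (g (IsLocalRing.closedPoint L)) hz).hom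
        (((Spec (CommRingCat.of (Polynomial K))).presheaf.map
          (eqToHom (ι₀.preimage_image_eq ⊤)).op).hom a) =
      ((Spec (CommRingCat.of (Polynomial K))).presheaf.germ ⊤
        (g (IsLocalRing.closedPoint L)) trivial).hom a :=
    TopCat.Presheaf.germ_res_apply _ (eqToHom (ι₀.preimage_image_eq ⊤)) _ hz a
  rw [h4]
  have h3 := congrArg (fun m => m.hom a)
    (Scheme.germ_stalkClosedPointTo_Spec (CommRingCat.ofHom χ))
  simp only [CommRingCat.hom_comp, RingHom.comp_apply] at h3
  refine Eq.trans h3 ?_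
  rw [ha]
  change χ (((Scheme.ΓSpecIso (CommRingCat.of (Polynomial K))).inv ≫
    (Scheme.ΓSpecIso (CommRingCat.of (Polynomial K))).hom).hom Polynomial.X) = _
  rw [Iso.inv_hom_id]
  rfl

end Groth.Agent.H48.CurveDeg
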