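import Mathlib
import Groth.Prelude.Def_Cyc
import Groth.Prelude.Def_W4stkchowintpicEnv
import Groth.Agent.H48.EnvelopeSurj
import Groth.Agent.H48.CycPush

/-!
# The kernel of `f_*` on cycles for an envelope `f`

For a quasi-compact completely decomposed morphism `f : Y ⟶ X`, every `k`-cycle `φ` on `Y` with
`f_* φ = 0` is of the form `p_* γ - q_* γ` for a `k`-cycle `γ` on `Y ×_X Y`.
-/

set_option autoImplicit false
set_option linter.unusedSectionVars false
set_option linter.style.haveILetI false
universe u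

open AlgebraicGeometry CategoryTheory CategoryTheory.Limits TopologicalSpace Opposite Topology

namespace Groth.Agent.H48.EnvelopeKer

section Point

theorem desc_sCPT_surjective {K : Type u} [Field K] {X : Scheme.{u}} (x : X)
    (φ : X.residueField x ⟶ .of K) (hφ : Function.Surjective φ.hom) :
    Function.Surjective (Scheme.descResidueField (Scheme.stalkClosedPointTo
      (Spec.map φ ≫ X.fromSpecResidueField x))).hom := by
  have h := (Scheme.SpecToEquivOfField K X).right_inv ⟨x, φ⟩
  rw [Scheme.SpecToEquivOfField_eq_iff] at h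
  obtain ⟨e, he⟩ := h
  have he' : Scheme.descResidueField (Scheme.stalkClosedPointTo
      (Spec.map φ ≫ X.fromSpecResidueField x)) = (X.residueFieldCongr e).hom ≫ φ := he
  rw [he']
  intro c
  obtain ⟨b, rfl⟩ := hφ c
  obtain ⟨a, rfl⟩ := (ConcreteCategory.bijective_of_isIso (X.residueFieldCongr e).hom).2 b
  exact ⟨a, rfl⟩

theorem residueFieldMap_surjective_of_comp {K : Type u} [Field K] {P Y : Scheme.{u}}
    (l : Spec (.of K) ⟶ P) (p : P ⟶ Y) (g : Spec (.of K) ⟶ Y) (h : l ≫ p = g)
    (hsurj : Function.Surjective (Scheme.descResidueField (Scheme.stalkClosedPointTo g)).hom) :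
    Function.Surjective (p.residueFieldMap (l (IsLocalRing.closedPoint K))).hom := by
  subst h
  have key := Scheme.descResidueField_stalkClosedPointTo_comp p l
  intro c
  obtain ⟨a, ha⟩ := hsurj ((Scheme.descResidueField (Scheme.stalkClosedPointTo l)).hom c)
  refine ⟨a, ?_⟩
  apply (Scheme.descResidueField (Scheme.stalkClosedPointTo l)).hom.injective
  rw [← ha]
  have := congrArg (fun m => m.hom a) key
  exact this.symm

/-- Over a pair of points `y, y₀` with the same image, `κ(y₀)` trivial over the base, there is a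
point of the fibre product with residue field `κ(y)`. -/
theorem exists_point {X Y : Scheme.{u}} (f : Y ⟶ X) (y y₀ : Y) (h : f y₀ = f y)
    (hsurj : Function.Surjective (f.residueFieldMap y₀).hom) :
    ∃ z : ↥(pullback f f), (pullback.fst f f) z = y ∧ (pullback.snd f f) z = y₀ ∧
      Function.Surjective ((pullback.fst f f).residueFieldMap z).hom := by
  have hbij : Function.Bijective (f.residueFieldMap y₀).hom :=
    ⟨(f.residueFieldMap y₀).hom.injective, hsurj⟩
  haveI : IsIso (f.residueFieldMap y₀) := (ConcreteCategory.isIso_iff_bijective _).mpr hbij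
  let ψ : Y.residueField y₀ ⟶ Y.residueField y :=
    inv (f.residueFieldMap y₀) ≫ (X.residueFieldCongr h).hom ≫ f.residueFieldMap y
  let a : Spec (.of (Y.residueField y)) ⟶ Y := Spec.map (𝟙 _) ≫ Y.fromSpecResidueField y
  let b : Spec (.of (Y.residueField y)) ⟶ Y := Spec.map ψ ≫ Y.fromSpecResidueField y₀
  have hab : a ≫ f = b ≫ f := by
    simp only [a, b, ψ, Category.assoc]
    rw [← Scheme.Hom.SpecMap_residueFieldMap_fromSpecResidueField,
      ← Scheme.Hom.SpecMap_residueFieldMap_fromSpecResidueField,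
      ← Scheme.residueFieldCongr_fromSpecResidueField h]
    simp only [← Category.assoc, ← Spec.map_comp]
    congr 2
    simp
  let l := pullback.lift a b hab
  refine ⟨l (IsLocalRing.closedPoint (Y.residueField y)), ?_, ?_, ?_⟩
  · have : (l ≫ pullback.fst f f) (IsLocalRing.closedPoint (Y.residueField y)) = y := by
      rw [pullback.lift_fst]
      simp only [a, Spec.map_id, Category.id_comp]
      exact Y.fromSpecResidueField_apply y _
    exact this
  · have : (l ≫ pullback.snd f f) (IsLocalRing.closedPoint (Y.residueField y)) = y₀ := by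
      rw [pullback.lift_snd]
      exact Y.fromSpecResidueField_apply y₀ _
    exact this
  · exact residueFieldMap_surjective_of_comp l (pullback.fst f f) a (pullback.lift_fst _ _ _)
      (desc_sCPT_surjective y (𝟙 _) Function.surjective_id)

end Point

section Finsum

/-- Interchange of a `finsum` over a fibre and a locally finite sum. -/
theorem finsum_mem_finsum_mul_comm {ι α : Type*} (a : ι → α → ℤ) (c : α → ℤ) (S : Set α)
    (hS : (S ∩ ⋃ i, Function.support (a i)).Finite)
    (hI : {i | ∃ y ∈ S, a i y ≠ 0}.Finite) :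
    ∑ᶠ y ∈ S, (∑ᶠ i, a i y) * c y = ∑ᶠ i, ∑ᶠ y ∈ S, a i y * c y := by
  classical
  set T := hS.toFinset with hT
  set J := hI.toFinset with hJ
  have hinner : ∀ y ∈ S, ∑ᶠ i, a i y = ∑ i ∈ J, a i y := by
    intro y hy
    apply finsum_eq_sum_of_support_subset
    intro i hi
    rw [hJ, Set.Finite.coe_toFinset]
    exact ⟨y, hy, hi⟩
  have houter : ∀ φ : α → ℤ, (∀ y ∈ S, φ y ≠ 0 → y ∈ ⋃ i, Function.support (a i)) →
      ∑ᶠ y ∈ S, φ y = ∑ y ∈ T, φ y := by
    intro φ hφ
    apply finsum_mem_eq_sum_of_inter_support_eq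
    ext y
    simp only [hT, Set.Finite.coe_toFinset, Set.mem_inter_iff, Function.mem_support]
    constructor
    · rintro ⟨h1, h2⟩
      exact ⟨⟨h1, hφ y h1 h2⟩, h2⟩
    · rintro ⟨⟨h1, -⟩, h2⟩
      exact ⟨h1, h2⟩
  have hL : ∑ᶠ y ∈ S, (∑ᶠ i, a i y) * c y = ∑ y ∈ T, (∑ i ∈ J, a i y) * c y := by
    rw [houter]
    · refine Finset.sum_congr rfl fun y hy => ?_
      have hyS : y ∈ S := by
        rw [hT, Set.Finite.mem_toFinset] at hy
        exact hy.1
      rw [hinner y hyS]
    · intro y hy hne
      have h1 : ∑ᶠ i, a i y ≠ 0 := left_ne_zero_of_mul hne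
      obtain ⟨i, hi⟩ : ∃ i, a i y ≠ 0 := by
        by_contra hcon
        push Not at hcon
        exact h1 (finsum_eq_zero_of_forall_eq_zero hcon)
      exact Set.mem_iUnion.mpr ⟨i, hi⟩
  have hR : ∑ᶠ i, ∑ᶠ y ∈ S, a i y * c y = ∑ i ∈ J, ∑ y ∈ T, a i y * c y := by
    have h1 : ∀ i, ∑ᶠ y ∈ S, a i y * c y = ∑ y ∈ T, a i y * c y := by
      intro i
      apply houter
      intro y _ hne
      exact Set.mem_iUnion.mpr ⟨i, left_ne_zero_of_mul hne⟩
    simp only [h1]
    apply finsum_eq_sum_of_support_subset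
    intro i hi
    rw [hJ, Set.Finite.coe_toFinset]
    have hi' : ∑ y ∈ T, a i y * c y ≠ 0 := hi
    obtain ⟨y, hyT, hy⟩ := Finset.exists_ne_zero_of_sum_ne_zero hi'
    rw [hT, Set.Finite.mem_toFinset] at hyT
    exact ⟨y, hyT.1, left_ne_zero_of_mul hy⟩
  rw [hL, hR, Finset.sum_comm]
  refine Finset.sum_congr rfl fun i _ => ?_
  rw [Finset.sum_mul]

end Finsum

end Groth.Agent.H48.EnvelopeKer
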