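import Mathlib
import Groth.Prelude.Def_Cyc
import Groth.Agent.H48.CurveDegChart
import Groth.Agent.H48.EnvelopeKer

/-!
# The graph point of a rational function in `X ×_K P`
-/

set_option autoImplicit false
set_option linter.unusedSectionVars false
set_option linter.style.haveILetI false
universe u

open AlgebraicGeometry CategoryTheory CategoryTheory.Limits TopologicalSpace Opposite Topology

namespace Groth.Agent.H48.CurveDeg

variable {K : Type u} [Field K] {X P : Scheme.{u}} (c : X ⟶ Spec (CommRingCat.of K))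
  (cP : P ⟶ Spec (CommRingCat.of K))
  (ι₀ : Spec (CommRingCat.of (Polynomial K)) ⟶ P) [IsOpenImmersion ι₀]
  (hι₀ : ι₀ ≫ cP = Spec.map (CommRingCat.ofHom (Polynomial.C : K →+* Polynomial K)))

/-- The structure map `K → κ(x)` of a point of a `K`-scheme. -/
noncomputable def ρ (x : X) : K →+* X.residueField x :=
  (Spec.preimage (X.fromSpecResidueField x ≫ c)).hom

theorem specMap_ρ (x : X) :
    Spec.map (CommRingCat.ofHom (ρ c x)) = X.fromSpecResidueField x ≫ c := by
  unfold ρ
  exact Spec.map_preimage _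

/-- The generic point of the affine line. -/
noncomputable def pt₀ : Spec (CommRingCat.of (Polynomial K)) := ⟨⊥, Ideal.isPrime_bot⟩

/-- For a field point `T = a` of `X`, the induced map on residue fields is a transport. -/
theorem desc_fromSpecResidueField (x : X) :
    ∃ e : (Spec.map (𝟙 (CommRingCat.of (X.residueField x))) ≫ X.fromSpecResidueField x)
        (IsLocalRing.closedPoint (X.residueField x)) = x,
      ∀ r : X.residueField x,
        (Scheme.descResidueField (Scheme.stalkClosedPointTo
          (Spec.map (𝟙 (CommRingCat.of (X.residueField x))) ≫ X.fromSpecResidueField x))).hom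
          ((X.residueFieldCongr e.symm).hom r) = r := by
  have h := (Scheme.SpecToEquivOfField (X.residueField x) X).right_inv ⟨x, 𝟙 _⟩
  rw [Scheme.SpecToEquivOfField_eq_iff] at h
  obtain ⟨e, he⟩ := h
  have he' : Scheme.descResidueField (Scheme.stalkClosedPointTo
      (Spec.map (𝟙 (CommRingCat.of (X.residueField x))) ≫ X.fromSpecResidueField x)) =
      (X.residueFieldCongr e).hom ≫ 𝟙 _ := he
  refine ⟨e, fun r => ?_⟩
  rw [he']
  change ((X.residueFieldCongr e.symm).hom ≫ (X.residueFieldCongr e).hom ≫ 𝟙 _).hom r = r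
  rw [Category.comp_id, Scheme.residueFieldCongr_trans_hom]
  rfl

include hι₀ in
/-- **The graph point.** For a point `x₁` of `X` and `f ∈ κ(x₁)` transcendental over `K` there is
a point `y` of `X ×_K P` over `x₁` with trivial residue field extension, lying over the generic
point of the affine line, at which the coordinate of the line pulls back to `f`. -/
theorem exists_graph_point (x₁ : X) (f : X.residueField x₁)
    (htr : Function.Injective (Polynomial.eval₂RingHom (ρ c x₁) f)) :
    ∃ y : ↥(pullback c cP), ∃ e : (pullback.fst c cP) y = x₁,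
      Function.Surjective ((pullback.fst c cP).residueFieldMap y).hom ∧
      (pullback.snd c cP) y = ι₀ pt₀ ∧
      ∃ h : (pullback.snd c cP) y ∈ U₀ ι₀,
        ((pullback.snd c cP).residueFieldMap y).hom (tAt ι₀ _ h) =
          ((pullback.fst c cP).residueFieldMap y).hom ((X.residueFieldCongr e.symm).hom f) := by
  have hker : RingHom.ker (Polynomial.eval₂RingHom (ρ c x₁) f) = ⊥ :=
    (RingHom.injective_iff_ker_eq_bot _).mp htr
  obtain ⟨L, hL⟩ : ∃ L : CommRingCat.{u}, L = X.residueField x₁ := ⟨_, rfl⟩
  obtain ⟨χ, hχ⟩ : ∃ χ : Polynomial K →+* X.residueField x₁,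
    χ = Polynomial.eval₂RingHom (ρ c x₁) f := ⟨_, rfl⟩
  have hχC : χ.comp (Polynomial.C : K →+* Polynomial K) = ρ c x₁ := by
    ext k
    simp [hχ]
  have hχX : χ Polynomial.X = f := by simp [hχ]
  rw [← hχ] at hker
  clear hL L
  let L := X.residueField x₁
  let a : Spec (CommRingCat.of L) ⟶ X := Spec.map (𝟙 _) ≫ X.fromSpecResidueField x₁
  let ψ : Spec (CommRingCat.of L) ⟶ P := Spec.map (CommRingCat.ofHom χ) ≫ ι₀
  have hcompat : a ≫ c = ψ ≫ cP := by
    simp only [a, ψ, Category.assoc, Spec.map_id, Category.id_comp]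
    rw [hι₀, ← specMap_ρ, ← Spec.map_comp, ← CommRingCat.ofHom_comp, hχC]
  let l := pullback.lift a ψ hcompat
  have hl1 : l ≫ pullback.fst c cP = a := pullback.lift_fst _ _ _
  have hl2 : l ≫ pullback.snd c cP = ψ := pullback.lift_snd _ _ _
  obtain ⟨ea, hea⟩ := desc_fromSpecResidueField x₁
  -- transport along `l ≫ fst = a`
  have key1 : ∀ (T : Spec (CommRingCat.of L) ⟶ X) (hT : T = a),
      ∃ e : T (IsLocalRing.closedPoint L) = x₁, ∀ r : X.residueField x₁,
        (Scheme.descResidueField (Scheme.stalkClosedPointTo T)).hom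
          ((X.residueFieldCongr e.symm).hom r) = r := by
    intro T hT
    subst hT
    exact ⟨ea, hea⟩
  obtain ⟨e1, he1⟩ := key1 (l ≫ pullback.fst c cP) hl1
  have hψpt : ψ (IsLocalRing.closedPoint L) = ι₀ pt₀ := by
    change ι₀ ((Spec.map (CommRingCat.ofHom χ)) (IsLocalRing.closedPoint L)) = ι₀ pt₀
    congr 1
    apply PrimeSpectrum.ext
    change Ideal.comap χ (IsLocalRing.closedPoint L).asIdeal = ⊥
    rw [IsLocalRing.closedPoint, ]
    change Ideal.comap χ (IsLocalRing.maximalIdeal L) = ⊥
    rw [IsLocalRing.maximalIdeal_eq_bot, ← RingHom.ker_eq_comap_bot]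
    exact hker
  have key2 : ∀ (T : Spec (CommRingCat.of L) ⟶ P) (hT : T = ψ),
      T (IsLocalRing.closedPoint L) = ι₀ pt₀ ∧
      ∃ h : T (IsLocalRing.closedPoint L) ∈ U₀ ι₀,
        (Scheme.descResidueField (Scheme.stalkClosedPointTo T)).hom (tAt ι₀ _ h) = f := by
    intro T hT
    subst hT
    have hmem : ψ (IsLocalRing.closedPoint L) ∈ U₀ ι₀ := by
      rw [hψpt]; exact mem_U₀ ι₀ _
    exact ⟨hψpt, hmem, (desc_tAt ι₀ L χ hmem).trans hχX⟩
  obtain ⟨h2a, h2b, h2c⟩ := key2 (l ≫ pullback.snd c cP) hl2
  have hD1 := Scheme.descResidueField_stalkClosedPointTo_comp (pullback.fst c cP) l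
  have hD2 := Scheme.descResidueField_stalkClosedPointTo_comp (pullback.snd c cP) l
  have hDinj : Function.Injective (Scheme.descResidueField (Scheme.stalkClosedPointTo l)).hom :=
    (Scheme.descResidueField (Scheme.stalkClosedPointTo l)).hom.injective
  refine ⟨l (IsLocalRing.closedPoint L), e1, ?_, h2a, h2b, ?_⟩
  · exact EnvelopeKer.residueFieldMap_surjective_of_comp l (pullback.fst c cP) a hl1
      (EnvelopeKer.desc_sCPT_surjective x₁ (𝟙 _) Function.surjective_id)
  · apply hDinj
    have h3 := congrArg (fun m => m.hom (tAt ι₀ _ h2b)) hD2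
    have h4 := congrArg (fun m => m.hom ((X.residueFieldCongr e1.symm).hom f)) hD1
    simp only [CommRingCat.hom_comp, RingHom.comp_apply] at h3 h4
    exact h3.symm.trans (h2c.trans ((he1 f).symm.trans h4))

end Groth.Agent.H48.CurveDeg
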