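import Mathlib
import Groth.Prelude.Def_Cyc
import Groth.Agent.H48.OrdFracFlat
import Groth.Agent.H48.RatRestrict

/-!
# Local finiteness of the support of (locally finite sums of) principal divisors
-/

set_option autoImplicit false
set_option linter.unusedSectionVars false
set_option linter.style.haveILetI false
universe u

open AlgebraicGeometry CategoryTheory CategoryTheory.Limits TopologicalSpace Opposite Topology

namespace Groth.Agent.H48.DivLocFin

variable {X : Scheme.{u}}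

/-- A nonzero rational function on `closure {ξ}` is a unit near `ξ`: its orders vanish on an open
neighbourhood of `ξ`. -/
theorem exists_open_ordAt_eq_zero (ξ : X) (g : X.residueField ξ) (hg : g ≠ 0) :
    ∃ U : X.Opens, ξ ∈ U ∧ ∀ x ∈ U, ∀ h : ξ ⤳ x, Cyc.ordAt x ξ h g = 0 := by
  obtain ⟨a, rfl⟩ := IsLocalRing.residue_surjective (R := X.presheaf.stalk ξ) g
  have ha : IsUnit a := by
    by_contra hna
    apply hg
    exact (IsLocalRing.residue_eq_zero_iff a).mpr ((IsLocalRing.mem_maximalIdeal a).mpr hna)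
  obtain ⟨U, hξU, s, rfl⟩ := X.presheaf.germ_exist (x := ξ) a
  refine ⟨X.basicOpen s, (X.mem_basicOpen s ξ hξU).mpr ha, ?_⟩
  intro x hx h
  have hxU : x ∈ U := X.basicOpen_le s hx
  have hw : IsUnit (X.presheaf.germ U x hxU s) := (X.mem_basicOpen s x hxU).mp hx
  have hsp : Cyc.specMap x ξ h (X.presheaf.germ U x hxU s) =
      IsLocalRing.residue _ (X.presheaf.germ U ξ hξU s) := by
    unfold Cyc.specMap
    rw [CommRingCat.hom_comp, RingHom.comp_apply]
    have := TopCat.Presheaf.germ_stalkSpecializes_apply X.presheaf hxU h s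
    rw [this]
    rfl
  unfold Cyc.ordAt
  have halg : IsLocalRing.residue _ (X.presheaf.germ U ξ hξU s) =
      algebraMap (Cyc.LocQuot x ξ h) (X.residueField ξ)
        (Ideal.Quotient.mk _ (X.presheaf.germ U x hxU s)) := by
    rw [← hsp]
    rfl
  rw [halg]
  exact Groth.Agent.H48.OrdFracFlat.ordFrac_algebraMap_of_isUnit _ (hw.map _)

variable [IsLocallyNoetherian X] (δ : X → ℤ) (hδ : Cyc.IsDimFun X δ)

include hδ in
/-- The union of the supports of a locally finite family of principal divisors is locally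
finite. -/
theorem iUnion_support_divFun_locallyFinite {I : Type u} (ξ : I → X)
    (g : (i : I) → X.residueField (ξ i)) (hg : ∀ i, g i ≠ 0)
    (hlf : ∀ x : X, ∃ V : Set X, IsOpen V ∧ x ∈ V ∧ {i | (closure {ξ i} ∩ V).Nonempty}.Finite)
    (z : X) :
    ∃ t ∈ 𝓝 z, (t ∩ ⋃ i, Function.support (Cyc.divFun δ (ξ i) (g i))).Finite := by
  classical
  choose U hξU hU using fun i => exists_open_ordAt_eq_zero (ξ i) (g i) (hg i)
  obtain ⟨V₀, hV₀o, hzV₀, hV₀f⟩ := hlf z
  obtain ⟨V, hV, hzV, hVV₀⟩ :=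
    exists_isAffineOpen_mem_and_subset (x := z) (U := ⟨V₀, hV₀o⟩) hzV₀
  refine ⟨(V : Set X), V.2.mem_nhds hzV, ?_⟩
  have hfin : (⋃ i ∈ {i | (closure {ξ i} ∩ V₀).Nonempty},
      {x : X | x ∈ V ∧ x ∉ U i ∧ ξ i ⤳ x ∧ δ x + 1 = δ (ξ i)}).Finite :=
    hV₀f.biUnion (fun i _ =>
      Groth.Agent.H48.RatRestrict.finite_codimOne_off_open (U i) δ hδ V hV (ξ i) (hξU i))
  refine hfin.subset ?_
  rintro x ⟨hxV, hxD⟩
  obtain ⟨i, hi⟩ := Set.mem_iUnion.mp hxD
  have hi : Cyc.divFun δ (ξ i) (g i) x ≠ 0 := hi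
  have hcond : ξ i ⤳ x ∧ δ x + 1 = δ (ξ i) := by
    by_contra hc
    apply hi
    unfold Cyc.divFun
    rw [dif_neg hc]
  have hxU : x ∉ U i := by
    intro hxU
    apply hi
    unfold Cyc.divFun
    rw [dif_pos hcond]
    exact hU i x hxU hcond.1
  refine Set.mem_biUnion (x := i) ?_ ⟨hxV, hxU, hcond.1, hcond.2⟩
  exact ⟨x, specializes_iff_mem_closure.mp hcond.1, hVV₀ hxV⟩

include hδ in
/-- The support of a locally finite sum of principal divisors is locally finite. -/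
theorem support_finsum_divFun_locallyFinite {I : Type u} (ξ : I → X)
    (g : (i : I) → X.residueField (ξ i)) (hg : ∀ i, g i ≠ 0)
    (hlf : ∀ x : X, ∃ V : Set X, IsOpen V ∧ x ∈ V ∧ {i | (closure {ξ i} ∩ V).Nonempty}.Finite)
    (z : X) :
    ∃ t ∈ 𝓝 z, (t ∩ Function.support
      (fun x => ∑ᶠ i, Cyc.divFun δ (ξ i) (g i) x)).Finite := by
  obtain ⟨t, ht, hfin⟩ := iUnion_support_divFun_locallyFinite δ hδ ξ g hg hlf z
  refine ⟨t, ht, hfin.subset ?_⟩
  rintro x ⟨hxt, hxD⟩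
  refine ⟨hxt, ?_⟩
  have hxD' : (∑ᶠ i, Cyc.divFun δ (ξ i) (g i) x) ≠ 0 := hxD
  obtain ⟨i, hi⟩ : ∃ i, Cyc.divFun δ (ξ i) (g i) x ≠ 0 := by
    by_contra hcon
    push Not at hcon
    exact hxD' (finsum_eq_zero_of_forall_eq_zero hcon)
  exact Set.mem_iUnion.mpr ⟨i, hi⟩

/-- A locally finite set meets a compact set in a finite set. -/
theorem finite_inter_of_isCompact {α : Type*} [TopologicalSpace α] {K A : Set α}
    (hK : IsCompact K) (hA : ∀ z ∈ K, ∃ t ∈ 𝓝 z, (t ∩ A).Finite) : (K ∩ A).Finite := by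
  choose! t ht hfin using hA
  obtain ⟨F, hFK, hcov⟩ := hK.elim_nhds_subcover t ht
  have hfin' : (⋃ z ∈ F, t z ∩ A).Finite :=
    F.finite_toSet.biUnion fun z hz => hfin z (hFK z hz)
  refine hfin'.subset ?_
  rintro x ⟨hxK, hxA⟩
  obtain ⟨z, hz, hxz⟩ := Set.mem_iUnion₂.mp (hcov hxK)
  exact Set.mem_biUnion hz ⟨hxz, hxA⟩

end Groth.Agent.H48.DivLocFin
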