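import Mathlib
import Groth.Prelude.Def_Cyc
import Groth.Prelude.Def_W4stkchowintpicEnv
import Groth.Agent.H48.EnvelopeKer

/-!
# The kernel of `f_*` on cycles for an envelope `f` (cycle level)
-/

set_option autoImplicit false
set_option linter.unusedSectionVars false
set_option linter.style.haveILetI false
universe u

open AlgebraicGeometry CategoryTheory CategoryTheory.Limits TopologicalSpace Opposite Topology

namespace Groth.Agent.H48.EnvelopeKer

open Groth.Agent.H48.EnvelopeSurj

variable {X Y : Scheme.{u}} (f : Y ⟶ X) [IsProper f] (δ : X → ℤ) (δY : Y → ℤ)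
  (δ2 : ↥(pullback f f) → ℤ)

/-- For an envelope `f`, a `k`-cycle killed by `f_*` is `p_* γ - q_* γ` for a `k`-cycle `γ` on the
fibre square. -/
theorem exists_cycle_of_map_eq_zero
    (hcd : Cyc.IsCompletelyDecomposed f) (hδ : Cyc.DeltaCompat f δY δ)
    (hδ2 : Cyc.DeltaCompat (pullback.fst f f) δ2 δY) (k : ℤ)
    (φ : AlgebraicCycle Y ℤ) (hφ : φ ∈ Cyc.Zk Y δY k)
    (h0 : ∀ x : X, AlgebraicCycle.map f δY δ φ x = 0) :
    ∃ γ : AlgebraicCycle (pullback f f) ℤ, γ ∈ Cyc.Zk (pullback f f) δ2 k ∧
      ∀ y : Y, AlgebraicCycle.map (pullback.fst f f) δ2 δY γ y -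
        AlgebraicCycle.map (pullback.snd f f) δ2 δY γ y = φ y := by
  classical
  choose s hs1 hs2 using hcd
  have hex : ∀ y : Y, ∃ z : ↥(pullback f f), (pullback.fst f f) z = y ∧
      (pullback.snd f f) z = s (f y) ∧
      Function.Surjective ((pullback.fst f f).residueFieldMap z).hom :=
    fun y => exists_point f y (s (f y)) (hs1 (f y)) (hs2 (f y))
  choose σ hσ1 hσ2 hσ3 using hex
  set p := pullback.fst f f with hp
  set q := pullback.snd f f with hq
  have hσinj : Function.Injective σ := fun y y' h => by rw [← hσ1 y, ← hσ1 y', h]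
  have hδs : ∀ x : X, δY (s x) = δ x := by
    intro x
    obtain ⟨n, hn, hδn⟩ := hδ (s x)
    have h0 := trdeg_eq_zero_of_surjective f (s x) (hs2 x)
    rw [hn] at h0
    have : n = 0 := by exact_mod_cast h0
    rw [hδn, this, hs1]
    simp
  have hδσ : ∀ y : Y, δ2 (σ y) = δY y := by
    intro y
    obtain ⟨n, hn, hδn⟩ := hδ2 (σ y)
    have h0 := trdeg_eq_zero_of_surjective p (σ y) (hσ3 y)
    rw [hn] at h0
    have : n = 0 := by exact_mod_cast h0
    rw [hδn, this, hσ1]
    simp
  have hdeg : ∀ y : Y, q.residueDegree (σ y) = f.residueDegree y := by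
    intro y
    have h1 := Groth.Agent.H48.CycPush.residueDegree_comp p f (σ y)
    have h2 := Groth.Agent.H48.CycPush.residueDegree_comp q f (σ y)
    have hc : p ≫ f = q ≫ f := pullback.condition
    rw [hc, h2, hσ1, hσ2, residueDegree_eq_one_of_surjective p _ (hσ3 y),
      residueDegree_eq_one_of_surjective f _ (hs2 _)] at h1
    omega
  have hcoeff : ∀ y : Y, AlgebraicCycle.mapCoeff q δ2 δY (σ y) =
      AlgebraicCycle.mapCoeff f δY δ y := by
    intro y
    unfold AlgebraicCycle.mapCoeff
    have e1 : (δ2 (σ y) = δY (q.base (σ y))) ↔ (δY y = δ (f.base y)) := by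
      change (δ2 (σ y) = δY (q (σ y))) ↔ (δY y = δ (f y))
      rw [hδσ, hσ2, hδs]
    rw [hdeg]
    by_cases hc : δY y = δ (f.base y)
    · rw [if_pos hc, if_pos (e1.mpr hc)]
    · rw [if_neg hc, if_neg (fun h => hc (e1.mp h))]
  have hqσ : ∀ z : ↥(pullback f f), z = σ (p z) → q z = s (f (p z)) := by
    intro z h1
    have := hσ2 (p z)
    rw [← h1] at this
    exact this
  let γf : ↥(pullback f f) → ℤ := fun z => if z = σ (p z) then φ (p z) else 0
  have hγsupp : ∀ z ∈ (Set.univ : Set ↥(pullback f f)),
      ∃ t ∈ 𝓝 z, (t ∩ Function.support γf).Finite := by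
    intro z _
    obtain ⟨t, ht, hfin⟩ := φ.supportLocallyFiniteWithinDomain (p z) (Set.mem_univ _)
    refine ⟨p ⁻¹' t, p.continuous.continuousAt ht, (hfin.image σ).subset ?_⟩
    rintro z' ⟨hz't, hz'⟩
    have hz'' : γf z' ≠ 0 := hz'
    simp only [γf] at hz''
    split_ifs at hz'' with h1
    · exact ⟨p z', ⟨hz't, hz''⟩, h1.symm⟩
    · exact absurd rfl hz''
  let γ : AlgebraicCycle (pullback f f) ℤ := ⟨γf, fun _ _ => Set.mem_univ _, hγsupp⟩
  have hγ : ∀ z, γ z = γf z := fun z => rfl
  have hγσ : ∀ y : Y, γ (σ y) = φ y := by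
    intro y
    rw [hγ]
    simp only [γf]
    rw [hσ1, if_pos rfl]
  refine ⟨γ, ?_, ?_⟩
  · intro z hz
    rw [hγ]
    simp only [γf]
    split_ifs with h1
    · apply hφ
      rw [h1, hδσ] at hz
      exact hz
    · rfl
  · intro y
    have hP : AlgebraicCycle.map p δ2 δY γ y = φ y := by
      simp only [AlgebraicCycle.map, Function.locallyFinsupp.map_apply]
      have hmem : σ y ∈ (p : ↥(pullback f f) → Y) ⁻¹' {y} := hσ1 y
      rw [finsum_mem_def, finsum_eq_single _ (σ y)]
      · rw [Set.indicator_of_mem hmem, hγσ]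
        unfold AlgebraicCycle.mapCoeff
        rw [if_pos, residueDegree_eq_one_of_surjective p (σ y) (hσ3 y)]
        · simp
        · change δ2 (σ y) = δY (p (σ y))
          rw [hδσ, hσ1]
      · intro z hz
        by_cases hzy : z ∈ (p : ↥(pullback f f) → Y) ⁻¹' {y}
        · rw [Set.indicator_of_mem hzy, hγ]
          simp only [γf]
          have hpz : p z = y := hzy
          rw [hpz, if_neg hz, zero_mul]
        · rw [Set.indicator_of_notMem hzy]
    have hQ : AlgebraicCycle.map q δ2 δY γ y = 0 := by
      simp only [AlgebraicCycle.map, Function.locallyFinsupp.map_apply]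
      by_cases hys : y = s (f y)
      · have h0' := h0 (f y)
        simp only [AlgebraicCycle.map, Function.locallyFinsupp.map_apply] at h0'
        rw [← h0']
        set F : ↥(pullback f f) → ℤ := fun z => γ z * ((AlgebraicCycle.mapCoeff q δ2 δY z : ℕ) : ℤ)
          with hF
        have h1 : ∑ᶠ z ∈ (q : ↥(pullback f f) → Y) ⁻¹' {y}, F z =
            ∑ᶠ z ∈ σ '' ((f : Y → X) ⁻¹' {f y}), F z := by
          apply finsum_mem_inter_support_eq
          ext z
          constructor
          · rintro ⟨hz1, hz2⟩
            refine ⟨?_, hz2⟩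
            have hqz : q z = y := hz1
            have hγz : γ z ≠ 0 := left_ne_zero_of_mul hz2
            rw [hγ] at hγz
            simp only [γf] at hγz
            split_ifs at hγz with h1
            · refine ⟨p z, ?_, h1.symm⟩
              have h2 := hqσ z h1
              rw [hqz] at h2
              have h3 : f y = f (p z) := by
                conv_lhs => rw [h2]
                exact hs1 _
              exact h3.symm
            · exact absurd rfl hγz
          · rintro ⟨⟨y', hy', rfl⟩, hz2⟩
            refine ⟨?_, hz2⟩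
            have hy'' : f y' = f y := hy'
            change q (σ y') = y
            rw [hσ2, hy'', ← hys]
        rw [h1, finsum_mem_image hσinj.injOn]
        refine finsum_congr fun y' => finsum_congr fun _ => ?_
        simp only [hF]
        rw [hγσ, hcoeff]
      · refine finsum_mem_eq_zero_of_forall_eq_zero fun z hz => ?_
        have hqz : q z = y := hz
        rw [hγ]
        simp only [γf]
        rw [if_neg, zero_mul]
        intro h1
        apply hys
        have h2 := hqσ z h1
        rw [hqz] at h2
        have h3 : f y = f (p z) := by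
          conv_lhs => rw [h2]
          exact hs1 _
        rw [h3]
        exact h2
    rw [hP, hQ, sub_zero]

end Groth.Agent.H48.EnvelopeKer
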