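import Mathlib
import Groth.Prelude.Def_Cyc
import Groth.Prelude.Def_Bivar
import Groth.Prelude.Def_W4stkchowintpicEnv
import Groth.Agent.H48.EnvelopeKer2
import Groth.Agent.H48.BiratPush3
import Groth.Agent.H48.DivLocFin

/-!
# The exact sequence `CH_k(Y ×_X Y) → CH_k(Y) → CH_k(X)` for an envelope
-/

set_option autoImplicit false
set_option linter.unusedSectionVars false
set_option linter.style.haveILetI false
universe u

open AlgebraicGeometry CategoryTheory CategoryTheory.Limits TopologicalSpace Opposite Topology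

namespace Groth.Agent.H48.EnvelopeKer

open Groth.Agent.H48.EnvelopeSurj

theorem divFun_residueFieldCongr {X : Scheme.{u}} (δ : X → ℤ) (x x' : X) (e : x = x')
    (t : X.residueField x) :
    Cyc.divFun δ x' ((X.residueFieldCongr e).hom t) = Cyc.divFun δ x t := by
  subst e
  rw [Scheme.residueFieldCongr_refl]
  rfl

variable {X Y : Scheme.{u}} (f : Y ⟶ X) [IsProper f] (δ : X → ℤ) (δY : Y → ℤ)
  (δ2 : ↥(pullback f f) → ℤ)

theorem main (hX : Cyc.IsSetup X δ) (hY : Cyc.IsSetup Y δY)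
    (hcd : Cyc.IsCompletelyDecomposed f) (hδ : Cyc.DeltaCompat f δY δ)
    (hδ2 : Cyc.DeltaCompat (pullback.fst f f) δ2 δY) (k : ℤ)
    (β : AlgebraicCycle Y ℤ) (hβ : β ∈ Cyc.Zk Y δY k)
    (h0 : Cyc.RatEquivZero δ k (AlgebraicCycle.map f δY δ β)) :
    ∃ γ : AlgebraicCycle (pullback f f) ℤ, γ ∈ Cyc.Zk (pullback f f) δ2 k ∧
      Cyc.RatEquiv δY k β (AlgebraicCycle.map (pullback.fst f f) δ2 δY γ -
        AlgebraicCycle.map (pullback.snd f f) δ2 δY γ) := by
  classical
  haveI : IsLocallyNoetherian X := hX.1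
  haveI : IsLocallyNoetherian Y := hY.1
  have hdX : Cyc.IsDimFun X δ := hX.2.2
  have hdY : Cyc.IsDimFun Y δY := hY.2.2
  obtain ⟨ι, ξ, g, hξ, hg, hlf, hsum⟩ := h0
  choose s hs1 hs2 using hcd
  have hδs : ∀ x : X, δY (s x) = δ x := by
    intro x
    obtain ⟨n, hn, hδn⟩ := hδ (s x)
    have h0 := trdeg_eq_zero_of_surjective f (s x) (hs2 x)
    rw [hn] at h0
    have : n = 0 := by exact_mod_cast h0
    rw [hδn, this, hs1]
    simp
  -- the lifted family
  let η : ι → Y := fun i => s (ξ i)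
  let g' : (i : ι) → X.residueField (f (η i)) :=
    fun i => (X.residueFieldCongr (hs1 (ξ i)).symm).hom (g i)
  have hg' : ∀ i, g' i ≠ 0 := fun i => (map_ne_zero _).mpr (hg i)
  have hdivg' : ∀ i, Cyc.divFun δ (f (η i)) (g' i) = Cyc.divFun δ (ξ i) (g i) :=
    fun i => divFun_residueFieldCongr δ _ _ _ _
  let G : (i : ι) → Y.residueField (η i) := fun i => (f.residueFieldMap (η i)).hom (g' i)
  have hG : ∀ i, G i ≠ 0 := fun i => (map_ne_zero _).mpr (hg' i)
  have hδη : ∀ i, δY (η i) = k + 1 := fun i => by rw [hδs, hξ]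
  have hlfY : ∀ y : Y, ∃ U : Set Y, IsOpen U ∧ y ∈ U ∧
      {i | (closure {η i} ∩ U).Nonempty}.Finite := by
    intro y
    obtain ⟨U', hU'o, hyU', hfin⟩ := hlf (f y)
    refine ⟨f ⁻¹' U', hU'o.preimage f.continuous, hyU', hfin.subset ?_⟩
    rintro i ⟨z, hz1, hz2⟩
    refine ⟨f z, ?_, hz2⟩
    have h1 : η i ⤳ z := specializes_iff_mem_closure.mpr hz1
    have h2 : f (η i) ⤳ f z := h1.map f.continuous
    rw [hs1] at h2
    exact specializes_iff_mem_closure.mp h2
  -- the cycle `D = ∑ div (G i)` on `Y`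
  let Df : Y → ℤ := fun y => ∑ᶠ i, Cyc.divFun δY (η i) (G i) y
  have hDsupp : ∀ z ∈ (Set.univ : Set Y), ∃ t ∈ 𝓝 z, (t ∩ Function.support Df).Finite :=
    fun z _ => Groth.Agent.H48.DivLocFin.support_finsum_divFun_locallyFinite δY hdY η G hG hlfY z
  let D : AlgebraicCycle Y ℤ := ⟨Df, fun _ _ => Set.mem_univ _, hDsupp⟩
  have hD : ∀ y, D y = Df y := fun y => rfl
  have hdivk : ∀ i y, Cyc.divFun δY (η i) (G i) y ≠ 0 → η i ⤳ y ∧ δY y = k := by
    intro i y hne
    have hcond : η i ⤳ y ∧ δY y + 1 = δY (η i) := by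
      by_contra hc
      apply hne
      unfold Cyc.divFun
      rw [dif_neg hc]
    refine ⟨hcond.1, ?_⟩
    have := hcond.2
    rw [hδη] at this
    omega
  have hDk : D ∈ Cyc.Zk Y δY k := by
    intro y hy
    rw [hD]
    refine finsum_eq_zero_of_forall_eq_zero fun i => ?_
    by_contra hne
    exact hy (hdivk i y hne).2
  -- pushforward of `D`
  have hpushD : ∀ x : X, AlgebraicCycle.map f δY δ D x = ∑ᶠ i, Cyc.divFun δ (ξ i) (g i) x := by
    intro x
    simp only [AlgebraicCycle.map, Function.locallyFinsupp.map_apply]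
    have hcompact : IsCompact ((f : Y → X) ⁻¹' {x}) := Scheme.Hom.isCompact_preimage_singleton f x
    have hS : (((f : Y → X) ⁻¹' {x}) ∩
        ⋃ i, Function.support (Cyc.divFun δY (η i) (G i))).Finite :=
      Groth.Agent.H48.DivLocFin.finite_inter_of_isCompact hcompact fun z _ =>
        Groth.Agent.H48.DivLocFin.iUnion_support_divFun_locallyFinite δY hdY η G hG hlfY z
    have hI : {i | ∃ y ∈ (f : Y → X) ⁻¹' {x}, Cyc.divFun δY (η i) (G i) y ≠ 0}.Finite := by
      obtain ⟨U', hU'o, hxU', hfin⟩ := hlf x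
      refine hfin.subset ?_
      rintro i ⟨y, hy, hne⟩
      have hy' : f y = x := hy
      refine ⟨x, ?_, hxU'⟩
      have h2 : f (η i) ⤳ f y := (hdivk i y hne).1.map f.continuous
      rw [hs1, hy'] at h2
      exact specializes_iff_mem_closure.mp h2
    have key := finsum_mem_finsum_mul_comm (fun i y => Cyc.divFun δY (η i) (G i) y)
      (fun y => ((AlgebraicCycle.mapCoeff f δY δ y : ℕ) : ℤ)) ((f : Y → X) ⁻¹' {x}) hS hI
    refine Eq.trans key ?_
    refine finsum_congr fun i => ?_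
    rw [← hdivg' i]
    exact Groth.Agent.H48.BiratPush.finsum_divFun_eq_general f δY δ hdY hdX hδ (η i)
      (hs2 (ξ i)) (g' i) (hg' i) x
  -- the cycle `φ = β - D`
  have hφk : β - D ∈ Cyc.Zk Y δY k := by
    intro y hy
    have h1 := hβ y hy
    have h2 := hDk y hy
    simp only [Function.locallyFinsuppWithin.coe_sub, Pi.sub_apply, h1, h2, sub_zero]
  have hφ0 : ∀ x : X, AlgebraicCycle.map f δY δ (β - D) x = 0 := by
    intro x
    have hadd := Bivar.cycMap_add f δY δ (β - D) D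
    rw [sub_add_cancel] at hadd
    have h1 := congrArg (fun c : AlgebraicCycle X ℤ => c x) hadd
    simp only [Function.locallyFinsuppWithin.coe_add, Pi.add_apply] at h1
    rw [hsum x, hpushD x] at h1
    linarith
  obtain ⟨γ, hγk, hγ⟩ := exists_cycle_of_map_eq_zero f δ δY δ2
    (fun x => ⟨s x, hs1 x, hs2 x⟩) hδ hδ2 k (β - D) hφk hφ0
  refine ⟨γ, hγk, ?_⟩
  unfold Cyc.RatEquiv
  refine ⟨ι, η, G, hδη, hG, hlfY, ?_⟩
  intro y
  have h1 := hγ y
  simp only [Function.locallyFinsuppWithin.coe_sub, Pi.sub_apply] at h1 ⊢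
  rw [h1, hD]
  ring

end Groth.Agent.H48.EnvelopeKer
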