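import Mathlib
import Groth.Prelude.Def_Cyc
import Groth.Agent.H48.BiratAlg3
import Groth.Agent.H36.LatticeDist
import Groth.Agent.H54.SecOrdGen

/-!
# Orders of vanishing of norms along a finite extension of a one-dimensional local domain

`A` a one-dimensional Noetherian local domain with fraction field `K`, `B` a domain finite over `A`
with fraction field `F`.  Then for `b ∈ B` nonzero
`ord_A(Nm_{F/K} b) = length_A(B/bB) = ∑_n [κ(n) : κ(A)] ord_{B_n}(b)`.
-/

set_option autoImplicit false
set_option linter.unusedSectionVars false
set_option linter.style.haveILetI false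
universe u

open IsLocalRing Pointwise

namespace Groth.Agent.H48.NormAlg

section Core

variable {A B K F : Type u} [CommRing A] [IsDomain A]
  [CommRing B] [IsDomain B] [Algebra A B] [Module.Finite A B]
  [Field K] [Algebra A K] [IsFractionRing A K]
  [Field F] [Algebra B F] [IsFractionRing B F] [Algebra A F] [IsScalarTower A B F]
  [Algebra K F] [IsScalarTower A K F]

include K F in
theorem algebraMap_injective : Function.Injective (algebraMap A B) := by
  intro a b hab
  apply IsFractionRing.injective A K
  apply (algebraMap K F).injective
  rw [← IsScalarTower.algebraMap_apply A K F, ← IsScalarTower.algebraMap_apply A K F,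
    IsScalarTower.algebraMap_apply A B F, IsScalarTower.algebraMap_apply A B F, hab]

include K in
theorem isLocalization_frac :
    IsLocalization (Algebra.algebraMapSubmonoid B (nonZeroDivisors A)) F := by
  haveI : FaithfulSMul A B :=
    (faithfulSMul_iff_algebraMap_injective A B).mpr (algebraMap_injective (K := K) (F := F))
  haveI : Algebra.IsIntegral A B := Algebra.IsIntegral.of_finite A B
  infer_instance

variable (A B K F) in
include A B in
theorem finiteDimensional : FiniteDimensional K F := by
  haveI := isLocalization_frac (A := A) (B := B) (K := K) (F := F)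
  exact Module.Finite.of_isLocalization A B (nonZeroDivisors A)

variable (A B F) in
/-- The image of `B` in its fraction field, as an `A`-lattice. -/
def latt : Submodule A F := LinearMap.range (IsScalarTower.toAlgHom A B F).toLinearMap

theorem mem_latt {x : F} : x ∈ latt A B F ↔ ∃ b : B, algebraMap B F b = x := by
  unfold latt
  rw [LinearMap.mem_range]
  rfl

include K in
theorem isLattice_latt : Submodule.IsLattice K (latt A B F) where
  fg := by
    unfold latt
    rw [LinearMap.range_eq_map]
    exact (Module.Finite.fg_top (R := A) (M := B)).map _
  span_eq_top := by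
    haveI := isLocalization_frac (A := A) (B := B) (K := K) (F := F)
    rw [eq_top_iff]
    intro z _
    obtain ⟨⟨b, s⟩, h⟩ := IsLocalization.surj (Algebra.algebraMapSubmonoid B (nonZeroDivisors A)) z
    obtain ⟨a, ha, has⟩ := s.2
    have ha0 : a ≠ 0 := nonZeroDivisors.ne_zero ha
    have haK : algebraMap A K a ≠ 0 := fun h0 =>
      ha0 (IsFractionRing.injective A K (h0.trans (map_zero _).symm))
    have hz : z = (algebraMap A K a)⁻¹ • algebraMap B F b := by
      have h1 : z * algebraMap B F (algebraMap A B a) = algebraMap B F b := by
        rw [has]; exact h
      rw [← h1, ← IsScalarTower.algebraMap_apply A B F, IsScalarTower.algebraMap_apply A K F,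
        Algebra.smul_def, map_inv₀]
      have haF : algebraMap K F (algebraMap A K a) ≠ 0 := (map_ne_zero _).mpr haK
      field_simp
    rw [hz]
    exact Submodule.smul_mem _ _ (Submodule.subset_span (mem_latt.mpr ⟨b, rfl⟩))

end Core

end Groth.Agent.H48.NormAlg
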