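import Mathlib
import Groth.Prelude.Def_Cyc
import Groth.Agent.H48.NormAlg

/-!
# `ord_A(Nm b) = length_A(B/bB)`
-/

set_option autoImplicit false
set_option linter.unusedSectionVars false
set_option linter.style.haveILetI false
universe u

open IsLocalRing Pointwise

namespace Groth.Agent.H48.NormAlg

section Norm

variable {A B K F : Type u} [CommRing A] [IsDomain A] [IsNoetherianRing A] [Ring.KrullDimLE 1 A]
  [CommRing B] [IsDomain B] [Algebra A B] [Module.Finite A B]
  [Field K] [Algebra A K] [IsFractionRing A K]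
  [Field F] [Algebra B F] [IsFractionRing B F] [Algebra A F] [IsScalarTower A B F]
  [Algebra K F] [IsScalarTower A K F]

/-- Multiplication by a nonzero element as a `K`-linear automorphism of `F`. -/
noncomputable def mulEquiv (β : F) (hβ : β ≠ 0) : F ≃ₗ[K] F :=
  (LinearEquiv.smulOfNeZero F F β hβ).restrictScalars K

theorem mulEquiv_apply (β : F) (hβ : β ≠ 0) (x : F) : mulEquiv (K := K) β hβ x = β * x := rfl

theorem det_mulEquiv (β : F) (hβ : β ≠ 0) :
    LinearMap.det (mulEquiv (K := K) β hβ).toLinearMap = Algebra.norm K β := by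
  rw [Algebra.norm_apply]
  congr 1

theorem ordFrac_norm_eq_length (b : B) (hb : b ≠ 0) :
    CycAlg.ordFrac A K (Algebra.norm K (algebraMap B F b)) =
      ((Module.length A (B ⧸ Ideal.span {b})).toNat : ℤ) := by
  haveI := finiteDimensional A B K F
  haveI := isLattice_latt (A := A) (B := B) (K := K) (F := F)
  have hinjBF : Function.Injective (algebraMap B F) := IsFractionRing.injective B F
  have hβ : algebraMap B F b ≠ 0 := fun h => hb (hinjBF (h.trans (map_zero _).symm))
  obtain ⟨-, -, h3⟩ := Groth.Agent.H36.LatticeDist.lattice_dist A K F (latt A B F)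
    (mulEquiv (K := K) (algebraMap B F b) hβ)
  rw [det_mulEquiv] at h3
  rw [← h3]
  set M := latt A B F with hM
  set φM := M.map ((mulEquiv (K := K) (algebraMap B F b) hβ).toLinearMap.restrictScalars A)
    with hφM
  have hmemφM : ∀ x : F, x ∈ φM ↔ ∃ y : B, algebraMap B F (b * y) = x := by
    intro x
    constructor
    · rintro ⟨m, hm, rfl⟩
      obtain ⟨y, rfl⟩ := mem_latt.mp hm
      exact ⟨y, by rw [map_mul]; rfl⟩
    · rintro ⟨y, rfl⟩
      exact ⟨algebraMap B F y, mem_latt.mpr ⟨y, rfl⟩, by rw [map_mul]; rfl⟩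
  have hle : φM ≤ M := by
    intro x hx
    obtain ⟨y, rfl⟩ := (hmemφM x).mp hx
    exact mem_latt.mpr ⟨b * y, rfl⟩
  have hinf : M ⊓ φM = φM := inf_eq_right.mpr hle
  rw [hinf]
  have h2 : Module.length A (↥φM ⧸ φM.submoduleOf φM) = 0 := by
    rw [Submodule.submoduleOf_self]
    exact Module.length_eq_zero
  rw [h2]
  simp only [ENat.toNat_zero, Nat.cast_zero, sub_zero]
  congr 2
  -- the quotient `M / φM` is `B / bB`
  have hinj : Function.Injective (IsScalarTower.toAlgHom A B F).toLinearMap := hinjBF
  let e : B ≃ₗ[A] M := LinearEquiv.ofInjective (IsScalarTower.toAlgHom A B F).toLinearMap hinj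
  have he : ∀ y : B, (e y : F) = algebraMap B F y := fun y => rfl
  have hmap : ((Ideal.span {b}).restrictScalars A).map (e : B →ₗ[A] M) = φM.submoduleOf M := by
    ext ⟨x, hx⟩
    rw [Submodule.mem_map]
    constructor
    · rintro ⟨y, hy, hyx⟩
      have hy' : y ∈ Ideal.span {b} := hy
      obtain ⟨c, rfl⟩ := Ideal.mem_span_singleton'.mp hy'
      change x ∈ φM
      rw [hmemφM]
      refine ⟨c, ?_⟩
      have := congrArg (fun m : M => (m : F)) hyx
      simp only at this
      rw [← this]
      change algebraMap B F (b * c) = algebraMap B F (c * b)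
      rw [mul_comm]
    · intro hx'
      have hx'' : x ∈ φM := hx'
      obtain ⟨y, hy⟩ := (hmemφM x).mp hx''
      refine ⟨b * y, ?_, ?_⟩
      · change b * y ∈ Ideal.span {b}
        exact Ideal.mul_mem_right _ _ (Ideal.mem_span_singleton_self b)
      · apply Subtype.ext
        exact hy
  have e2 := Submodule.Quotient.equiv ((Ideal.span {b}).restrictScalars A) (φM.submoduleOf M) e hmap
  have e3 := Submodule.Quotient.restrictScalarsEquiv A (Ideal.span {b})
  exact (e2.symm.trans e3).length_eq

end Norm

end Groth.Agent.H48.NormAlg
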