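import Mathlib
import Groth.Prelude.Def_Cyc
import Groth.Agent.H48.NormAlg2

/-!
# `ordFrac_A(Nm g) = ∑_n [κ(n) : κ(A)] ordFrac_{B_n}(g)` for a finite extension `A ⊆ B`
-/

set_option autoImplicit false
set_option linter.unusedSectionVars false
set_option linter.style.haveILetI false
universe u

open IsLocalRing Pointwise

namespace Groth.Agent.H48.NormAlg

open Groth.Agent.H48.BiratAlg (comap_eq_maximalIdeal finite_maximalSpectrum
  length_localizedModule_quot_span krullDimLE_one_of_isIntegral krullDimLE_one_loc)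

section Core

variable {A B K F : Type u} [CommRing A] [IsLocalRing A] [IsDomain A] [IsNoetherianRing A]
  [Ring.KrullDimLE 1 A] [CommRing B] [IsDomain B] [Algebra A B] [Module.Finite A B]
  [Field K] [Algebra A K] [IsFractionRing A K]
  [Field F] [Algebra B F] [IsFractionRing B F] [Algebra A F] [IsScalarTower A B F]
  [Algebra K F] [IsScalarTower A K F]

/-- `length_A(B/bB) = ∑_n [κ(n) : κ(A)] ord_{B_n}(b)`. -/
theorem length_quot_eq_finsum (b : B) (hb : b ≠ 0) :
    Module.length A (B ⧸ Ideal.span {b}) = ∑ᶠ n : MaximalSpectrum B,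
      (Module.finrank (A ⧸ n.asIdeal.comap (algebraMap A B)) (B ⧸ n.asIdeal) : ℕ∞) *
        Ring.ord (Localization.AtPrime n.asIdeal)
          (algebraMap B (Localization.AtPrime n.asIdeal) b) := by
  haveI := finite_maximalSpectrum A B
  haveI : Algebra.IsIntegral A B := Algebra.IsIntegral.of_finite A B
  haveI : IsNoetherianRing B := IsNoetherianRing.of_finite A B
  haveI : Ring.KrullDimLE 1 B := krullDimLE_one_of_isIntegral A B
  have hover : ∀ n : MaximalSpectrum B,
      n.asIdeal.comap (algebraMap A B) = maximalIdeal A :=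
    fun n => comap_eq_maximalIdeal A B n.asIdeal
  have hfin : ∀ n : MaximalSpectrum B,
      Module.Finite (A ⧸ n.asIdeal.comap (algebraMap A B)) (B ⧸ n.asIdeal) :=
    fun n => Module.Finite.of_restrictScalars_finite A _ _
  have hFL : IsFiniteLength B (B ⧸ Ideal.span {b}) :=
    isFiniteLength_quotient_span_singleton B (mem_nonZeroDivisors_of_ne_zero hb)
  have key := Groth.Agent.H27.LengthSemilocal.length_eq_finsum hover hfin
    (B ⧸ Ideal.span {b}) hFL
  rw [key]
  exact finsum_congr fun n => by rw [length_localizedModule_quot_span]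

variable {ι : Type u} (n : ι → Ideal B) [∀ i, (n i).IsMaximal]
  (hninj : Function.Injective n) (hnsurj : ∀ m : Ideal B, m.IsMaximal → ∃ i, n i = m)
  (L : ι → Type u) [∀ i, CommRing (L i)] [∀ i, Algebra B (L i)]
  [∀ i, IsLocalization.AtPrime (L i) (n i)] [∀ i, Algebra (L i) F]
  [∀ i, IsScalarTower B (L i) F]

include hninj hnsurj in
/-- `ordFrac_A(Nm g) = ∑_i [κ(n_i) : κ(A)] ordFrac_{B_{n_i}}(g)`, the `n_i` being the maximal
ideals of `B`. -/
theorem ordFrac_norm_eq_finsum (g : F) (hg : g ≠ 0) :
    CycAlg.ordFrac A K (Algebra.norm K g) = ∑ᶠ i : ι,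
      (Module.finrank (A ⧸ (n i).comap (algebraMap A B)) (B ⧸ n i) : ℤ) *
        CycAlg.ordFrac (L i) F g := by
  classical
  haveI := finiteDimensional A B K F
  haveI := finite_maximalSpectrum A B
  haveI := Fintype.ofFinite (MaximalSpectrum B)
  let e : ι ≃ MaximalSpectrum B := Equiv.ofBijective (fun i => ⟨n i, inferInstance⟩)
    ⟨fun i j hij => hninj (congrArg MaximalSpectrum.asIdeal hij), fun m => by
      obtain ⟨i, hi⟩ := hnsurj m.asIdeal m.isMaximal
      exact ⟨i, MaximalSpectrum.ext hi⟩⟩
  haveI : Finite ι := Finite.of_equiv _ e.symm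
  haveI := Fintype.ofFinite ι
  haveI : IsNoetherianRing B := IsNoetherianRing.of_finite A B
  haveI : ∀ i, IsDomain (L i) := fun i => IsLocalization.isDomain_of_atPrime (L i) (n i)
  haveI : ∀ i, IsNoetherianRing (L i) := fun i =>
    IsLocalization.isNoetherianRing (n i).primeCompl (L i) inferInstance
  haveI : ∀ i, Ring.KrullDimLE 1 (L i) := fun i => krullDimLE_one_loc A B (n i) (L i)
  haveI : ∀ i, IsFractionRing (L i) F := fun i =>
    IsFractionRing.isFractionRing_of_isDomain_of_isLocalization (n i).primeCompl (L i) F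
  have hinjBF : Function.Injective (algebraMap B F) := IsFractionRing.injective B F
  -- the key identity
  have key : ∀ b : B, b ≠ 0 →
      CycAlg.ordFrac A K (Algebra.norm K (algebraMap B F b)) = ∑ i : ι,
        (Module.finrank (A ⧸ (n i).comap (algebraMap A B)) (B ⧸ n i) : ℤ) *
          ((Ring.ord (L i) (algebraMap B (L i) b)).toNat : ℤ) := by
    intro b hb
    rw [ordFrac_norm_eq_length (K := K) (F := F) b hb]
    have h1 := length_quot_eq_finsum (A := A) b hb
    rw [finsum_eq_sum_of_fintype, ← e.sum_comp] at h1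
    have h2 : ∀ i : ι,
        Ring.ord (Localization.AtPrime (n i))
          (algebraMap B (Localization.AtPrime (n i)) b) =
        ((Ring.ord (L i) (algebraMap B (L i) b)).toNat : ℕ∞) := by
      intro i
      let e' : Localization.AtPrime (n i) ≃ₐ[B] L i :=
        IsLocalization.algEquiv (n i).primeCompl _ _
      have he := Groth.Agent.H54.OrdEquiv.ord_ringEquiv e'.toRingEquiv
        (algebraMap B (Localization.AtPrime (n i)) b)
      have he2 : e'.toRingEquiv (algebraMap B (Localization.AtPrime (n i)) b) =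
          algebraMap B (L i) b := e'.commutes _
      rw [he2] at he
      rw [← he]
      have hne : algebraMap B (L i) b ≠ 0 := by
        intro h
        apply hb
        exact IsLocalization.injective (L i) (n i).primeCompl_le_nonZeroDivisors
          (h.trans (map_zero _).symm)
      exact (ENat.natCast_toNat (Ring.ord_ne_top (mem_nonZeroDivisors_of_ne_zero hne))).symm
    have h1' : Module.length A (B ⧸ Ideal.span {b}) = ∑ i : ι,
        (Module.finrank (A ⧸ (n i).comap (algebraMap A B)) (B ⧸ n i) : ℕ∞) *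
          Ring.ord (Localization.AtPrime (n i))
            (algebraMap B (Localization.AtPrime (n i)) b) := h1
    simp only [h2] at h1'
    have h3 : Module.length A (B ⧸ Ideal.span {b}) = ((∑ i : ι,
        Module.finrank (A ⧸ (n i).comap (algebraMap A B)) (B ⧸ n i) *
          (Ring.ord (L i) (algebraMap B (L i) b)).toNat : ℕ) : ℕ∞) := by
      rw [h1']
      push_cast
      rfl
    rw [h3, ENat.toNat_natCast]
    push_cast
    rfl
  obtain ⟨x, s, hs, rfl⟩ := IsFractionRing.div_surjective (A := B) g
  have hs0 : s ≠ 0 := nonZeroDivisors.ne_zero hs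
  have hx0 : x ≠ 0 := by
    rintro rfl
    apply hg
    simp
  have hxF : algebraMap B F x ≠ 0 := fun h => hx0 (hinjBF (h.trans (map_zero _).symm))
  have hsF : algebraMap B F s ≠ 0 := fun h => hs0 (hinjBF (h.trans (map_zero _).symm))
  have hNx : Algebra.norm K (algebraMap B F x) ≠ 0 := Algebra.norm_ne_zero_iff.mpr hxF
  have hNs : Algebra.norm K (algebraMap B F s) ≠ 0 := Algebra.norm_ne_zero_iff.mpr hsF
  have hdiv : Algebra.norm K (algebraMap B F x / algebraMap B F s) =
      Algebra.norm K (algebraMap B F x) * (Algebra.norm K (algebraMap B F s))⁻¹ := by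
    rw [eq_mul_inv_iff_mul_eq₀ hNs, ← map_mul, div_mul_cancel₀ _ hsF]
  rw [finsum_eq_sum_of_fintype, hdiv,
    Groth.Agent.H54.SecOrdGen.ordFrac_mul A K hNx (inv_ne_zero hNs),
    Groth.Agent.H54.SecOrdGen.ordFrac_inv A K hNs, key x hx0, key s hs0, ← sub_eq_add_neg,
    ← Finset.sum_sub_distrib]
  refine Finset.sum_congr rfl fun i _ => ?_
  have hxn : algebraMap B F x = algebraMap (L i) F (algebraMap B (L i) x) :=
    IsScalarTower.algebraMap_apply B (L i) F x
  have hsn : algebraMap B F s = algebraMap (L i) F (algebraMap B (L i) s) :=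
    IsScalarTower.algebraMap_apply B (L i) F s
  have hx1 : algebraMap B (L i) x ≠ 0 := by
    intro h
    apply hxF
    rw [hxn, h, map_zero]
  have hs1 : algebraMap B (L i) s ≠ 0 := by
    intro h
    apply hsF
    rw [hsn, h, map_zero]
  rw [hxn, hsn, Groth.Agent.H36.LatticeDist.ordFrac_div (L i) F _ _ hx1 hs1]
  ring

end Core

end Groth.Agent.H48.NormAlg
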