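import Mathlib
import Groth.Prelude.Def_Cyc
import Groth.Agent.H48.NormAlg3
import Groth.Agent.H48.BiratAlg4

/-!
# The norm formula for a finite extension of domains, at a height one prime

`R ⊆ B'` a finite extension of Noetherian domains with fraction fields `K ⊆ F`, `p` a prime
of `R` with `R_p` of dimension `≤ 1`.  Then
`ordFrac_{R_p}(Nm_{F/K} g) = ∑_{q over p} [κ(q) : κ(p)] ordFrac_{B'_q}(g)`.
-/

set_option autoImplicit false
set_option linter.unusedSectionVars false
set_option linter.style.haveILetI false
set_option maxHeartbeats 1000000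
universe u

open IsLocalRing Pointwise

namespace Groth.Agent.H48.NormAlg

open Groth.Agent.H48.BiratAlg (comap_eq_maximalIdeal disjoint_of_comap_eq isMaximal_map
  isUnit_algebraMap_of_mem)

section Global

variable {R B' K F O B : Type u} [CommRing R] [IsDomain R] [IsNoetherianRing R]
  [CommRing B'] [IsDomain B'] [Algebra R B'] [Module.Finite R B']
  [Field K] [Algebra R K] [IsFractionRing R K]
  [Field F] [Algebra B' F] [IsFractionRing B' F] [Algebra R F] [IsScalarTower R B' F]
  [Algebra K F] [IsScalarTower R K F]
  (p : Ideal R) [p.IsPrime]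
  [CommRing O] [Algebra R O] [IsLocalization.AtPrime O p] [Algebra O K] [IsScalarTower R O K]
  [CommRing B] [Algebra B' B] [IsLocalization (Algebra.algebraMapSubmonoid B' p.primeCompl) B]
  [Algebra O B] [Algebra R B] [IsScalarTower R B' B] [IsScalarTower R O B]

include K F in
theorem submonoid_le_nonZeroDivisors :
    Algebra.algebraMapSubmonoid B' p.primeCompl ≤ nonZeroDivisors B' := by
  rintro _ ⟨s, hs, rfl⟩
  apply mem_nonZeroDivisors_of_ne_zero
  intro h
  have : s = 0 := algebraMap_injective (A := R) (B := B') (K := K) (F := F)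
    (h.trans (map_zero _).symm)
  exact hs (this ▸ p.zero_mem)

variable {ι : Type u} (q : ι → Ideal B') [∀ i, (q i).IsPrime]
  (hq : ∀ i, (q i).comap (algebraMap R B') = p) (hqinj : Function.Injective q)
  (hqsurj : ∀ Q : Ideal B', Q.IsPrime → Q.comap (algebraMap R B') = p → ∃ i, q i = Q)
  (L : ι → Type u) [∀ i, CommRing (L i)] [∀ i, Algebra B' (L i)]
  [∀ i, IsLocalization.AtPrime (L i) (q i)] [∀ i, Algebra (L i) F]
  [∀ i, IsScalarTower B' (L i) F]
  (φ : ∀ i, O →+* L i)
  (hφ : ∀ i, (φ i).comp (algebraMap R O) = (algebraMap B' (L i)).comp (algebraMap R B'))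

include O B K hq hqinj hqsurj hφ in
/-- `ordFrac_{R_p}(Nm g) = ∑_{q over p} [κ(q) : κ(p)] ordFrac_{B'_q}(g)`. -/
theorem ordFrac_norm_eq_finsum_primesOver [IsLocalRing O] [∀ i, IsLocalRing (L i)]
    [∀ i, IsLocalHom (φ i)]
    (hdim : Ring.KrullDimLE 1 O) (g : F) (hg : g ≠ 0) :
    CycAlg.ordFrac O K (Algebra.norm K g) = ∑ᶠ i : ι,
      (@Module.finrank (ResidueField O) (ResidueField (L i)) _ _
        (ResidueField.map (φ i)).toAlgebra.toModule : ℤ) *
        CycAlg.ordFrac (L i) F g := by
  classical
  set S' := Algebra.algebraMapSubmonoid B' p.primeCompl with hS'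
  have hS'le : S' ≤ nonZeroDivisors B' := submonoid_le_nonZeroDivisors (K := K) (F := F) p
  haveI : IsDomain O := IsLocalization.isDomain_of_atPrime O p
  haveI : IsNoetherianRing O := IsLocalization.isNoetherianRing p.primeCompl O inferInstance
  haveI : IsDomain B := IsLocalization.isDomain_of_le_nonZeroDivisors B hS'le
  haveI : Module.Finite O B := Module.Finite.of_isLocalization R B' p.primeCompl
  haveI : IsFractionRing O K :=
    IsFractionRing.isFractionRing_of_isDomain_of_isLocalization p.primeCompl O K
  -- the algebra structure `B → F`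
  have hunitF : ∀ s : S', IsUnit (algebraMap B' F s) := by
    intro s
    have hs0 : (s : B') ≠ 0 := nonZeroDivisors.ne_zero (hS'le s.2)
    have : algebraMap B' F s ≠ 0 := fun h =>
      hs0 (IsFractionRing.injective B' F (h.trans (map_zero _).symm))
    exact this.isUnit
  letI algBF : Algebra B F := (IsLocalization.lift (M := S') hunitF).toAlgebra
  have hBF : ∀ b : B', algebraMap B F (algebraMap B' B b) = algebraMap B' F b :=
    fun b => IsLocalization.lift_eq hunitF b
  haveI : IsScalarTower B' B F := IsScalarTower.of_algebraMap_eq fun b => (hBF b).symm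
  haveI : IsFractionRing B F :=
    IsFractionRing.isFractionRing_of_isDomain_of_isLocalization S' B F
  -- the algebra structure `O → F`
  letI algOF : Algebra O F := ((algebraMap K F).comp (algebraMap O K)).toAlgebra
  haveI : IsScalarTower O K F := IsScalarTower.of_algebraMap_eq' rfl
  haveI : IsScalarTower O B F := by
    refine IsScalarTower.of_algebraMap_eq' ?_
    refine IsLocalization.ringHom_ext p.primeCompl ?_
    ext r
    simp only [RingHom.comp_apply]
    change algebraMap K F (algebraMap O K (algebraMap R O r)) = _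
    rw [← IsScalarTower.algebraMap_apply R O K, ← IsScalarTower.algebraMap_apply R K F,
      ← IsScalarTower.algebraMap_apply R O B, IsScalarTower.algebraMap_apply R B' B, hBF,
      ← IsScalarTower.algebraMap_apply R B' F]
  -- the algebra structures `B → L i`
  have hunitL : ∀ i, ∀ s : S', IsUnit (algebraMap B' (L i) s) :=
    fun i s => isUnit_algebraMap_of_mem p q L i (hq i) s s.2
  letI algBL : ∀ i, Algebra B (L i) := fun i => (IsLocalization.lift (M := S') (hunitL i)).toAlgebra
  have hBL : ∀ i, ∀ b : B', algebraMap B (L i) (algebraMap B' B b) = algebraMap B' (L i) b :=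
    fun i b => IsLocalization.lift_eq (hunitL i) b
  haveI : ∀ i, IsScalarTower B' B (L i) := fun i =>
    IsScalarTower.of_algebraMap_eq fun b => (hBL i b).symm
  haveI : ∀ i, IsScalarTower B (L i) F := by
    intro i
    refine IsScalarTower.of_algebraMap_eq' ?_
    refine IsLocalization.ringHom_ext S' ?_
    ext b
    simp only [RingHom.comp_apply]
    rw [hBF, hBL, ← IsScalarTower.algebraMap_apply B' (L i) F]
  -- the maximal ideals
  let n : ι → Ideal B := fun i => (q i).map (algebraMap B' B)
  haveI : ∀ i, (n i).IsMaximal := fun i => isMaximal_map O B p (q i) (hq i)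
  have hcomap : ∀ i, (n i).comap (algebraMap B' B) = q i := fun i =>
    IsLocalization.under_map_of_isPrime_disjoint S' B inferInstance
      (disjoint_of_comap_eq p (q i) (hq i))
  have hninj : Function.Injective n := by
    intro i j hij
    apply hqinj
    rw [← hcomap i, ← hcomap j, hij]
  have hnsurj : ∀ m : Ideal B, m.IsMaximal → ∃ i, n i = m := by
    intro m hm
    haveI := hm
    have h1 : m.comap (algebraMap O B) = maximalIdeal O := comap_eq_maximalIdeal O B m
    have h2 : (m.comap (algebraMap B' B)).comap (algebraMap R B') = p := by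
      rw [Ideal.comap_comap, ← IsScalarTower.algebraMap_eq R B' B,
        IsScalarTower.algebraMap_eq R O B, ← Ideal.comap_comap, h1]
      exact IsLocalization.AtPrime.comap_maximalIdeal O p
    obtain ⟨i, hi⟩ := hqsurj _ (Ideal.IsPrime.comap _) h2
    refine ⟨i, ?_⟩
    change (q i).map (algebraMap B' B) = m
    rw [hi]
    exact IsLocalization.map_under S' B m
  haveI : ∀ i, IsLocalization.AtPrime (L i) (n i) := by
    intro i
    have hle : S' ≤ (q i).primeCompl := by
      intro s hs hmem
      exact Set.disjoint_left.mp (disjoint_of_comap_eq p (q i) (hq i)) hs hmem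
    have key := IsLocalization.isLocalization_of_submonoid_le B (L i) S' (q i).primeCompl hle
    change IsLocalization (n i).primeCompl (L i)
    refine @IsLocalization.of_le _ _ _ _ _ _ key (n i).primeCompl ?_ ?_
    · rintro _ ⟨b, hb, rfl⟩
      change _ ∉ n i
      intro hmem
      apply hb
      rw [← hcomap i]
      exact hmem
    · intro y hy
      obtain ⟨b, s, rfl⟩ := IsLocalization.exists_mk'_eq S' y
      have hb : b ∉ q i := by
        intro hb
        apply hy
        change IsLocalization.mk' B b s ∈ n i
        rw [IsLocalization.mk'_mem_map_algebraMap_iff S']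
        exact ⟨1, S'.one_mem, by simpa using hb⟩
      have h3 : algebraMap B (L i) (IsLocalization.mk' B b s) * algebraMap B' (L i) s =
          algebraMap B' (L i) b := by
        rw [← hBL i s, ← map_mul, IsLocalization.mk'_spec, hBL]
      have hub : IsUnit (algebraMap B' (L i) b) :=
        IsLocalization.map_units (M := (q i).primeCompl) (L i) ⟨b, hb⟩
      rw [← h3] at hub
      exact isUnit_of_mul_isUnit_left hub
  have main := ordFrac_norm_eq_finsum (A := O) (B := B) (K := K) (F := F) n hninj hnsurj L g hg
  rw [main]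
  refine finsum_congr fun i => ?_
  congr 2
  letI : Algebra (ResidueField O) (ResidueField (L i)) := (ResidueField.map (φ i)).toAlgebra
  have hcm : (n i).comap (algebraMap O B) = maximalIdeal O := comap_eq_maximalIdeal O B (n i)
  have hφ' : (algebraMap B (L i)).comp (algebraMap O B) = φ i := by
    refine IsLocalization.ringHom_ext p.primeCompl ?_
    ext r
    simp only [RingHom.comp_apply]
    have h4 := congrArg (fun ψ => ψ r) (hφ i)
    simp only [RingHom.comp_apply] at h4
    rw [h4, ← IsScalarTower.algebraMap_apply R O B, IsScalarTower.algebraMap_apply R B' B, hBL]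
  let e1 : (O ⧸ (n i).comap (algebraMap O B)) ≃+* ResidueField O := Ideal.quotEquivOfEq hcm
  let e2 : (B ⧸ n i) ≃+* ResidueField (L i) :=
    IsLocalization.AtPrime.equivQuotMaximalIdeal (n i) (L i)
  refine Algebra.finrank_eq_of_equiv_equiv e1 e2 ?_
  ext a
  have h5 := congrArg (fun ψ => ψ a) hφ'
  simp only [RingHom.comp_apply] at h5
  change residue (L i) (φ i a) = Ideal.Quotient.mk _ (algebraMap B (L i) (algebraMap O B a))
  rw [h5]
  rfl

end Global

/-- Final form, with the semilocal ring chosen internally. -/
theorem ordFrac_norm_eq_finsum_primesOver' {R B' K F O : Type u} [CommRing R] [IsDomain R]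
    [IsNoetherianRing R] [CommRing B'] [IsDomain B'] [Algebra R B'] [Module.Finite R B']
    [Field K] [Algebra R K] [IsFractionRing R K]
    [Field F] [Algebra B' F] [IsFractionRing B' F] [Algebra R F] [IsScalarTower R B' F]
    [Algebra K F] [IsScalarTower R K F] (p : Ideal R) [p.IsPrime]
    [CommRing O] [Algebra R O] [IsLocalization.AtPrime O p] [Algebra O K] [IsScalarTower R O K]
    {ι : Type u} (q : ι → Ideal B') [∀ i, (q i).IsPrime]
    (hq : ∀ i, (q i).comap (algebraMap R B') = p) (hqinj : Function.Injective q)
    (hqsurj : ∀ Q : Ideal B', Q.IsPrime → Q.comap (algebraMap R B') = p → ∃ i, q i = Q)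
    (L : ι → Type u) [∀ i, CommRing (L i)] [∀ i, Algebra B' (L i)]
    [∀ i, IsLocalization.AtPrime (L i) (q i)] [∀ i, Algebra (L i) F]
    [∀ i, IsScalarTower B' (L i) F]
    (φ : ∀ i, O →+* L i)
    (hφ : ∀ i, (φ i).comp (algebraMap R O) = (algebraMap B' (L i)).comp (algebraMap R B'))
    [IsLocalRing O] [∀ i, IsLocalRing (L i)] [∀ i, IsLocalHom (φ i)]
    (hdim : Ring.KrullDimLE 1 O) (g : F) (hg : g ≠ 0) :
    CycAlg.ordFrac O K (Algebra.norm K g) = ∑ᶠ i : ι,
      (@Module.finrank (ResidueField O) (ResidueField (L i)) _ _
        (ResidueField.map (φ i)).toAlgebra.toModule : ℤ) *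
        CycAlg.ordFrac (L i) F g := by
  letI : Algebra O (Localization (Algebra.algebraMapSubmonoid B' p.primeCompl)) :=
    localizationAlgebra p.primeCompl B'
  haveI : IsScalarTower R O (Localization (Algebra.algebraMapSubmonoid B' p.primeCompl)) :=
    isScalarTower_localizationAlgebra p.primeCompl B'
  exact ordFrac_norm_eq_finsum_primesOver
    (B := Localization (Algebra.algebraMapSubmonoid B' p.primeCompl)) p q hq hqinj hqsurj L φ hφ
    hdim g hg

end Groth.Agent.H48.NormAlg
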