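import Mathlib
import Groth.Prelude.Def_Cyc
import Groth.Agent.H48.BiratGeom2
import Groth.Agent.H48.NormAlg4

/-!
# Orders of the norm of a rational function along a finite morphism of integral schemes
-/

set_option autoImplicit false
set_option linter.unusedSectionVars false
set_option linter.style.haveILetI false
set_option maxHeartbeats 1600000
universe u

open AlgebraicGeometry CategoryTheory CategoryTheory.Limits TopologicalSpace Opposite Topology
open IsLocalRing

namespace Groth.Agent.H48.NormGeom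

open Groth.Agent.H48.OrdFracLib Groth.Agent.H48.BiratGeom

section Main

variable {V W : Scheme.{u}} [IsIntegral V] [IsIntegral W] [IsLocallyNoetherian W] (h : V ⟶ W)

theorem ordAt_norm_eq_finsum_of_finite (U : W.Opens) (hU : IsAffineOpen U)
    (hV' : IsAffineOpen (h ⁻¹ᵁ U)) (hfin : (h.app U).hom.Finite)
    (hgen : h (genericPoint V) = genericPoint W)
    (w : W) (hw : w ∈ U) (hdim : Ring.KrullDimLE 1 (W.presheaf.stalk w))
    (hsp : h (genericPoint V) ⤳ w)
    (g : V.residueField (genericPoint V)) (hg : g ≠ 0) :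
    Cyc.ordAt w (h (genericPoint V)) hsp (Cyc.normGen h (genericPoint V) g) =
      ∑ᶠ v : {v : V // h v = w}, (h.residueDegree v.1 : ℤ) *
        Cyc.ordAt v.1 (genericPoint V) (genericPoint_specializes _) g := by
  classical
  have hηU : h (genericPoint V) ∈ U := hsp.mem_open U.2 hw
  have hηV' : genericPoint V ∈ h ⁻¹ᵁ U := hηU
  haveI : Nonempty U := ⟨⟨w, hw⟩⟩
  haveI : Nonempty (h ⁻¹ᵁ U) := ⟨⟨genericPoint V, hηV'⟩⟩
  haveI : IsNoetherianRing Γ(W, U) := IsLocallyNoetherian.component_noetherian ⟨U, hU⟩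
  letI algRB : Algebra Γ(W, U) Γ(V, h ⁻¹ᵁ U) := (h.app U).hom.toAlgebra
  haveI : Module.Finite Γ(W, U) Γ(V, h ⁻¹ᵁ U) := hfin
  letI algBF : Algebra Γ(V, h ⁻¹ᵁ U) (V.residueField (genericPoint V)) :=
    (V.evaluation (h ⁻¹ᵁ U) (genericPoint V) hηV').hom.toAlgebra
  haveI : IsFractionRing Γ(V, h ⁻¹ᵁ U) (V.residueField (genericPoint V)) :=
    isFractionRing_evaluation (h ⁻¹ᵁ U) hV' hηV'
  letI algRF : Algebra Γ(W, U) (V.residueField (genericPoint V)) :=
    ((V.evaluation (h ⁻¹ᵁ U) (genericPoint V) hηV').hom.comp (h.app U).hom).toAlgebra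
  haveI : IsScalarTower Γ(W, U) Γ(V, h ⁻¹ᵁ U) (V.residueField (genericPoint V)) :=
    IsScalarTower.of_algebraMap_eq' rfl
  letI algRK : Algebra Γ(W, U) (W.residueField (h (genericPoint V))) :=
    (W.evaluation U (h (genericPoint V)) hηU).hom.toAlgebra
  haveI : IsFractionRing Γ(W, U) (W.residueField (h (genericPoint V))) :=
    isFractionRing_evaluation' U hU (h (genericPoint V)) hgen hηU
  letI algKF : Algebra (W.residueField (h (genericPoint V))) (V.residueField (genericPoint V)) :=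
    (h.residueFieldMap (genericPoint V)).hom.toAlgebra
  have hnat : ∀ r : Γ(W, U), (h.residueFieldMap (genericPoint V)).hom
      ((W.evaluation U (h (genericPoint V)) hηU).hom r) =
      (V.evaluation (h ⁻¹ᵁ U) (genericPoint V) hηV').hom ((h.app U).hom r) :=
    fun r => Scheme.evaluation_naturality_apply h (genericPoint V) hηU r
  haveI : IsScalarTower Γ(W, U) (W.residueField (h (genericPoint V)))
      (V.residueField (genericPoint V)) :=
    IsScalarTower.of_algebraMap_eq fun r => (hnat r).symm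
  -- the local ring at `w`
  letI algRO : Algebra Γ(W, U) (W.presheaf.stalk w) :=
    TopCat.Presheaf.algebra_section_stalk W.presheaf (⟨w, hw⟩ : U)
  haveI locO : IsLocalization.AtPrime (W.presheaf.stalk w) (hU.primeIdealOf ⟨w, hw⟩).asIdeal :=
    hU.isLocalization_stalk ⟨w, hw⟩
  letI algOK : Algebra (W.presheaf.stalk w) (W.residueField (h (genericPoint V))) :=
    (Cyc.specMap w (h (genericPoint V)) hsp).toAlgebra
  have hspW : ∀ r : Γ(W, U), Cyc.specMap w (h (genericPoint V)) hsp (W.presheaf.germ U w hw r) =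
      (W.evaluation U (h (genericPoint V)) hηU).hom r := by
    intro r
    unfold Cyc.specMap
    rw [CommRingCat.hom_comp, RingHom.comp_apply]
    have := TopCat.Presheaf.germ_stalkSpecializes_apply W.presheaf hw hsp r
    rw [this]
    rfl
  haveI : IsScalarTower Γ(W, U) (W.presheaf.stalk w) (W.residueField (h (genericPoint V))) :=
    IsScalarTower.of_algebraMap_eq fun r => (hspW r).symm
  -- the points of the fibre and the primes over `p`
  have hv' : ∀ v : {v : V // h v = w}, v.1 ∈ h ⁻¹ᵁ U := by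
    intro v
    change h v.1 ∈ U
    rw [v.2]
    exact hw
  let q : {v : V // h v = w} → Ideal Γ(V, h ⁻¹ᵁ U) :=
    fun v => (hV'.primeIdealOf ⟨v.1, hv' v⟩).asIdeal
  haveI : ∀ v, (q v).IsPrime := fun v => (hV'.primeIdealOf ⟨v.1, hv' v⟩).isPrime
  have hcomapgen : ∀ (v : V) (hv : v ∈ h ⁻¹ᵁ U),
      (hV'.primeIdealOf ⟨v, hv⟩).asIdeal.comap (algebraMap Γ(W, U) Γ(V, h ⁻¹ᵁ U)) =
        (hU.primeIdealOf ⟨h v, hv⟩).asIdeal := by
    intro v hv
    have := IsAffineOpen.comap_primeIdealOf_appLE U hU (h ⁻¹ᵁ U) hV' le_rfl hv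
    have h2 := congrArg PrimeSpectrum.asIdeal this
    rw [← Scheme.Hom.app_eq_appLE] at h2
    exact h2
  have hq : ∀ v, (q v).comap (algebraMap Γ(W, U) Γ(V, h ⁻¹ᵁ U)) =
      (hU.primeIdealOf ⟨w, hw⟩).asIdeal := by
    intro v
    rw [hcomapgen v.1 (hv' v)]
    congr 2
    exact Subtype.ext v.2
  have hqinj : Function.Injective q := by
    intro v v' hvv'
    have h1 : hV'.primeIdealOf ⟨v.1, hv' v⟩ = hV'.primeIdealOf ⟨v'.1, hv' v'⟩ :=
      PrimeSpectrum.ext hvv'
    have h2 := primeIdealOf_injective hV' _ _ h1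
    exact Subtype.ext (congrArg (fun z : ↥(h ⁻¹ᵁ U) => (z : V)) h2)
  have hqsurj : ∀ Q : Ideal Γ(V, h ⁻¹ᵁ U), Q.IsPrime →
      Q.comap (algebraMap Γ(W, U) Γ(V, h ⁻¹ᵁ U)) = (hU.primeIdealOf ⟨w, hw⟩).asIdeal →
      ∃ v, q v = Q := by
    intro Q hQ hQp
    let y : PrimeSpectrum Γ(V, h ⁻¹ᵁ U) := ⟨Q, hQ⟩
    have hy := primeIdealOf_fromSpec hV' y
    have hmem := fromSpec_mem hV' y
    have h3 := hcomapgen (hV'.fromSpec y) hmem
    rw [hy] at h3
    have h4 : hU.primeIdealOf ⟨h (hV'.fromSpec y), hmem⟩ = hU.primeIdealOf ⟨w, hw⟩ :=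
      PrimeSpectrum.ext (h3.symm.trans hQp)
    have h5 := primeIdealOf_injective hU _ _ h4
    refine ⟨⟨hV'.fromSpec y, congrArg (fun z : ↥U => (z : W)) h5⟩, ?_⟩
    change (hV'.primeIdealOf ⟨hV'.fromSpec y, _⟩).asIdeal = Q
    rw [hy]
  -- the local rings at the points of the fibre
  letI algBL : ∀ v : {v : V // h v = w}, Algebra Γ(V, h ⁻¹ᵁ U) (V.presheaf.stalk v.1) :=
    fun v => TopCat.Presheaf.algebra_section_stalk V.presheaf (⟨v.1, hv' v⟩ : ↥(h ⁻¹ᵁ U))
  haveI locL : ∀ v : {v : V // h v = w}, IsLocalization.AtPrime (V.presheaf.stalk v.1) (q v) :=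
    fun v => hV'.isLocalization_stalk ⟨v.1, hv' v⟩
  letI algLF : ∀ v : {v : V // h v = w},
      Algebra (V.presheaf.stalk v.1) (V.residueField (genericPoint V)) :=
    fun v => (Cyc.specMap v.1 (genericPoint V) (genericPoint_specializes _)).toAlgebra
  have hspV : ∀ (v : {v : V // h v = w}) (b : Γ(V, h ⁻¹ᵁ U)),
      Cyc.specMap v.1 (genericPoint V) (genericPoint_specializes _)
        (V.presheaf.germ (h ⁻¹ᵁ U) v.1 (hv' v) b) =
      (V.evaluation (h ⁻¹ᵁ U) (genericPoint V) hηV').hom b := by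
    intro v b
    unfold Cyc.specMap
    rw [CommRingCat.hom_comp, RingHom.comp_apply]
    have := TopCat.Presheaf.germ_stalkSpecializes_apply V.presheaf (hv' v)
      (genericPoint_specializes v.1) b
    rw [this]
    rfl
  haveI : ∀ v : {v : V // h v = w},
      IsScalarTower Γ(V, h ⁻¹ᵁ U) (V.presheaf.stalk v.1) (V.residueField (genericPoint V)) := by
    intro v
    refine IsScalarTower.of_algebraMap_eq fun b => ?_
    exact (hspV v b).symm
  let φ : ∀ v : {v : V // h v = w}, W.presheaf.stalk w →+* V.presheaf.stalk v.1 :=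
    fun v => stalkMapOfEq h v.1 w v.2
  have hφ : ∀ v, (φ v).comp (algebraMap Γ(W, U) (W.presheaf.stalk w)) =
      (algebraMap Γ(V, h ⁻¹ᵁ U) (V.presheaf.stalk v.1)).comp
        (algebraMap Γ(W, U) Γ(V, h ⁻¹ᵁ U)) := by
    intro v
    ext r
    change (h.stalkMap v.1).hom ((W.presheaf.stalkSpecializes (specializes_of_eq v.2)).hom
      (W.presheaf.germ U w hw r)) = V.presheaf.germ (h ⁻¹ᵁ U) v.1 (hv' v) ((h.app U).hom r)
    have h1 := TopCat.Presheaf.germ_stalkSpecializes_apply W.presheaf hw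
      (specializes_of_eq v.2) r
    rw [h1]
    exact Scheme.Hom.germ_stalkMap_apply h U v.1 _ r
  haveI : ∀ v, IsLocalHom (φ v) := fun v => inferInstanceAs (IsLocalHom (stalkMapOfEq h v.1 w v.2))
  have main := Groth.Agent.H48.NormAlg.ordFrac_norm_eq_finsum_primesOver'
    (R := Γ(W, U)) (B' := Γ(V, h ⁻¹ᵁ U)) (K := W.residueField (h (genericPoint V)))
    (F := V.residueField (genericPoint V))
    (O := W.presheaf.stalk w) (hU.primeIdealOf ⟨w, hw⟩).asIdeal q hq hqinj hqsurj
    (fun v => V.presheaf.stalk v.1) φ hφ hdim g hg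
  have hkerW : RingHom.ker (Cyc.specMap w (h (genericPoint V)) hsp) = ⊥ :=
    Groth.Agent.H48.DivPull.ker_specMap_eq_bot (h (genericPoint V)) w hgen hsp
  have stepa := Groth.Agent.H48.DivPull.ordAt_eq_ordFrac_stalk (h (genericPoint V)) w hsp hkerW
    (Cyc.normGen h (genericPoint V) g)
  rw [stepa]
  refine Eq.trans main ?_
  refine finsum_congr fun v => ?_
  have hkerV : RingHom.ker (Cyc.specMap v.1 (genericPoint V) (genericPoint_specializes _)) = ⊥ :=
    Groth.Agent.H48.DivPull.ker_specMap_eq_bot (genericPoint V) v.1 rfl _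
  have stepc := Groth.Agent.H48.DivPull.ordAt_eq_ordFrac_stalk (genericPoint V) v.1
    (genericPoint_specializes _) hkerV g
  have stepd := finrank_stalkMapOfEq h v.1 w v.2
  rw [stepd]
  congr 1
  exact stepc.symm

end Main

end Groth.Agent.H48.NormGeom
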