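import Mathlib
import Groth.Prelude.Def_Cyc
import Groth.Agent.H48.NormGeom
import Groth.Agent.H48.FiniteNhd
import Groth.Agent.H48.RatRestrict
import Groth.Agent.H54.DivZero

/-!
# Proper generically finite pushforward of a principal divisor (integral source and target):
`p_* div(f) = div(Nm f)`
-/

set_option autoImplicit false
set_option linter.unusedSectionVars false
set_option linter.style.haveILetI false
universe u

open AlgebraicGeometry CategoryTheory CategoryTheory.Limits TopologicalSpace Opposite Topology

namespace Groth.Agent.H48.NormPush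

section Integral

variable {V W : Scheme.{u}} [IsIntegral V] [IsIntegral W] [IsLocallyNoetherian V]
  [IsLocallyNoetherian W] (h : V ⟶ W) (δV : V → ℤ) (δW : W → ℤ)
  (hdV : Cyc.IsDimFun V δV) (hdW : Cyc.IsDimFun W δW) (hδ : Cyc.DeltaCompat h δV δW)
  (hgen : h (genericPoint V) = genericPoint W)
  (hη : δV (genericPoint V) = δW (genericPoint W))

include hdV hδ hη hgen in
/-- Points of the fibre over a point one step below the generic point are one step below the
generic point. -/
theorem delta_of_mem_fibre (w : W) (hw1 : δW w + 1 = δW (genericPoint W)) (v : V) (hv : h v = w) :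
    δV v + 1 = δV (genericPoint V) ∧ δV v = δW w := by
  have hne : genericPoint V ≠ v := by
    rintro rfl
    rw [hgen] at hv
    rw [← hv] at hw1
    omega
  have h2 := (hdV (genericPoint V) v (genericPoint_specializes v) hne).1
  obtain ⟨n, -, hδn⟩ := hδ v
  rw [hv] at hδn
  constructor <;> omega

include hdV hδ hη hgen in
theorem finite_fibre [QuasiCompact h] (w : W) (hw1 : δW w + 1 = δW (genericPoint W)) :
    (h ⁻¹' {w}).Finite := by
  obtain ⟨U, hU, hwU, -⟩ := exists_isAffineOpen_mem_and_subset (x := w) (U := ⊤) trivial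
  have hK : IsCompact ((h ⁻¹ᵁ U : V.Opens) : Set V) :=
    QuasiCompact.isCompact_preimage (f := h) _ U.2 hU.isCompact
  obtain ⟨s, hs, hsU⟩ :=
    (isCompact_and_isOpen_iff_finite_and_eq_biUnion_affineOpens (X := V)).mp ⟨hK, (h ⁻¹ᵁ U).2⟩
  let U₁ : V.Opens := ⟨(h ⁻¹' closure {w})ᶜ, (isClosed_closure.preimage h.continuous).isOpen_compl⟩
  have hηU₁ : genericPoint V ∈ U₁ := by
    change genericPoint V ∉ h ⁻¹' closure {w}
    intro hmem
    have h1 : w ⤳ h (genericPoint V) := specializes_iff_mem_closure.mpr hmem
    rw [hgen] at h1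
    have h2 : genericPoint W ⤳ w := genericPoint_specializes w
    have : w = genericPoint W := (h1.antisymm h2).eq
    rw [this] at hw1
    omega
  have hfin : (⋃ i ∈ s, {v : V | v ∈ (i : V.Opens) ∧ v ∉ U₁ ∧ genericPoint V ⤳ v ∧
      δV v + 1 = δV (genericPoint V)}).Finite :=
    hs.biUnion fun i _ =>
      Groth.Agent.H48.RatRestrict.finite_codimOne_off_open U₁ δV hdV i.1 i.2 (genericPoint V) hηU₁
  refine hfin.subset ?_
  intro v hv
  have hv' : h v = w := hv
  have hvU : v ∈ ((h ⁻¹ᵁ U : V.Opens) : Set V) := by
    change h v ∈ U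
    rw [hv']
    exact hwU
  rw [hsU] at hvU
  obtain ⟨i, his, hvi⟩ := Set.mem_iUnion₂.mp hvU
  refine Set.mem_biUnion his ⟨hvi, ?_, genericPoint_specializes v,
    (delta_of_mem_fibre h δV δW hdV hδ hgen hη w hw1 v hv').1⟩
  change ¬ v ∉ h ⁻¹' closure {w}
  rw [not_not]
  change h v ∈ closure {w}
  rw [hv']
  exact subset_closure rfl

include hdV hdW hδ hη hgen in
/-- Proper generically finite pushforward of a principal divisor, integral source and target. -/
theorem finsum_divFun_eq [IsProper h] (g : V.residueField (genericPoint V)) (hg : g ≠ 0)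
    (w : W) :
    ∑ᶠ v ∈ (h : V → W) ⁻¹' {w},
        Cyc.divFun δV (genericPoint V) g v * ((AlgebraicCycle.mapCoeff h δV δW v : ℕ) : ℤ) =
      Cyc.divFun δW (h (genericPoint V)) (Cyc.normGen h (genericPoint V) g) w := by
  have hδη : δV (genericPoint V) = δW (h (genericPoint V)) := by rw [hgen]; exact hη
  by_cases hw1 : δW w + 1 = δW (genericPoint W)
  · have hsp : h (genericPoint V) ⤳ w := hgen ▸ genericPoint_specializes w
    have hcond : h (genericPoint V) ⤳ w ∧ δW w + 1 = δW (h (genericPoint V)) :=
      ⟨hsp, hgen ▸ hw1⟩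
    have hfib := finite_fibre h δV δW hdV hδ hgen hη w hw1
    obtain ⟨U, hU, hwU, hV', hfin⟩ := Groth.Agent.H48.FiniteNhd.exists_affine_finite h w hfib
    have hco : Order.coheight w = 1 :=
      Groth.Agent.H54.DivZero.coheight_eq_one_of_dimFun δW hdW w hw1
    have hdim : Ring.KrullDimLE 1 (W.presheaf.stalk w) :=
      krullDimLE_of_coheight_le (by rw [hco]; rfl)
    have main := Groth.Agent.H48.NormGeom.ordAt_norm_eq_finsum_of_finite h U hU hV' hfin hgen
      w hwU hdim hsp g hg
    have hR : Cyc.divFun δW (h (genericPoint V)) (Cyc.normGen h (genericPoint V) g) w =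
        Cyc.ordAt w (h (genericPoint V)) hsp (Cyc.normGen h (genericPoint V) g) := by
      unfold Cyc.divFun
      rw [dif_pos hcond]
    rw [hR, main, finsum_subtype_eq_finsum_cond (p := fun v : V => h v = w)
      (f := fun v => (h.residueDegree v : ℤ) * Cyc.ordAt v (genericPoint V)
        (genericPoint_specializes _) g)]
    refine finsum_congr fun v => finsum_congr fun hv => ?_
    have hv' : h v = w := hv
    obtain ⟨hd1, hd2⟩ := delta_of_mem_fibre h δV δW hdV hδ hgen hη w hw1 v hv'
    have hL : Cyc.divFun δV (genericPoint V) g v =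
        Cyc.ordAt v (genericPoint V) (genericPoint_specializes _) g := by
      unfold Cyc.divFun
      rw [dif_pos ⟨genericPoint_specializes v, hd1⟩]
    have hM : AlgebraicCycle.mapCoeff h δV δW v = h.residueDegree v := by
      unfold AlgebraicCycle.mapCoeff
      rw [if_pos]
      change δV v = δW (h v)
      rw [hv', hd2]
    rw [hL, hM, mul_comm]
  · have hR : Cyc.divFun δW (h (genericPoint V)) (Cyc.normGen h (genericPoint V) g) w = 0 := by
      unfold Cyc.divFun
      rw [dif_neg]
      rintro ⟨-, h2⟩
      rw [hgen] at h2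
      exact hw1 h2
    rw [hR]
    refine finsum_mem_eq_zero_of_forall_eq_zero fun v hv => ?_
    have hv' : h v = w := hv
    by_cases hc : genericPoint V ⤳ v ∧ δV v + 1 = δV (genericPoint V)
    · have hM : AlgebraicCycle.mapCoeff h δV δW v = 0 := by
        unfold AlgebraicCycle.mapCoeff
        rw [if_neg]
        change ¬ δV v = δW (h v)
        rw [hv']
        intro h3
        apply hw1
        omega
      rw [hM]
      simp
    · have hL : Cyc.divFun δV (genericPoint V) g v = 0 := by
        unfold Cyc.divFun
        rw [dif_neg hc]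
      rw [hL, zero_mul]

end Integral

end Groth.Agent.H48.NormPush
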