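import Mathlib
import Groth.Prelude.Def_Cyc
import Groth.Agent.H48.NormPush
import Groth.Agent.H48.ClosedDim
import Groth.Agent.H22.CompLift
import Groth.Agent.H22.CompProper

/-!
# `p_* div(f) = div(Nm f)`: integral source, general target
-/

set_option autoImplicit false
set_option linter.unusedSectionVars false
set_option linter.style.haveILetI false
universe u

open AlgebraicGeometry CategoryTheory CategoryTheory.Limits TopologicalSpace Opposite Topology

namespace Groth.Agent.H48.NormPush

section Target

variable {V W X : Scheme.{u}}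

/-- The norm along `h ≫ i`, `i` a closed immersion, restricts to the norm along `h`. -/
theorem residueFieldMap_normGen_comp (i : W ⟶ X) [IsClosedImmersion i] (h : V ⟶ W) (v : V)
    (t : V.residueField v) :
    (i.residueFieldMap (h v)).hom (Cyc.normGen (h ≫ i) v t) = Cyc.normGen h v t := by
  unfold Cyc.normGen
  letI a1 : Algebra (X.residueField ((h ≫ i) v)) (V.residueField v) :=
    ((h ≫ i).residueFieldMap v).hom.toAlgebra
  letI a2 : Algebra (W.residueField (h v)) (V.residueField v) :=
    (h.residueFieldMap v).hom.toAlgebra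
  let e : X.residueField ((h ≫ i) v) ≃+* W.residueField (h v) :=
    RingEquiv.ofBijective (i.residueFieldMap (h v)).hom
      ⟨(i.residueFieldMap (h v)).hom.injective,
        Groth.Agent.H48.ClosedDim.residueFieldMap_surjective i (h v)⟩
  have he : (algebraMap (W.residueField (h v)) (V.residueField v)).comp (e : _ →+* _) =
      algebraMap (X.residueField ((h ≫ i) v)) (V.residueField v) := by
    change (h.residueFieldMap v).hom.comp (i.residueFieldMap (h v)).hom =
      ((h ≫ i).residueFieldMap v).hom
    rw [Scheme.residueFieldMap_comp]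
    rfl
  exact Algebra.norm_eq_of_ringEquiv e he t

variable [IsIntegral V] [IsIntegral W] [IsLocallyNoetherian V] [IsLocallyNoetherian X]

/-- Auxiliary form: `g` factors as `h ≫ i` with `i` a closed immersion from an integral scheme
whose generic point maps to `g η`. -/
theorem finsum_divFun_eq_aux (i : W ⟶ X) [IsClosedImmersion i] (h : V ⟶ W) (g : V ⟶ X)
    (hg : h ≫ i = g) [IsProper g] (δV : V → ℤ) (δ : X → ℤ)
    (hdV : Cyc.IsDimFun V δV) (hd : Cyc.IsDimFun X δ) (hδ : Cyc.DeltaCompat g δV δ)
    (hi : i (genericPoint W) = g (genericPoint V))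
    (hη : δV (genericPoint V) = δ (g (genericPoint V)))
    (t : V.residueField (genericPoint V)) (ht : t ≠ 0) (x : X) :
    ∑ᶠ v ∈ (g : V → X) ⁻¹' {x},
        Cyc.divFun δV (genericPoint V) t v * ((AlgebraicCycle.mapCoeff g δV δ v : ℕ) : ℤ) =
      Cyc.divFun δ (g (genericPoint V)) (Cyc.normGen g (genericPoint V) t) x := by
  subst hg
  haveI : IsLocallyNoetherian W := LocallyOfFiniteType.isLocallyNoetherian i
  haveI : IsProper h := IsProper.of_comp h i
  have hinj : Function.Injective i := i.isEmbedding.injective
  have hgen : h (genericPoint V) = genericPoint W := (hinj hi).symm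
  have hdW := Groth.Agent.H48.ClosedDim.isDimFun_comp i δ hd
  have hδW := Groth.Agent.H48.ClosedDim.deltaCompat_of_comp i h δV δ hδ
  have hηW : δV (genericPoint V) = δ (i (genericPoint W)) := by rw [hη, hi]
  by_cases hx : x ∈ Set.range i
  · obtain ⟨w, rfl⟩ := hx
    have hfib : ((h ≫ i : V ⟶ X) : V → X) ⁻¹' {i w} = (h : V → W) ⁻¹' {w} := by
      ext v
      simp only [Set.mem_preimage, Set.mem_singleton_iff]
      exact ⟨fun hv => hinj hv, fun hv => congrArg i hv⟩
    rw [hfib]
    have hR := Groth.Agent.H48.ClosedOrd.divFun_map_of_isClosedImmersion i δ (h (genericPoint V)) w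
      (Cyc.normGen (h ≫ i) (genericPoint V) t)
    rw [residueFieldMap_normGen_comp] at hR
    have main := finsum_divFun_eq h δV (fun w : W => δ (i w)) hdV hdW hδW hgen hηW t ht w
    refine Eq.trans ?_ (main.trans hR.symm)
    refine finsum_congr fun v => finsum_congr fun _ => ?_
    rw [Groth.Agent.H48.ClosedDim.mapCoeff_comp_right]
  · have hR := Groth.Agent.H48.ClosedOrd.divFun_eq_zero_of_notMem_range i δ (h (genericPoint V))
      (Cyc.normGen (h ≫ i) (genericPoint V) t) x hx
    refine Eq.trans ?_ hR.symm
    refine finsum_mem_eq_zero_of_forall_eq_zero fun v hv => ?_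
    exfalso
    exact hx ⟨h v, hv⟩

/-- `p_* div(f) = div(Nm f)`, integral source, general target. -/
theorem finsum_divFun_eq_of_integral (g : V ⟶ X) [IsProper g] (δV : V → ℤ) (δ : X → ℤ)
    (hdV : Cyc.IsDimFun V δV) (hd : Cyc.IsDimFun X δ) (hδ : Cyc.DeltaCompat g δV δ)
    (hη : δV (genericPoint V) = δ (g (genericPoint V)))
    (t : V.residueField (genericPoint V)) (ht : t ≠ 0) (x : X) :
    ∑ᶠ v ∈ (g : V → X) ⁻¹' {x},
        Cyc.divFun δV (genericPoint V) t v * ((AlgebraicCycle.mapCoeff g δV δ v : ℕ) : ℤ) =
      Cyc.divFun δ (g (genericPoint V)) (Cyc.normGen g (genericPoint V) t) x := by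
  let T : TopologicalSpace.Closeds X := ⟨closure {g (genericPoint V)}, isClosed_closure⟩
  have hT : IsIrreducible (T : Set X) := isIrreducible_singleton.closure
  haveI : IsIntegral (Scheme.IdealSheafData.vanishingIdeal T).subscheme :=
    Groth.Agent.H22.CompLift.isIntegral_subscheme_vanishingIdeal T hT
  have hrange : Set.range g ⊆ Set.range (Scheme.IdealSheafData.vanishingIdeal T).subschemeι := by
    rw [Groth.Agent.H22.CompLift.range_subschemeι_vanishingIdeal]
    rintro _ ⟨v, rfl⟩
    exact ((genericPoint_specializes v).map g.continuous).mem_closure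
  obtain ⟨h, hh⟩ := Groth.Agent.H22.CompProper.exists_lift_of_isReduced' g
    (Scheme.IdealSheafData.vanishingIdeal T).subschemeι hrange
  exact finsum_divFun_eq_aux _ h g hh δV δ hdV hd hδ
    (Groth.Agent.H22.CompLift.subschemeι_genericPoint T _ rfl) hη t ht x

end Target

end Groth.Agent.H48.NormPush
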