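import Mathlib
import Groth.Prelude.Def_Cyc
import Groth.Agent.H48.NormPush2
import Groth.Agent.H79.CycComp

/-!
# `p_* div(f) = div(Nm f)`: general source and target
-/

set_option autoImplicit false
set_option linter.unusedSectionVars false
set_option linter.style.haveILetI false
universe u

open AlgebraicGeometry CategoryTheory CategoryTheory.Limits TopologicalSpace Opposite Topology

namespace Groth.Agent.H48.NormPush

section Source

variable {V Y X : Scheme.{u}}

/-- The norm along `j ≫ f`, `j` a closed immersion, is the norm along `f`. -/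
theorem normGen_comp_closedImmersion (j : V ⟶ Y) [IsClosedImmersion j] (f : Y ⟶ X) (v : V)
    (g : Y.residueField (j v)) :
    Cyc.normGen (j ≫ f) v ((j.residueFieldMap v).hom g) = Cyc.normGen f (j v) g := by
  unfold Cyc.normGen
  letI a1 : Algebra (X.residueField (f (j v))) (V.residueField v) :=
    ((j ≫ f).residueFieldMap v).hom.toAlgebra
  letI a2 : Algebra (X.residueField (f (j v))) (Y.residueField (j v)) :=
    (f.residueFieldMap (j v)).hom.toAlgebra
  have hcomp : ((j ≫ f).residueFieldMap v).hom =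
      (j.residueFieldMap v).hom.comp (f.residueFieldMap (j v)).hom := by
    rw [Scheme.residueFieldMap_comp]
    rfl
  let e0 : Y.residueField (j v) ≃+* V.residueField v :=
    RingEquiv.ofBijective (j.residueFieldMap v).hom
      ⟨(j.residueFieldMap v).hom.injective,
        Groth.Agent.H48.ClosedDim.residueFieldMap_surjective j v⟩
  let e : Y.residueField (j v) ≃ₐ[X.residueField (f (j v))] V.residueField v :=
    { e0 with
      commutes' := fun a => by
        change (j.residueFieldMap v).hom ((f.residueFieldMap (j v)).hom a) =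
          ((j ≫ f).residueFieldMap v).hom a
        rw [hcomp]
        rfl }
  exact Algebra.norm_eq_of_algEquiv e g

variable [IsLocallyNoetherian Y] [IsLocallyNoetherian X]

/-- Auxiliary form: `y` is the image of the generic point of an integral closed subscheme. -/
theorem finsum_divFun_eq_aux' [IsIntegral V] (j : V ⟶ Y) [IsClosedImmersion j] (f : Y ⟶ X)
    [IsProper f] (δY : Y → ℤ) (δ : X → ℤ)
    (hdY : Cyc.IsDimFun Y δY) (hd : Cyc.IsDimFun X δ) (hδ : Cyc.DeltaCompat f δY δ)
    (y : Y) (hj : j (genericPoint V) = y) (hη : δY y = δ (f y))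
    (g : Y.residueField y) (hg : g ≠ 0) (x : X) :
    ∑ᶠ y' ∈ (f : Y → X) ⁻¹' {x},
        Cyc.divFun δY y g y' * ((AlgebraicCycle.mapCoeff f δY δ y' : ℕ) : ℤ) =
      Cyc.divFun δ (f y) (Cyc.normGen f y g) x := by
  subst hj
  haveI : IsLocallyNoetherian V := LocallyOfFiniteType.isLocallyNoetherian j
  have hinj : Function.Injective j := j.isEmbedding.injective
  have hdV := Groth.Agent.H48.ClosedDim.isDimFun_comp j δY hdY
  have hδg : Cyc.DeltaCompat (j ≫ f) (fun v : V => δY (j v)) δ :=
    Groth.Agent.H79.CycComp.deltaCompat_comp j f _ δY δ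
      (Groth.Agent.H48.ClosedDim.deltaCompat j δY) hδ
  have hg' : (j.residueFieldMap (genericPoint V)).hom g ≠ 0 := (map_ne_zero _).mpr hg
  have main := finsum_divFun_eq_of_integral (j ≫ f) (fun v : V => δY (j v)) δ hdV hd hδg hη
    ((j.residueFieldMap (genericPoint V)).hom g) hg' x
  rw [normGen_comp_closedImmersion] at main
  refine Eq.trans ?_ main
  set F : Y → ℤ := fun y' => Cyc.divFun δY (j (genericPoint V)) g y' *
      ((AlgebraicCycle.mapCoeff f δY δ y' : ℕ) : ℤ) with hF
  have hsupp : Function.support F ⊆ Set.range j := by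
    intro y' hy'
    by_contra hnot
    apply hy'
    simp only [hF]
    rw [Groth.Agent.H48.ClosedOrd.divFun_eq_zero_of_notMem_range j δY _ _ y' hnot, zero_mul]
  have h1 : ∑ᶠ y' ∈ (f : Y → X) ⁻¹' {x}, F y' =
      ∑ᶠ y' ∈ j '' (((j ≫ f : V ⟶ X) : V → X) ⁻¹' {x}), F y' := by
    apply finsum_mem_inter_support_eq
    ext y'
    constructor
    · rintro ⟨h1, h2⟩
      obtain ⟨v, rfl⟩ := hsupp h2
      exact ⟨⟨v, h1, rfl⟩, h2⟩
    · rintro ⟨⟨v, h1, rfl⟩, h2⟩
      exact ⟨h1, h2⟩
  rw [h1, finsum_mem_image hinj.injOn]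
  refine finsum_congr fun v => finsum_congr fun _ => ?_
  simp only [hF]
  rw [Groth.Agent.H48.ClosedOrd.divFun_map_of_isClosedImmersion j δY,
    Groth.Agent.H48.ClosedDim.mapCoeff_comp_left]

/-- **Proper pushforward of a principal divisor, generically finite case.** If `f : Y ⟶ X` is
proper and `δY y = δ (f y)`, then `f_* div_y(g) = div_{f y}(Nm g)` for `g ∈ κ(y)^*`. -/
theorem finsum_divFun_eq_general (f : Y ⟶ X)
    [IsProper f] (δY : Y → ℤ) (δ : X → ℤ)
    (hdY : Cyc.IsDimFun Y δY) (hd : Cyc.IsDimFun X δ) (hδ : Cyc.DeltaCompat f δY δ)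
    (y : Y) (hη : δY y = δ (f y)) (g : Y.residueField y) (hg : g ≠ 0) (x : X) :
    ∑ᶠ y' ∈ (f : Y → X) ⁻¹' {x},
        Cyc.divFun δY y g y' * ((AlgebraicCycle.mapCoeff f δY δ y' : ℕ) : ℤ) =
      Cyc.divFun δ (f y) (Cyc.normGen f y g) x := by
  let T : TopologicalSpace.Closeds Y := ⟨closure {y}, isClosed_closure⟩
  have hT : IsIrreducible (T : Set Y) := isIrreducible_singleton.closure
  haveI : IsIntegral (Scheme.IdealSheafData.vanishingIdeal T).subscheme :=
    Groth.Agent.H22.CompLift.isIntegral_subscheme_vanishingIdeal T hT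
  exact finsum_divFun_eq_aux' (Scheme.IdealSheafData.vanishingIdeal T).subschemeι f δY δ hdY hd hδ y
    (Groth.Agent.H22.CompLift.subschemeι_genericPoint T y rfl) hη g hg x

end Source

end Groth.Agent.H48.NormPush
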