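import Mathlib
import Groth.Prelude.Def_Cyc
import Groth.Agent.H48.CurveDegGraph
import Groth.Agent.H48.DivLocFin
import Groth.Agent.H48.BiratPush3
import Groth.Agent.H48.NormPush3
import Groth.Agent.H48.RelDelta
import Groth.Agent.H48.CycPush
import Groth.Agent.H48.EnvelopeKer3
import Groth.Agent.H48.EnvelopeSurj
import Groth.Agent.H54.SecOrdGen

/-!
# The degree of the divisor of a transcendental function on a proper `K`-scheme equals a multiple
of the degree of the divisor of the coordinate on the line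
-/

set_option autoImplicit false
set_option linter.unusedSectionVars false
set_option linter.style.haveILetI false
universe u

open AlgebraicGeometry CategoryTheory CategoryTheory.Limits TopologicalSpace Opposite Topology

namespace Groth.Agent.H48.CurveDeg

section Cycle

variable {X : Scheme.{u}} [IsLocallyNoetherian X] (δ : X → ℤ) (hδ : Cyc.IsDimFun X δ)

/-- The principal divisor of a nonzero function on `closure {ξ}`, as an algebraic cycle. -/
noncomputable def divCycle (ξ : X) (g : X.residueField ξ) (hg : g ≠ 0) : AlgebraicCycle X ℤ :=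
  ⟨Cyc.divFun δ ξ g, fun _ _ => Set.mem_univ _, fun z _ => by
    obtain ⟨t, ht, hfin⟩ := Groth.Agent.H48.DivLocFin.iUnion_support_divFun_locallyFinite δ hδ
      (I := PUnit.{u+1}) (fun _ => ξ) (fun _ => g) (fun _ => hg)
      (fun x => ⟨Set.univ, isOpen_univ, Set.mem_univ _, Set.toFinite _⟩) z
    refine ⟨t, ht, hfin.subset ?_⟩
    rintro x ⟨hxt, hx⟩
    exact ⟨hxt, Set.mem_iUnion.mpr ⟨PUnit.unit, hx⟩⟩⟩

@[simp] theorem divCycle_apply (ξ : X) (g : X.residueField ξ) (hg : g ≠ 0) (x : X) :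
    divCycle δ hδ ξ g hg x = Cyc.divFun δ ξ g x := rfl

end Cycle

section Congr

variable {X Y : Scheme.{u}}

theorem map_congr_hom (f g : X ⟶ Y) [QuasiCompact f] [QuasiCompact g] (h : f = g)
    (δX : X → ℤ) (δY : Y → ℤ) (α : AlgebraicCycle X ℤ) :
    AlgebraicCycle.map f δX δY α = AlgebraicCycle.map g δX δY α := by
  subst h
  rfl

variable {K : Type u} [Field K]

theorem delta_congr_hom (f g : X ⟶ Spec (CommRingCat.of K)) [LocallyOfFiniteType f]
    [LocallyOfFiniteType g] (h : f = g) : FieldDim.δ f = FieldDim.δ g := by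
  subst h
  rfl

theorem tAt_congr {P : Scheme.{u}} (ι₀ : Spec (CommRingCat.of (Polynomial K)) ⟶ P)
    [IsOpenImmersion ι₀] (z z' : P) (e : z = z') (hz : z ∈ U₀ ι₀) (hz' : z' ∈ U₀ ι₀) :
    (P.residueFieldCongr e).hom (tAt ι₀ z hz) = tAt ι₀ z' hz' := by
  subst e
  rw [Scheme.residueFieldCongr_refl]
  rfl

theorem divFun_pow {X : Scheme.{u}} (δ : X → ℤ) (ξ : X) (t : X.residueField ξ) (ht : t ≠ 0)
    (d : ℕ) (x : X) : Cyc.divFun δ ξ (t ^ d) x = (d : ℤ) * Cyc.divFun δ ξ t x := by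
  unfold Cyc.divFun
  by_cases hc : ξ ⤳ x ∧ δ x + 1 = δ ξ
  · rw [dif_pos hc, dif_pos hc]
    exact Groth.Agent.H54.SecOrdGen.ordFrac_pow _ _ ht d
  · rw [dif_neg hc, dif_neg hc, mul_zero]

theorem divFun_inv {X : Scheme.{u}} (δ : X → ℤ) (ξ : X) (t : X.residueField ξ) (ht : t ≠ 0)
    (x : X) : Cyc.divFun δ ξ t⁻¹ x = - Cyc.divFun δ ξ t x := by
  unfold Cyc.divFun
  by_cases hc : ξ ⤳ x ∧ δ x + 1 = δ ξ
  · rw [dif_pos hc, dif_pos hc]
    exact Groth.Agent.H54.SecOrdGen.ordFrac_inv _ _ ht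
  · rw [dif_neg hc, dif_neg hc, neg_zero]

theorem divFun_mul {X : Scheme.{u}} (δ : X → ℤ) (ξ : X) (s t : X.residueField ξ) (hs : s ≠ 0)
    (ht : t ≠ 0) (x : X) :
    Cyc.divFun δ ξ (s * t) x = Cyc.divFun δ ξ s x + Cyc.divFun δ ξ t x := by
  unfold Cyc.divFun
  by_cases hc : ξ ⤳ x ∧ δ x + 1 = δ ξ
  · rw [dif_pos hc, dif_pos hc, dif_pos hc]
    exact Groth.Agent.H54.SecOrdGen.ordFrac_mul _ _ hs ht
  · rw [dif_neg hc, dif_neg hc, dif_neg hc, add_zero]

end Congr

section Main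

variable {K : Type u} [Field K] {X P : Scheme.{u}} (c : X ⟶ Spec (CommRingCat.of K)) [IsProper c]
  (cP : P ⟶ Spec (CommRingCat.of K)) [IsProper cP]
  (ι₀ : Spec (CommRingCat.of (Polynomial K)) ⟶ P) [IsOpenImmersion ι₀]
  (hι₀ : ι₀ ≫ cP = Spec.map (CommRingCat.ofHom (Polynomial.C : K →+* Polynomial K)))
  [IsLocallyNoetherian X] [IsLocallyNoetherian P]

theorem ne_zero_of_injective_eval₂ (x₁ : X) (f : X.residueField x₁)
    (htr : Function.Injective (Polynomial.eval₂RingHom (ρ c x₁) f)) : f ≠ 0 := by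
  rintro rfl
  have h : Polynomial.eval₂RingHom (ρ c x₁) 0 (Polynomial.X : Polynomial K) =
      Polynomial.eval₂RingHom (ρ c x₁) 0 (0 : Polynomial K) := by simp
  exact Polynomial.X_ne_zero (htr h)

/-- The generic point of the line has `δ ≥ 1`. -/
theorem one_le_delta_pt₀ : 1 ≤ FieldDim.δ cP (ι₀ pt₀) := by
  let m : Spec (CommRingCat.of (Polynomial K)) :=
    ⟨Ideal.span {(Polynomial.X : Polynomial K)}, by
      rw [Ideal.span_singleton_prime Polynomial.X_ne_zero]
      exact Polynomial.prime_X⟩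
  have hsp : (pt₀ : Spec (CommRingCat.of (Polynomial K))) ⤳ m := by
    refine (PrimeSpectrum.le_iff_specializes (R := Polynomial K) ⟨⊥, Ideal.isPrime_bot⟩
      ⟨Ideal.span {(Polynomial.X : Polynomial K)}, m.2⟩).mp ?_
    change (⊥ : Ideal (Polynomial K)) ≤ _
    exact bot_le
  have hne : ι₀ pt₀ ≠ ι₀ m := by
    intro h
    have h2 : (pt₀ : Spec (CommRingCat.of (Polynomial K))) = m :=
      ι₀.isOpenEmbedding.injective h
    have h3 : (⊥ : Ideal (Polynomial K)) = Ideal.span {(Polynomial.X : Polynomial K)} :=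
      congrArg PrimeSpectrum.asIdeal h2
    have h4 : (Polynomial.X : Polynomial K) ∈ (⊥ : Ideal (Polynomial K)) := by
      rw [h3]; exact Ideal.mem_span_singleton_self _
    exact Polynomial.X_ne_zero ((Ideal.mem_bot).mp h4)
  have h1 := (FieldDim.isDimFun cP (ι₀ pt₀) (ι₀ m) (hsp.map ι₀.continuous) hne).1
  have h2 := FieldDim.delta_nonneg cP (ι₀ m)
  omega

include hι₀ in
/-- **Main comparison.** For a point `x₁` of `X` with `δ x₁ ≤ δ (generic point of the line)` and `f ∈ κ(x₁)` transcendental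
over `K`, the degree of `div_{x₁}(f)` is a natural multiple of the degree of the divisor of the
coordinate of the line. -/
theorem exists_map_divCycle_eq (x₁ : X) (hx₁ : FieldDim.δ c x₁ ≤ FieldDim.δ cP (ι₀ pt₀))
    (f : X.residueField x₁)
    (hf : f ≠ 0) (htr : Function.Injective (Polynomial.eval₂RingHom (ρ c x₁) f))
    (ht₀ : tAt ι₀ (ι₀ pt₀) (mem_U₀ ι₀ pt₀) ≠ 0) :
    ∃ d : ℕ, ∀ s : Spec (CommRingCat.of K),
      AlgebraicCycle.map c (FieldDim.δ c) (fun _ => (0 : ℤ))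
          (divCycle (FieldDim.δ c) (FieldDim.isDimFun c) x₁ f hf) s =
        (d : ℤ) * AlgebraicCycle.map cP (FieldDim.δ cP) (fun _ => (0 : ℤ))
          (divCycle (FieldDim.δ cP) (FieldDim.isDimFun cP) (ι₀ pt₀)
            (tAt ι₀ (ι₀ pt₀) (mem_U₀ ι₀ pt₀)) ht₀) s := by
  obtain ⟨y, e, hsurj, hsnd, hmem, hres⟩ := exists_graph_point c cP ι₀ hι₀ x₁ f htr
  haveI : IsLocallyNoetherian (pullback c cP) :=
    LocallyOfFiniteType.isLocallyNoetherian (pullback.fst c cP ≫ c)
  set fst := pullback.fst c cP with hfst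
  set snd := pullback.snd c cP with hsnd'
  set δX := FieldDim.δ c with hδX
  set δP := FieldDim.δ cP with hδP
  set δZ := FieldDim.δ (fst ≫ c) with hδZ
  have hdX : Cyc.IsDimFun X δX := FieldDim.isDimFun c
  have hdP : Cyc.IsDimFun P δP := FieldDim.isDimFun cP
  have hdZ : Cyc.IsDimFun (pullback c cP) δZ := FieldDim.isDimFun (fst ≫ c)
  have hcf : Cyc.DeltaCompat fst δZ δX := RelDelta.deltaCompat_comp c fst
  have hcs : Cyc.DeltaCompat snd δZ δP := by
    have h1 : δZ = FieldDim.δ (snd ≫ cP) := delta_congr_hom _ _ pullback.condition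
    rw [h1]
    exact RelDelta.deltaCompat_comp cP snd
  have hcX : Cyc.DeltaCompat c δX (fun _ => (0 : ℤ)) := FieldDim.deltaCompat c
  have hcP : Cyc.DeltaCompat cP δP (fun _ => (0 : ℤ)) := FieldDim.deltaCompat cP
  -- the function on the graph point
  obtain ⟨r, hr⟩ : ∃ r : X.residueField (fst y), r = (X.residueFieldCongr e.symm).hom f :=
    ⟨_, rfl⟩
  have hr0 : r ≠ 0 := by rw [hr]; exact (map_ne_zero _).mpr hf
  obtain ⟨g, hg⟩ : ∃ g : (pullback c cP).residueField y, g = (fst.residueFieldMap y).hom r :=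
    ⟨_, rfl⟩
  have hg0 : g ≠ 0 := by rw [hg]; exact (map_ne_zero _).mpr hr0
  have hres' : (snd.residueFieldMap y).hom (tAt ι₀ (snd y) hmem) = g := by
    rw [hg, hr]; exact hres
  have ht1 : tAt ι₀ (snd y) hmem ≠ 0 := by
    intro h0
    rw [h0, map_zero] at hres'
    exact hg0 hres'.symm
  let D := divCycle δZ hdZ y g hg0
  -- pushforward to `X`
  have h1 : AlgebraicCycle.map fst δZ δX D = divCycle δX hdX x₁ f hf := by
    ext x
    simp only [AlgebraicCycle.map, Function.locallyFinsupp.map_apply]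
    have hB := BiratPush.finsum_divFun_eq_general fst δZ δX hdZ hdX hcf y hsurj r hr0 x
    rw [divCycle_apply, ← EnvelopeKer.divFun_residueFieldCongr δX x₁ (fst y) e.symm f, ← hr,
      ← hB]
    refine finsum_mem_congr rfl fun y' _ => ?_
    rw [divCycle_apply, hg]
  -- pushforward to `P`
  have hδy : δZ y = δP (snd y) := by
    obtain ⟨n, hn, hδn⟩ := hcf y
    have h0 := EnvelopeSurj.trdeg_eq_zero_of_surjective fst y hsurj
    rw [h0] at hn
    have hn0 : n = 0 := by exact_mod_cast hn.symm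
    obtain ⟨m, hm, hδm⟩ := hcs y
    have h1 : δZ y = δX x₁ := by rw [hδn, hn0, e]; simp
    have h2 : δX x₁ ≤ δP (snd y) := by rw [hsnd]; exact hx₁
    omega
  letI alg : Algebra (P.residueField (snd y)) ((pullback c cP).residueField y) :=
    (snd.residueFieldMap y).hom.toAlgebra
  obtain ⟨d, hd⟩ : ∃ d : ℕ, d = Module.finrank (P.residueField (snd y))
    ((pullback c cP).residueField y) := ⟨_, rfl⟩
  have hnorm : Cyc.normGen snd y g = (tAt ι₀ (snd y) hmem) ^ d := by
    rw [← hres', hd]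
    exact Algebra.norm_algebraMap _
  have h2 : ∀ p, AlgebraicCycle.map snd δZ δP D p = (d : ℤ) *
      divCycle δP hdP (ι₀ pt₀) (tAt ι₀ (ι₀ pt₀) (mem_U₀ ι₀ pt₀)) ht₀ p := by
    intro p
    simp only [AlgebraicCycle.map, Function.locallyFinsupp.map_apply]
    have hN := NormPush.finsum_divFun_eq_general snd δZ δP hdZ hdP hcs y hδy g hg0 p
    rw [hnorm, divFun_pow δP _ _ ht1 d p] at hN
    rw [divCycle_apply, ← tAt_congr ι₀ (snd y) (ι₀ pt₀) hsnd hmem (mem_U₀ ι₀ pt₀),
      EnvelopeKer.divFun_residueFieldCongr δP (snd y) (ι₀ pt₀) hsnd, ← hN]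
    refine finsum_mem_congr rfl fun y' _ => ?_
    rw [divCycle_apply]
  have hm1 : AlgebraicCycle.map c δX (fun _ => (0 : ℤ)) (AlgebraicCycle.map fst δZ δX D) =
      AlgebraicCycle.map (fst ≫ c) δZ (fun _ => (0 : ℤ)) D :=
    CycPush.map_map fst c δZ δX (fun _ => (0 : ℤ))
      (fun x => CycPush.mapCoeff_comp fst c δZ δX _ hcf hcX x) D
  have hm2 : AlgebraicCycle.map cP δP (fun _ => (0 : ℤ)) (AlgebraicCycle.map snd δZ δP D) =
      AlgebraicCycle.map (snd ≫ cP) δZ (fun _ => (0 : ℤ)) D :=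
    CycPush.map_map snd cP δZ δP (fun _ => (0 : ℤ))
      (fun x => CycPush.mapCoeff_comp snd cP δZ δP _ hcs hcP x) D
  have hm3 : AlgebraicCycle.map (fst ≫ c) δZ (fun _ => (0 : ℤ)) D =
      AlgebraicCycle.map (snd ≫ cP) δZ (fun _ => (0 : ℤ)) D :=
    map_congr_hom _ _ pullback.condition _ _ _
  refine ⟨d, fun s => ?_⟩
  rw [← h1, hm1, hm3, ← hm2]
  change ∑ᶠ p ∈ (cP : P → _) ⁻¹' {s}, AlgebraicCycle.map snd δZ δP D p * _ =
    (d : ℤ) * ∑ᶠ p ∈ (cP : P → _) ⁻¹' {s}, _ * _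
  rw [mul_finsum_mem]
  refine finsum_mem_congr rfl fun p _ => ?_
  rw [h2 p, mul_assoc]

end Main

end Groth.Agent.H48.CurveDeg
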