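import Mathlib
import Groth.Prelude.Def_Cyc
import Groth.Agent.H48.CurveDegMain

/-!
# The degree of the divisor of the coordinate on a proper line is zero (symmetry trick), hence the
degree of the divisor of any transcendental function on a proper `K`-scheme is zero
-/

set_option autoImplicit false
set_option linter.unusedSectionVars false
set_option linter.style.haveILetI false
universe u

open AlgebraicGeometry CategoryTheory CategoryTheory.Limits TopologicalSpace Opposite Topology

namespace Groth.Agent.H48.CurveDeg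

section Alg

variable {K L : Type u} [Field K] [Field L]

theorem injective_eval₂_iff_transcendental (ρ : K →+* L) (t : L) :
    Function.Injective (Polynomial.eval₂RingHom ρ t) ↔
      (letI := ρ.toAlgebra; Transcendental K t) := by
  letI := ρ.toAlgebra
  rw [transcendental_iff_injective]
  have h : (⇑(Polynomial.eval₂RingHom ρ t) : Polynomial K → L) = ⇑(Polynomial.aeval t) := by
    funext p
    rw [Polynomial.aeval_def]
    rfl
  rw [h]

theorem injective_eval₂_inv (ρ : K →+* L) (t : L)
    (h : Function.Injective (Polynomial.eval₂RingHom ρ t)) :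
    Function.Injective (Polynomial.eval₂RingHom ρ t⁻¹) := by
  rw [injective_eval₂_iff_transcendental] at h ⊢
  letI := ρ.toAlgebra
  intro halg
  exact h (IsAlgebraic.inv_iff.mp halg)

end Alg

section Pt

variable {K : Type u} [Field K] {X : Scheme.{u}} (c : X ⟶ Spec (CommRingCat.of K))

theorem desc_comp_ρ (L : Type u) [Field L] (T : Spec (CommRingCat.of L) ⟶ X) :
    (Scheme.descResidueField (Scheme.stalkClosedPointTo T)).hom.comp
      (ρ c (T (IsLocalRing.closedPoint L))) = (Spec.preimage (T ≫ c)).hom := by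
  have h : CommRingCat.ofHom (ρ c (T (IsLocalRing.closedPoint L))) ≫
      Scheme.descResidueField (Scheme.stalkClosedPointTo T) = Spec.preimage (T ≫ c) := by
    apply Spec.map_injective
    rw [Spec.map_comp, specMap_ρ, Spec.map_preimage, ← Category.assoc,
      Scheme.descResidueField_stalkClosedPointTo_fromSpecResidueField]
  exact congrArg CommRingCat.Hom.hom h

theorem injective_eval₂_congr (z z' : X) (e : z = z') (t : X.residueField z)
    (h : Function.Injective (Polynomial.eval₂RingHom (ρ c z) t)) :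
    Function.Injective (Polynomial.eval₂RingHom (ρ c z') ((X.residueFieldCongr e).hom t)) := by
  subst e
  rw [Scheme.residueFieldCongr_refl]
  exact h

end Pt

section Line

variable {K : Type u} [Field K] {P : Scheme.{u}}
  (cP : P ⟶ Spec (CommRingCat.of K))
  (ι₀ : Spec (CommRingCat.of (Polynomial K)) ⟶ P) [IsOpenImmersion ι₀]
  (hι₀ : ι₀ ≫ cP = Spec.map (CommRingCat.ofHom (Polynomial.C : K →+* Polynomial K)))

include hι₀ in
theorem injective_eval₂_tAt_of_point (L : Type u) [Field L] (χ : Polynomial K →+* L)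
    (hχ : Function.Injective χ)
    (hz : (Spec.map (CommRingCat.ofHom χ) ≫ ι₀) (IsLocalRing.closedPoint L) ∈ U₀ ι₀) :
    Function.Injective (Polynomial.eval₂RingHom
      (ρ cP ((Spec.map (CommRingCat.ofHom χ) ≫ ι₀) (IsLocalRing.closedPoint L)))
      (tAt ι₀ _ hz)) := by
  set T := Spec.map (CommRingCat.ofHom χ) ≫ ι₀ with hT
  have hcomp : (Scheme.descResidueField (Scheme.stalkClosedPointTo T)).hom.comp
      (Polynomial.eval₂RingHom (ρ cP (T (IsLocalRing.closedPoint L))) (tAt ι₀ _ hz)) = χ := by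
    apply Polynomial.ringHom_ext
    · intro k
      have h1 := congrArg (fun φ : K →+* L => φ k) (desc_comp_ρ cP L T)
      simp only [RingHom.comp_apply] at h1
      simp only [RingHom.comp_apply, Polynomial.coe_eval₂RingHom, Polynomial.eval₂_C]
      rw [h1]
      have h2 : T ≫ cP = Spec.map (CommRingCat.ofHom (Polynomial.C : K →+* Polynomial K) ≫
          CommRingCat.ofHom χ) := by
        rw [hT, Category.assoc, hι₀, ← Spec.map_comp]
      have h3 : Spec.preimage (T ≫ cP) = CommRingCat.ofHom (Polynomial.C : K →+* Polynomial K) ≫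
          CommRingCat.ofHom χ := by
        apply Spec.map_injective
        rw [Spec.map_preimage, h2]
      rw [h3]
      rfl
    · simp only [RingHom.comp_apply, Polynomial.coe_eval₂RingHom, Polynomial.eval₂_X]
      exact desc_tAt ι₀ L χ hz
  have hinj : Function.Injective ((Scheme.descResidueField (Scheme.stalkClosedPointTo T)).hom.comp
      (Polynomial.eval₂RingHom (ρ cP (T (IsLocalRing.closedPoint L))) (tAt ι₀ _ hz))) := by
    rw [hcomp]; exact hχ
  exact Function.Injective.of_comp hinj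

include hι₀ in
/-- The coordinate is transcendental over `K` at the generic point of the line. -/
theorem injective_eval₂_tAt :
    Function.Injective (Polynomial.eval₂RingHom (ρ cP (ι₀ pt₀))
      (tAt ι₀ (ι₀ pt₀) (mem_U₀ ι₀ pt₀))) := by
  let L := FractionRing (Polynomial K)
  let χ : Polynomial K →+* L := algebraMap (Polynomial K) L
  have hχ : Function.Injective χ := IsFractionRing.injective (Polynomial K) L
  have hpt : (Spec.map (CommRingCat.ofHom χ) ≫ ι₀) (IsLocalRing.closedPoint L) = ι₀ pt₀ := by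
    change ι₀ ((Spec.map (CommRingCat.ofHom χ)) (IsLocalRing.closedPoint L)) = ι₀ pt₀
    congr 1
    apply PrimeSpectrum.ext
    change Ideal.comap χ (IsLocalRing.maximalIdeal L) = ⊥
    rw [IsLocalRing.maximalIdeal_eq_bot, ← RingHom.ker_eq_comap_bot]
    exact (RingHom.injective_iff_ker_eq_bot χ).mp hχ
  have hz : (Spec.map (CommRingCat.ofHom χ) ≫ ι₀) (IsLocalRing.closedPoint L) ∈ U₀ ι₀ := by
    rw [hpt]; exact mem_U₀ ι₀ _
  have h1 := injective_eval₂_tAt_of_point cP ι₀ hι₀ L χ hχ hz
  have h2 := injective_eval₂_congr cP _ _ hpt _ h1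
  rw [tAt_congr ι₀ _ _ hpt hz (mem_U₀ ι₀ pt₀)] at h2
  exact h2

variable [IsProper cP] [IsLocallyNoetherian P]

include hι₀ in
theorem tAt_ne_zero : tAt ι₀ (ι₀ pt₀) (mem_U₀ ι₀ pt₀) ≠ 0 :=
  ne_zero_of_injective_eval₂ cP _ _ (injective_eval₂_tAt cP ι₀ hι₀)

include hι₀ in
/-- **Symmetry trick.** The degree of the divisor of the coordinate of a proper line is zero. -/
theorem map_divCycle_tAt_eq_zero (s : Spec (CommRingCat.of K)) :
    AlgebraicCycle.map cP (FieldDim.δ cP) (fun _ => (0 : ℤ))
      (divCycle (FieldDim.δ cP) (FieldDim.isDimFun cP) (ι₀ pt₀)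
        (tAt ι₀ (ι₀ pt₀) (mem_U₀ ι₀ pt₀)) (tAt_ne_zero cP ι₀ hι₀)) s = 0 := by
  have ht₀ := tAt_ne_zero cP ι₀ hι₀
  have htr := injective_eval₂_tAt cP ι₀ hι₀
  have htr' := injective_eval₂_inv _ _ htr
  obtain ⟨d, hd⟩ := exists_map_divCycle_eq cP cP ι₀ hι₀ (ι₀ pt₀) le_rfl
    (tAt ι₀ (ι₀ pt₀) (mem_U₀ ι₀ pt₀))⁻¹ (inv_ne_zero ht₀) htr' ht₀
  have h1 := hd s
  have h2 : AlgebraicCycle.map cP (FieldDim.δ cP) (fun _ => (0 : ℤ))
      (divCycle (FieldDim.δ cP) (FieldDim.isDimFun cP) (ι₀ pt₀)
        (tAt ι₀ (ι₀ pt₀) (mem_U₀ ι₀ pt₀))⁻¹ (inv_ne_zero ht₀)) s =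
      - AlgebraicCycle.map cP (FieldDim.δ cP) (fun _ => (0 : ℤ))
      (divCycle (FieldDim.δ cP) (FieldDim.isDimFun cP) (ι₀ pt₀)
        (tAt ι₀ (ι₀ pt₀) (mem_U₀ ι₀ pt₀)) ht₀) s := by
    simp only [AlgebraicCycle.map, Function.locallyFinsupp.map_apply]
    rw [← neg_one_mul, mul_finsum_mem]
    refine finsum_mem_congr rfl fun p _ => ?_
    rw [divCycle_apply, divCycle_apply, divFun_inv _ _ _ ht₀, neg_mul, neg_one_mul]
  rw [h2] at h1
  have h3 : ((d : ℤ) + 1) * AlgebraicCycle.map cP (FieldDim.δ cP) (fun _ => (0 : ℤ))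
      (divCycle (FieldDim.δ cP) (FieldDim.isDimFun cP) (ι₀ pt₀)
        (tAt ι₀ (ι₀ pt₀) (mem_U₀ ι₀ pt₀)) ht₀) s = 0 := by linarith
  rcases mul_eq_zero.mp h3 with h | h
  · omega
  · exact h

include hι₀ in
/-- The degree of the divisor of a transcendental function on a one-dimensional point of a proper
`K`-scheme is zero, provided a proper line over `K` exists. -/
theorem map_divCycle_eq_zero_of_injective {X : Scheme.{u}} (c : X ⟶ Spec (CommRingCat.of K))
    [IsProper c] [IsLocallyNoetherian X] (x₁ : X)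
    (hx₁ : FieldDim.δ c x₁ ≤ 1) (f : X.residueField x₁) (hf : f ≠ 0)
    (htr : Function.Injective (Polynomial.eval₂RingHom (ρ c x₁) f))
    (s : Spec (CommRingCat.of K)) :
    AlgebraicCycle.map c (FieldDim.δ c) (fun _ => (0 : ℤ))
      (divCycle (FieldDim.δ c) (FieldDim.isDimFun c) x₁ f hf) s = 0 := by
  obtain ⟨d, hd⟩ := exists_map_divCycle_eq c cP ι₀ hι₀ x₁
    (hx₁.trans (one_le_delta_pt₀ cP ι₀)) f hf htr (tAt_ne_zero cP ι₀ hι₀)
  rw [hd s, map_divCycle_tAt_eq_zero cP ι₀ hι₀ s, mul_zero]

end Line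

end Groth.Agent.H48.CurveDeg
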