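import Mathlib
import Groth.Prelude.Def_CohB1
import Groth.Agent.H73.Dehom2
import Groth.Agent.H97.ProjProper

/-!
# The affine line as a chart of the projective line over a field
-/

set_option autoImplicit false
set_option linter.unusedSectionVars false
set_option linter.style.haveILetI false
universe u

open AlgebraicGeometry CategoryTheory CategoryTheory.Limits TopologicalSpace Opposite Topology

namespace Groth.Agent.H48.CurveDegP1

variable (K : Type u) [Field K]

/-- The index type of the affine chart `x₀ ≠ 0` of the projective line is a singleton. -/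
noncomputable def idxEquiv : PUnit.{1} ≃ {j : Fin (1 + 1) // j ≠ 0} where
  toFun _ := ⟨1, by decide⟩
  invFun _ := PUnit.unit
  left_inv _ := rfl
  right_inv := by
    rintro ⟨j, hj⟩
    apply Subtype.ext
    change (1 : Fin 2) = j
    fin_cases j
    · exact absurd rfl hj
    · rfl

/-- `K[X] ≃ K[x₁]`. -/
noncomputable def polyEquiv : Polynomial K ≃+* MvPolynomial {j : Fin (1 + 1) // j ≠ 0} K :=
  ((MvPolynomial.pUnitAlgEquiv K).symm.trans
    (MvPolynomial.renameEquiv K idxEquiv)).toRingEquiv

theorem polyEquiv_C (r : K) : polyEquiv K (Polynomial.C r) = MvPolynomial.C r := by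
  unfold polyEquiv
  simp

/-- The coordinate ring of the chart. -/
noncomputable def phi : Polynomial K →+*
    HomogeneousLocalization.Away (CohB1.polyGrading 1 K) (MvPolynomial.X 0) :=
  (Groth.Agent.H73.Dehom.psi 1 K 0).comp (polyEquiv K).toRingHom

theorem phi_bijective : Function.Bijective (phi K) := by
  unfold phi
  change Function.Bijective ((Groth.Agent.H73.Dehom.psi 1 K 0) ∘ (polyEquiv K))
  exact Function.Bijective.comp
    ⟨Groth.Agent.H73.Dehom.psi_injective 1 K 0, Groth.Agent.H73.Dehom.psi_surjective 1 K 0⟩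
    (polyEquiv K).bijective

theorem phi_C (r : K) : phi K (Polynomial.C r) =
    (HomogeneousLocalization.fromZeroRingHom (CohB1.polyGrading 1 K)
      (Submonoid.powers (MvPolynomial.X 0))) (algebraMap K (CohB1.polyGrading 1 K 0) r) := by
  unfold phi
  rw [RingHom.comp_apply]
  change Groth.Agent.H73.Dehom.psi 1 K 0 (polyEquiv K (Polynomial.C r)) = _
  rw [polyEquiv_C]
  unfold Groth.Agent.H73.Dehom.psi
  rw [MvPolynomial.coe_eval₂Hom, MvPolynomial.eval₂_C]
  rfl

/-- The inverse of `phi`. -/
noncomputable def phiInv :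
    HomogeneousLocalization.Away (CohB1.polyGrading 1 K) (MvPolynomial.X 0) →+* Polynomial K :=
  (RingEquiv.ofBijective (phi K) (phi_bijective K)).symm.toRingHom

theorem phiInv_phi (p : Polynomial K) : phiInv K (phi K p) = p :=
  (RingEquiv.ofBijective (phi K) (phi_bijective K)).symm_apply_apply p

theorem X0_mem : (MvPolynomial.X 0 : MvPolynomial (Fin (1 + 1)) K) ∈ CohB1.polyGrading 1 K 1 :=
  (MvPolynomial.mem_homogeneousSubmodule _ _).mpr (MvPolynomial.isHomogeneous_X K 0)

/-- The chart `A¹ → P¹`. -/
noncomputable def ι₀' : Spec (CommRingCat.of (Polynomial K)) ⟶ Proj (CohB1.polyGrading 1 K) :=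
  Spec.map (CommRingCat.ofHom (phiInv K)) ≫
    Proj.awayι (CohB1.polyGrading 1 K) (MvPolynomial.X 0) (X0_mem K) Nat.one_pos

instance : IsOpenImmersion (ι₀' K) := by
  unfold ι₀'
  haveI : IsIso (CommRingCat.ofHom (phiInv K)) :=
    (ConcreteCategory.isIso_iff_bijective _).mpr
      (RingEquiv.ofBijective (phi K) (phi_bijective K)).symm.bijective
  infer_instance

/-- The chart `A¹ → P¹`. -/
noncomputable def ι₀ : Spec (CommRingCat.of (Polynomial K)) ⟶ CohB1.ProjSpace 1 K := ι₀' K

instance : IsOpenImmersion (ι₀ K) := inferInstanceAs (IsOpenImmersion (ι₀' K))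

theorem ι₀_toSpec : ι₀ K ≫ CohB1.ProjSpace.toSpec 1 K =
    Spec.map (CommRingCat.ofHom (Polynomial.C : K →+* Polynomial K)) := by
  change ι₀' K ≫ (Proj.toSpecZero (CohB1.polyGrading 1 K) ≫
    Spec.map (CommRingCat.ofHom (algebraMap K (CohB1.polyGrading 1 K 0)))) = _
  unfold ι₀'
  rw [Category.assoc, Proj.awayι_toSpecZero_assoc, ← Spec.map_comp, ← Spec.map_comp]
  congr 1
  apply CommRingCat.hom_ext
  apply RingHom.ext
  intro r
  change phiInv K ((HomogeneousLocalization.fromZeroRingHom (CohB1.polyGrading 1 K)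
      (Submonoid.powers (MvPolynomial.X 0))) (algebraMap K (CohB1.polyGrading 1 K 0) r)) =
    Polynomial.C r
  rw [← phi_C, phiInv_phi]

end Groth.Agent.H48.CurveDegP1
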