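import Mathlib
import Groth.Prelude.Def_Cyc
import Groth.Agent.H48.CurveDegLine
import Groth.Agent.H48.CurveDegP1
import Groth.Prelude.Def_Bivar

/-!
# The degree of a principal divisor on a one-dimensional point of a proper `K`-scheme is zero
-/

set_option autoImplicit false
set_option linter.unusedSectionVars false
set_option linter.style.haveILetI false
universe u

open AlgebraicGeometry CategoryTheory CategoryTheory.Limits TopologicalSpace Opposite Topology

namespace Groth.Agent.H48.CurveDeg

variable {K : Type u} [Field K] {X : Scheme.{u}} (c : X ⟶ Spec (CommRingCat.of K))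

/-- `ρ` factors through the residue field of the image point. -/
theorem ρ_eq_comp (x : X) :
    ρ c x = (c.residueFieldMap x).hom.comp (ρ (𝟙 (Spec (CommRingCat.of K))) (c x)) := by
  have h : CommRingCat.ofHom (ρ c x) =
      CommRingCat.ofHom (ρ (𝟙 (Spec (CommRingCat.of K))) (c x)) ≫ c.residueFieldMap x := by
    apply Spec.map_injective
    rw [Spec.map_comp, specMap_ρ, specMap_ρ, Category.comp_id,
      Scheme.Hom.SpecMap_residueFieldMap_fromSpecResidueField]
  exact congrArg CommRingCat.Hom.hom h

/-- An element transcendental over the residue field of the image point is transcendental over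
`K`. -/
theorem injective_eval₂_of_transcendental (x : X) (t : X.residueField x)
    (ht : letI := (c.residueFieldMap x).hom.toAlgebra
      Transcendental ((Spec (CommRingCat.of K)).residueField (c x)) t) :
    Function.Injective (Polynomial.eval₂RingHom (ρ c x) t) := by
  rw [← injective_eval₂_iff_transcendental] at ht
  set j := ρ (𝟙 (Spec (CommRingCat.of K))) (c x) with hj
  have hcomp : Polynomial.eval₂RingHom (ρ c x) t =
      (Polynomial.eval₂RingHom (c.residueFieldMap x).hom t).comp (Polynomial.mapRingHom j) := by
    apply Polynomial.ringHom_ext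
    · intro a
      simp [ρ_eq_comp c x, hj]
    · simp
  rw [hcomp]
  exact ht.comp (Polynomial.map_injective j j.injective)

variable [IsProper c] [IsLocallyNoetherian X]

/-- The degree of the divisor of a function transcendental over `K` on a one-dimensional point. -/
theorem map_divCycle_eq_zero_of_injective' (x₁ : X)
    (hx₁ : FieldDim.δ c x₁ ≤ 1) (f : X.residueField x₁) (hf : f ≠ 0)
    (htr : Function.Injective (Polynomial.eval₂RingHom (ρ c x₁) f))
    (s : Spec (CommRingCat.of K)) :
    AlgebraicCycle.map c (FieldDim.δ c) (fun _ => (0 : ℤ))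
      (divCycle (FieldDim.δ c) (FieldDim.isDimFun c) x₁ f hf) s = 0 := by
  haveI : IsLocallyNoetherian (CohB1.ProjSpace 1 K) :=
    LocallyOfFiniteType.isLocallyNoetherian (CohB1.ProjSpace.toSpec 1 K)
  exact map_divCycle_eq_zero_of_injective (CohB1.ProjSpace.toSpec 1 K) (CurveDegP1.ι₀ K)
    (CurveDegP1.ι₀_toSpec K) c x₁ hx₁ f hf htr s

theorem divCycle_mul (δ : X → ℤ) (hδ : Cyc.IsDimFun X δ) (ξ : X) (a b : X.residueField ξ)
    (ha : a ≠ 0) (hb : b ≠ 0) :
    divCycle δ hδ ξ (a * b) (mul_ne_zero ha hb) = divCycle δ hδ ξ a ha + divCycle δ hδ ξ b hb := by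
  ext x
  rw [Function.locallyFinsuppWithin.coe_add, Pi.add_apply, divCycle_apply, divCycle_apply,
    divCycle_apply]
  exact divFun_mul δ ξ a b ha hb x

/-- **The degree of a principal divisor on a one-dimensional point of a proper `K`-scheme is
zero.** -/
theorem map_divCycle_eq_zero (x₁ : X) (hx₁ : FieldDim.δ c x₁ = 1) (f : X.residueField x₁)
    (hf : f ≠ 0) (s : Spec (CommRingCat.of K)) :
    AlgebraicCycle.map c (FieldDim.δ c) (fun _ => (0 : ℤ))
      (divCycle (FieldDim.δ c) (FieldDim.isDimFun c) x₁ f hf) s = 0 := by
  letI alg : Algebra ((Spec (CommRingCat.of K)).residueField (c x₁)) (X.residueField x₁) :=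
    (c.residueFieldMap x₁).hom.toAlgebra
  by_cases hft : Transcendental ((Spec (CommRingCat.of K)).residueField (c x₁)) f
  · exact map_divCycle_eq_zero_of_injective' c x₁ hx₁.le f hf
      (injective_eval₂_of_transcendental c x₁ f hft) s
  · have hfa : IsAlgebraic ((Spec (CommRingCat.of K)).residueField (c x₁)) f := by
      by_contra h; exact hft h
    -- a transcendental element exists since the transcendence degree is one
    have hnalg : ¬ Algebra.IsAlgebraic ((Spec (CommRingCat.of K)).residueField (c x₁))
        (X.residueField x₁) := by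
      intro halg
      have h0 : Algebra.trdeg ((Spec (CommRingCat.of K)).residueField (c x₁))
          (X.residueField x₁) = 0 := trdeg_eq_zero
      have h1 : FieldDim.δ c x₁ = 0 := by
        simp only [FieldDim.δ]
        rw [h0]
        simp
      omega
    obtain ⟨t, ht⟩ : ∃ t : X.residueField x₁,
        Transcendental ((Spec (CommRingCat.of K)).residueField (c x₁)) t := by
      by_contra hcon
      push Not at hcon
      exact hnalg ⟨fun t => by
        by_contra h
        exact hcon t h⟩
    have ht0 : t ≠ 0 := by
      rintro rfl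
      exact ht isAlgebraic_zero
    have hft' : Transcendental ((Spec (CommRingCat.of K)).residueField (c x₁)) (f * t) := by
      intro halg
      apply ht
      have h1 : t = f⁻¹ * (f * t) := by
        rw [← mul_assoc, inv_mul_cancel₀ hf, one_mul]
      rw [h1]
      exact (IsAlgebraic.inv_iff.mpr hfa).mul halg
    have e1 := map_divCycle_eq_zero_of_injective' c x₁ hx₁.le (f * t) (mul_ne_zero hf ht0)
      (injective_eval₂_of_transcendental c x₁ _ hft') s
    have e2 := map_divCycle_eq_zero_of_injective' c x₁ hx₁.le t ht0
      (injective_eval₂_of_transcendental c x₁ _ ht) s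
    rw [divCycle_mul (FieldDim.δ c) (FieldDim.isDimFun c) x₁ f t hf ht0, Bivar.cycMap_add,
      Function.locallyFinsuppWithin.coe_add, Pi.add_apply, e2, add_zero] at e1
    exact e1

end Groth.Agent.H48.CurveDeg
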