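import Mathlib
import Groth.Prelude.Def_Cyc
import Groth.Agent.H48.CurveDegFinal
import Groth.Agent.H48.DivPull
import Groth.Agent.H48.OrdFracLib

/-!
# The degree of a principal divisor on a proper integral curve over a field is zero
-/

set_option autoImplicit false
set_option linter.unusedSectionVars false
set_option linter.style.haveILetI false
universe u

open AlgebraicGeometry CategoryTheory CategoryTheory.Limits TopologicalSpace Opposite Topology

namespace Groth.Agent.H48.CurveDeg

variable {K : Type u} [Field K] {X : Scheme.{u}} (c : X ⟶ Spec (CommRingCat.of K))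
  [LocallyOfFiniteType c]

/-- Points of transcendence degree zero are closed. -/
theorem isClosed_of_delta_eq_zero (x : X) (hx : FieldDim.δ c x = 0) : IsClosed ({x} : Set X) := by
  have h : closure ({x} : Set X) = {x} := by
    apply Set.Subset.antisymm _ subset_closure
    intro y hy
    have hsp : x ⤳ y := specializes_iff_mem_closure.mpr hy
    by_contra hne
    have h1 := (FieldDim.isDimFun c x y hsp (fun h => hne (by rw [Set.mem_singleton_iff]; exact h.symm))).1
    have h2 := FieldDim.delta_nonneg c y
    omega
  rw [← h]
  exact isClosed_closure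

variable [IsIntegral X]

/-- The generic point of an integral `K`-scheme of dimension one has transcendence degree one. -/
theorem delta_genericPoint (hdim : topologicalKrullDim X = 1) :
    FieldDim.δ c (genericPoint X) = 1 := by
  have h1 := FieldDim.topologicalKrullDim_closure_eq c (genericPoint X)
  have h2 : closure ({genericPoint X} : Set X) = Set.univ := (genericPoint_spec X).def
  have h3 : topologicalKrullDim ↥(closure ({genericPoint X} : Set X)) = topologicalKrullDim X := by
    rw [h2]
    exact (Homeomorph.Set.univ X).isHomeomorph.topologicalKrullDim_eq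
  rw [h3, hdim] at h1
  have h4 : (FieldDim.δ c (genericPoint X)).toNat = 1 := by
    have : ((1 : ℕ∞) : WithBot ℕ∞) = (((FieldDim.δ c (genericPoint X)).toNat : ℕ∞) : WithBot ℕ∞) := by
      exact_mod_cast h1
    have h5 : (1 : ℕ∞) = ((FieldDim.δ c (genericPoint X)).toNat : ℕ∞) := WithBot.coe_injective this
    exact_mod_cast h5.symm
  omega

/-- Orders at the generic point: `ordAt` against the function field. -/
theorem ordAt_genericPoint (x : X) (h : genericPoint X ⤳ x) (f : X.functionField) :
    Cyc.ordAt x (genericPoint X) h ((X.residue (genericPoint X)).hom f) =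
      CycAlg.ordFrac (X.presheaf.stalk x) X.functionField f := by
  rw [DivPull.ordAt_eq_ordFrac_stalk _ _ h (DivPull.ker_specMap_eq_bot _ x rfl h)]
  letI := (Cyc.specMap x (genericPoint X) h).toAlgebra
  have hbij : Function.Bijective (X.residue (genericPoint X)).hom :=
    ⟨RingHom.injective (f := ((X.residue (genericPoint X)).hom : X.functionField →+* _)),
      IsLocalRing.residue_surjective⟩
  let eK : X.functionField ≃+* X.residueField (genericPoint X) := RingEquiv.ofBijective _ hbij
  exact OrdFracLib.ordFrac_ringEquiv (RingEquiv.refl (X.presheaf.stalk x)) eK (fun r => rfl) f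

omit [LocallyOfFiniteType c] in
/-- **The degree of a principal divisor on a proper integral curve over a field is zero.** -/
theorem finsum_residueDegree_mul_ordFrac_eq_zero [IsProper c] (hdim : topologicalKrullDim X = 1)
    (f : X.functionField) (hf : f ≠ 0) :
    ∑ᶠ (x : X) (_ : IsClosed ({x} : Set X)),
      (c.residueDegree x : ℤ) * CycAlg.ordFrac (X.presheaf.stalk x) X.functionField f = 0 := by
  haveI : IsLocallyNoetherian X := LocallyOfFiniteType.isLocallyNoetherian c
  have hδη := delta_genericPoint c hdim
  set η := genericPoint X with hη
  have hf' : (X.residue η).hom f ≠ 0 := by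
    intro h0
    apply hf
    exact (RingHom.injective (f := ((X.residue η).hom : X.functionField →+* _)))
      (h0.trans (map_zero _).symm)
  have H := map_divCycle_eq_zero c η hδη _ hf' (c η)
  simp only [AlgebraicCycle.map, Function.locallyFinsupp.map_apply] at H
  rw [← H]
  refine finsum_congr fun x => ?_
  have hmem : x ∈ (c : X → _) ⁻¹' {c η} := by
    rw [Set.mem_preimage, Set.mem_singleton_iff]
    exact Subsingleton.elim _ _
  classical
  rw [finsum_eq_if, finsum_eq_if, if_pos hmem]
  by_cases hx : IsClosed ({x} : Set X)
  · rw [if_pos hx]
    have hδx : FieldDim.δ c x = 0 := FieldDim.delta_eq_zero_of_isClosed c x hx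
    have hsp : η ⤳ x := genericPoint_specializes x
    rw [divCycle_apply]
    unfold Cyc.divFun AlgebraicCycle.mapCoeff
    rw [dif_pos ⟨hsp, by rw [hδx, hδη]; rfl⟩, if_pos hδx, ordAt_genericPoint x hsp f, mul_comm]
  · rw [if_neg hx]
    have hδx : FieldDim.δ c x ≠ 0 := fun h => hx (isClosed_of_delta_eq_zero c x h)
    unfold AlgebraicCycle.mapCoeff
    rw [if_neg hδx]
    simp

end Groth.Agent.H48.CurveDeg
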