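import Mathlib
import Groth.Agent.H48.RelDelta
import Groth.Agent.H22.RedImm

/-!
# Lifting integral curves along surjective proper morphisms of schemes over a field
-/

set_option autoImplicit false
set_option linter.unusedSectionVars false
set_option linter.style.haveILetI false
universe u

open AlgebraicGeometry CategoryTheory CategoryTheory.Limits TopologicalSpace Opposite

namespace Groth.Agent.H48.CurveLift

open Groth.Agent.H48.FieldDim Groth.Agent.H48.RelDelta Groth.Agent.H48.CycFib

/-- A point of `Y` over `c` which is closed in its fibre has the same `δ` as `c`. -/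
theorem exists_delta_eq {k : Type u} [Field k] {X Y : Scheme.{u}}
    (q : X ⟶ Spec (CommRingCat.of k)) [LocallyOfFiniteType q] (f : Y ⟶ X) [LocallyOfFiniteType f]
    [QuasiCompact f] (c : X) (hc : c ∈ Set.range f) :
    ∃ y : Y, f y = c ∧ FieldDim.δ (f ≫ q) y = FieldDim.δ q c := by
  obtain ⟨y₀, hy₀⟩ := hc
  haveI : Nonempty (f.fiber c) := ⟨(f.fiberHomeo c).symm ⟨y₀, hy₀⟩⟩
  obtain ⟨t, -, ht⟩ := IsClosed.exists_closed_singleton (X := f.fiber c) isClosed_univ
    Set.univ_nonempty
  refine ⟨f.fiberι c t, map_fiberι f c t, ?_⟩
  obtain ⟨n, hn, hδn⟩ := deltaCompat_comp q f (f.fiberι c t)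
  have h0 := trdeg_eq_zero_of_isClosed f c (f.fiberι c t) (map_fiberι f c t) t rfl ht
  rw [hn] at h0
  have hn0 : n = 0 := by exact_mod_cast h0
  rw [hδn, map_fiberι, hn0]
  simp

/-- **Curves lift along surjective proper morphisms** (statement S17287). -/
theorem exists_integral_curve_mapping_onto {k : Type u} [Field k] {X Y : Scheme.{u}}
    (q : X ⟶ Spec (CommRingCat.of k)) [IsProper q] (f : Y ⟶ X) [IsProper (f ≫ q)] [Surjective f]
    (C : X.IdealSheafData) [IsIntegral C.subscheme]
    (hC : topologicalKrullDim (C.support : Set X) = 1) :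
    ∃ C' : Y.IdealSheafData, IsIntegral C'.subscheme ∧
      topologicalKrullDim (C'.support : Set Y) = 1 ∧
      f.base '' (C'.support : Set Y) = (C.support : Set X) := by
  haveI : IsProper f := IsProper.of_comp f q
  haveI : LocallyOfFiniteType f := inferInstance
  -- the generic point of `C`
  have hirr : IsIrreducible (C.support : Set X) := by
    rw [← Scheme.IdealSheafData.range_subschemeι, ← Set.image_univ]
    exact (IrreducibleSpace.isIrreducible_univ C.subscheme).image _
      C.subschemeι.continuous.continuousOn
  obtain ⟨c, hc⟩ := QuasiSober.sober hirr C.support.isClosed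
  have hcC : closure ({c} : Set X) = (C.support : Set X) := hc.def
  have hδc : (FieldDim.δ q c).toNat = 1 := by
    have h1 := topologicalKrullDim_closure_eq q c
    rw [hcC, hC] at h1
    exact_mod_cast h1.symm
  obtain ⟨y, hy, hδy⟩ := exists_delta_eq q f c (f.surjective c)
  let T : Closeds Y := ⟨closure ({y} : Set Y), isClosed_closure⟩
  have hTirr : IsIrreducible (T : Set Y) := isIrreducible_singleton.closure
  refine ⟨Scheme.IdealSheafData.vanishingIdeal T, ?_, ?_, ?_⟩
  · have h1 : IsReduced (Scheme.IdealSheafData.vanishingIdeal T).subscheme :=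
      Groth.Agent.H22.isReduced_subscheme_vanishingIdeal T
    have h2 : IsIrreducible ((Scheme.IdealSheafData.vanishingIdeal T).support : Set Y) := by
      rw [Scheme.IdealSheafData.coe_support_vanishingIdeal]; exact hTirr
    have h3 : IrreducibleSpace (Scheme.IdealSheafData.vanishingIdeal T).subscheme :=
      Subtype.irreducibleSpace h2
    exact isIntegral_of_irreducibleSpace_of_isReduced _
  · rw [Scheme.IdealSheafData.coe_support_vanishingIdeal]
    change topologicalKrullDim ↥(closure ({y} : Set Y)) = 1
    rw [topologicalKrullDim_closure_eq (f ≫ q) y, hδy, hδc]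
    rfl
  · rw [Scheme.IdealSheafData.coe_support_vanishingIdeal]
    change f.base '' closure ({y} : Set Y) = _
    rw [← hcC, ← hy, ← Set.image_singleton]
    exact (f.isClosedMap.closure_image_eq_of_continuous f.continuous _).symm

end Groth.Agent.H48.CurveLift
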