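import Mathlib
import Groth.Prelude.Def_Cyc
import Groth.Agent.H48.DimFunSch

/-!
# Consequences of dimension functions: finiteness of generic residue extensions
-/

set_option autoImplicit false
set_option linter.unusedSectionVars false
set_option linter.style.haveILetI false
universe u

open AlgebraicGeometry CategoryTheory TopologicalSpace Opposite

namespace Groth.Agent.H48.CycDim

open Groth.Agent.H48.DimIneq Groth.Agent.H48.DimIneqSch Groth.Agent.H48.DimFunSch

section Ring

variable {A B K L : Type u} [CommRing A] [CommRing B] [Algebra A B]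
  [Algebra.FiniteType A B] [Field K] [Field L]
  [Algebra K L] {evA : A →+* K} {evB : B →+* L}

theorem finite_of_trdeg_eq_zero (hsq : (algebraMap K L).comp evA = evB.comp (algebraMap A B))
    (hL : IsFrac evB) (h0 : Algebra.trdeg K L = 0) : Module.Finite K L := by
  letI algBL : Algebra B L := evB.toAlgebra
  letI algAL : Algebra A L := (evB.comp (algebraMap A B)).toAlgebra
  letI algAK : Algebra A K := evA.toAlgebra
  haveI : IsScalarTower A B L := IsScalarTower.of_algebraMap_eq fun _ => rfl
  haveI : IsScalarTower A K L := IsScalarTower.of_algebraMap_eq fun a => by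
    have := congrArg (fun g => g a) hsq
    exact this.symm
  haveI : Algebra.EssFiniteType B L := by
    rw [Algebra.essFiniteType_iff]
    refine ⟨∅, fun s => ?_⟩
    obtain ⟨a, t, ht, hs⟩ := hL s
    refine ⟨evB t, ?_, ?_, ?_⟩
    · exact Subalgebra.algebraMap_mem _ t
    · exact (isUnit_iff_ne_zero.mpr ht)
    · rw [hs]
      exact Subalgebra.algebraMap_mem _ a
  haveI : Algebra.EssFiniteType A L := Algebra.EssFiniteType.comp A B L
  haveI : Algebra.EssFiniteType K L := Algebra.EssFiniteType.of_comp A K L
  haveI : Algebra.IsAlgebraic K L := trdeg_eq_zero_iff.mp h0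
  exact Algebra.finite_of_essFiniteType_of_isAlgebraic

end Ring

section Sch

variable {X S : Scheme.{u}}

theorem residueFieldMap_finite_of_trdeg_eq_zero (f : X ⟶ S) [LocallyOfFiniteType f] (x : X)
    (h0 : letI := (f.residueFieldMap x).hom.toAlgebra
      Algebra.trdeg (S.residueField (f x)) (X.residueField x) = 0) :
    (f.residueFieldMap x).hom.Finite := by
  obtain ⟨V, hV, hxV, -⟩ := exists_isAffineOpen_mem_and_subset (x := f x) (U := ⊤) trivial
  obtain ⟨U, hU, hxU, e⟩ := exists_isAffineOpen_mem_and_subset (x := x) (U := f ⁻¹ᵁ V) hxV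
  letI algAB : Algebra Γ(S, V) Γ(X, U) := (f.appLE V U e).hom.toAlgebra
  haveI : Algebra.FiniteType Γ(S, V) Γ(X, U) := f.finiteType_appLE hV hU e
  letI algKL : Algebra (S.residueField (f x)) (X.residueField x) :=
    (f.residueFieldMap x).hom.toAlgebra
  have hsq : (algebraMap (S.residueField (f x)) (X.residueField x)).comp
      (S.evaluation V (f x) (e hxU)).hom =
      (X.evaluation U x hxU).hom.comp (algebraMap Γ(S, V) Γ(X, U)) :=
    evaluation_square f e x hxU
  have hL := isFrac_evaluation hU x hxU
  exact finite_of_trdeg_eq_zero hsq hL h0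

theorem map_genericPoint_of_dense [IrreducibleSpace X] [IrreducibleSpace S] (f : X ⟶ S)
    (hd : Dense (Set.range f)) : f (genericPoint X) = genericPoint S := by
  apply ((genericPoint_spec S).eq _).symm
  rw [isGenericPoint_def]
  apply Set.eq_univ_of_univ_subset
  rw [← hd.closure_eq]
  apply closure_minimal _ isClosed_closure
  rintro _ ⟨x, rfl⟩
  have hx : genericPoint X ⤳ x := genericPoint_specializes x
  exact (hx.map f.continuous).mem_closed isClosed_closure (subset_closure rfl)

theorem dominant_finite_or_not_dense (X Y : Scheme.{u}) [IsIntegral X] [IsIntegral Y]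
    (δX : X → ℤ) (δY : Y → ℤ) (f : X ⟶ Y) [LocallyOfFiniteType f]
    (hδ : Cyc.DeltaCompat f δX δY)
    (heq : δX (genericPoint X) = δY (genericPoint Y)) :
    ¬ Dense (Set.range f) ∨ (f (genericPoint X) = genericPoint Y ∧
      (f.residueFieldMap (genericPoint X)).hom.Finite) := by
  by_cases hd : Dense (Set.range f)
  · right
    have hgen := map_genericPoint_of_dense f hd
    refine ⟨hgen, ?_⟩
    obtain ⟨n, hn, hδn⟩ := hδ (genericPoint X)
    rw [hgen, heq] at hδn
    have hn0 : n = 0 := by omega
    subst hn0
    apply residueFieldMap_finite_of_trdeg_eq_zero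
    rw [hn]
    simp
  · left; exact hd

end Sch

end Groth.Agent.H48.CycDim
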