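import Mathlib
import Groth.Prelude.Def_Cyc
import Groth.Agent.H48.DimFunSch

/-!
# Dimension of local rings of an integral scheme via a dimension function
-/

set_option autoImplicit false
set_option linter.unusedSectionVars false
set_option linter.style.haveILetI false
universe u

open AlgebraicGeometry CategoryTheory TopologicalSpace Opposite

namespace Groth.Agent.H48.CycDim2

open Groth.Agent.H62 Groth.Agent.H29.DimFormula Groth.Agent.H48.DimFun
  Groth.Agent.H48.DimFunSch

variable (X : Scheme.{u}) [IsIntegral X] (δ : X → ℤ) (hδ : Cyc.IsDimFun X δ)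

include hδ in
/-- On an integral scheme with a dimension function, `dim O_{X,ξ} = δ(η) - δ(ξ)`. -/
theorem ringKrullDim_stalk_eq (ξ : X) :
    ringKrullDim (X.presheaf.stalk ξ) =
      (((δ (genericPoint X) - δ ξ).toNat : ℕ∞) : WithBot ℕ∞) := by
  obtain ⟨U, hU, hξU, -⟩ := exists_isAffineOpen_mem_and_subset (x := ξ) (U := ⊤) trivial
  haveI : Nonempty U := ⟨⟨ξ, hξU⟩⟩
  haveI : IsDomain Γ(X, U) := inferInstance
  letI := X.presheaf.algebra_section_stalk ⟨ξ, hξU⟩
  haveI := hU.isLocalization_stalk ⟨ξ, hξU⟩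
  set p : PrimeSpectrum Γ(X, U) := hU.primeIdealOf ⟨ξ, hξU⟩ with hp
  rw [IsLocalization.AtPrime.ringKrullDim_eq_height p.asIdeal (X.presheaf.stalk ξ)]
  congr 1
  rw [PrimeSpectrum.height_eq_orderHeight p, ← cod_bot_eq_height p,
    cod_eq_of_dimFun (fun q : PrimeSpectrum Γ(X, U) => δ (hU.fromSpec q))
      (delta_lt hU δ hδ) (delta_cov hU δ hδ) bot_le]
  have h1 : hU.fromSpec p = ξ := hU.fromSpec_primeIdealOf ⟨ξ, hξU⟩
  have hηU : genericPoint X ∈ U :=
    ((genericPoint_spec X).mem_open_set_iff U.isOpen).mpr (by simpa using ‹Nonempty U›)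
  have h2 : hU.fromSpec (⊥ : PrimeSpectrum Γ(X, U)) = genericPoint X := by
    have h3 := hU.primeIdealOf_genericPoint
    rw [genericPoint_eq_bot_of_affine] at h3
    rw [← h3]
    exact hU.fromSpec_primeIdealOf ⟨genericPoint X, hηU⟩
  simp only [h1, h2]

include hδ in
theorem delta_le_genericPoint (ξ : X) : δ ξ ≤ δ (genericPoint X) := by
  rcases eq_or_ne (genericPoint X) ξ with h | h
  · rw [h]
  · exact (hδ _ _ (genericPoint_specializes ξ) h).1.le

include hδ in
theorem ringKrullDim_stalk_eq_one_iff (ξ : X) :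
    ringKrullDim (X.presheaf.stalk ξ) = 1 ↔ δ ξ = δ (genericPoint X) - 1 := by
  rw [ringKrullDim_stalk_eq X δ hδ ξ]
  have hle := delta_le_genericPoint X δ hδ ξ
  constructor
  · intro h
    have h1 : ((δ (genericPoint X) - δ ξ).toNat : ℕ∞) = 1 := by exact_mod_cast h
    have h2 : (δ (genericPoint X) - δ ξ).toNat = 1 := by exact_mod_cast h1
    omega
  · intro h
    have h2 : (δ (genericPoint X) - δ ξ).toNat = 1 := by omega
    rw [h2]
    rfl

end Groth.Agent.H48.CycDim2
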