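import Mathlib
import Groth.Prelude.Def_Cyc
import Groth.Agent.H48.CycDim2

/-!
# Generic points of components of effective Cartier divisors have δ = δ(η) - 1
-/

set_option autoImplicit false
set_option linter.unusedSectionVars false
set_option linter.style.haveILetI false
universe u

open AlgebraicGeometry CategoryTheory TopologicalSpace Opposite

namespace Groth.Agent.H48.CycDim3

open Groth.Agent.H48.CycDim2

theorem ringKrullDim_eq_one_of_quotient {R : Type u} [CommRing R] [IsDomain R] [IsLocalRing R]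
    [IsNoetherianRing R] (g : R) (hg0 : g ≠ 0) (hgm : g ∈ IsLocalRing.maximalIdeal R)
    (hdim : ringKrullDim (R ⧸ Ideal.span {g}) = 0) : ringKrullDim R = 1 := by
  have reg : IsSMulRegular R g := by
    intro a b hab
    simp only [smul_eq_mul] at hab
    exact mul_left_cancel₀ hg0 hab
  have hj : g ∈ Ring.jacobson R := by
    rw [IsLocalRing.ringJacobson_eq_maximalIdeal]
    exact hgm
  have := ringKrullDim_quotient_span_singleton_succ_eq_ringKrullDim_of_mem_jacobson reg hj
  rw [hdim, zero_add] at this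
  exact this.symm

theorem delta_eq_sub_one (X : Scheme.{u}) [IsIntegral X] (δ : X → ℤ) (hX : Cyc.IsSetup X δ)
    (ξ : X) (g : ↑(X.presheaf.stalk ξ)) (hg0 : g ≠ 0)
    (hgm : g ∈ IsLocalRing.maximalIdeal (X.presheaf.stalk ξ))
    (hdim : ringKrullDim (↑(X.presheaf.stalk ξ) ⧸ Ideal.span {g}) = 0) :
    δ ξ = δ (genericPoint X) - 1 := by
  obtain ⟨hN, -, hδ⟩ := hX
  haveI := hN
  rw [← ringKrullDim_stalk_eq_one_iff X δ hδ ξ]
  exact ringKrullDim_eq_one_of_quotient g hg0 hgm hdim

end Groth.Agent.H48.CycDim3
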