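import Mathlib
import Groth.Prelude.Def_Cyc
import Groth.Agent.H48.DimFunSch
import Groth.Agent.Lead.RegularLocal

/-!
# `-dim O_{S,s}` is a dimension function on a regular universally catenary scheme
-/

set_option autoImplicit false
set_option linter.unusedSectionVars false
set_option linter.style.haveILetI false
universe u

open AlgebraicGeometry CategoryTheory TopologicalSpace Opposite

namespace Groth.Agent.H48.CycDim4

open Groth.Agent.H62 Groth.Agent.H29.DimFormula Groth.Agent.H48.DimFun
  Groth.Agent.H48.DimFunSch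

section Ring

variable {A : Type u} [CommRing A] (b : PrimeSpectrum A)
  (O : Type u) [CommRing O] [Algebra A O] [IsLocalization.AtPrime O b.asIdeal] [IsDomain O]

/-- If the localization at `b` is a catenary domain then `ht b = ht a + cod a b` for `a ≤ b`. -/
theorem height_eq_add_cod_of_localization (hcat : CAlg.IsCatenary O) (a : PrimeSpectrum A)
    (hab : a ≤ b) : b.asIdeal.height = a.asIdeal.height + cod a b := by
  have hmem : ∀ y : PrimeSpectrum A, y ≤ b →
      y ∈ Set.range (locEmb (B := O) b.asIdeal.primeCompl) := by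
    intro y hy
    rw [range_locEmb]
    change Disjoint ((b.asIdeal.primeCompl : Submonoid A) : Set A) (y.asIdeal : Set A)
    rw [Set.disjoint_left]
    intro x hx hxy
    exact hx (hy hxy)
  obtain ⟨a', ha'⟩ := hmem a hab
  obtain ⟨b', hb'⟩ := hmem b le_rfl
  have hle : a' ≤ b' := (locEmb (B := O) b.asIdeal.primeCompl).le_iff_le.1 (by
    rw [ha', hb']; exact hab)
  have hcod : cod a b = cod a' b' := by
    have h := cod_map_eq (locEmb (B := O) b.asIdeal.primeCompl) (a := a') (b := b')
      (fun q _ h2 => hmem q (by rw [hb'] at h2; exact h2))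
    rw [ha', hb'] at h
    exact h
  have hcatO := (isCatenary_iff_catPair' O).1 hcat
  have key := height_eq_add_of_catPair' a' b' hle (hcatO ⊥ a' bot_le) (hcatO a' b' hle)
    (hcatO ⊥ b' bot_le)
  rw [← cod_eq_height_map_mk a' b' hle] at key
  have ea : a'.asIdeal.under A = a.asIdeal := congrArg PrimeSpectrum.asIdeal ha'
  have eb : b'.asIdeal.under A = b.asIdeal := congrArg PrimeSpectrum.asIdeal hb'
  have h1 : a.asIdeal.height = a'.asIdeal.height := by
    calc a.asIdeal.height = (a'.asIdeal.under A).height := by rw [ea]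
      _ = a'.asIdeal.height := IsLocalization.height_under b.asIdeal.primeCompl a'.asIdeal
  have h2 : b.asIdeal.height = b'.asIdeal.height := by
    calc b.asIdeal.height = (b'.asIdeal.under A).height := by rw [eb]
      _ = b'.asIdeal.height := IsLocalization.height_under b.asIdeal.primeCompl b'.asIdeal
  rw [h1, h2, hcod]
  exact key

end Ring

section Sch

variable {S : Scheme.{u}} [IsLocallyNoetherian S]

theorem isDimFun_neg_stalkDim
    (hreg : ∀ s : S, IsRegularLocalRing (S.presheaf.stalk s))
    (huc : ∀ s : S, CAlg.IsUniversallyCatenary (S.presheaf.stalk s))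
    (δS : S → ℤ) (hδS : ∀ s : S, ringKrullDim (S.presheaf.stalk s) =
      ((-δS s).toNat : WithBot ℕ∞) ∧ δS s ≤ 0) : Cyc.IsDimFun S δS := by
  intro s t hst hne
  obtain ⟨V, hV, htV, -⟩ := exists_isAffineOpen_mem_and_subset (x := t) (U := ⊤) trivial
  have hsV : s ∈ V := hst.mem_open V.2 htV
  set a : PrimeSpectrum Γ(S, V) := hV.primeIdealOf ⟨s, hsV⟩ with ha
  set b : PrimeSpectrum Γ(S, V) := hV.primeIdealOf ⟨t, htV⟩ with hb
  have hfa : hV.fromSpec a = s := hV.fromSpec_primeIdealOf ⟨s, hsV⟩
  have hfb : hV.fromSpec b = t := hV.fromSpec_primeIdealOf ⟨t, htV⟩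
  have hab : a ≤ b := by
    rw [← fromSpec_specializes_iff hV, hfa, hfb]; exact hst
  have hlt : a < b := by
    refine lt_of_le_of_ne hab ?_
    intro h
    apply hne
    rw [← hfa, ← hfb, h]
  have hdt : ringKrullDim (S.presheaf.stalk t) = b.asIdeal.height := by
    letI := S.presheaf.algebra_section_stalk ⟨t, htV⟩
    haveI := hV.isLocalization_stalk ⟨t, htV⟩
    exact IsLocalization.AtPrime.ringKrullDim_eq_height b.asIdeal _
  have hds : ringKrullDim (S.presheaf.stalk s) = a.asIdeal.height := by
    letI := S.presheaf.algebra_section_stalk ⟨s, hsV⟩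
    haveI := hV.isLocalization_stalk ⟨s, hsV⟩
    exact IsLocalization.AtPrime.ringKrullDim_eq_height a.asIdeal _
  have key : b.asIdeal.height = a.asIdeal.height + cod a b := by
    letI := S.presheaf.algebra_section_stalk ⟨t, htV⟩
    haveI : IsLocalization.AtPrime (S.presheaf.stalk t) b.asIdeal :=
      hV.isLocalization_stalk ⟨t, htV⟩
    haveI := hreg t
    haveI : IsDomain (S.presheaf.stalk t) := Groth.Agent.Lead.RLR.isDomain _
    exact height_eq_add_cod_of_localization b (S.presheaf.stalk t)
      ((huc t).2 _ inferInstance) a hab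
  obtain ⟨h1t, h2t⟩ := hδS t
  obtain ⟨h1s, h2s⟩ := hδS s
  rw [hdt] at h1t
  rw [hds] at h1s
  have h1t' : b.asIdeal.height = ((-δS t).toNat : ℕ∞) := by exact_mod_cast h1t
  have h1s' : a.asIdeal.height = ((-δS s).toNat : ℕ∞) := by exact_mod_cast h1s
  rw [h1t', h1s'] at key
  have hone : 1 ≤ cod a b := one_le_cod_of_lt hlt
  have hfin : cod a b ≠ ⊤ := by
    intro h
    rw [h] at key
    simp at key
  obtain ⟨k, hk⟩ := ENat.ne_top_iff_exists.mp hfin
  rw [← hk] at key hone
  have key' : (-δS t).toNat = (-δS s).toNat + k := by exact_mod_cast key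
  have hone' : 1 ≤ k := by exact_mod_cast hone
  refine ⟨by omega, fun himm => ?_⟩
  have hcov : a ⋖ b := covBy_of_immediate hV a b hlt (by rw [hfa, hfb]; exact himm)
  have hk1 : cod a b = 1 := cod_of_covBy hcov
  rw [← hk] at hk1
  have hk1' : k = 1 := by exact_mod_cast hk1
  omega

theorem isDimFun_of_regular {X : Scheme.{u}} (f : X ⟶ S) [LocallyOfFiniteType f]
    (hreg : ∀ s : S, IsRegularLocalRing (S.presheaf.stalk s))
    (huc : ∀ s : S, CAlg.IsUniversallyCatenary (S.presheaf.stalk s))
    (δS : S → ℤ) (hδS : ∀ s : S, ringKrullDim (S.presheaf.stalk s) =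
      ((-δS s).toNat : WithBot ℕ∞) ∧ δS s ≤ 0)
    (δ : X → ℤ) (hδ : Cyc.DeltaCompat f δ δS) : Cyc.IsDimFun X δ :=
  isDimFun_of_deltaCompat f δS ⟨inferInstance, huc, isDimFun_neg_stalkDim hreg huc δS hδS⟩ δ hδ

end Sch

end Groth.Agent.H48.CycDim4
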