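import Mathlib
import Groth.Prelude.Def_Cyc

/-!
# Points of maximal δ-dimension in a closed subscheme are generic; finite length at generic points
-/

set_option autoImplicit false
set_option linter.unusedSectionVars false
set_option linter.style.haveILetI false
universe u

open AlgebraicGeometry CategoryTheory TopologicalSpace Opposite

namespace Groth.Agent.H48.CycDim5

theorem length_stalk_lt_top_of_maximal (Z : Scheme.{u}) [IsLocallyNoetherian Z] (ξ' : Z)
    (hmax : ∀ z : Z, z ⤳ ξ' → z = ξ') :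
    Module.length ↑(Z.presheaf.stalk ξ') ↑(Z.presheaf.stalk ξ') < ⊤ := by
  have hco : Order.coheight ξ' = 0 := by
    rw [Order.coheight_eq_zero]
    intro b hb
    have : b = ξ' := hmax b hb
    rw [this]
  haveI : Ring.KrullDimLE 0 (Z.presheaf.stalk ξ') :=
    krullDimLE_of_coheight_le (by rw [hco]; rfl)
  haveI : IsArtinianRing (Z.presheaf.stalk ξ') := isArtinianRing_iff_krullDimLE_zero.mpr inferInstance
  exact lt_top_iff_ne_top.mpr Module.length_ne_top

theorem maximal_and_length_finite (X Z : Scheme.{u}) (δ : X → ℤ) (hX : Cyc.IsSetup X δ)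
    (i : Z ⟶ X) [IsClosedImmersion i] (k : ℤ) (hZ : ∀ z : Z, δ (i z) ≤ k) (ξ : Z)
    (hξ : δ (i ξ) = k) :
    (∀ z : Z, z ⤳ ξ → z = ξ) ∧ ∀ ξ' : Z, (∀ z : Z, z ⤳ ξ' → z = ξ') →
      Module.length ↑(Z.presheaf.stalk ξ') ↑(Z.presheaf.stalk ξ') < ⊤ := by
  obtain ⟨hN, -, hδ⟩ := hX
  haveI := hN
  haveI : IsLocallyNoetherian Z := LocallyOfFiniteType.isLocallyNoetherian i
  refine ⟨fun z hz => ?_, fun ξ' h => length_stalk_lt_top_of_maximal Z ξ' h⟩
  by_contra hne
  have h1 : i z ⤳ i ξ := hz.map i.continuous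
  have h2 : i z ≠ i ξ := fun h => hne (i.isEmbedding.injective h)
  have h3 := (hδ _ _ h1 h2).1
  have h4 := hZ z
  omega

end Groth.Agent.H48.CycDim5
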