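import Mathlib
import Groth.Prelude.Def_Cyc
import Groth.Agent.H48.CycFib
import Groth.Agent.H48.CompDimBC
import Groth.Agent.H48.DimFunSch

/-!
# The induced dimension function at generic points of a flat base change
-/

set_option autoImplicit false
set_option linter.unusedSectionVars false
set_option linter.style.haveILetI false
universe u

open AlgebraicGeometry CategoryTheory CategoryTheory.Limits TopologicalSpace Opposite

namespace Groth.Agent.H48.DeltaBC

open Groth.Agent.H48.CycFib Groth.Agent.H48.DimFunSch

section Fibre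

variable {X Y : Scheme.{u}} (f : X ⟶ Y) [LocallyOfFiniteType f] (δX : X → ℤ) (δY : Y → ℤ)
  (hδX : Cyc.IsDimFun X δX) (hδ : Cyc.DeltaCompat f δX δY)

include hδX hδ in
/-- The closure of a point `t` of the fibre over `y` has dimension `δX t - δY y`. -/
theorem topologicalKrullDim_closure_fiber (y : Y) (z : X) (hz : f z = y) (t : f.fiber y)
    (ht : f.fiberι y t = z) :
    topologicalKrullDim ↥(closure ({t} : Set (f.fiber y))) =
      (((δX z - δY y).toNat : ℕ∞) : WithBot ℕ∞) := by
  subst hz
  have : t = f.asFiber z := by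
    apply (f.fiberι (f z)).isEmbedding.injective
    rw [ht, Scheme.Hom.fiberι_asFiber]
  subst this
  exact topologicalKrullDim_closure_asFiber f δX δY hδX hδ z

end Fibre

section Main

variable {S S' X : Scheme.{u}} (a : X ⟶ S) (g : S' ⟶ S)

/-- A maximal point of `X ×_S S'` maps to a point of `S'` which is maximal in its `g`-fibre. -/
theorem snd_generic_in_fibre (x' : ↥(pullback a g)) (hx' : ∀ y : ↥(pullback a g), y ⤳ x' → y = x') :
    ∀ y : S', g y = g (pullback.snd a g x') → y ⤳ pullback.snd a g x' →
      y = pullback.snd a g x' := by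
  intro y hy hys
  obtain ⟨x, hx⟩ : ∃ x : X, pullback.fst a g x' = x := ⟨_, rfl⟩
  have hpb := isPullback_fiberToSpecResidueField_of_isPullback
    (IsPullback.of_hasPullback a g).flip x
  set ψ : (pullback.fst a g).fiber x ⟶ g.fiber (a x) :=
    pullback.map (pullback.fst a g) (X.fromSpecResidueField x) g
    (S.fromSpecResidueField (a x)) (pullback.snd a g) (Spec.map (a.residueFieldMap x)) a
    (IsPullback.of_hasPullback a g).flip.w.symm (by simp) with hψ
  have hflat0 : Flat (Spec.map (a.residueFieldMap x)) := by
    rw [Flat.SpecMap_iff]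
    letI := (a.residueFieldMap x).hom.toAlgebra
    change (algebraMap (S.residueField (a x)) (X.residueField x)).Flat
    rw [RingHom.flat_algebraMap_iff]
    infer_instance
  have hflat : Flat ψ := MorphismProperty.of_isPullback (P := @Flat) hpb.flip hflat0
  have hax : a x = g (pullback.snd a g x') := by
    rw [← hx]
    have := congrArg (fun h => h.base x') (pullback.condition (f := a) (g := g))
    exact this
  have hyr : y ∈ Set.range (g.fiberι (a x)) := by
    rw [Scheme.Hom.range_fiberι]
    simp only [Set.mem_preimage, Set.mem_singleton_iff]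
    rw [hy, hax]
  obtain ⟨fy, hfy⟩ := hyr
  have hwr : x' ∈ Set.range ((pullback.fst a g).fiberι x) := by
    rw [Scheme.Hom.range_fiberι]
    exact hx
  obtain ⟨w, hw⟩ := hwr
  have hψι : ψ ≫ g.fiberι (a x) = (pullback.fst a g).fiberι x ≫ pullback.snd a g :=
    pullback.lift_fst _ _ _
  have hψpt : ∀ v : (pullback.fst a g).fiber x,
      g.fiberι (a x) (ψ v) = pullback.snd a g ((pullback.fst a g).fiberι x v) := by
    intro v
    rw [← Scheme.Hom.comp_apply, ← Scheme.Hom.comp_apply, hψι]
  have hψw : g.fiberι (a x) (ψ w) = pullback.snd a g x' := by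
    rw [hψpt, hw]
  have hsp : fy ⤳ ψ w := by
    rw [← (g.fiberι (a x)).isEmbedding.isInducing.specializes_iff, hfy, hψw]
    exact hys
  obtain ⟨wy, hwy, hψwy⟩ := (Flat.generalizingMap ψ) hsp
  have h1 : (pullback.fst a g).fiberι x wy ⤳ x' := by
    have := hwy.map ((pullback.fst a g).fiberι x).continuous
    rwa [hw] at this
  have h2 := hx' _ h1
  have h3 : pullback.snd a g ((pullback.fst a g).fiberι x wy) = y := by
    rw [← hψpt, hψwy, hfy]
  rw [← h3, h2]

/-- A maximal point of a flat base change of an integral scheme lies over the generic point. -/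
theorem fst_eq_genericPoint [Flat g] [IsIntegral X] (x' : ↥(pullback a g))
    (hx' : ∀ y : ↥(pullback a g), y ⤳ x' → y = x') :
    pullback.fst a g x' = genericPoint X := by
  have hflat : Flat (pullback.fst a g) := inferInstance
  have hsp : genericPoint X ⤳ pullback.fst a g x' := genericPoint_specializes _
  obtain ⟨z', hz', hz'x⟩ := (Flat.generalizingMap (pullback.fst a g)) hsp
  rw [← hz'x, hx' z' hz']

variable [LocallyOfFiniteType a] (δS : S → ℤ) (δS' : S' → ℤ) (δX : X → ℤ)
  (δX' : ↥(pullback a g) → ℤ) (hS : Cyc.IsSetup S δS) (hS' : Cyc.IsSetup S' δS')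
  (hX : Cyc.DeltaCompat a δX δS) (hX' : Cyc.DeltaCompat (pullback.snd a g) δX' δS')

include hS hS' hX hX' in
/-- The relative `δ` at a maximal point of the base change agrees with the relative `δ` at its
image. -/
theorem delta_sub_eq_of_maximal (x' : ↥(pullback a g))
    (hx' : ∀ y : ↥(pullback a g), y ⤳ x' → y = x') :
    δX' x' - δS' (pullback.snd a g x') =
      δX (pullback.fst a g x') - δS (g (pullback.snd a g x')) := by
  have hdX : Cyc.IsDimFun X δX := isDimFun_of_deltaCompat a δS hS δX hX
  have hdX' : Cyc.IsDimFun (pullback a g) δX' :=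
    isDimFun_of_deltaCompat (pullback.snd a g) δS' hS' δX' hX'
  obtain ⟨s', hs'⟩ : ∃ s' : S', pullback.snd a g x' = s' := ⟨_, rfl⟩
  obtain ⟨x, hx⟩ : ∃ x : X, pullback.fst a g x' = x := ⟨_, rfl⟩
  rw [hs', hx]
  have hax : a x = g s' := by
    rw [← hx, ← hs']
    have := congrArg (fun h => h.base x') (pullback.condition (f := a) (g := g))
    exact this
  have hpb := isPullback_fiberToSpecResidueField_of_isPullback
    (IsPullback.of_hasPullback a g) s'
  set φ : (pullback.snd a g).fiber s' ⟶ a.fiber (g s') :=
    pullback.map (pullback.snd a g) (S'.fromSpecResidueField s') a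
    (S.fromSpecResidueField (g s')) (pullback.fst a g) (Spec.map (g.residueFieldMap s')) g
    (IsPullback.of_hasPullback a g).w.symm (by simp) with hφ
  have htr : x' ∈ Set.range ((pullback.snd a g).fiberι s') := by
    rw [Scheme.Hom.range_fiberι]
    exact hs'
  obtain ⟨t', ht'⟩ := htr
  have hφι : φ ≫ a.fiberι (g s') = (pullback.snd a g).fiberι s' ≫ pullback.fst a g :=
    pullback.lift_fst _ _ _
  have hφt : a.fiberι (g s') (φ t') = x := by
    rw [← Scheme.Hom.comp_apply, hφι, Scheme.Hom.comp_apply, ht', hx]
  have h1 := topologicalKrullDim_closure_fiber (pullback.snd a g) δX' δS' hdX' hX' s' x' hs' t' ht'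
  have h2 := topologicalKrullDim_closure_fiber a δX δS hdX hX (g s') x hax (φ t') hφt
  have hmax : ∀ η' : ↥((pullback.snd a g).fiber s'), η' ⤳ t' → φ t' ⤳ φ η' → η' = t' := by
    intro η' hη _
    have e1 : (pullback.snd a g).fiberι s' η' ⤳ x' := by
      have := hη.map ((pullback.snd a g).fiberι s').continuous
      rwa [ht'] at this
    have e2 := hx' _ e1
    apply ((pullback.snd a g).fiberι s').isEmbedding.injective
    rw [e2, ht']
  haveI : LocallyOfFiniteType (a.fiberToSpecResidueField (g s')) :=
    MorphismProperty.pullback_snd _ _ inferInstance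
  have h3 := Groth.Agent.H48.CompDimBC.topologicalKrullDim_closure_eq_of_maximal
    (S.residueField (g s')) (S'.residueField s') (g.residueFieldMap s').hom
    (a.fiberToSpecResidueField (g s')) φ ((pullback.snd a g).fiberToSpecResidueField s') hpb t' hmax
  rw [h1, h2] at h3
  have h4 : (δX' x' - δS' s').toNat = (δX x - δS (g s')).toNat := by
    exact_mod_cast h3
  obtain ⟨n', -, hn'⟩ := hX' x'
  obtain ⟨n, -, hn⟩ := hX x
  rw [hax] at hn
  rw [hs'] at hn'
  have e1 : δX' x' - δS' s' = n' := by rw [hn']; ring
  have e2 : δX x - δS (g s') = n := by rw [hn]; ring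
  rw [e1, e2] at h4 ⊢
  simp only [Int.toNat_natCast] at h4
  rw [h4]

end Main

end Groth.Agent.H48.DeltaBC
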