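import Mathlib
import Groth.Agent.H48.GeomRedPI

/-!
# The equaliser of `L ⇉` (completion of `L ⊗[K] L` along the diagonal) is the separable closure
-/

set_option autoImplicit false
set_option linter.style.haveILetI false
set_option linter.unusedVariables false
universe u
open TensorProduct Polynomial

namespace Groth.Agent.H48.DiagSep

/-- equality in the adic completion means congruence modulo all powers -/
theorem of_eq_of_iff {R : Type*} [CommRing R] (I : Ideal R) (a b : R) :
    AdicCompletion.of I R a = AdicCompletion.of I R b ↔ ∀ n : ℕ, a - b ∈ I ^ n := by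
  constructor
  · intro h n
    have h1 := congrArg (fun z => z.val n) h
    simp only [AdicCompletion.of_apply] at h1
    have h2 := (Submodule.Quotient.eq _).mp h1
    simpa using h2
  · intro h
    apply AdicCompletion.ext
    intro n
    rw [AdicCompletion.of_apply, AdicCompletion.of_apply]
    apply (Submodule.Quotient.eq _).mpr
    simpa using h n

/-- flat base change preserves `ker ≤ range` for an endomorphism -/
theorem ker_lTensor_le_range {F : Type*} [CommRing F] (M N : Type*) [AddCommGroup M] [Module F M]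
    [Module.Flat F M] [AddCommGroup N] [Module F N] (f : N →ₗ[F] N)
    (h : LinearMap.ker f ≤ LinearMap.range f) :
    LinearMap.ker (f.lTensor M) ≤ LinearMap.range (f.lTensor M) := by
  intro y hy
  have hex := Module.Flat.lTensor_exact M (LinearMap.exact_subtype_ker_map f)
  obtain ⟨z, rfl⟩ := (hex y).mp hy
  obtain ⟨w, hw⟩ := LinearMap.lTensor_surjective M (LinearMap.surjective_rangeRestrict f)
    ((Submodule.inclusion h).lTensor M z)
  refine ⟨w, ?_⟩
  have e1 : f = (LinearMap.range f).subtype ∘ₗ f.rangeRestrict := by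
    ext n; rfl
  have e2 : (LinearMap.ker f).subtype = (LinearMap.range f).subtype ∘ₗ Submodule.inclusion h := by
    ext n; rfl
  conv_lhs => rw [e1]
  rw [LinearMap.lTensor_comp_apply, hw, ← LinearMap.lTensor_comp_apply, ← e2]

variable (K L : Type u) [Field K] [Field L] [Algebra K L]

/-- the difference element -/
noncomputable def dd (x : L) : L ⊗[K] L := x ⊗ₜ[K] (1 : L) - (1 : L) ⊗ₜ[K] x

theorem dd_mem_ideal (x : L) : dd K L x ∈ KaehlerDifferential.ideal K L := by
  rw [dd, KaehlerDifferential.ideal, RingHom.mem_ker]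
  simp

/-- separable algebraic elements: `dd x` lies in all powers of the diagonal ideal. -/
theorem dd_mem_pow_of_isSeparable (x : L) (hx : IsSeparable K x) (n : ℕ) :
    dd K L x ∈ KaehlerDifferential.ideal K L ^ n := by
  have hint : IsIntegral K x := hx.isIntegral
  let E := IntermediateField.adjoin K {x}
  haveI hfin : FiniteDimensional K E := IntermediateField.adjoin.finiteDimensional hint
  haveI hsep : Algebra.IsSeparable K E :=
    (IntermediateField.isSeparable_adjoin_simple_iff_isSeparable K L).mpr hx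
  haveI hun : Algebra.FormallyUnramified K E := Algebra.FormallyUnramified.of_isSeparable K E
  let t := Algebra.FormallyUnramified.elem K E
  let xE : E := ⟨x, IntermediateField.mem_adjoin_simple_self K x⟩
  let j : E ⊗[K] E →ₐ[K] L ⊗[K] L := Algebra.TensorProduct.map E.val E.val
  have h1 : (xE ⊗ₜ[K] (1 : E) - (1 : E) ⊗ₜ[K] xE) * t = 0 := by
    have := Algebra.FormallyUnramified.one_tmul_sub_tmul_one_mul_elem (R := K) (S := E) xE
    linear_combination (-1 : E ⊗[K] E) * this
  have h2 : Algebra.TensorProduct.lmul' K t = 1 := Algebra.FormallyUnramified.lmul_elem (R := K) (S := E)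
  -- 1 - j t ∈ I
  have h3 : 1 - j t ∈ KaehlerDifferential.ideal K L := by
    rw [KaehlerDifferential.ideal, RingHom.mem_ker, map_sub, map_one]
    have : Algebra.TensorProduct.lmul' K (j t) = ((Algebra.TensorProduct.lmul' K t : E) : L) := by
      generalize t = s
      induction s using TensorProduct.induction_on with
      | zero => simp
      | tmul a b => simp [j]
      | add a b ha hb => simp only [map_add, ha, hb]; rfl
    rw [this, h2]
    simp
  have h4 : dd K L x * j t = 0 := by
    have : dd K L x = j (xE ⊗ₜ[K] (1 : E) - (1 : E) ⊗ₜ[K] xE) := by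
      simp [dd, j, xE]
    rw [this, ← map_mul, h1, map_zero]
  have h5 : ∀ m : ℕ, dd K L x = dd K L x * (1 - j t) ^ m := by
    intro m
    induction m with
    | zero => simp
    | succ m ih =>
      rw [pow_succ, ← mul_assoc, ← ih, mul_sub, mul_one, h4, sub_zero]
  rw [h5 n]
  exact Ideal.mul_mem_left _ _ (Ideal.pow_mem_pow h3 n)

/-- `K[X] ⊗ L ≃ L[X]` -/
noncomputable def polyTensorEquiv : K[X] ⊗[K] L ≃ₐ[K] L[X] :=
  (Algebra.TensorProduct.comm K K[X] L).trans (polyEquivTensor K L).symm

theorem polyTensorEquiv_X_tmul :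
    polyTensorEquiv K L ((X : K[X]) ⊗ₜ[K] (1 : L)) = (X : L[X]) := by
  simp [polyTensorEquiv]

theorem polyTensorEquiv_one_tmul (l : L) :
    polyTensorEquiv K L ((1 : K[X]) ⊗ₜ[K] l) = C l := by
  simp [polyTensorEquiv, Algebra.smul_def]

/-- multiplication by `X ⊗ 1 - 1 ⊗ x` is injective on `K[X] ⊗ L`. -/
theorem mul_delta_injective (x : L) :
    Function.Injective (fun t : K[X] ⊗[K] L => t * ((X : K[X]) ⊗ₜ[K] (1 : L) - (1 : K[X]) ⊗ₜ[K] x)) := by
  intro a b hab
  apply (polyTensorEquiv K L).injective
  have h := congrArg (polyTensorEquiv K L) hab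
  simp only [map_mul, map_sub, polyTensorEquiv_X_tmul, polyTensorEquiv_one_tmul] at h
  exact (monic_X_sub_C x).isRegular.right h

theorem eq_zero_of_mul_dd_eq_zero_of_transcendental (x : L) (hx : Transcendental K x)
    (s : L ⊗[K] L) (hs : s * dd K L x = 0) : s = 0 := by
  letI : Algebra K[X] L := (Polynomial.aeval x).toRingHom.toAlgebra
  have hsmul : ∀ (p : K[X]) (l : L), p • l = Polynomial.aeval x p * l := fun p l => rfl
  haveI : IsScalarTower K K[X] L := IsScalarTower.of_algebraMap_eq (fun k => by
    show algebraMap K L k = Polynomial.aeval x (algebraMap K K[X] k)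
    simp)
  haveI : Module.IsTorsionFree K[X] L := ⟨fun r hr => by
    have hr0 : r ≠ 0 := hr.ne_zero
    have hrx : Polynomial.aeval x r ≠ 0 := fun h => hx ⟨r, hr0, h⟩
    intro a b hab
    simp only [hsmul] at hab
    exact mul_left_cancel₀ hrx hab⟩
  haveI : Module.Flat K[X] L := inferInstance
  let e := Algebra.TensorProduct.cancelBaseChange K K[X] K[X] L L
  let δ : K[X] ⊗[K] L := (X : K[X]) ⊗ₜ[K] (1 : L) - (1 : K[X]) ⊗ₜ[K] x
  let f : K[X] ⊗[K] L →ₗ[K[X]] K[X] ⊗[K] L := LinearMap.mulRight K[X] δ
  have hf : Function.Injective f := mul_delta_injective K L x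
  have hinj := Module.Flat.lTensor_preserves_injective_linearMap (M := L) f hf
  have key : ∀ y, e (f.lTensor L y) = e y * dd K L x := by
    intro y
    induction y using TensorProduct.induction_on with
    | zero => simp
    | tmul a t =>
      induction t using TensorProduct.induction_on with
      | zero => simp
      | tmul p b =>
        simp only [LinearMap.lTensor_tmul, f, δ, LinearMap.mulRight_apply, mul_sub,
          Algebra.TensorProduct.tmul_mul_tmul, mul_one, TensorProduct.tmul_sub, map_sub, e,
          Algebra.TensorProduct.cancelBaseChange_tmul, dd, hsmul, map_mul, Polynomial.aeval_X]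
        ring_nf
      | add t1 t2 h1 h2 =>
        simp only [TensorProduct.tmul_add, map_add, add_mul, h1, h2]
    | add y1 y2 h1 h2 => simp only [map_add, add_mul, h1, h2]
  have h0 : f.lTensor L (e.symm s) = 0 := by
    apply e.injective
    rw [key, AlgEquiv.apply_symm_apply, hs, map_zero]
  have h1 := hinj (h0.trans (map_zero _).symm)
  have := congrArg e h1
  simpa using this

/-- abstract key lemma: the annihilator condition over `F ⊗ L` lifts to `L ⊗ L`. -/
theorem exists_mul_of_mul_dd_eq_zero (F : Type u) [Field F] [Algebra K F] [Algebra F L]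
    [IsScalarTower K F L] (x' : F)
    (hC : ∀ t : F ⊗[K] L, t * (x' ⊗ₜ[K] (1 : L) - (1 : F) ⊗ₜ[K] (algebraMap F L x')) = 0 →
      ∃ u, t = u * (x' ⊗ₜ[K] (1 : L) - (1 : F) ⊗ₜ[K] algebraMap F L x'))
    (s : L ⊗[K] L) (hs : s * dd K L (algebraMap F L x') = 0) :
    ∃ w, s = w * dd K L (algebraMap F L x') := by
  let e := Algebra.TensorProduct.cancelBaseChange K F F L L
  let δ : F ⊗[K] L := x' ⊗ₜ[K] (1 : L) - (1 : F) ⊗ₜ[K] (algebraMap F L x')
  let f : F ⊗[K] L →ₗ[F] F ⊗[K] L := LinearMap.mulRight F δ
  have hkr : LinearMap.ker f ≤ LinearMap.range f := by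
    intro t ht
    obtain ⟨u, hu⟩ := hC t ht
    exact ⟨u, hu.symm⟩
  have key : ∀ y, e (f.lTensor L y) = e y * dd K L (algebraMap F L x') := by
    intro y
    induction y using TensorProduct.induction_on with
    | zero => simp
    | tmul a t =>
      induction t using TensorProduct.induction_on with
      | zero => simp
      | tmul p b =>
        simp only [LinearMap.lTensor_tmul, f, δ, LinearMap.mulRight_apply, mul_sub,
          Algebra.TensorProduct.tmul_mul_tmul, mul_one, TensorProduct.tmul_sub, map_sub, e,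
          Algebra.TensorProduct.cancelBaseChange_tmul, dd, Algebra.smul_def, map_mul]
        ring_nf
      | add t1 t2 h1 h2 =>
        simp only [TensorProduct.tmul_add, map_add, add_mul, h1, h2]
    | add y1 y2 h1 h2 => simp only [map_add, add_mul, h1, h2]
  have h0 : e.symm s ∈ LinearMap.ker (f.lTensor L) := by
    rw [LinearMap.mem_ker]
    apply e.injective
    rw [key, AlgEquiv.apply_symm_apply, hs, map_zero]
  obtain ⟨w, hw⟩ := ker_lTensor_le_range L (F ⊗[K] L) f hkr h0
  refine ⟨e w, ?_⟩
  rw [← key, hw, AlgEquiv.apply_symm_apply]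

/-- square factor of an inseparable minimal polynomial -/
theorem sq_dvd_map_minpoly (x : L) (hint : IsIntegral K x) (hns : ¬ IsSeparable K x) :
    (X - C x) ^ 2 ∣ (minpoly K x).map (algebraMap K L) := by
  have hirr := minpoly.irreducible hint
  have hder : derivative (minpoly K x) = 0 := by
    by_contra h
    exact hns ((Polynomial.separable_iff_derivative_ne_zero hirr).mpr h)
  have h0 : (minpoly K x).map (algebraMap K L) ≠ 0 :=
    (Polynomial.map_ne_zero_iff (algebraMap K L).injective).mpr (minpoly.ne_zero hint)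
  rw [← Polynomial.le_rootMultiplicity_iff h0]
  have h1 : ((minpoly K x).map (algebraMap K L)).IsRoot x := by
    rw [Polynomial.IsRoot, Polynomial.eval_map, ← Polynomial.aeval_def, minpoly.aeval]
  have h2 : (derivative ((minpoly K x).map (algebraMap K L))).IsRoot x := by
    rw [Polynomial.derivative_map, hder, Polynomial.map_zero]
    exact Polynomial.IsRoot.def.mpr (by simp)
  exact (Polynomial.one_lt_rootMultiplicity_iff_isRoot h0).mpr ⟨h1, h2⟩

/-- the annihilator condition in `AdjoinRoot q` when `q` has a double root -/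
theorem adjoinRoot_ann {A : Type*} [CommRing A] (q : A[X]) (a : A) (h : A[X])
    (hq : q = (X - C a) ^ 2 * h) (t : AdjoinRoot q)
    (ht : t * AdjoinRoot.mk q (X - C a) = 0) : ∃ u, t = u * AdjoinRoot.mk q (X - C a) := by
  obtain ⟨g, rfl⟩ := AdjoinRoot.mk_surjective t
  rw [← map_mul, AdjoinRoot.mk_eq_zero] at ht
  obtain ⟨r, hr⟩ := ht
  have h1 : g * (X - C a) = ((X - C a) * h * r) * (X - C a) := by
    rw [hr, hq]; ring
  have h2 : g = (X - C a) * h * r := (monic_X_sub_C a).isRegular.right h1
  refine ⟨AdjoinRoot.mk q (h * r), ?_⟩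
  rw [← map_mul, h2]
  congr 1
  ring

theorem exists_mul_of_mul_dd_eq_zero_of_not_separable (x : L) (hint : IsIntegral K x)
    (hns : ¬ IsSeparable K x) (s : L ⊗[K] L) (hs : s * dd K L x = 0) :
    ∃ w, s = w * dd K L x := by
  haveI : Fact (Irreducible (minpoly K x)) := ⟨minpoly.irreducible hint⟩
  let φ : AdjoinRoot (minpoly K x) →ₐ[K] L :=
    AdjoinRoot.liftAlgHom (minpoly K x) (Algebra.ofId K L) x (by
      show eval₂ (algebraMap K L) x (minpoly K x) = 0
      rw [← Polynomial.aeval_def]
      exact minpoly.aeval K x)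
  letI : Algebra (AdjoinRoot (minpoly K x)) L := φ.toRingHom.toAlgebra
  haveI : IsScalarTower K (AdjoinRoot (minpoly K x)) L :=
    IsScalarTower.of_algebraMap_eq (fun k => (φ.commutes k).symm)
  have hroot : algebraMap (AdjoinRoot (minpoly K x)) L (AdjoinRoot.root (minpoly K x)) = x :=
    AdjoinRoot.liftAlgHom_root _ _ _ _
  have hs' : s * dd K L (algebraMap (AdjoinRoot (minpoly K x)) L
      (AdjoinRoot.root (minpoly K x))) = 0 := by rw [hroot]; exact hs
  have := exists_mul_of_mul_dd_eq_zero K L (AdjoinRoot (minpoly K x))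
    (AdjoinRoot.root (minpoly K x)) ?_ s hs'
  · rw [hroot] at this
    exact this
  -- the annihilator condition
  rw [hroot]
  let q : (L ⊗[K] K)[X] := (minpoly K x).map
    (Algebra.TensorProduct.includeRight (R := K) (A := L) (B := K)).toRingHom
  let ψ0 := AdjoinRoot.tensorAlgEquiv (R := K) (S := K) (T := L) (minpoly K x) q rfl
  let ψ : AdjoinRoot (minpoly K x) ⊗[K] L ≃+* AdjoinRoot q :=
    (Algebra.TensorProduct.comm K (AdjoinRoot (minpoly K x)) L).toRingEquiv.trans ψ0.toRingEquiv
  have hψδ : ψ (AdjoinRoot.root (minpoly K x) ⊗ₜ[K] (1 : L) -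
      (1 : AdjoinRoot (minpoly K x)) ⊗ₜ[K] x) = AdjoinRoot.mk q (X - C (x ⊗ₜ[K] (1 : K))) := by
    have e1 : ψ (AdjoinRoot.root (minpoly K x) ⊗ₜ[K] (1 : L)) = AdjoinRoot.root q := by
      show ψ0 ((1 : L) ⊗ₜ[K] AdjoinRoot.root (minpoly K x)) = _
      exact AdjoinRoot.tensorAlgEquiv_root _ _ _
    have e2 : ψ ((1 : AdjoinRoot (minpoly K x)) ⊗ₜ[K] x) =
        AdjoinRoot.of q (x ⊗ₜ[K] (1 : K)) := by
      show ψ0 (x ⊗ₜ[K] (1 : AdjoinRoot (minpoly K x))) = _
      have : x ⊗ₜ[K] (1 : AdjoinRoot (minpoly K x)) =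
          algebraMap L (L ⊗[K] AdjoinRoot (minpoly K x)) x := by
        rw [Algebra.TensorProduct.algebraMap_apply, Algebra.algebraMap_self, RingHom.id_apply]
      rw [this, AlgEquiv.commutes, AdjoinRoot.algebraMap_eq']
      rfl
    rw [map_sub, e1, e2, map_sub, AdjoinRoot.mk_X, AdjoinRoot.mk_C]
  obtain ⟨h, hh⟩ := sq_dvd_map_minpoly K L x hint hns
  have hq : q = (X - C (x ⊗ₜ[K] (1 : K))) ^ 2 *
      h.map (Algebra.TensorProduct.includeLeft (R := K) (S := K) (A := L) (B := K)).toRingHom := by
    have e3 : q = ((minpoly K x).map (algebraMap K L)).map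
        (Algebra.TensorProduct.includeLeft (R := K) (S := K) (A := L) (B := K)).toRingHom := by
      have hhom : ((Algebra.TensorProduct.includeLeft (R := K) (S := K) (A := L)
          (B := K)).toRingHom).comp (algebraMap K L) =
          (Algebra.TensorProduct.includeRight (R := K) (A := L) (B := K)).toRingHom := by
        ext k
        show (algebraMap K L k) ⊗ₜ[K] (1 : K) = (1 : L) ⊗ₜ[K] k
        rw [Algebra.algebraMap_eq_smul_one, TensorProduct.smul_tmul, smul_eq_mul, mul_one]
      rw [Polynomial.map_map, hhom]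
    rw [e3, hh]
    simp [Polynomial.map_mul, Polynomial.map_pow]
  intro t ht
  have ht' : ψ t * AdjoinRoot.mk q (X - C (x ⊗ₜ[K] (1 : K))) = 0 := by
    rw [← hψδ, ← map_mul, ht, map_zero]
  obtain ⟨u, hu⟩ := adjoinRoot_ann q _ _ hq (ψ t) ht'
  refine ⟨ψ.symm u, ?_⟩
  apply ψ.injective
  rw [map_mul, RingEquiv.apply_symm_apply, hψδ, hu]

/-- **Main theorem** -/
theorem of_tmul_one_eq_iff (hfg : (⊤ : IntermediateField K L).FG) (x : L) :
    AdicCompletion.of (KaehlerDifferential.ideal K L) (L ⊗[K] L) (x ⊗ₜ[K] (1 : L)) =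
        AdicCompletion.of (KaehlerDifferential.ideal K L) (L ⊗[K] L) ((1 : L) ⊗ₜ[K] x) ↔
      x ∈ separableClosure K L := by
  rw [of_eq_of_iff, mem_separableClosure_iff]
  constructor
  · intro h
    by_contra hns
    haveI : Algebra.EssFiniteType K L := IntermediateField.fg_top_iff.mp hfg
    haveI : Algebra.EssFiniteType L (L ⊗[K] L) := inferInstance
    haveI : IsNoetherianRing (L ⊗[K] L) :=
      Groth.Agent.H48.GeomRedPI.isNoetherianRing_of_essFiniteType L (L ⊗[K] L)
    have hmem : dd K L x ∈ (⨅ i : ℕ, KaehlerDifferential.ideal K L ^ i • ⊤ :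
        Submodule (L ⊗[K] L) (L ⊗[K] L)) := by
      rw [Submodule.mem_iInf]
      intro i
      rw [smul_eq_mul, Ideal.mul_top]
      exact h i
    obtain ⟨r, hr⟩ := (Ideal.mem_iInf_smul_pow_eq_bot_iff (KaehlerDifferential.ideal K L)
      (dd K L x)).mp hmem
    have h0 : (1 - (r : L ⊗[K] L)) * dd K L x = 0 := by
      have : (r : L ⊗[K] L) * dd K L x = dd K L x := hr
      rw [sub_mul, one_mul, this, sub_self]
    have hne : (1 : L ⊗[K] L) ∉ KaehlerDifferential.ideal K L := by
      intro h1
      rw [KaehlerDifferential.ideal, RingHom.mem_ker, map_one] at h1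
      exact one_ne_zero h1
    by_cases hint : IsIntegral K x
    · obtain ⟨w, hw⟩ := exists_mul_of_mul_dd_eq_zero_of_not_separable K L x hint hns _ h0
      apply hne
      have h1 : 1 - (r : L ⊗[K] L) ∈ KaehlerDifferential.ideal K L := by
        rw [hw]
        exact Ideal.mul_mem_left _ _ (dd_mem_ideal K L x)
      have := Ideal.add_mem _ h1 r.2
      simpa using this
    · have htr : Transcendental K x := by
        rwa [Transcendental, isAlgebraic_iff_isIntegral]
      have := eq_zero_of_mul_dd_eq_zero_of_transcendental K L x htr _ h0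
      apply hne
      have h1 : (1 : L ⊗[K] L) = r := by
        rw [← sub_eq_zero]; exact this
      rw [h1]
      exact r.2
  · intro hx n
    exact dd_mem_pow_of_isSeparable K L x hx n

end Groth.Agent.H48.DiagSep
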