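import Mathlib
import Groth.Prelude.Def_Cyc
import Groth.Agent.H48.CurveDegFinal
import Groth.Agent.H48.ClosedOrd
import Groth.Agent.H48.CycFib

/-!
# The fibre dictionary: cycles on a scheme-theoretic fibre versus cycles on the total space
-/

set_option autoImplicit false
set_option linter.unusedSectionVars false
set_option linter.style.haveILetI false
universe u

open AlgebraicGeometry CategoryTheory CategoryTheory.Limits TopologicalSpace Opposite Topology

namespace Groth.Agent.H48.FibreDict

section Abstract

variable {F V W S : Scheme.{u}}

theorem trdeg_congr_hom (f f' : F ⟶ W) (h : f = f') (u : F) :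
    (letI := (f.residueFieldMap u).hom.toAlgebra
     Algebra.trdeg (W.residueField (f u)) (F.residueField u)) =
    (letI := (f'.residueFieldMap u).hom.toAlgebra
     Algebra.trdeg (W.residueField (f' u)) (F.residueField u)) := by
  subst h
  rfl

theorem residueDegree_congr_hom (f f' : F ⟶ W) (h : f = f') (u : F) :
    f.residueDegree u = f'.residueDegree u := by
  subst h
  rfl

variable (ι : F ⟶ V) (g : V ⟶ W) (c : F ⟶ S) (a : S ⟶ W) (hsq : ι ≫ g = c ≫ a)

include hsq in
theorem residueDegree_eq (u : F) (hι : Function.Surjective (ι.residueFieldMap u).hom)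
    (ha : Function.Surjective (a.residueFieldMap (c u)).hom) :
    c.residueDegree u = g.residueDegree (ι u) := by
  have h1 := Groth.Agent.H48.CycPush.residueDegree_comp ι g u
  have h2 := Groth.Agent.H48.CycPush.residueDegree_comp c a u
  rw [Groth.Agent.H48.EnvelopeSurj.residueDegree_eq_one_of_surjective ι u hι, mul_one] at h1
  rw [Groth.Agent.H48.EnvelopeSurj.residueDegree_eq_one_of_surjective a (c u) ha, one_mul] at h2
  rw [← h1, ← h2]
  exact (residueDegree_congr_hom _ _ hsq u).symm

include hsq in
theorem trdeg_eq (u : F) (hι : Function.Surjective (ι.residueFieldMap u).hom)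
    (ha : Function.Surjective (a.residueFieldMap (c u)).hom) :
    (letI := (c.residueFieldMap u).hom.toAlgebra
     Algebra.trdeg (S.residueField (c u)) (F.residueField u)) =
    (letI := (g.residueFieldMap (ι u)).hom.toAlgebra
     Algebra.trdeg (W.residueField (g (ι u))) (V.residueField (ι u))) := by
  have h1 := Groth.Agent.H48.RelDelta.trdeg_residueField_comp ι g u
  have h2 := Groth.Agent.H48.RelDelta.trdeg_residueField_comp c a u
  rw [Groth.Agent.H48.EnvelopeSurj.trdeg_eq_zero_of_surjective ι u hι, add_zero] at h1
  rw [Groth.Agent.H48.EnvelopeSurj.trdeg_eq_zero_of_surjective a (c u) ha, zero_add] at h2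
  rw [← h1, ← h2]
  exact (trdeg_congr_hom _ _ hsq u).symm

end Abstract

section Fibre

variable {V W : Scheme.{u}} (g : V ⟶ W) (y : W)

/-- The structure morphism of the fibre, with target the spectrum of the residue field as a
field. -/
noncomputable def cF : g.fiber y ⟶ Spec (CommRingCat.of (W.residueField y)) :=
  g.fiberToSpecResidueField y

instance [IsProper g] : IsProper (cF g y) :=
  (inferInstance : IsProper (pullback.snd g (W.fromSpecResidueField y)))

instance [LocallyOfFiniteType g] : LocallyOfFiniteType (cF g y) :=
  (inferInstance : LocallyOfFiniteType (pullback.snd g (W.fromSpecResidueField y)))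

theorem fiber_fac : g.fiberι y ≫ g = cF g y ≫ W.fromSpecResidueField y := g.fiber_fac y

theorem residueFieldMap_fiberι_surjective (u : g.fiber y) :
    Function.Surjective ((g.fiberι y).residueFieldMap u).hom :=
  Groth.Agent.H48.ClosedOrd.residueFieldMap_surjective _ u ((g.fiberι y).stalkMap_surjective u)

theorem residueFieldMap_fromSpecResidueField_surjective
    (s : Spec (CommRingCat.of (W.residueField y))) :
    Function.Surjective ((W.fromSpecResidueField y).residueFieldMap s).hom :=
  Groth.Agent.H48.ClosedOrd.residueFieldMap_surjective _ s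
    ((W.fromSpecResidueField y).stalkMap_surjective s)

theorem residueDegree_cF (u : g.fiber y) :
    (cF g y).residueDegree u = g.residueDegree (g.fiberι y u) :=
  residueDegree_eq (g.fiberι y) g (cF g y) (W.fromSpecResidueField y) (fiber_fac g y) u
    (residueFieldMap_fiberι_surjective g y u)
    (residueFieldMap_fromSpecResidueField_surjective y _)

variable [LocallyOfFiniteType g] (δV : V → ℤ) (δW : W → ℤ) (hδ : Cyc.DeltaCompat g δV δW)

include hδ in
/-- The transcendence degree over the residue field of the base point is the relative
dimension function. -/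
theorem delta_cF (u : g.fiber y) :
    FieldDim.δ (cF g y) u = δV (g.fiberι y u) - δW y := by
  obtain ⟨n, hn, hδn⟩ := hδ (g.fiberι y u)
  have h1 := trdeg_eq (g.fiberι y) g (cF g y) (W.fromSpecResidueField y) (fiber_fac g y) u
    (residueFieldMap_fiberι_surjective g y u)
    (residueFieldMap_fromSpecResidueField_surjective y _)
  rw [hn] at h1
  have hy : g (g.fiberι y u) = y := Groth.Agent.H48.CycFib.map_fiberι g y u
  rw [hy] at hδn
  simp only [FieldDim.δ]
  rw [h1, hδn]
  simp

end Fibre

end Groth.Agent.H48.FibreDict
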