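import Mathlib
import Groth.Prelude.Def_Cyc
import Groth.Agent.H48.FibreDict

/-!
# Proper pushforward kills principal divisors of subvarieties whose dimension drops
-/

set_option autoImplicit false
set_option linter.unusedSectionVars false
set_option linter.style.haveILetI false
universe u

open AlgebraicGeometry CategoryTheory CategoryTheory.Limits TopologicalSpace Opposite Topology

namespace Groth.Agent.H48.DimDrop

open Groth.Agent.H48.FibreDict Groth.Agent.H48.CurveDeg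

variable {V W : Scheme.{u}} (g : V ⟶ W) (y : W) [LocallyOfFiniteType g]
  (δV : V → ℤ) (δW : W → ℤ) (hδ : Cyc.DeltaCompat g δV δW)

include hδ in
theorem divFun_fiberι (u₁ u : g.fiber y) (t₁ : V.residueField (g.fiberι y u₁)) :
    Cyc.divFun (FieldDim.δ (cF g y)) u₁ (((g.fiberι y).residueFieldMap u₁).hom t₁) u =
      Cyc.divFun δV (g.fiberι y u₁) t₁ (g.fiberι y u) := by
  unfold Cyc.divFun
  have hsp : g.fiberι y u₁ ⤳ g.fiberι y u ↔ u₁ ⤳ u :=
    Groth.Agent.H48.CycFib.fiberι_specializes_iff g y u₁ u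
  have hd1 := delta_cF g y δV δW hδ u₁
  have hd := delta_cF g y δV δW hδ u
  by_cases h : u₁ ⤳ u ∧ FieldDim.δ (cF g y) u + 1 = FieldDim.δ (cF g y) u₁
  · have h' : g.fiberι y u₁ ⤳ g.fiberι y u ∧ δV (g.fiberι y u) + 1 = δV (g.fiberι y u₁) :=
      ⟨hsp.mpr h.1, by have := h.2; omega⟩
    rw [dif_pos h, dif_pos h']
    exact Groth.Agent.H48.ClosedOrd.ordAt_map_of_surjectiveOnStalks (g.fiberι y) u u₁ h.1 t₁
  · have h' : ¬ (g.fiberι y u₁ ⤳ g.fiberι y u ∧ δV (g.fiberι y u) + 1 = δV (g.fiberι y u₁)) :=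
      fun h' => h ⟨hsp.mp h'.1, by have := h'.2; omega⟩
    rw [dif_neg h, dif_neg h']

include hδ in
theorem mapCoeff_cF (u : g.fiber y) :
    AlgebraicCycle.mapCoeff (cF g y) (FieldDim.δ (cF g y)) (fun _ => (0 : ℤ)) u =
      AlgebraicCycle.mapCoeff g δV δW (g.fiberι y u) := by
  unfold AlgebraicCycle.mapCoeff
  have hd := delta_cF g y δV δW hδ u
  have hy : g (g.fiberι y u) = y := Groth.Agent.H48.CycFib.map_fiberι g y u
  have hy' : g.base (g.fiberι y u) = y := hy
  rw [hy', residueDegree_cF]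
  by_cases h : FieldDim.δ (cF g y) u = 0
  · rw [if_pos h, if_pos (by omega)]
  · rw [if_neg h, if_neg (by omega)]

omit [LocallyOfFiniteType g] in
include hδ in
/-- **Proper pushforward of a principal divisor, dimension-dropping case.** If `g : V ⟶ W` is
proper and `δV ξ ≠ δW (g ξ)`, then `g_* div_ξ(t) = 0`. -/
theorem finsum_divFun_eq_zero [IsProper g] (hdV : Cyc.IsDimFun V δV) (hdW : Cyc.IsDimFun W δW)
    (ξ : V) (hn : δV ξ ≠ δW (g ξ)) (t : V.residueField ξ) (ht : t ≠ 0) (w : W) :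
    ∑ᶠ v ∈ (g : V → W) ⁻¹' {w},
        Cyc.divFun δV ξ t v * ((AlgebraicCycle.mapCoeff g δV δW v : ℕ) : ℤ) = 0 := by
  by_cases hw : w = g ξ ∧ δV ξ = δW (g ξ) + 1
  · obtain ⟨rfl, hone⟩ := hw
    haveI : IsLocallyNoetherian (g.fiber (g ξ)) :=
      LocallyOfFiniteType.isLocallyNoetherian (cF g (g ξ))
    set u₁ := g.asFiber ξ with hu₁
    have e : g.fiberι (g ξ) u₁ = ξ := g.fiberι_asFiber ξ
    have hδu₁ : FieldDim.δ (cF g (g ξ)) u₁ = 1 := by
      rw [delta_cF g (g ξ) δV δW hδ u₁, e]; omega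
    obtain ⟨t₁, ht₁⟩ : ∃ t₁ : V.residueField (g.fiberι (g ξ) u₁),
      t₁ = (V.residueFieldCongr e.symm).hom t := ⟨_, rfl⟩
    have ht₁0 : t₁ ≠ 0 := by rw [ht₁]; exact (map_ne_zero _).mpr ht
    have ht' : ((g.fiberι (g ξ)).residueFieldMap u₁).hom t₁ ≠ 0 := (map_ne_zero _).mpr ht₁0
    have H := map_divCycle_eq_zero (cF g (g ξ)) u₁ hδu₁ _ ht' (cF g (g ξ) u₁)
    simp only [AlgebraicCycle.map, Function.locallyFinsupp.map_apply] at H
    have huniv : ((cF g (g ξ) : g.fiber (g ξ) → _) ⁻¹' {cF g (g ξ) u₁}) = Set.univ := by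
      ext u
      simp only [Set.mem_preimage, Set.mem_singleton_iff, Set.mem_univ, iff_true]
      exact Subsingleton.elim _ _
    rw [huniv, finsum_mem_univ] at H
    rw [← g.range_fiberι (g ξ), finsum_mem_range (g.fiberι (g ξ)).isEmbedding.injective, ← H]
    refine finsum_congr fun u => ?_
    rw [divCycle_apply, divFun_fiberι g (g ξ) δV δW hδ u₁ u t₁, mapCoeff_cF g (g ξ) δV δW hδ u,
      ht₁, Groth.Agent.H48.EnvelopeKer.divFun_residueFieldCongr δV ξ _ e.symm t]
  · refine finsum_mem_eq_zero_of_forall_eq_zero fun v hv => ?_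
    have hgv : g v = w := hv
    by_contra hne
    have h1 : Cyc.divFun δV ξ t v ≠ 0 := fun h => hne (by rw [h, zero_mul])
    have h2 : AlgebraicCycle.mapCoeff g δV δW v ≠ 0 := fun h => hne (by rw [h]; simp)
    unfold Cyc.divFun at h1
    have hc : ξ ⤳ v ∧ δV v + 1 = δV ξ := by
      by_contra hc
      rw [dif_neg hc] at h1
      exact h1 rfl
    unfold AlgebraicCycle.mapCoeff at h2
    have hc2 : δV v = δW (g.base v) := by
      by_contra hc2
      rw [if_neg hc2] at h2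
      exact h2 rfl
    have hc2' : δV v = δW w := by rw [← hgv]; exact hc2
    obtain ⟨n, -, hδn⟩ := hδ ξ
    have hsp : g ξ ⤳ w := by rw [← hgv]; exact hc.1.map g.continuous
    by_cases hwe : w = g ξ
    · apply hw
      refine ⟨hwe, ?_⟩
      rw [← hwe]; omega
    · have := (hdW (g ξ) w hsp (fun h => hwe h.symm)).1
      omega

end Groth.Agent.H48.DimDrop
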