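import Mathlib
import Groth.Agent.H48.RelDelta

/-!
# Dominant morphisms of schemes of finite type over a field
-/

set_option autoImplicit false
set_option linter.unusedSectionVars false
set_option linter.style.haveILetI false
universe u

open AlgebraicGeometry CategoryTheory CategoryTheory.Limits TopologicalSpace Opposite

namespace Groth.Agent.H48.DominantDim

open Groth.Agent.H48.DimFunSch Groth.Agent.H48.FieldDim Groth.Agent.H48.FieldDim2
  Groth.Agent.H48.CycDim6 Groth.Agent.H48.CycFib Groth.Agent.H48.RelDelta

section Top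

variable {A B : Type u} [TopologicalSpace A] [TopologicalSpace B]

/-- A continuous map with dense range from a Noetherian sober space to an irreducible sober space
hits the generic point. -/
theorem exists_map_eq_genericPoint [NoetherianSpace A] [QuasiSober A] [QuasiSober B] [T0Space B]
    [IrreducibleSpace B] (f : A → B) (hf : Continuous f) (hd : DenseRange f) :
    ∃ a : A, f a = genericPoint B := by
  classical
  have hfin : (irreducibleComponents A).Finite := NoetherianSpace.finite_irreducibleComponents
  let T : Finset (Set B) := hfin.toFinset.image (fun C => closure (f '' C))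
  have hT : ∀ z ∈ T, IsClosed z := by
    intro z hz
    obtain ⟨C, -, rfl⟩ := Finset.mem_image.mp hz
    exact isClosed_closure
  have hcov : (Set.univ : Set B) ⊆ ⋃₀ (T : Set (Set B)) := by
    have hcl : IsClosed (⋃₀ (T : Set (Set B))) := by
      rw [Set.sUnion_eq_biUnion]
      exact Set.Finite.isClosed_biUnion T.finite_toSet hT
    have hrange : Set.range f ⊆ ⋃₀ (T : Set (Set B)) := by
      rintro _ ⟨a, rfl⟩
      have ha : a ∈ ⋃₀ irreducibleComponents A := by
        rw [sUnion_irreducibleComponents]; trivial
      obtain ⟨C, hC, haC⟩ := ha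
      refine ⟨closure (f '' C), ?_, subset_closure ⟨a, haC, rfl⟩⟩
      exact Finset.mem_coe.mpr (Finset.mem_image.mpr ⟨C, hfin.mem_toFinset.mpr hC, rfl⟩)
    rw [← hd.closure_eq]
    exact closure_minimal hrange hcl
  obtain ⟨z, hz, huz⟩ := isIrreducible_iff_sUnion_isClosed.mp
    (IrreducibleSpace.isIrreducible_univ B) T hT hcov
  obtain ⟨C, hC, rfl⟩ := Finset.mem_image.mp hz
  have hCirr : C ∈ irreducibleComponents A := hfin.mem_toFinset.mp hC
  obtain ⟨ξ, hξ⟩ := QuasiSober.sober hCirr.1 (isClosed_of_mem_irreducibleComponents C hCirr)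
  refine ⟨ξ, ?_⟩
  apply ((genericPoint_spec B).eq _).symm
  rw [isGenericPoint_def]
  apply Set.eq_univ_of_univ_subset
  refine huz.trans (closure_minimal ?_ isClosed_closure)
  rintro _ ⟨a, haC, rfl⟩
  have h1 : ξ ⤳ a := by
    rw [specializes_iff_mem_closure, hξ.def]; exact haC
  exact specializes_iff_mem_closure.mp (h1.map hf)

end Top

section Main

variable {k : Type u} [Field k] {X Y : Scheme.{u}} (q : Y ⟶ Spec (CommRingCat.of k))
  [LocallyOfFiniteType q] (f : X ⟶ Y) [LocallyOfFiniteType f]

include q in
/-- Statement S14514 in general form. -/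
theorem exists_closed_irreducible_dominant [NoetherianSpace X] [IrreducibleSpace Y]
    (hd : DenseRange f) :
    ∃ Z : Set X, IsClosed Z ∧ IsIrreducible Z ∧
      topologicalKrullDim ↥Z = topologicalKrullDim Y ∧ Dense (f '' Z) := by
  set η := genericPoint Y with hη
  obtain ⟨x₀, hx₀⟩ := exists_map_eq_genericPoint f f.continuous hd
  -- a closed point of the generic fibre
  haveI : JacobsonSpace (f.fiber η) := inferInstance
  have hne : (Set.univ : Set (f.fiber η)).Nonempty :=
    ⟨(f.fiberHomeo η).symm ⟨x₀, hx₀⟩, trivial⟩
  obtain ⟨t, -, ht⟩ := nonempty_inter_closedPoints (X := f.fiber η) (Z := Set.univ) hne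
    isClosed_univ.isLocallyClosed
  have htcl : IsClosed ({t} : Set (f.fiber η)) := ht
  set x := f.fiberι η t with hx
  have hfx : f x = η := map_fiberι f η t
  have h0 := trdeg_eq_zero_of_isClosed f η x hfx t rfl htcl
  obtain ⟨n, hn, hδn⟩ := deltaCompat_comp q f x
  rw [hn] at h0
  have hn0 : n = 0 := by exact_mod_cast h0
  refine ⟨closure {x}, isClosed_closure, isIrreducible_singleton.closure, ?_, ?_⟩
  · rw [topologicalKrullDim_closure_eq (f ≫ q) x, hδn, hn0, hfx]
    have hcl : closure ({η} : Set Y) = Set.univ := (genericPoint_spec Y).def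
    have h1 := topologicalKrullDim_closure_eq q η
    rw [hcl, (Homeomorph.Set.univ Y).isHomeomorph.topologicalKrullDim_eq] at h1
    rw [h1]
    simp
  · have hcl : closure ({η} : Set Y) = Set.univ := (genericPoint_spec Y).def
    intro y
    have hy : y ∈ closure ({η} : Set Y) := by rw [hcl]; trivial
    refine closure_mono ?_ hy
    rw [Set.singleton_subset_iff]
    exact ⟨x, subset_closure rfl, hfx⟩

end Main

end Groth.Agent.H48.DominantDim
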