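import Mathlib

/-!
# Gluing an element over the fraction field and over a faithfully flat cover

For a domain `R` with fraction field `K`, a faithfully flat `R`-algebra `A` and a flat `R`-module `M`,
`M` is the equalizer of `K ⊗ M ⇉ (K ⊗ A) ⊗ M ⇇ A ⊗ M`.
-/

open scoped TensorProduct

namespace Groth.Agent.H48

universe u

theorem exists_eq_one_tmul_of_agree {R K A M : Type u} [CommRing R] [IsDomain R] [Field K] [Algebra R K]
    [IsFractionRing R K] [CommRing A] [Algebra R A] [Module.FaithfullyFlat R A]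
    [AddCommGroup M] [Module R M] [Module.Flat R M]
    (jK : K ⊗[R] M →ₗ[R] (K ⊗[R] A) ⊗[R] M) (jA : A ⊗[R] M →ₗ[R] (K ⊗[R] A) ⊗[R] M)
    (hjK : ∀ k m, jK (k ⊗ₜ m) = (k ⊗ₜ (1 : A)) ⊗ₜ m) (hjA : ∀ a m, jA (a ⊗ₜ m) = ((1 : K) ⊗ₜ a) ⊗ₜ m)
    (u : K ⊗[R] M) (v : A ⊗[R] M) (h : jK u = jA v) :
    ∃ y : M, u = 1 ⊗ₜ y ∧ v = 1 ⊗ₜ y := by
  -- injectivity of jA
  have hιA : Function.Injective (TensorProduct.mk R K A 1) :=
    Module.Flat.tensorProduct_mk_injective R A K
  have hjAeq : jA = LinearMap.rTensor M (TensorProduct.mk R K A 1) := by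
    apply TensorProduct.ext'
    intro a m
    rw [hjA]
    rfl
  have hjAinj : Function.Injective jA := by
    rw [hjAeq]
    exact Module.Flat.rTensor_preserves_injective_linearMap _ hιA
  -- write u with a denominator
  let S : Submonoid R := nonZeroDivisors R
  obtain ⟨⟨m, s⟩, hms⟩ := IsLocalizedModule.surj S (TensorProduct.mk R K M 1) u
  have hms' : (s : R) • u = (1 : K) ⊗ₜ[R] m := hms
  have h1 : (s : R) • v = (1 : A) ⊗ₜ[R] m := by
    apply hjAinj
    rw [map_smul, ← h, ← map_smul, hms', hjK, hjA]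
  -- the quotient M / sM
  let N : Submodule R M := LinearMap.range ((s : R) • (LinearMap.id : M →ₗ[R] M))
  have hkill : ∀ z : A ⊗[R] (M ⧸ N), (s : R) • z = 0 := by
    intro z
    induction z using TensorProduct.induction_on with
    | zero => simp
    | tmul a x =>
      obtain ⟨x', rfl⟩ := Submodule.mkQ_surjective N x
      rw [← TensorProduct.tmul_smul, ← map_smul]
      have : (s : R) • x' ∈ N := ⟨x', rfl⟩
      have h0 : N.mkQ ((s : R) • x') = 0 := (Submodule.Quotient.mk_eq_zero N).mpr this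
      rw [h0, TensorProduct.tmul_zero]
    | add x y hx hy => rw [smul_add, hx, hy, add_zero]
  have h2 : (TensorProduct.mk R A (M ⧸ N) 1) (N.mkQ m) = 0 := by
    have : (TensorProduct.mk R A (M ⧸ N) 1) (N.mkQ m) = LinearMap.lTensor A N.mkQ ((1 : A) ⊗ₜ[R] m) := rfl
    rw [this, ← h1, map_smul, hkill]
  have h3 : N.mkQ m = 0 := by
    apply Module.FaithfullyFlat.tensorProduct_mk_injective (A := R) (B := A) (M ⧸ N)
    rw [h2, map_zero]
  obtain ⟨y, hy⟩ : m ∈ N := (Submodule.Quotient.mk_eq_zero N).mp h3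
  have hy' : (s : R) • y = m := hy
  have hu : u = 1 ⊗ₜ y := by
    apply IsLocalizedModule.smul_injective (TensorProduct.mk R K M 1) s
    show (s : R) • u = (s : R) • ((1 : K) ⊗ₜ[R] y)
    rw [hms', ← TensorProduct.tmul_smul, hy']
  refine ⟨y, hu, ?_⟩
  apply hjAinj
  rw [← h, hu, hjK, hjA]

end Groth.Agent.H48
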