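import Mathlib
import Groth.Agent.H58.ConnDim

/-!
# Curves on a surface fibred over a one-dimensional base: vertical or horizontal
-/

set_option autoImplicit false
set_option linter.unusedSectionVars false
set_option linter.style.haveILetI false
universe u

open AlgebraicGeometry CategoryTheory CategoryTheory.Limits TopologicalSpace Opposite

namespace Groth.Agent.H48.FibSurfCurve

open Groth.Agent.H58.ConnDim

section Top

variable {T : Type u} [TopologicalSpace T]

/-- No dimension lies strictly between `1` and `2`. -/
theorem not_one_lt_lt_two {a : WithBot ℕ∞} (h1 : 1 < a) (h2 : a < 2) : False := by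
  cases a using WithBot.recBotCoe with
  | bot => exact absurd h1 (by simp)
  | coe a =>
    cases a using ENat.recTopCoe with
    | top =>
      have : ((⊤ : ℕ∞) : WithBot ℕ∞) < ((2 : ℕ∞) : WithBot ℕ∞) := h2
      have h3 : (⊤ : ℕ∞) < 2 := WithBot.coe_lt_coe.mp this
      exact absurd h3 (by simp)
    | coe m =>
      have e1 : ((1 : ℕ∞) : WithBot ℕ∞) < ((m : ℕ∞) : WithBot ℕ∞) := h1
      have e2 : ((m : ℕ∞) : WithBot ℕ∞) < ((2 : ℕ∞) : WithBot ℕ∞) := h2
      have h1' : 1 < m := by exact_mod_cast WithBot.coe_lt_coe.mp e1
      have h2' : m < 2 := by exact_mod_cast WithBot.coe_lt_coe.mp e2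
      omega

theorem le_zero_of_lt_one {a : WithBot ℕ∞} (h : a < 1) : a ≤ 0 := by
  cases a using WithBot.recBotCoe with
  | bot => exact bot_le
  | coe a =>
    have e : ((a : ℕ∞) : WithBot ℕ∞) < ((1 : ℕ∞) : WithBot ℕ∞) := h
    have h1 : a < 1 := WithBot.coe_lt_coe.mp e
    have h2 : a = 0 := Order.lt_one_iff.mp h1
    rw [h2]; rfl

/-- A point whose closure has dimension `≤ 0` is closed (in a `T₀` space). -/
theorem isClosed_singleton_of_dim_closure_le_zero [T0Space T] (z : T)
    (h : topologicalKrullDim ↥(closure ({z} : Set T)) ≤ 0) : IsClosed ({z} : Set T) := by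
  have key : closure ({z} : Set T) ⊆ {z} := by
    intro w hw
    by_contra hne
    have hwz : w ≠ z := hne
    have hsub : closure ({w} : Set T) ⊂ closure ({z} : Set T) := by
      refine ⟨closure_minimal (Set.singleton_subset_iff.mpr hw) isClosed_closure, ?_⟩
      intro hcon
      have h1 : z ⤳ w := specializes_iff_mem_closure.mpr hw
      have h2 : w ⤳ z := specializes_iff_mem_closure.mpr (hcon (subset_closure rfl))
      exact hwz (h2.antisymm h1).eq
    have hlt := dim_lt_of_ssubset isClosed_closure isIrreducible_singleton.closure hsub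
      (lt_of_le_of_lt h (WithBot.coe_lt_coe.mpr (by simp)))
    have hbot : topologicalKrullDim ↥(closure ({w} : Set T)) < 0 := lt_of_lt_of_le hlt h
    haveI : Nonempty ↥(closure ({w} : Set T)) := ⟨⟨w, subset_closure rfl⟩⟩
    have h0 : (0 : WithBot ℕ∞) ≤ topologicalKrullDim ↥(closure ({w} : Set T)) := by
      unfold topologicalKrullDim
      haveI : Nonempty (IrreducibleCloseds ↥(closure ({w} : Set T))) :=
        ⟨⟨closure {⟨w, subset_closure rfl⟩}, isIrreducible_singleton.closure, isClosed_closure⟩⟩
      exact Order.krullDim_nonneg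
    exact absurd (lt_of_le_of_lt h0 hbot) (lt_irrefl _)
  have : closure ({z} : Set T) = {z} := Set.Subset.antisymm key subset_closure
  rw [← this]
  exact isClosed_closure

end Top

section Main

variable {R : Type u} [CommRing R] [IsDedekindDomain R]

/-- A one-dimensional closed irreducible subset of a flat integral surface over a Dedekind domain
(with closed structure map) is a component of a closed fibre or the closure of a closed point of the
generic fibre. -/
theorem vertical_or_horizontal (hR : ¬ IsField R) {X : Scheme.{u}}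
    (π : X ⟶ Spec (CommRingCat.of R)) [IsIntegral X] (hdim : topologicalKrullDim X = 2) [Flat π]
    (hcl : IsClosedMap π.base) (D : Set X) (hD : IsClosed D) (hirr : IsIrreducible D)
    (hD1 : topologicalKrullDim D = 1) :
    (∃ s : (Spec (CommRingCat.of R) : Scheme.{u}), s.asIdeal.IsMaximal ∧ D ⊆ π.base ⁻¹' {s} ∧
        ∀ D' : Set X, IsIrreducible D' → D' ⊆ π.base ⁻¹' {s} → D ⊆ D' → D' = D) ∨
      (∃ x : X, (π.base x).asIdeal = ⊥ ∧
        (∀ z : X, (π.base z).asIdeal = ⊥ → x ⤳ z → z = x) ∧ D = closure {x}) := by
  obtain ⟨ξ, hξ⟩ := QuasiSober.sober hirr hD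
  have hξD : closure ({ξ} : Set X) = D := hξ.def
  have hfinX : topologicalKrullDim X < ⊤ := by
    rw [hdim]; exact WithBot.coe_lt_coe.mpr (ENat.natCast_lt_top 2)
  have hunivdim : topologicalKrullDim ↥(Set.univ : Set X) = 2 := by
    rw [(Homeomorph.Set.univ X).isHomeomorph.topologicalKrullDim_eq]; exact hdim
  have hsubfin : ∀ E : Set X, topologicalKrullDim ↥E < ⊤ := fun E =>
    lt_of_le_of_lt (topologicalKrullDim_subspace_le X E) hfinX
  by_cases hs : (π.base ξ).asIdeal = ⊥
  · -- horizontal
    right
    refine ⟨ξ, hs, ?_, hξD.symm⟩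
    intro z hz hξz
    by_contra hne
    have hsub : closure ({z} : Set X) ⊂ closure ({ξ} : Set X) := by
      refine ⟨closure_minimal (Set.singleton_subset_iff.mpr (specializes_iff_mem_closure.mp hξz))
        isClosed_closure, ?_⟩
      intro hcon
      have h2 : z ⤳ ξ := specializes_iff_mem_closure.mpr (hcon (subset_closure rfl))
      exact hne (h2.antisymm hξz).eq
    have hlt := dim_lt_of_ssubset isClosed_closure isIrreducible_singleton.closure hsub
      (hsubfin _)
    rw [hξD, hD1] at hlt
    have hle : topologicalKrullDim ↥(closure ({z} : Set X)) ≤ 0 := le_zero_of_lt_one hlt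
    have hzcl : IsClosed ({z} : Set X) := isClosed_singleton_of_dim_closure_le_zero z hle
    have himg : IsClosed ({π.base z} : Set (Spec (CommRingCat.of R))) := by
      have := hcl _ hzcl
      rwa [Set.image_singleton] at this
    have hmax : (π.base z).asIdeal.IsMaximal :=
      (PrimeSpectrum.isClosed_singleton_iff_isMaximal _).mp himg
    rw [hz] at hmax
    exact hR (Ring.isField_iff_maximal_bot.mpr hmax)
  · -- vertical
    left
    set s := π.base ξ with hsdef
    haveI : s.asIdeal.IsPrime := s.2
    have hsmax : s.asIdeal.IsMaximal := Ideal.IsPrime.isMaximal inferInstance hs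
    have hscl : IsClosed ({s} : Set (Spec (CommRingCat.of R))) :=
      (PrimeSpectrum.isClosed_singleton_iff_isMaximal _).mpr hsmax
    have hfibcl : IsClosed (π.base ⁻¹' {s}) := hscl.preimage π.continuous
    have hDs : D ⊆ π.base ⁻¹' {s} := by
      rw [← hξD]
      exact closure_minimal (Set.singleton_subset_iff.mpr rfl) hfibcl
    refine ⟨s, hsmax, hDs, ?_⟩
    intro D' hD' hD's hDD'
    set E := closure D' with hE
    have hEirr : IsIrreducible E := hD'.closure
    have hEs : E ⊆ π.base ⁻¹' {s} := closure_minimal hD's hfibcl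
    have hDE : D ⊆ E := hDD'.trans subset_closure
    by_cases hED : E = D
    · exact Set.Subset.antisymm (by rw [← hED]; exact subset_closure) hDD'
    · exfalso
      have h1 : D ⊂ E := ⟨hDE, fun hcon => hED (Set.Subset.antisymm hcon hDE)⟩
      have hlt1 := dim_lt_of_ssubset hD hEirr h1 (hsubfin _)
      rw [hD1] at hlt1
      -- `E` is not everything
      have hEne : E ⊂ (Set.univ : Set X) := by
        refine ⟨Set.subset_univ _, ?_⟩
        intro hcon
        obtain ⟨x₀⟩ : Nonempty X := inferInstance
        let η : (Spec (CommRingCat.of R) : Scheme.{u}) := (⟨⊥, Ideal.isPrime_bot⟩ : PrimeSpectrum R)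
        have hη : η ⤳ π.base x₀ :=
          (PrimeSpectrum.le_iff_specializes (R := R) ⟨⊥, Ideal.isPrime_bot⟩ (π.base x₀)).mp bot_le
        obtain ⟨x', -, hx'⟩ := (Flat.generalizingMap π) hη
        have hx's : π.base x' = s := hEs (hcon (Set.mem_univ x'))
        rw [hx'] at hx's
        exact hs (by rw [← hx's])
      have hlt2 := dim_lt_of_ssubset isClosed_closure
        (IrreducibleSpace.isIrreducible_univ X) hEne (hsubfin _)
      rw [hunivdim] at hlt2
      exact not_one_lt_lt_two hlt1 hlt2

end Main

end Groth.Agent.H48.FibSurfCurve
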