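import Mathlib
import Groth.Prelude.Def_Cyc
import Groth.Agent.H48.FibreMaxSch
import Groth.Agent.H51.FlatValLift

/-!
# The local ring at a generization is a localization of the local ring
-/

set_option autoImplicit false
set_option linter.unusedSectionVars false
set_option linter.style.haveILetI false
universe u

open AlgebraicGeometry CategoryTheory CategoryTheory.Limits TopologicalSpace Opposite Topology

namespace Groth.Agent.H48.StalkLoc

variable {X : Scheme.{u}} (x : X)

/-- The stalk maps of `Spec O_{X,x} ⟶ X` are bijective. -/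
theorem stalkMap_fromSpecStalk_bijective (q : Spec (X.presheaf.stalk x)) :
    Function.Bijective ((X.fromSpecStalk x).stalkMap q).hom := by
  refine ⟨?_, (X.fromSpecStalk x).stalkMap_surjective q⟩
  haveI : Flat (X.fromSpecStalk x) := Groth.Agent.H51.flat_fromSpecStalk X x
  letI alg : Algebra (X.presheaf.stalk (X.fromSpecStalk x q))
      ((Spec (X.presheaf.stalk x)).presheaf.stalk q) := ((X.fromSpecStalk x).stalkMap q).hom.toAlgebra
  haveI : IsLocalHom (algebraMap (X.presheaf.stalk (X.fromSpecStalk x q))
      ((Spec (X.presheaf.stalk x)).presheaf.stalk q)) :=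
    inferInstanceAs (IsLocalHom ((X.fromSpecStalk x).stalkMap q).hom)
  haveI : Module.Flat (X.presheaf.stalk (X.fromSpecStalk x q))
      ((Spec (X.presheaf.stalk x)).presheaf.stalk q) := Flat.stalkMap (X.fromSpecStalk x) q
  haveI : Module.FaithfullyFlat (X.presheaf.stalk (X.fromSpecStalk x q))
      ((Spec (X.presheaf.stalk x)).presheaf.stalk q) := Module.FaithfullyFlat.of_flat_of_isLocalHom
  exact FaithfulSMul.algebraMap_injective _ _

/-- Compatibility of the stalk map of `Spec O_{X,x} ⟶ X` with specialization. -/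
theorem stalkSpecializes_stalkMap_fromSpecStalk (q : Spec (X.presheaf.stalk x))
    (h : X.fromSpecStalk x q ⤳ x) :
    X.presheaf.stalkSpecializes h ≫ (X.fromSpecStalk x).stalkMap q =
      (Scheme.ΓSpecIso (X.presheaf.stalk x)).inv ≫
        (Spec (X.presheaf.stalk x)).presheaf.germ ⊤ q trivial := by
  refine TopCat.Presheaf.stalk_hom_ext _ fun U hxU => ?_
  have hqU : X.fromSpecStalk x q ∈ U := h.mem_open U.2 hxU
  rw [← Category.assoc, TopCat.Presheaf.germ_stalkSpecializes, Scheme.Hom.germ_stalkMap,
    Scheme.fromSpecStalk_app hxU, Category.assoc, Category.assoc, TopCat.Presheaf.germ_res]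

/-- For a prime `q` of `O_{X,x}` with image `ξ` in `X`, the stalk `O_{X,ξ}` is the localization
of `O_{X,x}` at `q`. -/
theorem isLocalization_of_fromSpecStalk (q : Spec (X.presheaf.stalk x))
    (h : X.fromSpecStalk x q ⤳ x) :
    letI := (X.presheaf.stalkSpecializes h).hom.toAlgebra
    IsLocalization.AtPrime (X.presheaf.stalk (X.fromSpecStalk x q)) q.asIdeal := by
  letI alg : Algebra (X.presheaf.stalk x) (X.presheaf.stalk (X.fromSpecStalk x q)) :=
    (X.presheaf.stalkSpecializes h).hom.toAlgebra
  haveI : IsIso ((X.fromSpecStalk x).stalkMap q) :=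
    (ConcreteCategory.isIso_iff_bijective _).mpr (stalkMap_fromSpecStalk_bijective x q)
  let θ : X.presheaf.stalk (X.fromSpecStalk x q) ≅
      CommRingCat.of (Localization.AtPrime q.asIdeal) :=
    asIso ((X.fromSpecStalk x).stalkMap q) ≪≫ Spec.stalkIso (X.presheaf.stalk x) q
  have hθ : X.presheaf.stalkSpecializes h ≫ θ.hom =
      CommRingCat.ofHom (algebraMap (X.presheaf.stalk x) (Localization.AtPrime q.asIdeal)) := by
    change X.presheaf.stalkSpecializes h ≫ (X.fromSpecStalk x).stalkMap q ≫
      (Spec.stalkIso (X.presheaf.stalk x) q).hom = _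
    rw [← Category.assoc, stalkSpecializes_stalkMap_fromSpecStalk,
      ← Spec.algebraMap_stalkIso_inv, Category.assoc, Iso.inv_hom_id, Category.comp_id]
  let e : Localization.AtPrime q.asIdeal ≃ₐ[X.presheaf.stalk x]
      X.presheaf.stalk (X.fromSpecStalk x q) :=
    { θ.symm.commRingCatIsoToRingEquiv with
      commutes' := fun b => by
        change θ.inv.hom (algebraMap (X.presheaf.stalk x) (Localization.AtPrime q.asIdeal) b) =
          (X.presheaf.stalkSpecializes h).hom b
        have h1 := congrArg (fun m => m.hom b) hθ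
        simp only [CommRingCat.hom_comp, RingHom.comp_apply, CommRingCat.hom_ofHom] at h1
        rw [← h1]
        change (θ.hom ≫ θ.inv).hom _ = _
        rw [Iso.hom_inv_id]
        rfl }
  exact IsLocalization.isLocalization_of_algEquiv q.asIdeal.primeCompl e

instance ker_specMap_isPrime (ξ : X) (h : ξ ⤳ x) : (RingHom.ker (Cyc.specMap x ξ h)).IsPrime :=
  RingHom.ker_isPrime _

/-- For a generization `ξ ⤳ x`, the stalk `O_{X,ξ}` is the localization of `O_{X,x}` at the prime
ideal of `ξ`. -/
theorem isLocalization_stalkSpecializes (ξ : X) (h : ξ ⤳ x) :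
    letI := (X.presheaf.stalkSpecializes h).hom.toAlgebra
    IsLocalization.AtPrime (X.presheaf.stalk ξ) (RingHom.ker (Cyc.specMap x ξ h)) := by
  have hmem : ξ ∈ Set.range (X.fromSpecStalk x) := by
    rw [Scheme.range_fromSpecStalk]; exact h
  obtain ⟨q, rfl⟩ := hmem
  have hker := Groth.Agent.H48.FibreMaxSch.ker_specMap_of_fromSpecStalk_eq x _ h q rfl
  have key := isLocalization_of_fromSpecStalk x q h
  letI := (X.presheaf.stalkSpecializes h).hom.toAlgebra
  have h2 : (RingHom.ker (Cyc.specMap x (X.fromSpecStalk x q) h)).primeCompl =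
      q.asIdeal.primeCompl := by
    ext b
    simp only [Ideal.mem_primeCompl_iff]
    rw [hker]
  change IsLocalization (RingHom.ker (Cyc.specMap x (X.fromSpecStalk x q) h)).primeCompl _
  rw [h2]
  exact key

/-- The prime ideal of a generization extends to the maximal ideal of its local ring. -/
theorem map_ker_specMap (ξ : X) (h : ξ ⤳ x) :
    (RingHom.ker (Cyc.specMap x ξ h)).map (X.presheaf.stalkSpecializes h).hom =
      IsLocalRing.maximalIdeal (X.presheaf.stalk ξ) := by
  letI := (X.presheaf.stalkSpecializes h).hom.toAlgebra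
  haveI := isLocalization_stalkSpecializes x ξ h
  exact IsLocalization.AtPrime.map_eq_maximalIdeal (RingHom.ker (Cyc.specMap x ξ h))
    (X.presheaf.stalk ξ)

/-- Every element of `κ(ξ)` is a quotient of images of elements of `O_{X,x}`. -/
theorem exists_specMap_div (ξ : X) (h : ξ ⤳ x) (g : X.residueField ξ) :
    ∃ a b : X.presheaf.stalk x, Cyc.specMap x ξ h b ≠ 0 ∧
      g = Cyc.specMap x ξ h a / Cyc.specMap x ξ h b := by
  letI := (X.presheaf.stalkSpecializes h).hom.toAlgebra
  haveI := isLocalization_stalkSpecializes x ξ h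
  obtain ⟨c, hc⟩ : ∃ c : X.presheaf.stalk ξ, (X.residue ξ).hom c = g :=
    IsLocalRing.residue_surjective (R := X.presheaf.stalk ξ) g
  subst hc
  obtain ⟨a, s, rfl⟩ := IsLocalization.exists_mk'_eq
    (RingHom.ker (Cyc.specMap x ξ h)).primeCompl c
  have hs : Cyc.specMap x ξ h s.1 ≠ 0 := fun h0 => s.2 (RingHom.mem_ker.mpr h0)
  refine ⟨a, s.1, hs, ?_⟩
  rw [eq_div_iff hs]
  have h1 : Cyc.specMap x ξ h s.1 = (X.residue ξ).hom
      (algebraMap (X.presheaf.stalk x) (X.presheaf.stalk ξ) s.1) := rfl
  have h2 : Cyc.specMap x ξ h a = (X.residue ξ).hom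
      (algebraMap (X.presheaf.stalk x) (X.presheaf.stalk ξ) a) := rfl
  rw [h1, h2, ← map_mul, IsLocalization.mk'_spec]

end Groth.Agent.H48.StalkLoc
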