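import Mathlib
import Groth.Prelude.Def_Cyc
import Groth.Agent.H48.FibreMaxSch
import Groth.Agent.H48.StalkLoc
import Groth.Agent.H48.CycDim7
import Groth.Agent.H36.LatticeDist

/-!
# Dictionary between primes of a local ring `O_{X,x}` and generizations of `x`
-/

set_option autoImplicit false
set_option linter.unusedSectionVars false
set_option linter.style.haveILetI false
universe u

open AlgebraicGeometry CategoryTheory CategoryTheory.Limits TopologicalSpace Opposite Topology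

namespace Groth.Agent.H48.StalkDict

section Finsum

theorem finsum_eq_finsum_comp_of_support_subset {α β M : Type*} [AddCommMonoid M] (e : β → α)
    (he : Function.Injective e) (f : α → M) (hs : Function.support f ⊆ Set.range e) :
    ∑ᶠ a, f a = ∑ᶠ b, f (e b) := by
  rw [← finsum_mem_range he, ← finsum_mem_univ]
  apply finsum_mem_inter_support_eq
  ext a
  simp only [Set.mem_inter_iff, Set.mem_univ, true_and]
  exact ⟨fun h => ⟨hs h, h⟩, fun h => h.2⟩

theorem toNat_finsum {α : Type*} [Finite α] (f : α → ℕ∞) (hf : ∀ a, f a ≠ ⊤) :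
    (∑ᶠ a, f a).toNat = ∑ᶠ a, (f a).toNat := by
  classical
  haveI := Fintype.ofFinite α
  rw [finsum_eq_sum_of_fintype, finsum_eq_sum_of_fintype]
  exact ENat.toNat_sum fun a _ => hf a

theorem forall_ne_top_of_finsum_ne_top {α : Type*} [Finite α] (f : α → ℕ∞)
    (h : (∑ᶠ a, f a) ≠ ⊤) (a : α) : f a ≠ ⊤ := by
  classical
  haveI := Fintype.ofFinite α
  rw [finsum_eq_sum_of_fintype] at h
  exact ENat.sum_ne_top.mp h a (Finset.mem_univ a)

end Finsum

variable {X : Scheme.{u}} (x : X)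

theorem specializes_fromSpecStalk (q : PrimeSpectrum (X.presheaf.stalk x)) :
    X.fromSpecStalk x q ⤳ x := by
  have : X.fromSpecStalk x q ∈ Set.range (X.fromSpecStalk x) := Set.mem_range_self _
  rw [Scheme.range_fromSpecStalk] at this
  exact this

theorem exists_fromSpecStalk_eq (ξ : X) (h : ξ ⤳ x) :
    ∃ q : PrimeSpectrum (X.presheaf.stalk x), X.fromSpecStalk x q = ξ := by
  have : ξ ∈ Set.range (X.fromSpecStalk x) := by
    rw [Scheme.range_fromSpecStalk]; exact h
  exact this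

theorem fromSpecStalk_injective : Function.Injective (X.fromSpecStalk x) :=
  (X.fromSpecStalk x).isEmbedding.injective

theorem fromSpecStalk_eq_iff_closedPoint (q : PrimeSpectrum (X.presheaf.stalk x)) :
    X.fromSpecStalk x q = x ↔ q.asIdeal = IsLocalRing.maximalIdeal (X.presheaf.stalk x) := by
  constructor
  · intro h
    have h2 : q = IsLocalRing.closedPoint (X.presheaf.stalk x) := by
      apply fromSpecStalk_injective x
      rw [Scheme.fromSpecStalk_closedPoint]
      exact h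
    rw [h2]
    rfl
  · intro h
    have h2 : q = IsLocalRing.closedPoint (X.presheaf.stalk x) := PrimeSpectrum.ext h
    rw [h2, Scheme.fromSpecStalk_closedPoint]

theorem ker_specMap_fromSpecStalk (q : PrimeSpectrum (X.presheaf.stalk x)) :
    RingHom.ker (Cyc.specMap x (X.fromSpecStalk x q) (specializes_fromSpecStalk x q)) =
      q.asIdeal :=
  Groth.Agent.H48.FibreMaxSch.ker_specMap_of_fromSpecStalk_eq x _ _ q rfl

theorem fromSpecStalk_specializes_iff (q₁ q₂ : PrimeSpectrum (X.presheaf.stalk x)) :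
    X.fromSpecStalk x q₁ ⤳ X.fromSpecStalk x q₂ ↔ q₁.asIdeal ≤ q₂.asIdeal := by
  rw [(X.fromSpecStalk x).isEmbedding.isInducing.specializes_iff]
  exact (PrimeSpectrum.le_iff_specializes q₁ q₂).symm

/-- The order on generizations of `x` is the order on their prime ideals in `O_{X,x}`. -/
theorem ker_specMap_le_iff (η₁ η₂ : X) (h₁ : η₁ ⤳ x) (h₂ : η₂ ⤳ x) :
    RingHom.ker (Cyc.specMap x η₁ h₁) ≤ RingHom.ker (Cyc.specMap x η₂ h₂) ↔ η₁ ⤳ η₂ := by
  obtain ⟨q₁, rfl⟩ := exists_fromSpecStalk_eq x η₁ h₁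
  obtain ⟨q₂, rfl⟩ := exists_fromSpecStalk_eq x η₂ h₂
  rw [fromSpecStalk_specializes_iff]
  rw [Groth.Agent.H48.FibreMaxSch.ker_specMap_of_fromSpecStalk_eq x _ h₁ q₁ rfl,
    Groth.Agent.H48.FibreMaxSch.ker_specMap_of_fromSpecStalk_eq x _ h₂ q₂ rfl]

theorem map_fromSpecStalk {X' : Scheme.{u}} (p : X' ⟶ X) (x' : X')
    (q : PrimeSpectrum (X'.presheaf.stalk x')) :
    p (X'.fromSpecStalk x' q) = X.fromSpecStalk (p x') (Spec.map (p.stalkMap x') q) := by
  have := Scheme.SpecMap_stalkMap_fromSpecStalk p (x := x')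
  exact (congr($(this) q)).symm

/-- `κ(ξ)` is the fraction field of `O_{X,x}/𝔭_ξ`. -/
theorem isFractionRing_locQuot (ξ : X) (h : ξ ⤳ x) :
    IsFractionRing (Cyc.LocQuot x ξ h) (X.residueField ξ) := by
  have hinj : Function.Injective (algebraMap (Cyc.LocQuot x ξ h) (X.residueField ξ)) :=
    RingHom.lift_injective_of_ker_le_ideal _ _ le_rfl
  haveI : FaithfulSMul (Cyc.LocQuot x ξ h) (X.residueField ξ) :=
    (faithfulSMul_iff_algebraMap_injective _ _).mpr hinj
  refine IsFractionRing.of_field _ _ fun g => ?_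
  obtain ⟨a, b, -, hg⟩ := Groth.Agent.H48.StalkLoc.exists_specMap_div x ξ h g
  exact ⟨Ideal.Quotient.mk _ a, Ideal.Quotient.mk _ b, hg⟩

variable [IsLocallyNoetherian X] (δ : X → ℤ) (hδ : Cyc.IsDimFun X δ)

include hδ in
theorem krullDimLE_one_locQuot (ξ : X) (h : ξ ⤳ x) (hd : δ x + 1 = δ ξ) :
    Ring.KrullDimLE 1 (Cyc.LocQuot x ξ h) := by
  rw [Ring.krullDimLE_iff, Groth.Agent.H48.CycDim7.ringKrullDim_locQuot' X δ hδ ξ x h]
  have : (δ ξ - δ x).toNat = 1 := by omega
  rw [this]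
  rfl

include hδ in
/-- The order of a quotient of two elements of the local ring. -/
theorem ordAt_specMap_div (ξ : X) (h : ξ ⤳ x) (hd : δ x + 1 = δ ξ) (a b : X.presheaf.stalk x)
    (ha : Cyc.specMap x ξ h a ≠ 0) (hb : Cyc.specMap x ξ h b ≠ 0) :
    Cyc.ordAt x ξ h (Cyc.specMap x ξ h a / Cyc.specMap x ξ h b) =
      ((Ring.ord (Cyc.LocQuot x ξ h) (Ideal.Quotient.mk _ a)).toNat : ℤ) -
        ((Ring.ord (Cyc.LocQuot x ξ h) (Ideal.Quotient.mk _ b)).toNat : ℤ) := by
  haveI := krullDimLE_one_locQuot x δ hδ ξ h hd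
  haveI := isFractionRing_locQuot x ξ h
  have ha' : (Ideal.Quotient.mk (RingHom.ker (Cyc.specMap x ξ h)) a) ≠ 0 := by
    rw [Ne, Ideal.Quotient.eq_zero_iff_mem, RingHom.mem_ker]; exact ha
  have hb' : (Ideal.Quotient.mk (RingHom.ker (Cyc.specMap x ξ h)) b) ≠ 0 := by
    rw [Ne, Ideal.Quotient.eq_zero_iff_mem, RingHom.mem_ker]; exact hb
  have key := Groth.Agent.H36.LatticeDist.ordFrac_div (Cyc.LocQuot x ξ h) (X.residueField ξ)
    (Ideal.Quotient.mk (RingHom.ker (Cyc.specMap x ξ h)) a)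
    (Ideal.Quotient.mk (RingHom.ker (Cyc.specMap x ξ h)) b) ha' hb'
  have e1 : algebraMap (Cyc.LocQuot x ξ h) (X.residueField ξ)
      (Ideal.Quotient.mk (RingHom.ker (Cyc.specMap x ξ h)) a) = Cyc.specMap x ξ h a := rfl
  have e2 : algebraMap (Cyc.LocQuot x ξ h) (X.residueField ξ)
      (Ideal.Quotient.mk (RingHom.ker (Cyc.specMap x ξ h)) b) = Cyc.specMap x ξ h b := rfl
  rw [e1, e2] at key
  exact key

end Groth.Agent.H48.StalkDict
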