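import Mathlib
import Groth.Agent.H27.LengthSemilocal
import Groth.Agent.H48.StalkDict

/-!
# The dimension of a finite algebra over a field as a sum of local contributions
-/

set_option autoImplicit false
set_option linter.unusedSectionVars false
set_option linter.style.haveILetI false
universe u

open IsLocalRing

namespace Groth.Agent.H48.FiniteFibreAlg

/-- Isomorphic rings have the same length. -/
theorem length_eq_of_ringEquiv {R S : Type*} [CommRing R] [CommRing S] (e : R ≃+* S) :
    Module.length R R = Module.length S S := by
  letI : Algebra R S := e.toRingHom.toAlgebra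
  have h1 : Module.length R S = Module.length S S :=
    Module.length_eq_of_surjective (S := R) (R := S) (M := S) e.surjective
  let l : R ≃ₗ[R] S :=
    { e with
      map_smul' := fun r x => by
        change e (r * x) = e r * e x
        exact map_mul e r x }
  rw [← h1, l.length_eq]

variable (K A : Type u) [Field K] [CommRing A] [Algebra K A] [Module.Finite K A]

theorem finrank_eq_finsum_primeSpectrum :
    Module.finrank K A = ∑ᶠ n : PrimeSpectrum A, Module.finrank K (A ⧸ n.asIdeal) *
      (Module.length (Localization.AtPrime n.asIdeal)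
        (LocalizedModule n.asIdeal.primeCompl A)).toNat := by
  haveI hArt : IsArtinianRing A := IsArtinianRing.of_finite K A
  haveI hNoeth : IsNoetherianRing A := inferInstance
  have hover : ∀ n : MaximalSpectrum A,
      n.asIdeal.comap (algebraMap K A) = maximalIdeal K := by
    intro n
    rw [IsLocalRing.maximalIdeal_eq_bot]
    exact (Ideal.eq_bot_or_top _).resolve_right (Ideal.comap_ne_top _ n.isMaximal.ne_top)
  have hfin : ∀ n : MaximalSpectrum A,
      Module.Finite (K ⧸ n.asIdeal.comap (algebraMap K A)) (A ⧸ n.asIdeal) := by
    intro n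
    exact Module.Finite.of_restrictScalars_finite K _ _
  have hM : IsFiniteLength A A := isFiniteLength_iff_isNoetherian_isArtinian.mpr ⟨hNoeth, hArt⟩
  have key := Groth.Agent.H27.LengthSemilocal.length_eq_finsum (A := K) (B := A) hover hfin A hM
  rw [Module.length_eq_finrank] at key
  -- the degrees
  have hdeg : ∀ n : MaximalSpectrum A,
      Module.finrank (K ⧸ n.asIdeal.comap (algebraMap K A)) (A ⧸ n.asIdeal) =
        Module.finrank K (A ⧸ n.asIdeal) := by
    intro n
    have hbot : n.asIdeal.comap (algebraMap K A) = ⊥ := by
      rw [hover n, IsLocalRing.maximalIdeal_eq_bot]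
    have hbij : Function.Bijective (Ideal.Quotient.mk (n.asIdeal.comap (algebraMap K A))) := by
      refine ⟨?_, Ideal.Quotient.mk_surjective⟩
      rw [injective_iff_map_eq_zero]
      intro a ha
      rw [Ideal.Quotient.eq_zero_iff_mem, hbot, Ideal.mem_bot] at ha
      exact ha
    symm
    refine Algebra.finrank_eq_of_equiv_equiv (RingEquiv.ofBijective _ hbij) (RingEquiv.refl _) ?_
    ext a
    rfl
  -- finiteness of the terms
  have hne : (∑ᶠ n : MaximalSpectrum A,
      (Module.finrank (K ⧸ n.asIdeal.comap (algebraMap K A)) (A ⧸ n.asIdeal) : ℕ∞) *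
        Module.length (Localization.AtPrime n.asIdeal)
          (LocalizedModule n.asIdeal.primeCompl A)) ≠ ⊤ := by
    rw [← key]
    exact ENat.coe_ne_top _
  have hterm := Groth.Agent.H48.StalkDict.forall_ne_top_of_finsum_ne_top _ hne
  have key2 := congrArg ENat.toNat key
  rw [ENat.toNat_coe, Groth.Agent.H48.StalkDict.toNat_finsum _ hterm] at key2
  rw [key2]
  rw [← finsum_comp_equiv IsArtinianRing.primeSpectrumEquivMaximalSpectrum.symm]
  refine finsum_congr fun n => ?_
  rw [ENat.toNat_mul, ENat.toNat_coe, hdeg]
  rfl

end Groth.Agent.H48.FiniteFibreAlg
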