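import Mathlib
import Groth.Agent.H10.LengthOrd

/-!
# Flat pullback of principal divisors: the algebra

For a flat local homomorphism `A₀ → B₀` of Noetherian local rings, a prime `p₀` of `A₀` and
`a ∉ p₀`, under one-dimensionality hypotheses,
`ord_{A₀/p₀}(a) · length_{B₀}(B₀/𝔪_{A₀}B₀) = ∑_q ord_{B₀/q}(a) · length_{(B₀)_q}((B₀/p₀B₀)_q)`.
-/

set_option autoImplicit false
set_option linter.unusedSectionVars false
set_option linter.style.haveILetI false
universe u

open Pointwise IsLocalRing TensorProduct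

namespace Groth.Agent.H48.FlatDivAlg

section Quot

variable {R : Type u} [CommRing R] (P : Ideal R) (a : R)

theorem map_mkQ_span_singleton :
    Submodule.map (Submodule.mkQ (P : Submodule R R)) (Ideal.span {a} : Submodule R R) =
      a • (⊤ : Submodule R (R ⧸ P)) := by
  ext y
  constructor
  · rintro ⟨z, hz, rfl⟩
    obtain ⟨c, rfl⟩ := Ideal.mem_span_singleton'.mp hz
    rw [Submodule.mem_smul_pointwise_iff_exists]
    refine ⟨Submodule.mkQ (P : Submodule R R) c, Submodule.mem_top, ?_⟩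
    rw [mul_comm, ← smul_eq_mul, map_smul]
  · intro hy
    rw [Submodule.mem_smul_pointwise_iff_exists] at hy
    obtain ⟨w, -, rfl⟩ := hy
    obtain ⟨c, rfl⟩ := Submodule.mkQ_surjective (P : Submodule R R) w
    refine ⟨a * c, Ideal.mem_span_singleton'.mpr ⟨c, by rw [mul_comm]⟩, ?_⟩
    rw [← smul_eq_mul, map_smul]

/-- `(R/P)/a(R/P) ≃ R/(P + (a))`. -/
noncomputable def quotSmulTopEquiv :
    ((R ⧸ P) ⧸ (a • (⊤ : Submodule R (R ⧸ P)))) ≃ₗ[R] R ⧸ (P ⊔ Ideal.span {a}) :=
  (Submodule.quotEquivOfEq _ _ (map_mkQ_span_singleton P a).symm) ≪≫ₗ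
    Submodule.quotientQuotientEquivQuotientSup (P : Submodule R R) (Ideal.span {a})

theorem length_quot_smul_top :
    Module.length R ((R ⧸ P) ⧸ (a • (⊤ : Submodule R (R ⧸ P)))) =
      Module.length R (R ⧸ (P ⊔ Ideal.span {a})) :=
  (quotSmulTopEquiv P a).length_eq

theorem restrictScalars_span_singleton_mk :
    (Ideal.span {Ideal.Quotient.mk P a} : Submodule (R ⧸ P) (R ⧸ P)).restrictScalars R =
      a • (⊤ : Submodule R (R ⧸ P)) := by
  ext y
  rw [Submodule.restrictScalars_mem, Submodule.mem_smul_pointwise_iff_exists]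
  constructor
  · intro hy
    obtain ⟨c, rfl⟩ := Ideal.mem_span_singleton'.mp hy
    obtain ⟨c, rfl⟩ := Ideal.Quotient.mk_surjective c
    refine ⟨Ideal.Quotient.mk P c, Submodule.mem_top, ?_⟩
    rw [mul_comm]
    rfl
  · rintro ⟨w, -, rfl⟩
    apply Ideal.mem_span_singleton'.mpr
    refine ⟨w, ?_⟩
    rw [mul_comm]
    rfl

/-- The order of vanishing on a quotient as a length over the ring. -/
theorem ord_quotient_mk :
    Ring.ord (R ⧸ P) (Ideal.Quotient.mk P a) = Module.length R (R ⧸ (P ⊔ Ideal.span {a})) := by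
  unfold Ring.ord
  rw [← Module.length_eq_of_surjective (S := R) (R := R ⧸ P)
    (M := (R ⧸ P) ⧸ Ideal.span {Ideal.Quotient.mk P a}) Ideal.Quotient.mk_surjective,
    ← length_quot_smul_top P a]
  exact ((Submodule.Quotient.restrictScalarsEquiv R
    (Ideal.span {Ideal.Quotient.mk P a} : Submodule (R ⧸ P) (R ⧸ P))).symm ≪≫ₗ
    Submodule.quotEquivOfEq _ _ (restrictScalars_span_singleton_mk P a)).length_eq

end Quot

section Main

variable {A₀ B₀ : Type u} [CommRing A₀] [CommRing B₀] [IsLocalRing A₀] [IsLocalRing B₀]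
  [IsNoetherianRing A₀] [IsNoetherianRing B₀] [Algebra A₀ B₀] [IsLocalHom (algebraMap A₀ B₀)]
  [Module.Flat A₀ B₀] (p₀ : Ideal A₀) [hp₀ : p₀.IsPrime] (a : A₀) (ha : a ∉ p₀)

include ha in
/-- `a` is a nonzerodivisor on `B₀/p₀B₀`. -/
theorem ker_lsmul_eq_bot :
    LinearMap.ker (LinearMap.lsmul B₀ (B₀ ⧸ p₀.map (algebraMap A₀ B₀)) (algebraMap A₀ B₀ a)) =
      ⊥ := by
  rw [LinearMap.ker_eq_bot]
  -- multiplication by `a` on `A₀/p₀` is injective
  have hinjA : Function.Injective (LinearMap.lsmul A₀ (A₀ ⧸ p₀) a) := by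
    intro y z hyz
    obtain ⟨y, rfl⟩ := Ideal.Quotient.mk_surjective y
    obtain ⟨z, rfl⟩ := Ideal.Quotient.mk_surjective z
    have h1 : Ideal.Quotient.mk p₀ (a * y) = Ideal.Quotient.mk p₀ (a * z) := hyz
    rw [Ideal.Quotient.eq, ← mul_sub] at h1
    rw [Ideal.Quotient.eq]
    exact (hp₀.mem_or_mem h1).resolve_left ha
  have hinjT := Module.Flat.lTensor_preserves_injective_linearMap (M := B₀)
    (LinearMap.lsmul A₀ (A₀ ⧸ p₀) a) hinjA
  let e := (Algebra.TensorProduct.quotIdealMapEquivTensorQuot B₀ p₀).toLinearEquiv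
  intro y z hyz
  apply e.injective
  apply hinjT
  have key : ∀ w : B₀ ⧸ p₀.map (algebraMap A₀ B₀),
      (LinearMap.lTensor B₀ (LinearMap.lsmul A₀ (A₀ ⧸ p₀) a)) (e w) =
        e ((LinearMap.lsmul B₀ (B₀ ⧸ p₀.map (algebraMap A₀ B₀)) (algebraMap A₀ B₀ a)) w) := by
    intro w
    obtain ⟨b, rfl⟩ := Ideal.Quotient.mk_surjective w
    have h1 : e (Ideal.Quotient.mk _ b) = b ⊗ₜ[A₀] (1 : A₀ ⧸ p₀) := rfl
    have h2 : (LinearMap.lsmul B₀ (B₀ ⧸ p₀.map (algebraMap A₀ B₀)) (algebraMap A₀ B₀ a))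
        (Ideal.Quotient.mk _ b) = Ideal.Quotient.mk _ (a • b) := by
      rw [LinearMap.lsmul_apply, Algebra.smul_def (R := A₀) a b]
      rfl
    have h3 : e (Ideal.Quotient.mk _ (a • b)) = (a • b) ⊗ₜ[A₀] (1 : A₀ ⧸ p₀) := rfl
    rw [h1, h2, h3, LinearMap.lTensor_tmul, LinearMap.lsmul_apply, TensorProduct.smul_tmul]
  rw [key, key, hyz]

include ha in
/-- **The flat pullback formula, algebraic form.** -/
theorem ord_mul_length_eq_finsum
    (h1 : ∀ q q' : PrimeSpectrum B₀, p₀.map (algebraMap A₀ B₀) ≤ q.asIdeal →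
      q.asIdeal ≠ maximalIdeal B₀ → p₀.map (algebraMap A₀ B₀) ≤ q'.asIdeal → q' ≤ q → q' = q)
    (h2 : ∀ q : PrimeSpectrum B₀, p₀.map (algebraMap A₀ B₀) ≤ q.asIdeal →
      q.asIdeal ≠ maximalIdeal B₀ → algebraMap A₀ B₀ a ∉ q.asIdeal) :
    Ring.ord (A₀ ⧸ p₀) (Ideal.Quotient.mk p₀ a) *
        Module.length B₀ (B₀ ⧸ (maximalIdeal A₀).map (algebraMap A₀ B₀)) =
      ∑ᶠ (q : PrimeSpectrum B₀)
        (_ : p₀.map (algebraMap A₀ B₀) ≤ q.asIdeal ∧ q.asIdeal ≠ maximalIdeal B₀),
        Ring.ord (B₀ ⧸ q.asIdeal) (Ideal.Quotient.mk q.asIdeal (algebraMap A₀ B₀ a)) *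
          Module.length (Localization.AtPrime q.asIdeal)
            (LocalizedModule q.asIdeal.primeCompl (B₀ ⧸ p₀.map (algebraMap A₀ B₀))) := by
  set I := p₀.map (algebraMap A₀ B₀) with hI
  set x := algebraMap A₀ B₀ a with hx
  have hmaxeq : ∀ q : PrimeSpectrum B₀, maximalIdeal B₀ ≤ q.asIdeal → q.asIdeal = maximalIdeal B₀ :=
    fun q hq => ((maximalIdeal.isMaximal B₀).eq_of_le q.isPrime.ne_top hq).symm
  have hsd1 : Module.supportDim B₀ (B₀ ⧸ I) ≤ 1 := by
    rw [Module.supportDim_quotient_eq_ringKrullDim, ringKrullDim_quotient,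
      Order.krullDim_le_one_iff]
    rintro ⟨q, hq⟩
    have hIq : I ≤ q.asIdeal := hq
    by_cases hqm : q.asIdeal = maximalIdeal B₀
    · right
      rintro ⟨q', hq'⟩ hle
      have hle' : q.asIdeal ≤ q'.asIdeal := hle
      have : q'.asIdeal = maximalIdeal B₀ := hmaxeq q' (hqm ▸ hle')
      change q'.asIdeal ≤ q.asIdeal
      rw [this, hqm]
    · left
      rintro ⟨q', hq'⟩ hle
      have hle' : q' ≤ q := hle
      have := h1 q q' hIq hqm hq' hle'
      change q.asIdeal ≤ q'.asIdeal
      rw [this]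
  have hsd0 : Module.supportDim B₀ ((B₀ ⧸ I) ⧸ (x • (⊤ : Submodule B₀ (B₀ ⧸ I)))) ≤ 0 := by
    rw [Module.supportDim_eq_of_equiv (quotSmulTopEquiv I x),
      Module.supportDim_quotient_eq_ringKrullDim, ringKrullDim_quotient]
    haveI : Subsingleton ↥(PrimeSpectrum.zeroLocus ((I ⊔ Ideal.span {x} : Ideal B₀) : Set B₀)) := by
      refine ⟨?_⟩
      have key : ∀ q : PrimeSpectrum B₀, q ∈ PrimeSpectrum.zeroLocus
          ((I ⊔ Ideal.span {x} : Ideal B₀) : Set B₀) → q.asIdeal = maximalIdeal B₀ := by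
        intro q hq
        have hq' : I ⊔ Ideal.span {x} ≤ q.asIdeal := hq
        by_contra hne
        exact h2 q (le_sup_left.trans hq') hne
          (hq' (Ideal.mem_sup_right (Ideal.mem_span_singleton_self x)))
      rintro ⟨q, hq⟩ ⟨q', hq'⟩
      apply Subtype.ext
      apply PrimeSpectrum.ext
      change q.asIdeal = q'.asIdeal
      rw [key q hq, key q' hq']
    exact Order.krullDim_nonpos_of_subsingleton
  have main := Groth.Agent.H10.length_quot_eq_length_ker_add_sum (B₀ ⧸ I) x hsd1 hsd0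
  rw [ker_lsmul_eq_bot p₀ a ha, Module.length_bot, zero_add] at main
  have hL : Module.length B₀ ((B₀ ⧸ I) ⧸ (x • (⊤ : Submodule B₀ (B₀ ⧸ I)))) =
      Ring.ord (A₀ ⧸ p₀) (Ideal.Quotient.mk p₀ a) *
        Module.length B₀ (B₀ ⧸ (maximalIdeal A₀).map (algebraMap A₀ B₀)) := by
    rw [length_quot_smul_top, ord_quotient_mk]
    have hmap : I ⊔ Ideal.span {x} = (p₀ ⊔ Ideal.span {a}).map (algebraMap A₀ B₀) := by
      rw [Ideal.map_sup, Ideal.map_span, Set.image_singleton]
    rw [hmap, (Algebra.TensorProduct.quotIdealMapEquivTensorQuot B₀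
      (p₀ ⊔ Ideal.span {a})).toLinearEquiv.length_eq, IsLocalRing.length_baseChange]
  rw [← hL, main]
  refine finsum_congr fun q => ?_
  have hiff : (q ∈ Module.support B₀ (B₀ ⧸ I) ∧ q.asIdeal ≠ maximalIdeal B₀) ↔
      (I ≤ q.asIdeal ∧ q.asIdeal ≠ maximalIdeal B₀) := by
    rw [Module.support_eq_zeroLocus, Ideal.annihilator_quotient]
    rfl
  exact finsum_congr_Prop (propext hiff) fun _ => rfl

end Main

section LocLen

variable {R : Type u} [CommRing R] (S : Submonoid R) (C : Type u) [CommRing C] [Algebra R C]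
  [IsLocalization S C] {M M' : Type u} [AddCommGroup M] [Module R M] [AddCommGroup M']
  [Module R M'] [Module C M'] [IsScalarTower R C M'] (f : M →ₗ[R] M') [IsLocalizedModule S f]

include f in
/-- The length of a localized module can be computed over any model of the localization. -/
theorem length_localizedModule_eq :
    Module.length (Localization S) (LocalizedModule S M) = Module.length C M' := by
  let e : Localization S ≃ₐ[R] C := IsLocalization.algEquiv S (Localization S) C
  letI algLC : Algebra (Localization S) C := (e : Localization S →+* C).toAlgebra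
  letI modL : Module (Localization S) M' := Module.compHom M' (algebraMap (Localization S) C)
  haveI t1 : IsScalarTower (Localization S) C M' :=
    IsScalarTower.of_algebraMap_smul fun r m => rfl
  haveI t2 : IsScalarTower R (Localization S) M' := by
    refine ⟨fun r a m => ?_⟩
    change (e (r • a)) • m = r • ((e a) • m)
    rw [map_smul, smul_assoc]
  let iso : LocalizedModule S M ≃ₗ[R] M' := IsLocalizedModule.iso S f
  let isoL : LocalizedModule S M ≃ₗ[Localization S] M' :=
    LinearEquiv.ofBijective (iso.toLinearMap.extendScalarsOfIsLocalization S (Localization S))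
      iso.bijective
  rw [isoL.length_eq]
  exact Module.length_eq_of_surjective (S := Localization S) (R := C) (M := M') e.surjective

end LocLen

section LocLenQuot

variable {R : Type u} [CommRing R] (q : Ideal R) [q.IsPrime] (C : Type u) [CommRing C]
  [Algebra R C] [IsLocalization.AtPrime C q] (I : Ideal R)

/-- The multiplicity `length_{R_q}((R/I)_q)` computed over a model `C` of `R_q`. -/
theorem length_localizedModule_quotient_eq :
    Module.length (Localization.AtPrime q) (LocalizedModule q.primeCompl (R ⧸ I)) =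
      Module.length C (C ⧸ I.map (algebraMap R C)) := by
  have h := length_localizedModule_eq q.primeCompl C
    (Submodule.toLocalizedQuotient' C q.primeCompl (Algebra.linearMap R C) (I : Submodule R R))
  rw [Ideal.localized'_eq_map] at h
  exact h

end LocLenQuot

end Groth.Agent.H48.FlatDivAlg
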