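import Mathlib
import Groth.Prelude.Def_Cyc
import Groth.Agent.H48.FiniteFibreAlg
import Groth.Agent.H48.FlatDivAlg
import Groth.Agent.H48.FibreDict
import Groth.Agent.H37.ResDeg
import Groth.Agent.H49.FibreStalk

/-!
# Finite flat morphisms: the degree as a sum of local multiplicities over a fibre
-/

set_option autoImplicit false
set_option linter.unusedSectionVars false
set_option linter.style.haveILetI false
universe u

open AlgebraicGeometry CategoryTheory CategoryTheory.Limits TopologicalSpace Opposite Topology
open IsLocalRing

namespace Groth.Agent.H48.FiniteFibre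

open Groth.Agent.H48

section OverField

variable {K : Type u} [Field K] {F : Scheme.{u}}

/-- The length of the local ring of `Spec A` at a prime, computed algebraically. -/
theorem length_stalk_Spec (A : Type u) [CommRing A] (x : PrimeSpectrum A) :
    Module.length ((Spec (CommRingCat.of A)).presheaf.stalk x)
        ((Spec (CommRingCat.of A)).presheaf.stalk x) =
      Module.length (Localization.AtPrime x.asIdeal)
        (LocalizedModule x.asIdeal.primeCompl A) := by
  letI : Algebra A ((Spec (CommRingCat.of A)).presheaf.stalk x) :=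
    StructureSheaf.stalkAlgebra A x
  haveI : IsLocalization.AtPrime ((Spec (CommRingCat.of A)).presheaf.stalk x) x.asIdeal :=
    StructureSheaf.IsLocalization.to_stalk A x
  exact (FlatDivAlg.length_localizedModule_eq x.asIdeal.primeCompl
    ((Spec (CommRingCat.of A)).presheaf.stalk x)
    (Algebra.linearMap A ((Spec (CommRingCat.of A)).presheaf.stalk x))).symm

/-- For a scheme finite over a field, the degree is the sum over the points of the length of the
local ring times the residue degree. -/
theorem finsum_length_mul_residueDegree (c : F ⟶ Spec (CommRingCat.of K)) [IsFinite c]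
    (s : Spec (CommRingCat.of K)) :
    ∑ᶠ u : F, (Module.length (F.presheaf.stalk u) (F.presheaf.stalk u)).toNat *
      c.residueDegree u = c.finrank s := by
  obtain ⟨A, _, _, e, rfl⟩ := Groth.Agent.H52.UBF.exists_algebra_of_isAffineHom c
  set g := Spec.map (CommRingCat.ofHom (algebraMap K A)) with hg
  have hfg : IsFinite g :=
    (MorphismProperty.cancel_left_of_respectsIso @IsFinite e.hom g).mp inferInstance
  haveI hfinA : Module.Finite K A := by
    have := (IsFinite.SpecMap_iff _).mp hfg
    exact RingHom.finite_algebraMap.mp this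
  haveI hArt : IsArtinianRing A := IsArtinianRing.of_finite K A
  have h1 : Scheme.Hom.finrank g s = Module.finrank K A := by
    rw [hg, Scheme.Hom.finrank_SpecMap_algebraMap, Module.rankAtStalk_eq_finrank_of_free]
    rfl
  rw [Scheme.Hom.finrank_comp_left_of_isIso, h1]
  rw [FiniteFibreAlg.finrank_eq_finsum_primeSpectrum K A]
  have hre := finsum_comp_equiv e.hom.homeomorph.toEquiv
    (f := fun n : PrimeSpectrum A => Module.finrank K (A ⧸ n.asIdeal) *
      (Module.length (Localization.AtPrime n.asIdeal)
        (LocalizedModule n.asIdeal.primeCompl A)).toNat)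
  refine Eq.trans ?_ hre
  refine finsum_congr fun u => ?_
  change _ = Module.finrank K (A ⧸ (e.hom u).asIdeal) *
      (Module.length (Localization.AtPrime (e.hom u).asIdeal)
        (LocalizedModule (e.hom u).asIdeal.primeCompl A)).toNat
  haveI : (e.hom u).asIdeal.IsMaximal := IsArtinianRing.isMaximal_of_isPrime _
  rw [Groth.Agent.H37.residueDegree_iso_comp e.hom g u,
    Groth.Agent.H37.residueDegree_SpecMap_eq (e.hom u),
    Groth.Agent.H37.Spec_Γevaluation_ker]
  rw [← length_stalk_Spec A (e.hom u)]
  rw [FiniteFibreAlg.length_eq_of_ringEquiv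
    (asIso (e.hom.stalkMap u)).commRingCatIsoToRingEquiv]
  exact mul_comm _ _

/-- A scheme finite over a field is discrete. -/
theorem discreteTopology_of_isFinite (c : F ⟶ Spec (CommRingCat.of K)) [IsFinite c] :
    DiscreteTopology F := by
  obtain ⟨A, _, _, e, rfl⟩ := Groth.Agent.H52.UBF.exists_algebra_of_isAffineHom c
  set g := Spec.map (CommRingCat.ofHom (algebraMap K A)) with hg
  have hfg : IsFinite g :=
    (MorphismProperty.cancel_left_of_respectsIso @IsFinite e.hom g).mp inferInstance
  haveI hfinA : Module.Finite K A := by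
    have := (IsFinite.SpecMap_iff _).mp hfg
    exact RingHom.finite_algebraMap.mp this
  haveI hArt : IsArtinianRing A := IsArtinianRing.of_finite K A
  haveI : DiscreteTopology ↥(Spec (CommRingCat.of A)) :=
    inferInstanceAs (DiscreteTopology (PrimeSpectrum A))
  exact DiscreteTopology.of_continuous_injective e.hom.continuous e.hom.homeomorph.injective

end OverField

section Finite

variable {Z W : Scheme.{u}} (φ : Z ⟶ W) [IsFinite φ]

instance isFinite_cF (w : W) : IsFinite (FibreDict.cF φ w) :=
  (inferInstance : IsFinite (pullback.snd φ (W.fromSpecResidueField w)))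

theorem discreteTopology_fiber (w : W) : DiscreteTopology ↥(φ.fiber w) :=
  discreteTopology_of_isFinite (FibreDict.cF φ w)

/-- A finite morphism has relative dimension zero. -/
theorem hasRelDim_zero : Cyc.HasRelDim φ 0 := by
  intro w T hT
  haveI := discreteTopology_fiber φ w
  have hirr : IsIrreducible T := hT.1
  have hsub : T.Subsingleton := hirr.isPreirreducible.subsingleton
  obtain ⟨t, ht⟩ := hirr.nonempty
  haveI : Unique ↥T := ⟨⟨⟨t, ht⟩⟩, fun a => Subtype.ext (hsub a.2 ht)⟩
  have hun : IsIrreducible (Set.univ : Set ↥T) := by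
    refine ⟨Set.univ_nonempty, ?_⟩
    rintro u v - - ⟨x, hx, hxu⟩ ⟨y, hy, hyv⟩
    refine ⟨x, hx, hxu, ?_⟩
    rwa [Subsingleton.elim x y]
  haveI : Subsingleton (IrreducibleCloseds ↥T) := by
    refine ⟨fun a b => ?_⟩
    apply IrreducibleCloseds.ext
    have ha : (a : Set ↥T) = Set.univ := by
      obtain ⟨x, hx⟩ := a.isIrreducible.nonempty
      ext y
      simp only [Set.mem_univ, iff_true]
      rwa [Subsingleton.elim y x]
    have hb : (b : Set ↥T) = Set.univ := by
      obtain ⟨x, hx⟩ := b.isIrreducible.nonempty
      ext y
      simp only [Set.mem_univ, iff_true]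
      rwa [Subsingleton.elim y x]
    rw [ha, hb]
  haveI : Unique (IrreducibleCloseds ↥T) := uniqueOfSubsingleton ⟨Set.univ, hun, isClosed_univ⟩
  change Order.krullDim (IrreducibleCloseds ↥T) = _
  rw [Order.krullDim_eq_zero_of_unique]
  rfl

/-- The residue field extensions of a finite morphism are algebraic. -/
theorem trdeg_eq_zero (z : Z) :
    letI := (φ.residueFieldMap z).hom.toAlgebra
    Algebra.trdeg (W.residueField (φ z)) (Z.residueField z) = 0 := by
  haveI := discreteTopology_fiber φ (φ z)
  exact CycFib.trdeg_eq_zero_of_isClosed_asFiber φ z (isClosed_discrete _)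

variable [Flat φ]

/-- **The degree of a finite flat morphism as the sum of the local multiplicities over a
fibre.** -/
theorem finsum_mult_mul_residueDegree (w : W) :
    ∑ᶠ z ∈ (φ : Z → W) ⁻¹' {w},
      (Module.length (Z.presheaf.stalk z)
        (Z.presheaf.stalk z ⧸ Ideal.map (φ.stalkMap z).hom
          (maximalIdeal (W.presheaf.stalk (φ z))))).toNat * φ.residueDegree z = φ.finrank w := by
  have hfin : (FibreDict.cF φ w).finrank default = φ.finrank w := by
    have := Scheme.Hom.finrank_pullback_snd φ (W.fromSpecResidueField w) default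
    rw [Scheme.fromSpecResidueField_apply] at this
    exact this
  rw [← hfin, ← finsum_length_mul_residueDegree (FibreDict.cF φ w) default]
  rw [← φ.range_fiberι w, finsum_mem_range (φ.fiberι w).isEmbedding.injective]
  refine finsum_congr fun u => ?_
  rw [FibreDict.residueDegree_cF]
  congr 2
  have h1 : Module.length (Z.presheaf.stalk (φ.fiberι w u))
      (Z.presheaf.stalk (φ.fiberι w u) ⧸ Ideal.map (φ.stalkMap (φ.fiberι w u)).hom
        (maximalIdeal (W.presheaf.stalk (φ (φ.fiberι w u))))) =
      Module.length (Z.presheaf.stalk (φ.fiberι w u) ⧸ Ideal.map (φ.stalkMap (φ.fiberι w u)).hom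
        (maximalIdeal (W.presheaf.stalk (φ (φ.fiberι w u)))))
      (Z.presheaf.stalk (φ.fiberι w u) ⧸ Ideal.map (φ.stalkMap (φ.fiberι w u)).hom
        (maximalIdeal (W.presheaf.stalk (φ (φ.fiberι w u))))) :=
    Module.length_eq_of_surjective Ideal.Quotient.mk_surjective
  rw [h1]
  exact FiniteFibreAlg.length_eq_of_ringEquiv
    (Groth.Agent.H49.FibreStalk.quotientEquivStalkFiber φ w u)

end Finite

end Groth.Agent.H48.FiniteFibre
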