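import Mathlib
import Groth.Prelude.Def_Cyc
import Groth.Agent.H48.FiniteFibre

/-!
# `f_* f^* α = d α` for a finite flat morphism of constant degree `d`
-/

set_option autoImplicit false
set_option linter.unusedSectionVars false
set_option linter.style.haveILetI false
universe u

open AlgebraicGeometry CategoryTheory CategoryTheory.Limits TopologicalSpace Opposite Topology
open IsLocalRing

namespace Groth.Agent.H48.FiniteFlatPush

open Groth.Agent.H48

variable {X Y : Scheme.{u}} (δX : X → ℤ) (δY : Y → ℤ) (f : X ⟶ Y) [IsFinite f] [Flat f]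
  (hδ : Cyc.DeltaCompat f δX δY)

include hδ in
theorem delta_eq (x : X) : δX x = δY (f x) := by
  obtain ⟨n, hn, hδn⟩ := hδ x
  have h0 := FiniteFibre.trdeg_eq_zero f x
  rw [h0] at hn
  have : n = 0 := by exact_mod_cast hn.symm
  rw [hδn, this]
  simp

include hδ in
theorem map_pullFun (d : ℕ) (hd : ∀ y : Y, f.finrank y = d) (α : AlgebraicCycle Y ℤ)
    (α' : AlgebraicCycle X ℤ) (hα' : ⇑α' = Cyc.pullFun f δX δY 0 ⇑α) :
    AlgebraicCycle.map f δX δY α' = d • α := by
  ext y
  simp only [AlgebraicCycle.map, Function.locallyFinsupp.map_apply,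
    Function.locallyFinsuppWithin.coe_nsmul, Pi.smul_apply]
  rw [hα']
  have hterm : ∀ x ∈ (f : X → Y) ⁻¹' {y},
      Cyc.pullFun f δX δY 0 ⇑α x * ((AlgebraicCycle.mapCoeff f δX δY x : ℕ) : ℤ) =
      α y * (((Module.length (X.presheaf.stalk x)
        (X.presheaf.stalk x ⧸ Ideal.map (f.stalkMap x).hom
          (maximalIdeal (Y.presheaf.stalk (f x))))).toNat * f.residueDegree x : ℕ) : ℤ) := by
    intro x hx
    have hx' : f x = y := hx
    have hde := delta_eq δX δY f hδ x
    unfold Cyc.pullFun AlgebraicCycle.mapCoeff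
    have hαx : α (f x) = α y := by rw [hx']
    rw [if_pos (by rw [hde]; simp), if_pos hde, hαx]
    push_cast
    ring
  rw [finsum_mem_congr rfl hterm, ← mul_finsum_mem]
  · have key := FiniteFibre.finsum_mult_mul_residueDegree f y
    have hcast : (∑ᶠ x ∈ (f : X → Y) ⁻¹' {y}, (((Module.length (X.presheaf.stalk x)
        (X.presheaf.stalk x ⧸ Ideal.map (f.stalkMap x).hom
          (maximalIdeal (Y.presheaf.stalk (f x))))).toNat * f.residueDegree x : ℕ) : ℤ)) =
        ((∑ᶠ x ∈ (f : X → Y) ⁻¹' {y}, (Module.length (X.presheaf.stalk x)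
        (X.presheaf.stalk x ⧸ Ideal.map (f.stalkMap x).hom
          (maximalIdeal (Y.presheaf.stalk (f x))))).toNat * f.residueDegree x : ℕ) : ℤ) := by
      have hfinite : ((f : X → Y) ⁻¹' {y}).Finite := by
        haveI := FiniteFibre.discreteTopology_fiber f y
        rw [← f.range_fiberι y]
        haveI : CompactSpace ↥(f.fiber y) := by
          haveI : QuasiCompact (FibreDict.cF f y) := inferInstance
          exact (quasiCompact_iff_compactSpace (FibreDict.cF f y)).mp inferInstance
        haveI : Finite ↥(f.fiber y) := finite_of_compact_of_discrete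
        exact Set.finite_range _
      symm
      exact AddMonoidHom.map_finsum_mem _ (Nat.castAddMonoidHom ℤ) hfinite
    rw [hcast, key, hd y]
    simp [mul_comm]

end Groth.Agent.H48.FiniteFlatPush
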