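import Mathlib
import Groth.Agent.H48.FlatDivAlg
import Groth.Agent.H48.StalkDict

/-!
# The flat pullback formula, algebraic form with natural number values
-/

set_option autoImplicit false
set_option linter.unusedSectionVars false
set_option linter.style.haveILetI false
universe u

open IsLocalRing

namespace Groth.Agent.H48.FlatDivAlg

section Congr

variable {R : Type u} [CommRing R]

theorem ord_quotient_congr (P Q : Ideal R) (h : P = Q) (b : R) :
    Ring.ord (R ⧸ P) (Ideal.Quotient.mk P b) = Ring.ord (R ⧸ Q) (Ideal.Quotient.mk Q b) := by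
  subst h; rfl

theorem length_localizedModule_congr (P Q : Ideal R) [hP : P.IsPrime] [hQ : Q.IsPrime] (h : P = Q)
    (M : Type u) [AddCommGroup M] [Module R M] :
    Module.length (Localization.AtPrime P) (LocalizedModule P.primeCompl M) =
      Module.length (Localization.AtPrime Q) (LocalizedModule Q.primeCompl M) := by
  subst h; rfl

end Congr

section Main

variable {A₀ B₀ : Type u} [CommRing A₀] [CommRing B₀] [IsLocalRing A₀] [IsLocalRing B₀]
  [IsNoetherianRing A₀] [IsNoetherianRing B₀] [Algebra A₀ B₀] [IsLocalHom (algebraMap A₀ B₀)]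
  [Module.Flat A₀ B₀] (p₀ : Ideal A₀) [hp₀ : p₀.IsPrime] (a : A₀) (ha : a ∉ p₀)

/-- The index set: primes of `B₀` containing `p₀B₀`, other than the maximal ideal. -/
abbrev QSet : Type u :=
  {q : PrimeSpectrum B₀ // p₀.map (algebraMap A₀ B₀) ≤ q.asIdeal ∧ q.asIdeal ≠ maximalIdeal B₀}

theorem finite_QSet
    (h1 : ∀ q q' : PrimeSpectrum B₀, p₀.map (algebraMap A₀ B₀) ≤ q.asIdeal →
      q.asIdeal ≠ maximalIdeal B₀ → p₀.map (algebraMap A₀ B₀) ≤ q'.asIdeal → q' ≤ q → q' = q) :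
    Finite (QSet (B₀ := B₀) p₀) := by
  have hfin := Ideal.finite_minimalPrimes_of_isNoetherianRing B₀ (p₀.map (algebraMap A₀ B₀))
  haveI : Finite ↥((p₀.map (algebraMap A₀ B₀)).minimalPrimes) := hfin.to_subtype
  let F : QSet (B₀ := B₀) p₀ → ↥((p₀.map (algebraMap A₀ B₀)).minimalPrimes) := fun q =>
    ⟨q.1.asIdeal, ⟨⟨q.1.isPrime, q.2.1⟩, fun J hJ hle => by
      have := h1 q.1 ⟨J, hJ.1⟩ q.2.1 q.2.2 hJ.2 hle
      rw [← this]⟩⟩
  refine Finite.of_injective F ?_
  intro q q' hqq'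
  apply Subtype.ext
  apply PrimeSpectrum.ext
  exact congrArg Subtype.val hqq'

include ha in
theorem ord_mul_length_eq_finsum_toNat
    (h1 : ∀ q q' : PrimeSpectrum B₀, p₀.map (algebraMap A₀ B₀) ≤ q.asIdeal →
      q.asIdeal ≠ maximalIdeal B₀ → p₀.map (algebraMap A₀ B₀) ≤ q'.asIdeal → q' ≤ q → q' = q)
    (h2 : ∀ q : PrimeSpectrum B₀, p₀.map (algebraMap A₀ B₀) ≤ q.asIdeal →
      q.asIdeal ≠ maximalIdeal B₀ → algebraMap A₀ B₀ a ∉ q.asIdeal)
    (hf1 : Ring.ord (A₀ ⧸ p₀) (Ideal.Quotient.mk p₀ a) ≠ ⊤)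
    (hf2 : Module.length B₀ (B₀ ⧸ (maximalIdeal A₀).map (algebraMap A₀ B₀)) ≠ ⊤) :
    (Ring.ord (A₀ ⧸ p₀) (Ideal.Quotient.mk p₀ a)).toNat *
        (Module.length B₀ (B₀ ⧸ (maximalIdeal A₀).map (algebraMap A₀ B₀))).toNat =
      ∑ᶠ q : QSet (B₀ := B₀) p₀,
        (Ring.ord (B₀ ⧸ q.1.asIdeal) (Ideal.Quotient.mk q.1.asIdeal (algebraMap A₀ B₀ a))).toNat *
          (Module.length (Localization.AtPrime q.1.asIdeal)
            (LocalizedModule q.1.asIdeal.primeCompl (B₀ ⧸ p₀.map (algebraMap A₀ B₀)))).toNat := by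
  haveI := finite_QSet (B₀ := B₀) p₀ h1
  have main := ord_mul_length_eq_finsum (B₀ := B₀) p₀ a ha h1 h2
  rw [← finsum_subtype_eq_finsum_cond] at main
  have hne : (∑ᶠ q : QSet (B₀ := B₀) p₀,
      Ring.ord (B₀ ⧸ q.1.asIdeal) (Ideal.Quotient.mk q.1.asIdeal (algebraMap A₀ B₀ a)) *
        Module.length (Localization.AtPrime q.1.asIdeal)
          (LocalizedModule q.1.asIdeal.primeCompl (B₀ ⧸ p₀.map (algebraMap A₀ B₀)))) ≠ ⊤ := by
    rw [← main]
    exact WithTop.mul_ne_top hf1 hf2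
  have hterm := Groth.Agent.H48.StalkDict.forall_ne_top_of_finsum_ne_top _ hne
  rw [← ENat.toNat_mul, main, Groth.Agent.H48.StalkDict.toNat_finsum _ hterm]
  exact finsum_congr fun q => ENat.toNat_mul _ _

end Main

end Groth.Agent.H48.FlatDivAlg
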