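import Mathlib
import Groth.Prelude.Def_Cyc
import Groth.Agent.H48.StalkDict
import Groth.Agent.H48.FlatDivAlg2
import Groth.Agent.H48.ShiftPull
import Groth.Agent.H79.CycComp
import Groth.Agent.H48.DivPull

/-!
# Flat pullback of a principal divisor: the local computation
-/

set_option autoImplicit false
set_option linter.unusedSectionVars false
set_option linter.style.haveILetI false
universe u

open AlgebraicGeometry CategoryTheory CategoryTheory.Limits TopologicalSpace Opposite Topology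
open IsLocalRing

namespace Groth.Agent.H48.FlatDiv

open Groth.Agent.H48

section Defs

variable {X X' : Scheme.{u}} (p : X' ⟶ X)

/-- The multiplicity of the fibre of `p` at a point: the length of `O_{X',ξ'}/𝔪_{p ξ'}O_{X',ξ'}`. -/
noncomputable def fibMult (ξ' : X') : ℤ :=
  ((Module.length (X'.presheaf.stalk ξ')
    (X'.presheaf.stalk ξ' ⧸ Ideal.map (p.stalkMap ξ').hom
      (maximalIdeal (X.presheaf.stalk (p ξ'))))).toNat : ℤ)

/-- The restriction of `g ∈ κ(ξ₀)` to a point `ξ'` over `ξ₀`. -/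
noncomputable def resFun (ξ₀ : X) (g : X.residueField ξ₀) (ξ' : X') (h : p ξ' = ξ₀) :
    X'.residueField ξ' :=
  (p.residueFieldMap ξ').hom ((X.residueFieldCongr h.symm).hom g)

/-- The points over `ξ₀` that are maximal in their fibre. -/
abbrev J (ξ₀ : X) : Type u := {ξ' : X' // p ξ' = ξ₀ ∧ ∀ y, p y = p ξ' → y ⤳ ξ' → y = ξ'}

theorem resFun_specMap (x' ξ' : X') (h' : ξ' ⤳ x') (ξ₀ : X) (hp : p ξ' = ξ₀) (h₀ : ξ₀ ⤳ p x')
    (a : X.presheaf.stalk (p x')) :
    resFun p ξ₀ (Cyc.specMap (p x') ξ₀ h₀ a) ξ' hp =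
      Cyc.specMap x' ξ' h' ((p.stalkMap x').hom a) := by
  subst hp
  unfold resFun
  rw [Scheme.residueFieldCongr_refl]
  have := congrArg (fun g => g a) (FibreMaxSch.specMap_comp_stalkMap p x' ξ' h')
  simp only [RingHom.comp_apply] at this
  exact this.symm

theorem resFun_div (ξ₀ : X) (g₁ g₂ : X.residueField ξ₀) (ξ' : X') (h : p ξ' = ξ₀) :
    resFun p ξ₀ (g₁ / g₂) ξ' h = resFun p ξ₀ g₁ ξ' h / resFun p ξ₀ g₂ ξ' h := by
  unfold resFun
  rw [map_div₀, map_div₀]

theorem resFun_ne_zero (ξ₀ : X) (g : X.residueField ξ₀) (hg : g ≠ 0) (ξ' : X') (h : p ξ' = ξ₀) :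
    resFun p ξ₀ g ξ' h ≠ 0 := by
  unfold resFun
  rw [Ne, map_eq_zero, map_eq_zero]
  exact hg

theorem resFun_pow (ξ₀ : X) (g : X.residueField ξ₀) (n : ℕ) (ξ' : X') (h : p ξ' = ξ₀) :
    resFun p ξ₀ (g ^ n) ξ' h = resFun p ξ₀ g ξ' h ^ n := by
  unfold resFun
  rw [map_pow, map_pow]

/-- The multiplicity `length (B₀/p₀B₀)_q` is the fibre multiplicity at the point of `q`. -/
theorem length_localizedModule_eq_fibMult [IsLocallyNoetherian X'] (x' ξ' : X') (h' : ξ' ⤳ x')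
    (ξ₀ : X) (hp : p ξ' = ξ₀) (h₀ : ξ₀ ⤳ p x') :
    Module.length (Localization.AtPrime (RingHom.ker (Cyc.specMap x' ξ' h')))
      (LocalizedModule (RingHom.ker (Cyc.specMap x' ξ' h')).primeCompl
        (X'.presheaf.stalk x' ⧸
          (RingHom.ker (Cyc.specMap (p x') ξ₀ h₀)).map (p.stalkMap x').hom)) =
    Module.length (X'.presheaf.stalk ξ')
      (X'.presheaf.stalk ξ' ⧸ Ideal.map (p.stalkMap ξ').hom
        (maximalIdeal (X.presheaf.stalk (p ξ')))) := by
  subst hp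
  letI := (X'.presheaf.stalkSpecializes h').hom.toAlgebra
  haveI := StalkLoc.isLocalization_stalkSpecializes x' ξ' h'
  rw [FlatDivAlg.length_localizedModule_quotient_eq (RingHom.ker (Cyc.specMap x' ξ' h'))
    (X'.presheaf.stalk ξ')]
  have hI : Ideal.map (algebraMap (X'.presheaf.stalk x') (X'.presheaf.stalk ξ'))
      ((RingHom.ker (Cyc.specMap (p x') (p ξ') h₀)).map (p.stalkMap x').hom) =
      Ideal.map (p.stalkMap ξ').hom (maximalIdeal (X.presheaf.stalk (p ξ'))) := by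
    rw [Ideal.map_map, ← StalkLoc.map_ker_specMap (p x') (p ξ') h₀, Ideal.map_map]
    congr 1
    have := Scheme.Hom.stalkSpecializes_stalkMap p ξ' x' h'
    have h2 := congrArg (fun m => m.hom) this
    simp only [CommRingCat.hom_comp] at h2
    exact h2.symm
  rw [hI]

end Defs

section B2

variable {X X' : Scheme.{u}} (p : X' ⟶ X)

theorem map_ker_le_iff (x' : X') (ξ₀ : X) (h₀ : ξ₀ ⤳ p x')
    (q : PrimeSpectrum (X'.presheaf.stalk x')) :
    (RingHom.ker (Cyc.specMap (p x') ξ₀ h₀)).map (p.stalkMap x').hom ≤ q.asIdeal ↔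
      ξ₀ ⤳ p (X'.fromSpecStalk x' q) := by
  rw [Ideal.map_le_iff_le_comap]
  have h' := StalkDict.specializes_fromSpecStalk x' q
  have hk := StalkDict.ker_specMap_fromSpecStalk x' q
  have hc := FibreMaxSch.comap_ker_specMap p x' _ h'
  rw [← hk, hc, StalkDict.ker_specMap_le_iff]

variable [Flat p] [IsLocallyNoetherian X] [IsLocallyNoetherian X']
  (δ : X → ℤ) (δ' : X' → ℤ) (hδ : Cyc.IsDimFun X δ) (hδ' : Cyc.IsDimFun X' δ') (c : ℤ)
  (hc : ∀ x' : X', (∀ y, p y = p x' → y ⤳ x' → y = x') → δ' x' = δ (p x') + c)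

include hδ hδ' hc in
theorem point_of_B2 (x' : X') (ξ₀ : X) (h₀ : ξ₀ ⤳ p x') (hB1 : δ (p x') + 1 = δ ξ₀)
    (hB2 : δ' x' = δ (p x') + c) (ξ' : X') (h' : ξ' ⤳ x') (hne : ξ' ≠ x') (hsp : ξ₀ ⤳ p ξ') :
    p ξ' = ξ₀ ∧ δ' x' + 1 = δ' ξ' ∧ ∀ y, p y = p ξ' → y ⤳ ξ' → y = ξ' := by
  have hpx : p ξ' ⤳ p x' := h'.map p.continuous
  have hxmax := ShiftPull.fibMax_of_delta_eq p δ δ' hδ' c hc x' hB2
  have h1 : p ξ' = ξ₀ := by
    by_contra hne1
    have h3 := (hδ ξ₀ (p ξ') hsp (Ne.symm hne1)).1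
    have h2 : p ξ' = p x' := by
      by_contra hne2
      have := (hδ (p ξ') (p x') hpx hne2).1
      omega
    exact hne (hxmax ξ' h2 h')
  have hle := ShiftPull.delta_le_add_shift p δ δ' hδ' c hc ξ'
  have hlt := (hδ' ξ' x' h' hne).1
  have hd : δ' x' + 1 = δ' ξ' := by rw [h1] at hle; omega
  exact ⟨h1, hd, ShiftPull.fibMax_of_delta_eq p δ δ' hδ' c hc ξ' (by rw [h1]; omega)⟩

theorem natCast_finsum {α : Type*} [Finite α] (f : α → ℕ) :
    ((∑ᶠ a, f a : ℕ) : ℤ) = ∑ᶠ a, (f a : ℤ) := by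
  classical
  haveI := Fintype.ofFinite α
  rw [finsum_eq_sum_of_fintype, finsum_eq_sum_of_fintype, Nat.cast_sum]

include hδ hδ' hc in
/-- **The flat pullback formula at a point, main case.** -/
theorem sum_B2 (x' : X') (ξ₀ : X) (h₀ : ξ₀ ⤳ p x') (hB1 : δ (p x') + 1 = δ ξ₀)
    (hB2 : δ' x' = δ (p x') + c) (g : X.residueField ξ₀) (hg : g ≠ 0) :
    Cyc.ordAt (p x') ξ₀ h₀ g * fibMult p x' =
      ∑ᶠ ξ' : J p ξ₀, fibMult p ξ'.1 *
        Cyc.divFun δ' ξ'.1 (resFun p ξ₀ g ξ'.1 ξ'.2.1) x' := by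
  classical
  letI alg : Algebra (X.presheaf.stalk (p x')) (X'.presheaf.stalk x') :=
    (p.stalkMap x').hom.toAlgebra
  haveI : IsLocalHom (algebraMap (X.presheaf.stalk (p x')) (X'.presheaf.stalk x')) :=
    inferInstanceAs (IsLocalHom (p.stalkMap x').hom)
  haveI : Module.Flat (X.presheaf.stalk (p x')) (X'.presheaf.stalk x') := Flat.stalkMap p x'
  set P₀ := RingHom.ker (Cyc.specMap (p x') ξ₀ h₀) with hP₀
  have hxmax := ShiftPull.fibMax_of_delta_eq p δ δ' hδ' c hc x' hB2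
  -- translation of the conditions on primes
  have hQ : ∀ q : PrimeSpectrum (X'.presheaf.stalk x'),
      P₀.map (algebraMap (X.presheaf.stalk (p x')) (X'.presheaf.stalk x')) ≤ q.asIdeal →
      q.asIdeal ≠ maximalIdeal (X'.presheaf.stalk x') →
      p (X'.fromSpecStalk x' q) = ξ₀ ∧ δ' x' + 1 = δ' (X'.fromSpecStalk x' q) ∧
        ∀ y, p y = p (X'.fromSpecStalk x' q) → y ⤳ (X'.fromSpecStalk x' q) →
          y = (X'.fromSpecStalk x' q) := by
    intro q hq hqm
    apply point_of_B2 p δ δ' hδ hδ' c hc x' ξ₀ h₀ hB1 hB2 _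
      (StalkDict.specializes_fromSpecStalk x' q)
    · intro h; exact hqm ((StalkDict.fromSpecStalk_eq_iff_closedPoint x' q).mp h)
    · exact (map_ker_le_iff p x' ξ₀ h₀ q).mp hq
  have h1 : ∀ q q' : PrimeSpectrum (X'.presheaf.stalk x'),
      P₀.map (algebraMap (X.presheaf.stalk (p x')) (X'.presheaf.stalk x')) ≤ q.asIdeal →
      q.asIdeal ≠ maximalIdeal (X'.presheaf.stalk x') →
      P₀.map (algebraMap (X.presheaf.stalk (p x')) (X'.presheaf.stalk x')) ≤ q'.asIdeal →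
      q' ≤ q → q' = q := by
    intro q q' hq hqm hq' hle
    have hq'm : q'.asIdeal ≠ maximalIdeal (X'.presheaf.stalk x') := by
      intro h
      apply hqm
      have hle' : q'.asIdeal ≤ q.asIdeal := hle
      rw [h] at hle'
      exact ((maximalIdeal.isMaximal _).eq_of_le q.isPrime.ne_top hle').symm
    obtain ⟨-, hd, -⟩ := hQ q hq hqm
    obtain ⟨-, hd', -⟩ := hQ q' hq' hq'm
    have hsp : X'.fromSpecStalk x' q' ⤳ X'.fromSpecStalk x' q :=
      (StalkDict.fromSpecStalk_specializes_iff x' q' q).mpr hle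
    by_contra hne
    have hne' : X'.fromSpecStalk x' q' ≠ X'.fromSpecStalk x' q :=
      fun h => hne (StalkDict.fromSpecStalk_injective x' h)
    have := (hδ' _ _ hsp hne').1
    omega
  have h2 : ∀ a : X.presheaf.stalk (p x'), Cyc.specMap (p x') ξ₀ h₀ a ≠ 0 →
      ∀ q : PrimeSpectrum (X'.presheaf.stalk x'),
      P₀.map (algebraMap (X.presheaf.stalk (p x')) (X'.presheaf.stalk x')) ≤ q.asIdeal →
      q.asIdeal ≠ maximalIdeal (X'.presheaf.stalk x') →
      algebraMap (X.presheaf.stalk (p x')) (X'.presheaf.stalk x') a ∉ q.asIdeal := by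
    intro a ha q hq hqm hmem
    obtain ⟨hp, -, -⟩ := hQ q hq hqm
    have h' := StalkDict.specializes_fromSpecStalk x' q
    have hk := StalkDict.ker_specMap_fromSpecStalk x' q
    have hcm := FibreMaxSch.comap_ker_specMap p x' _ h'
    have ha1 : a ∈ (RingHom.ker (Cyc.specMap x' _ h')).comap (p.stalkMap x').hom := by
      rw [hk]; exact hmem
    rw [hcm] at ha1
    have hle : RingHom.ker (Cyc.specMap (p x') (p (X'.fromSpecStalk x' q))
        (h'.map p.continuous)) ≤ P₀ :=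
      (StalkDict.ker_specMap_le_iff (p x') _ _ _ h₀).mpr (specializes_of_eq hp)
    exact ha (RingHom.mem_ker.mp (hle ha1))
  haveI hfinQ := FlatDivAlg.finite_QSet (B₀ := X'.presheaf.stalk x') P₀ h1
  -- the numerical identity for elements of the local ring
  have key : ∀ a : X.presheaf.stalk (p x'), Cyc.specMap (p x') ξ₀ h₀ a ≠ 0 →
      ((Ring.ord (Cyc.LocQuot (p x') ξ₀ h₀) (Ideal.Quotient.mk _ a)).toNat : ℤ) * fibMult p x' =
      ∑ᶠ q : FlatDivAlg.QSet (B₀ := X'.presheaf.stalk x') P₀,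
        (((Ring.ord (X'.presheaf.stalk x' ⧸ q.1.asIdeal) (Ideal.Quotient.mk q.1.asIdeal
          (algebraMap (X.presheaf.stalk (p x')) (X'.presheaf.stalk x') a))).toNat *
          (Module.length (Localization.AtPrime q.1.asIdeal)
            (LocalizedModule q.1.asIdeal.primeCompl (X'.presheaf.stalk x' ⧸
              P₀.map (algebraMap (X.presheaf.stalk (p x')) (X'.presheaf.stalk x'))))).toNat :
            ℕ) : ℤ) := by
    intro a ha
    have haP : a ∉ P₀ := fun h => ha (RingHom.mem_ker.mp h)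
    haveI := StalkDict.krullDimLE_one_locQuot (p x') δ hδ ξ₀ h₀ hB1
    have hf1 : Ring.ord (X.presheaf.stalk (p x') ⧸ P₀) (Ideal.Quotient.mk P₀ a) ≠ ⊤ := by
      apply Ring.ord_ne_top
      apply mem_nonZeroDivisors_of_ne_zero
      rw [Ne, Ideal.Quotient.eq_zero_iff_mem]; exact haP
    have hf2 : Module.length (X'.presheaf.stalk x') (X'.presheaf.stalk x' ⧸
        (maximalIdeal (X.presheaf.stalk (p x'))).map
          (algebraMap (X.presheaf.stalk (p x')) (X'.presheaf.stalk x'))) ≠ ⊤ := by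
      rw [Module.length_ne_top_iff]
      exact H79.CycComp.isFiniteLength_fibre_stalk p x' (fun y' hy' hpy' => hxmax y' hpy' hy')
    have := FlatDivAlg.ord_mul_length_eq_finsum_toNat (B₀ := X'.presheaf.stalk x') P₀ a haP h1
      (h2 a ha) hf1 hf2
    unfold fibMult
    rw [← Nat.cast_mul]
    rw [← natCast_finsum]
    exact congrArg _ this
  -- the map from primes to points
  let e : FlatDivAlg.QSet (B₀ := X'.presheaf.stalk x') P₀ → J p ξ₀ := fun q =>
    ⟨X'.fromSpecStalk x' q.1, (hQ q.1 q.2.1 q.2.2).1, (hQ q.1 q.2.1 q.2.2).2.2⟩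
  have he : Function.Injective e := by
    intro q q' h
    apply Subtype.ext
    have h3 : (e q).1 = (e q').1 := congrArg Subtype.val h
    exact StalkDict.fromSpecStalk_injective x' h3
  have hsupp : ∀ g' : X.residueField ξ₀, Function.support (fun ξ' : J p ξ₀ => fibMult p ξ'.1 *
      Cyc.divFun δ' ξ'.1 (resFun p ξ₀ g' ξ'.1 ξ'.2.1) x') ⊆ Set.range e := by
    intro g' ξ' hξ'
    have hne : Cyc.divFun δ' ξ'.1 (resFun p ξ₀ g' ξ'.1 ξ'.2.1) x' ≠ 0 := right_ne_zero_of_mul hξ'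
    have hcond : ξ'.1 ⤳ x' ∧ δ' x' + 1 = δ' ξ'.1 := by
      by_contra hcon
      apply hne
      unfold Cyc.divFun
      rw [dif_neg hcon]
    obtain ⟨q, hq⟩ := StalkDict.exists_fromSpecStalk_eq x' ξ'.1 hcond.1
    have hq1 : P₀.map (algebraMap (X.presheaf.stalk (p x')) (X'.presheaf.stalk x')) ≤
        q.asIdeal := by
      refine (map_ker_le_iff p x' ξ₀ h₀ q).mpr ?_
      rw [hq, ξ'.2.1]
    have hq2 : q.asIdeal ≠ maximalIdeal (X'.presheaf.stalk x') := by
      intro h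
      have := (StalkDict.fromSpecStalk_eq_iff_closedPoint x' q).mpr h
      rw [hq] at this
      rw [this] at hcond
      omega
    exact ⟨⟨q, hq1, hq2⟩, Subtype.ext hq⟩
  -- the terms
  have hterm : ∀ (a b : X.presheaf.stalk (p x')) (ha : Cyc.specMap (p x') ξ₀ h₀ a ≠ 0)
      (hb : Cyc.specMap (p x') ξ₀ h₀ b ≠ 0)
      (q : FlatDivAlg.QSet (B₀ := X'.presheaf.stalk x') P₀),
      fibMult p (e q).1 * Cyc.divFun δ' (e q).1
        (resFun p ξ₀ (Cyc.specMap (p x') ξ₀ h₀ a / Cyc.specMap (p x') ξ₀ h₀ b) (e q).1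
          (e q).2.1) x' =
      (((Ring.ord (X'.presheaf.stalk x' ⧸ q.1.asIdeal) (Ideal.Quotient.mk q.1.asIdeal
          (algebraMap (X.presheaf.stalk (p x')) (X'.presheaf.stalk x') a))).toNat *
          (Module.length (Localization.AtPrime q.1.asIdeal)
            (LocalizedModule q.1.asIdeal.primeCompl (X'.presheaf.stalk x' ⧸
              P₀.map (algebraMap (X.presheaf.stalk (p x')) (X'.presheaf.stalk x'))))).toNat :
            ℕ) : ℤ) -
      (((Ring.ord (X'.presheaf.stalk x' ⧸ q.1.asIdeal) (Ideal.Quotient.mk q.1.asIdeal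
          (algebraMap (X.presheaf.stalk (p x')) (X'.presheaf.stalk x') b))).toNat *
          (Module.length (Localization.AtPrime q.1.asIdeal)
            (LocalizedModule q.1.asIdeal.primeCompl (X'.presheaf.stalk x' ⧸
              P₀.map (algebraMap (X.presheaf.stalk (p x')) (X'.presheaf.stalk x'))))).toNat :
            ℕ) : ℤ) := by
    intro a b ha hb q
    obtain ⟨hp, hd, hmax⟩ := hQ q.1 q.2.1 q.2.2
    have h' := StalkDict.specializes_fromSpecStalk x' q.1
    have hk := StalkDict.ker_specMap_fromSpecStalk x' q.1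
    have hφ : ∀ a : X.presheaf.stalk (p x'), Cyc.specMap (p x') ξ₀ h₀ a ≠ 0 →
        Cyc.specMap x' (X'.fromSpecStalk x' q.1) h' ((p.stalkMap x').hom a) ≠ 0 := by
      intro a ha h0
      apply h2 a ha q.1 q.2.1 q.2.2
      rw [← hk]
      exact RingHom.mem_ker.mpr h0
    change fibMult p (X'.fromSpecStalk x' q.1) * Cyc.divFun δ' (X'.fromSpecStalk x' q.1)
      (resFun p ξ₀ _ (X'.fromSpecStalk x' q.1) hp) x' = _
    unfold Cyc.divFun
    rw [dif_pos ⟨h', hd⟩, resFun_div, resFun_specMap p x' _ h' ξ₀ hp h₀ a,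
      resFun_specMap p x' _ h' ξ₀ hp h₀ b,
      StalkDict.ordAt_specMap_div x' δ' hδ' _ h' hd _ _ (hφ a ha) (hφ b hb)]
    rw [FlatDivAlg.ord_quotient_congr _ _ hk, FlatDivAlg.ord_quotient_congr _ _ hk]
    unfold fibMult
    rw [← length_localizedModule_eq_fibMult p x' _ h' ξ₀ hp h₀,
      FlatDivAlg.length_localizedModule_congr _ _ hk]
    have e1 : ∀ t : X.presheaf.stalk (p x'),
        Ring.ord (X'.presheaf.stalk x' ⧸ q.1.asIdeal)
          (Ideal.Quotient.mk q.1.asIdeal ((p.stalkMap x').hom t)) =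
        Ring.ord (X'.presheaf.stalk x' ⧸ q.1.asIdeal) (Ideal.Quotient.mk q.1.asIdeal
          (algebraMap (X.presheaf.stalk (p x')) (X'.presheaf.stalk x') t)) := fun t => rfl
    have e2 : Module.length (Localization.AtPrime q.1.asIdeal)
        (LocalizedModule q.1.asIdeal.primeCompl (X'.presheaf.stalk x' ⧸
          Ideal.map (p.stalkMap x').hom (RingHom.ker (Cyc.specMap (p x') ξ₀ h₀)))) =
        Module.length (Localization.AtPrime q.1.asIdeal)
          (LocalizedModule q.1.asIdeal.primeCompl (X'.presheaf.stalk x' ⧸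
            P₀.map (algebraMap (X.presheaf.stalk (p x')) (X'.presheaf.stalk x')))) := rfl
    rw [e1, e1, e2]
    push_cast
    ring
  -- assembly
  obtain ⟨a, b, hb, rfl⟩ := StalkLoc.exists_specMap_div (p x') ξ₀ h₀ g
  have ha : Cyc.specMap (p x') ξ₀ h₀ a ≠ 0 := by
    intro h0
    apply hg
    rw [h0, zero_div]
  rw [StalkDict.ordAt_specMap_div (p x') δ hδ ξ₀ h₀ hB1 a b ha hb, sub_mul, key a ha, key b hb,
    ← finsum_sub_distrib (Set.toFinite _) (Set.toFinite _),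
    StalkDict.finsum_eq_finsum_comp_of_support_subset e he _ (hsupp _)]
  exact finsum_congr fun q => (hterm a b ha hb q).symm

end B2

section Main

variable {X X' : Scheme.{u}} (p : X' ⟶ X)

theorem divFun_resFun_eq_zero_of_eq (δ' : X' → ℤ) (x' : X') (ξ₀ : X) (hx : p x' = ξ₀)
    (g : X.residueField ξ₀) (hg : g ≠ 0) (ξ' : X') (hp : p ξ' = ξ₀) :
    Cyc.divFun δ' ξ' (resFun p ξ₀ g ξ' hp) x' = 0 := by
  unfold Cyc.divFun
  by_cases h : ξ' ⤳ x' ∧ δ' x' + 1 = δ' ξ'
  · rw [dif_pos h]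
    subst hx
    obtain ⟨u, hu, rfl⟩ :=
      DivPull.exists_isUnit_specMap_eq (p x') (p x') specializes_rfl rfl g hg
    rw [resFun_specMap p x' ξ' h.1 (p x') hp specializes_rfl u]
    unfold Cyc.ordAt
    exact OrdFracFlat.ordFrac_algebraMap_of_isUnit
      (Ideal.Quotient.mk _ ((p.stalkMap x').hom u)) ((hu.map _).map _)
  · rw [dif_neg h]

variable [Flat p] [IsLocallyNoetherian X] [IsLocallyNoetherian X']
  (δ : X → ℤ) (δ' : X' → ℤ) (hδ : Cyc.IsDimFun X δ) (hδ' : Cyc.IsDimFun X' δ') (c : ℤ)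
  (hc : ∀ x' : X', (∀ y, p y = p x' → y ⤳ x' → y = x') → δ' x' = δ (p x') + c)

include hδ hδ' hc in
/-- **Flat pullback of a principal divisor.** -/
theorem pullFun_divFun_eq_finsum (ξ₀ : X) (g : X.residueField ξ₀) (hg : g ≠ 0) (x' : X') :
    Cyc.pullFun p δ' δ c (Cyc.divFun δ ξ₀ g) x' =
      ∑ᶠ ξ' : J p ξ₀, fibMult p ξ'.1 *
        Cyc.divFun δ' ξ'.1 (resFun p ξ₀ g ξ'.1 ξ'.2.1) x' := by
  by_cases hB : (ξ₀ ⤳ p x' ∧ δ (p x') + 1 = δ ξ₀) ∧ δ' x' = δ (p x') + c
  · obtain ⟨⟨h₀, hB1⟩, hB2⟩ := hB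
    rw [← sum_B2 p δ δ' hδ hδ' c hc x' ξ₀ h₀ hB1 hB2 g hg]
    unfold Cyc.pullFun
    rw [if_pos hB2]
    unfold Cyc.divFun
    rw [dif_pos ⟨h₀, hB1⟩]
    rfl
  · have hL : Cyc.pullFun p δ' δ c (Cyc.divFun δ ξ₀ g) x' = 0 := by
      unfold Cyc.pullFun
      split_ifs with h1
      · have : ¬ (ξ₀ ⤳ p x' ∧ δ (p x') + 1 = δ ξ₀) := fun h => hB ⟨h, h1⟩
        unfold Cyc.divFun
        rw [dif_neg this, zero_mul]
      · rfl
    rw [hL]
    symm
    apply finsum_eq_zero_of_forall_eq_zero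
    intro ξ'
    have : Cyc.divFun δ' ξ'.1 (resFun p ξ₀ g ξ'.1 ξ'.2.1) x' = 0 := by
      by_contra hne
      have hcond : ξ'.1 ⤳ x' ∧ δ' x' + 1 = δ' ξ'.1 := by
        by_contra hcon
        apply hne
        unfold Cyc.divFun
        rw [dif_neg hcon]
      have h₀ : ξ₀ ⤳ p x' := by
        rw [← ξ'.2.1]; exact hcond.1.map p.continuous
      have hξ'δ : δ' ξ'.1 = δ ξ₀ + c := by
        have := hc ξ'.1 ξ'.2.2
        rw [ξ'.2.1] at this
        exact this
      have hle := ShiftPull.delta_le_add_shift p δ δ' hδ' c hc x'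
      by_cases hx : p x' = ξ₀
      · exact hne (divFun_resFun_eq_zero_of_eq p δ' x' ξ₀ hx g hg ξ'.1 ξ'.2.1)
      · have := (hδ ξ₀ (p x') h₀ (Ne.symm hx)).1
        exact hB ⟨⟨h₀, by omega⟩, by omega⟩
    rw [this, mul_zero]

end Main

end Groth.Agent.H48.FlatDiv
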