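import Mathlib
import Groth.Prelude.Def_Cyc
import Groth.Agent.H48.FiniteFibre
import Groth.Agent.H48.FlatDiv

/-!
# Flat base change and proper pushforward: the map between fibres
-/

set_option autoImplicit false
set_option linter.unusedSectionVars false
set_option linter.style.haveILetI false
universe u

open AlgebraicGeometry CategoryTheory CategoryTheory.Limits TopologicalSpace Opposite Topology
open IsLocalRing

namespace Groth.Agent.H48.FlatBCFibre

open Groth.Agent.H48

variable {X X' Y : Scheme.{u}} (f : Y ⟶ X) (p : X' ⟶ X)

/-- The map from the fibre of `Y ×_X X' → Y` over `y` to the fibre of `X' → X` over `f y`. -/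
noncomputable def fibMap (y : Y) : (pullback.fst f p).fiber y ⟶ p.fiber (f y) :=
  pullback.map _ _ _ _ (pullback.snd f p) (Spec.map (f.residueFieldMap y)) f
    (IsPullback.of_hasPullback f p).flip.w.symm (by simp)

theorem isPullback_fibMap (y : Y) :
    IsPullback (fibMap f p y) ((pullback.fst f p).fiberToSpecResidueField y)
      (p.fiberToSpecResidueField (f y)) (Spec.map (f.residueFieldMap y)) :=
  isPullback_fiberToSpecResidueField_of_isPullback (IsPullback.of_hasPullback f p).flip y

theorem fibMap_fiberι (y : Y) :
    fibMap f p y ≫ p.fiberι (f y) = (pullback.fst f p).fiberι y ≫ pullback.snd f p := by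
  unfold fibMap Scheme.Hom.fiberι
  exact pullback.lift_fst _ _ _

section Finite

variable (y : Y) (hfin : (f.residueFieldMap y).hom.Finite)

include hfin in
theorem isFinite_SpecMap : IsFinite (Spec.map (f.residueFieldMap y)) :=
  (IsFinite.SpecMap_iff _).mpr hfin

include hfin in
theorem isFinite_fibMap : IsFinite (fibMap f p y) :=
  MorphismProperty.of_isPullback (isPullback_fibMap f p y).flip (isFinite_SpecMap f y hfin)

theorem flat_SpecMap : Flat (Spec.map (f.residueFieldMap y)) := by
  rw [Flat.SpecMap_iff]
  letI := (f.residueFieldMap y).hom.toAlgebra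
  exact (RingHom.flat_algebraMap_iff).mpr inferInstance

theorem flat_fibMap : Flat (fibMap f p y) :=
  MorphismProperty.of_isPullback (isPullback_fibMap f p y).flip (flat_SpecMap f y)

include hfin in
theorem finrank_fibMap (w : p.fiber (f y)) :
    haveI := isFinite_fibMap f p y hfin
    haveI := flat_fibMap f p y
    (fibMap f p y).finrank w = f.residueDegree y := by
  haveI := isFinite_fibMap f p y hfin
  haveI := flat_fibMap f p y
  haveI := isFinite_SpecMap f y hfin
  haveI := flat_SpecMap f y
  rw [Scheme.Hom.finrank_of_isPullback _ _ _ _ (isPullback_fibMap f p y).flip w]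
  rw [Scheme.Hom.finrank_SpecMap_eq_finrank hfin (Flat.SpecMap_iff.mp (flat_SpecMap f y))]
  unfold RingHom.finrank Scheme.Hom.residueDegree
  letI := (f.residueFieldMap y).hom.toAlgebra
  rw [Module.rankAtStalk_eq_finrank_of_free]
  rfl

end Finite

section Lengths

theorem length_self_of_flat {A B : Type u} [CommRing A] [CommRing B] [IsLocalRing A]
    [IsLocalRing B] [Algebra A B] [IsLocalHom (algebraMap A B)] [Module.Flat A B] :
    Module.length B B = Module.length A A *
      Module.length B (B ⧸ (maximalIdeal A).map (algebraMap A B)) := by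
  rw [← IsLocalRing.length_baseChange A B A]
  exact (TensorProduct.AlgebraTensorModule.rid A B B).length_eq.symm

/-- The length of the local ring of a fibre is the fibre multiplicity. -/
theorem length_stalk_fiber {Z W : Scheme.{u}} (g : Z ⟶ W) (w : W) (u : g.fiber w) :
    Module.length ((g.fiber w).presheaf.stalk u) ((g.fiber w).presheaf.stalk u) =
      Module.length (Z.presheaf.stalk (g.fiberι w u))
        (Z.presheaf.stalk (g.fiberι w u) ⧸ Ideal.map (g.stalkMap (g.fiberι w u)).hom
          (maximalIdeal (W.presheaf.stalk (g (g.fiberι w u))))) := by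
  have h1 : Module.length (Z.presheaf.stalk (g.fiberι w u))
      (Z.presheaf.stalk (g.fiberι w u) ⧸ Ideal.map (g.stalkMap (g.fiberι w u)).hom
        (maximalIdeal (W.presheaf.stalk (g (g.fiberι w u))))) =
      Module.length (Z.presheaf.stalk (g.fiberι w u) ⧸ Ideal.map (g.stalkMap (g.fiberι w u)).hom
        (maximalIdeal (W.presheaf.stalk (g (g.fiberι w u)))))
      (Z.presheaf.stalk (g.fiberι w u) ⧸ Ideal.map (g.stalkMap (g.fiberι w u)).hom
        (maximalIdeal (W.presheaf.stalk (g (g.fiberι w u))))) :=
    Module.length_eq_of_surjective Ideal.Quotient.mk_surjective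
  rw [h1]
  exact (FiniteFibreAlg.length_eq_of_ringEquiv
    (Groth.Agent.H49.FibreStalk.quotientEquivStalkFiber g w u)).symm

/-- Multiplicativity of fibre multiplicities in the base change square. -/
theorem length_fibre_eq_mul (y : Y) (z' : (pullback.fst f p).fiber y) (x' : X')
    (hx' : p.fiberι (f y) (fibMap f p y z') = x') :
    Module.length ((pullback f p).presheaf.stalk ((pullback.fst f p).fiberι y z'))
      ((pullback f p).presheaf.stalk ((pullback.fst f p).fiberι y z') ⧸
        Ideal.map ((pullback.fst f p).stalkMap ((pullback.fst f p).fiberι y z')).hom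
          (maximalIdeal (Y.presheaf.stalk
            ((pullback.fst f p) ((pullback.fst f p).fiberι y z'))))) =
    Module.length (X'.presheaf.stalk x')
      (X'.presheaf.stalk x' ⧸ Ideal.map (p.stalkMap x').hom
        (maximalIdeal (X.presheaf.stalk (p x')))) *
    Module.length (((pullback.fst f p).fiber y).presheaf.stalk z')
      (((pullback.fst f p).fiber y).presheaf.stalk z' ⧸
        Ideal.map ((fibMap f p y).stalkMap z').hom
          (maximalIdeal ((p.fiber (f y)).presheaf.stalk (fibMap f p y z')))) := by
  subst hx'
  rw [← length_stalk_fiber (pullback.fst f p) y z', ← length_stalk_fiber p (f y) (fibMap f p y z')]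
  haveI := flat_fibMap f p y
  letI : Algebra ((p.fiber (f y)).presheaf.stalk (fibMap f p y z'))
      (((pullback.fst f p).fiber y).presheaf.stalk z') :=
    ((fibMap f p y).stalkMap z').hom.toAlgebra
  haveI : IsLocalHom (algebraMap ((p.fiber (f y)).presheaf.stalk (fibMap f p y z'))
      (((pullback.fst f p).fiber y).presheaf.stalk z')) :=
    inferInstanceAs (IsLocalHom ((fibMap f p y).stalkMap z').hom)
  haveI : Module.Flat ((p.fiber (f y)).presheaf.stalk (fibMap f p y z'))
      (((pullback.fst f p).fiber y).presheaf.stalk z') := Flat.stalkMap (fibMap f p y) z'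
  exact length_self_of_flat

theorem residueDegree_fibMap (y : Y) (z' : (pullback.fst f p).fiber y) :
    (fibMap f p y).residueDegree z' =
      (pullback.snd f p).residueDegree ((pullback.fst f p).fiberι y z') :=
  FibreDict.residueDegree_eq ((pullback.fst f p).fiberι y) (pullback.snd f p) (fibMap f p y)
    (p.fiberι (f y)) (fibMap_fiberι f p y).symm z'
    (FibreDict.residueFieldMap_fiberι_surjective (pullback.fst f p) y z')
    (FibreDict.residueFieldMap_fiberι_surjective p (f y) (fibMap f p y z'))

theorem trdeg_fibMap (y : Y) (z' : (pullback.fst f p).fiber y) :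
    (letI := ((fibMap f p y).residueFieldMap z').hom.toAlgebra
     Algebra.trdeg ((p.fiber (f y)).residueField (fibMap f p y z'))
      (((pullback.fst f p).fiber y).residueField z')) =
    (letI := ((pullback.snd f p).residueFieldMap ((pullback.fst f p).fiberι y z')).hom.toAlgebra
     Algebra.trdeg (X'.residueField ((pullback.snd f p) ((pullback.fst f p).fiberι y z')))
      ((pullback f p).residueField ((pullback.fst f p).fiberι y z'))) :=
  FibreDict.trdeg_eq ((pullback.fst f p).fiberι y) (pullback.snd f p) (fibMap f p y)
    (p.fiberι (f y)) (fibMap_fiberι f p y).symm z'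
    (FibreDict.residueFieldMap_fiberι_surjective (pullback.fst f p) y z')
    (FibreDict.residueFieldMap_fiberι_surjective p (f y) (fibMap f p y z'))

end Lengths

section Points

theorem fibMap_apply (y : Y) (z' : (pullback.fst f p).fiber y) :
    p.fiberι (f y) (fibMap f p y z') = pullback.snd f p ((pullback.fst f p).fiberι y z') := by
  have := congr($(fibMap_fiberι f p y) z')
  exact this

theorem preimage_inter_eq (y : Y) (x' : X') (w' : p.fiber (f y))
    (hw' : p.fiberι (f y) w' = x') :
    {y' : ↥(pullback f p) | pullback.snd f p y' = x' ∧ pullback.fst f p y' = y} =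
      (pullback.fst f p).fiberι y '' ((fibMap f p y : _ → _) ⁻¹' {w'}) := by
  ext y'
  constructor
  · rintro ⟨h1, h2⟩
    have : y' ∈ Set.range ((pullback.fst f p).fiberι y) := by
      rw [Scheme.Hom.range_fiberι]; exact h2
    obtain ⟨z', rfl⟩ := this
    refine ⟨z', ?_, rfl⟩
    apply (p.fiberι (f y)).isEmbedding.injective
    rw [hw', ← h1]
    exact fibMap_apply f p y z'
  · rintro ⟨z', hz', rfl⟩
    have hz'' : fibMap f p y z' = w' := hz'
    refine ⟨?_, CycFib.map_fiberι _ y z'⟩
    rw [← fibMap_apply, hz'', hw']

/-- **The multiplicity identity for flat base change of a point with finite residue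
extension.** -/
theorem inner_sum (y : Y) (hfin : (f.residueFieldMap y).hom.Finite) (x' : X')
    (hx' : p x' = f y) :
    ∑ᶠ y' ∈ {y' : ↥(pullback f p) | pullback.snd f p y' = x' ∧ pullback.fst f p y' = y},
      (Module.length ((pullback f p).presheaf.stalk y')
        ((pullback f p).presheaf.stalk y' ⧸ Ideal.map ((pullback.fst f p).stalkMap y').hom
          (maximalIdeal (Y.presheaf.stalk (pullback.fst f p y'))))).toNat *
        (pullback.snd f p).residueDegree y' =
    (Module.length (X'.presheaf.stalk x')
      (X'.presheaf.stalk x' ⧸ Ideal.map (p.stalkMap x').hom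
        (maximalIdeal (X.presheaf.stalk (p x'))))).toNat * f.residueDegree y := by
  have hmem : x' ∈ Set.range (p.fiberι (f y)) := by
    rw [Scheme.Hom.range_fiberι]; exact hx'
  obtain ⟨w', hw'⟩ := hmem
  rw [preimage_inter_eq f p y x' w' hw',
    finsum_mem_image ((pullback.fst f p).fiberι y).isEmbedding.injective.injOn]
  haveI := isFinite_fibMap f p y hfin
  haveI := flat_fibMap f p y
  have key := FiniteFibre.finsum_mult_mul_residueDegree (fibMap f p y) w'
  rw [finrank_fibMap f p y hfin w'] at key
  rw [← key, mul_finsum_mem]
  refine finsum_mem_congr rfl fun z' hz' => ?_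
  have hz'' : fibMap f p y z' = w' := hz'
  rw [length_fibre_eq_mul f p y z' x' (by rw [hz'', hw']), ENat.toNat_mul,
    residueDegree_fibMap, mul_assoc]

end Points

end Groth.Agent.H48.FlatBCFibre
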