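import Mathlib
import Groth.Prelude.Def_Cyc
import Groth.Agent.H48.FlatBCFibre
import Groth.Agent.H48.CycDim
import Groth.Agent.H48.ShiftPull

/-!
# Flat base change commutes with proper pushforward of cycles
-/

set_option autoImplicit false
set_option linter.unusedSectionVars false
set_option linter.style.haveILetI false
universe u

open AlgebraicGeometry CategoryTheory CategoryTheory.Limits TopologicalSpace Opposite Topology
open IsLocalRing

namespace Groth.Agent.H48.FlatBCPush

open Groth.Agent.H48 Groth.Agent.H48.FlatBCFibre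

section Finsum

theorem natCast_finsum_mem {α : Type*} (S : Set α) (k : α → ℕ) :
    ((∑ᶠ a ∈ S, k a : ℕ) : ℤ) = ∑ᶠ a ∈ S, (k a : ℤ) := by
  have hinj : Function.Injective (Nat.castAddMonoidHom ℤ) := Nat.cast_injective
  change (Nat.castAddMonoidHom ℤ) (∑ᶠ a ∈ S, k a) = _
  rw [AddMonoidHom.map_finsum_of_injective _ hinj]
  refine finsum_congr fun a => ?_
  rw [AddMonoidHom.map_finsum_of_injective _ hinj]
  rfl

theorem finsum_mem_fiberwise {α β M : Type*} [AddCommMonoid M] (q : α → β) (S : Set α)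
    (T : Set β) (G : α → M) (hfin : (S ∩ Function.support G).Finite)
    (hST : ∀ a ∈ S, q a ∈ T) :
    ∑ᶠ a ∈ S, G a = ∑ᶠ b ∈ T, ∑ᶠ a ∈ {a | a ∈ S ∧ q a = b}, G a := by
  classical
  set S' := S ∩ Function.support G with hS'
  have h1 : ∑ᶠ a ∈ S, G a = ∑ᶠ a ∈ S', G a := (finsum_mem_inter_support G S).symm
  have hset : (⋃ b ∈ q '' S', (S' ∩ q ⁻¹' {b})) = S' := by
    ext a
    simp only [Set.mem_iUnion, Set.mem_inter_iff, Set.mem_preimage, Set.mem_singleton_iff,
      Set.mem_image, exists_prop]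
    constructor
    · rintro ⟨b, -, ha, -⟩
      exact ha
    · intro ha
      exact ⟨q a, ⟨a, ha, rfl⟩, ha, rfl⟩
  have h2 : ∑ᶠ a ∈ S', G a = ∑ᶠ a ∈ ⋃ b ∈ q '' S', (S' ∩ q ⁻¹' {b}), G a := by
    rw [hset]
  have hdisj : (q '' S').PairwiseDisjoint (fun b => S' ∩ q ⁻¹' {b}) := by
    intro b _ b' _ hne
    rw [Function.onFun, Set.disjoint_iff]
    rintro a ⟨⟨-, hab⟩, ⟨-, hab'⟩⟩
    exact hne (hab.symm.trans hab')
  rw [h1, h2, finsum_mem_biUnion hdisj (hfin.image q)
    (fun b _ => hfin.subset Set.inter_subset_left)]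
  have h3 : ∀ b, ∑ᶠ a ∈ S' ∩ q ⁻¹' {b}, G a = ∑ᶠ a ∈ {a | a ∈ S ∧ q a = b}, G a := by
    intro b
    apply finsum_mem_inter_support_eq
    ext a
    simp only [hS', Set.mem_inter_iff, Set.mem_preimage, Set.mem_singleton_iff, Set.mem_ofPred_eq,
      Function.mem_support]
    tauto
  simp_rw [h3]
  apply finsum_mem_inter_support_eq
  ext b
  constructor
  · rintro ⟨⟨a, ha, rfl⟩, hb⟩
    exact ⟨hST a ha.1, hb⟩
  · rintro ⟨hbT, hb⟩
    refine ⟨?_, hb⟩
    obtain ⟨a, ha, hGa⟩ := exists_ne_zero_of_finsum_mem_ne_zero hb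
    exact ⟨a, ⟨ha.1, hGa⟩, ha.2⟩

end Finsum

section Main

variable {X X' Y : Scheme.{u}} (f : Y ⟶ X) (p : X' ⟶ X) [IsProper f] [Flat p]
  (δ : X → ℤ) (δ' : X' → ℤ) (δY : Y → ℤ) (δY' : ↥(pullback f p) → ℤ)
  (hδ' : Cyc.IsDimFun X' δ')
  (hf : Cyc.DeltaCompat f δY δ) (hf' : Cyc.DeltaCompat (pullback.snd f p) δY' δ') (c : ℤ)
  (hc : ∀ x' : X', (∀ y, p y = p x' → y ⤳ x' → y = x') → δ' x' = δ (p x') + c)

/-- The residue field extension upstairs is algebraic when the one downstairs is finite. -/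
theorem trdeg_snd_eq_zero (y : Y) (hfin : (f.residueFieldMap y).hom.Finite)
    (y' : ↥(pullback f p)) (hy' : pullback.fst f p y' = y) :
    (letI := ((pullback.snd f p).residueFieldMap y').hom.toAlgebra
     Algebra.trdeg (X'.residueField (pullback.snd f p y')) ((pullback f p).residueField y')) =
      0 := by
  have : y' ∈ Set.range ((pullback.fst f p).fiberι y) := by
    rw [Scheme.Hom.range_fiberι]; exact hy'
  obtain ⟨z', rfl⟩ := this
  rw [← trdeg_fibMap f p y z']
  haveI := isFinite_fibMap f p y hfin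
  exact FiniteFibre.trdeg_eq_zero (fibMap f p y) z'

include hδ' hf hf' hc in
/-- The contribution of a single point `y` of `Y`. -/
theorem inner_sum_cycle (α : Y → ℤ) (x' : X') (y : Y) (hy : f y = p x') :
    ∑ᶠ y' ∈ {y' : ↥(pullback f p) | y' ∈ (pullback.snd f p : _ → _) ⁻¹' {x'} ∧
        pullback.fst f p y' = y},
      Cyc.pullFun (pullback.fst f p) δY' δY c α y' *
        ((AlgebraicCycle.mapCoeff (pullback.snd f p) δY' δ' y' : ℕ) : ℤ) =
    if δ' x' = δ (p x') + c then
      α y * ((AlgebraicCycle.mapCoeff f δY δ y : ℕ) : ℤ) *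
        ((Module.length (X'.presheaf.stalk x')
          (X'.presheaf.stalk x' ⧸ Ideal.map (p.stalkMap x').hom
            (maximalIdeal (X.presheaf.stalk (p x'))))).toNat : ℤ)
    else 0 := by
  obtain ⟨n, hn, hδn⟩ := hf y
  have hle := ShiftPull.delta_le_add_shift p δ δ' hδ' c hc x'
  by_cases hcase : δY y = δ (f y) ∧ δ' x' = δ (p x') + c
  · obtain ⟨h1, h2⟩ := hcase
    have hn0 : n = 0 := by
      have : (n : ℤ) = 0 := by omega
      exact_mod_cast this
    rw [hn0] at hn
    have hfin : (f.residueFieldMap y).hom.Finite :=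
      CycDim.residueFieldMap_finite_of_trdeg_eq_zero f y (by exact_mod_cast hn)
    rw [if_pos h2]
    have hterm : ∀ y' ∈ {y' : ↥(pullback f p) | y' ∈ (pullback.snd f p : _ → _) ⁻¹' {x'} ∧
        pullback.fst f p y' = y},
        Cyc.pullFun (pullback.fst f p) δY' δY c α y' *
          ((AlgebraicCycle.mapCoeff (pullback.snd f p) δY' δ' y' : ℕ) : ℤ) =
        α y * (((Module.length ((pullback f p).presheaf.stalk y')
          ((pullback f p).presheaf.stalk y' ⧸ Ideal.map ((pullback.fst f p).stalkMap y').hom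
            (maximalIdeal (Y.presheaf.stalk (pullback.fst f p y'))))).toNat *
          (pullback.snd f p).residueDegree y' : ℕ) : ℤ) := by
      rintro y' ⟨hy'1, hy'2⟩
      have hy'1' : pullback.snd f p y' = x' := hy'1
      obtain ⟨m, hm, hδm⟩ := hf' y'
      have ht := trdeg_snd_eq_zero f p y hfin y' hy'2
      rw [ht] at hm
      have hm0 : m = 0 := by exact_mod_cast hm.symm
      have hd1 : δY' y' = δ' (pullback.snd f p y') := by rw [hδm, hm0]; simp
      have hd2 : δY' y' = δY (pullback.fst f p y') + c := by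
        rw [hd1, hy'1', hy'2, h2, ← hy, h1]
      unfold Cyc.pullFun AlgebraicCycle.mapCoeff
      have hαy : α (pullback.fst f p y') = α y := by rw [hy'2]
      rw [if_pos hd2, if_pos hd1, hαy]
      push_cast
      ring
    have hsets : {y' : ↥(pullback f p) | y' ∈ (pullback.snd f p : _ → _) ⁻¹' {x'} ∧
        pullback.fst f p y' = y} =
        {y' : ↥(pullback f p) | pullback.snd f p y' = x' ∧ pullback.fst f p y' = y} := rfl
    rw [finsum_mem_congr rfl hterm, ← mul_finsum_mem, ← natCast_finsum_mem, hsets,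
      inner_sum f p y hfin x' hy.symm]
    unfold AlgebraicCycle.mapCoeff
    rw [if_pos h1]
    push_cast
    ring
  · have hR : (if δ' x' = δ (p x') + c then
        α y * ((AlgebraicCycle.mapCoeff f δY δ y : ℕ) : ℤ) *
          ((Module.length (X'.presheaf.stalk x')
            (X'.presheaf.stalk x' ⧸ Ideal.map (p.stalkMap x').hom
              (maximalIdeal (X.presheaf.stalk (p x'))))).toNat : ℤ)
      else 0) = 0 := by
      split_ifs with h2
      · have h1 : ¬ δY y = δ (f y) := fun h1 => hcase ⟨h1, h2⟩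
        unfold AlgebraicCycle.mapCoeff
        rw [if_neg h1]
        simp
      · rfl
    rw [hR]
    apply finsum_mem_eq_zero_of_forall_eq_zero
    rintro y' ⟨hy'1, hy'2⟩
    have hy'1' : pullback.snd f p y' = x' := hy'1
    by_contra hne
    have hne1 : Cyc.pullFun (pullback.fst f p) δY' δY c α y' ≠ 0 := left_ne_zero_of_mul hne
    have hne2 : ((AlgebraicCycle.mapCoeff (pullback.snd f p) δY' δ' y' : ℕ) : ℤ) ≠ 0 :=
      right_ne_zero_of_mul hne
    have hd2 : δY' y' = δY (pullback.fst f p y') + c := by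
      by_contra hcon
      apply hne1
      unfold Cyc.pullFun
      rw [if_neg hcon]
    have hd1 : δY' y' = δ' (pullback.snd f p y') := by
      by_contra hcon
      apply hne2
      unfold AlgebraicCycle.mapCoeff
      rw [if_neg hcon]
      simp
    rw [hy'1'] at hd1
    rw [hy'2] at hd2
    rw [← hy] at hle
    apply hcase
    constructor
    · omega
    · rw [← hy]; omega

include hδ' hf hf' hc in
/-- **Flat base change commutes with proper pushforward of cycles.** -/
theorem pullFun_map_eq (α : AlgebraicCycle Y ℤ) (α' : AlgebraicCycle (pullback f p) ℤ)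
    (hα' : ⇑α' = Cyc.pullFun (pullback.fst f p) δY' δY c ⇑α) :
    Cyc.pullFun p δ' δ c ⇑(AlgebraicCycle.map f δY δ α) =
      ⇑(AlgebraicCycle.map (pullback.snd f p) δY' δ' α') := by
  funext x'
  have hR : (AlgebraicCycle.map (pullback.snd f p) δY' δ' α') x' =
      ∑ᶠ y' ∈ (pullback.snd f p : _ → _) ⁻¹' {x'},
        α' y' * ((AlgebraicCycle.mapCoeff (pullback.snd f p) δY' δ' y' : ℕ) : ℤ) := rfl
  have hL : (AlgebraicCycle.map f δY δ α) (p x') =
      ∑ᶠ y ∈ (f : _ → _) ⁻¹' {p x'},
        α y * ((AlgebraicCycle.mapCoeff f δY δ y : ℕ) : ℤ) := rfl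
  rw [hR]
  have hfinS : ((pullback.snd f p : _ → _) ⁻¹' {x'} ∩ Function.support (fun y' =>
      α' y' * ((AlgebraicCycle.mapCoeff (pullback.snd f p) δY' δ' y' : ℕ) : ℤ))).Finite := by
    have hcomp : IsCompact ((pullback.snd f p : _ → _) ⁻¹' {x'}) :=
      (pullback.snd f p).isCompact_preimage_singleton x'
    refine (α'.locallyFiniteSupport.finite_inter_support_of_isCompact hcomp).subset ?_
    rintro y' ⟨h1, h2⟩
    exact ⟨h1, left_ne_zero_of_mul h2⟩
  have hST : ∀ y' ∈ (pullback.snd f p : _ → _) ⁻¹' {x'},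
      (pullback.fst f p : _ → _) y' ∈ (f : _ → _) ⁻¹' {p x'} := by
    intro y' hy'
    have hy'' : pullback.snd f p y' = x' := hy'
    change f (pullback.fst f p y') = p x'
    have := congr($(pullback.condition (f := f) (g := p)) y')
    rw [← hy'']
    exact this
  rw [finsum_mem_fiberwise (pullback.fst f p : _ → _) _ ((f : _ → _) ⁻¹' {p x'}) _ hfinS hST]
  rw [hα']
  refine Eq.trans ?_ (finsum_mem_congr (s := (f : _ → _) ⁻¹' {p x'}) rfl
    (fun y hy => (inner_sum_cycle f p δ δ' δY δY' hδ' hf hf' c hc ⇑α x' y hy).symm))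
  change (if δ' x' = δ (p x') + c then (AlgebraicCycle.map f δY δ α) (p x') *
      ((Module.length (X'.presheaf.stalk x')
        (X'.presheaf.stalk x' ⧸ Ideal.map (p.stalkMap x').hom
          (maximalIdeal (X.presheaf.stalk (p x'))))).toNat : ℤ) else 0) = _
  split_ifs with h
  · rw [hL, finsum_mem_mul]
  · rw [finsum_mem_zero]

end Main

end Groth.Agent.H48.FlatBCPush
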