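import Mathlib
import Groth.Prelude.Def_Cyc
import Groth.Agent.H48.FlatDiv
import Groth.Agent.H48.CurveDegMain

/-!
# Flat pullback preserves rational equivalence
-/

set_option autoImplicit false
set_option linter.unusedSectionVars false
set_option linter.style.haveILetI false
universe u

open AlgebraicGeometry CategoryTheory CategoryTheory.Limits TopologicalSpace Opposite Topology
open IsLocalRing

namespace Groth.Agent.H48.FlatPullRat

open Groth.Agent.H48 Groth.Agent.H48.FlatDiv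

section Finsum

theorem finsum_sigma {ι : Type*} {β : ι → Type*} {M : Type*} [AddCommMonoid M]
    (f : (Σ i, β i) → M) (hf : (Function.support f).Finite) :
    ∑ᶠ j, f j = ∑ᶠ i, ∑ᶠ b : β i, f ⟨i, b⟩ := by
  classical
  set I : Set ι := Sigma.fst '' Function.support f with hI
  have hIfin : I.Finite := hf.image _
  set t : ι → Set (Σ i, β i) := fun i => Set.range (Sigma.mk i) ∩ Function.support f with ht_def
  have ht : ∀ i ∈ I, (t i).Finite := fun i _ => hf.subset Set.inter_subset_right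
  have hdisj : I.PairwiseDisjoint t := by
    intro i _ i' _ hne
    rw [Function.onFun, Set.disjoint_iff]
    rintro j ⟨⟨⟨b, rfl⟩, -⟩, ⟨⟨b', hb'⟩, -⟩⟩
    exact hne (congrArg Sigma.fst hb').symm
  have h1 : ∑ᶠ j, f j = ∑ᶠ j ∈ ⋃ i ∈ I, t i, f j := by
    rw [← finsum_mem_univ]
    apply finsum_mem_inter_support_eq
    ext j
    simp only [Set.mem_inter_iff, Set.mem_univ, true_and, Set.mem_iUnion]
    constructor
    · intro hj
      exact ⟨⟨j.1, ⟨j, hj, rfl⟩, ⟨⟨j.2, rfl⟩, hj⟩⟩, hj⟩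
    · intro hj
      exact hj.2
  rw [h1, finsum_mem_biUnion hdisj hIfin ht]
  have h2 : ∀ i, ∑ᶠ j ∈ t i, f j = ∑ᶠ b : β i, f ⟨i, b⟩ := by
    intro i
    rw [← finsum_mem_range sigma_mk_injective]
    apply finsum_mem_inter_support_eq
    ext j
    simp only [ht_def, Set.mem_inter_iff]
    tauto
  simp_rw [h2]
  rw [← finsum_mem_univ (f := fun i => ∑ᶠ b : β i, f ⟨i, b⟩)]
  apply finsum_mem_inter_support_eq
  ext i
  simp only [Set.mem_inter_iff, Set.mem_univ, true_and]
  constructor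
  · intro h
    exact h.2
  · intro h
    refine ⟨?_, h⟩
    by_contra hi
    apply h
    apply finsum_eq_zero_of_forall_eq_zero
    intro b
    by_contra hb
    exact hi ⟨⟨i, b⟩, hb, rfl⟩

end Finsum

section MaxPts

/-- A closed subset of a locally Noetherian scheme has finitely many maximal points in any affine
open. -/
theorem finite_maximal_points {Z : Scheme.{u}} [IsLocallyNoetherian Z] (V : Z.Opens)
    (hV : IsAffineOpen V) (C : Set Z) (hC : IsClosed C) :
    {z : Z | z ∈ V ∧ z ∈ C ∧ ∀ y ∈ C, y ⤳ z → y = z}.Finite := by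
  rcases Set.eq_empty_or_nonempty {z : Z | z ∈ V ∧ z ∈ C ∧ ∀ y ∈ C, y ⤳ z → y = z} with h | h
  · rw [h]; exact Set.finite_empty
  obtain ⟨z₀, -⟩ := h
  haveI : IsNoetherianRing Γ(Z, V) := IsLocallyNoetherian.component_noetherian ⟨V, hV⟩
  haveI : NoetherianSpace ↥V := noetherianSpace_of_isAffineOpen V hV
  haveI : QuasiSober ↥V := V.2.isOpenEmbedding_subtypeVal.quasiSober
  let C' : Set ↥V := Subtype.val ⁻¹' C
  have hC' : IsClosed C' := hC.preimage continuous_subtype_val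
  obtain ⟨S, hSf, hSc, hSi, hSU⟩ := NoetherianSpace.exists_finite_set_isClosed_irreducible hC'
  classical
  let g : Set ↥V → Z := fun T =>
    if h : IsIrreducible T ∧ IsClosed T then (Classical.choose (QuasiSober.sober h.1 h.2)).1 else z₀
  refine (hSf.image g).subset ?_
  rintro z ⟨hzV, hzC, hzmax⟩
  have hvC : (⟨z, hzV⟩ : ↥V) ∈ C' := hzC
  rw [hSU] at hvC
  obtain ⟨T, hTS, hvT⟩ := hvC
  refine ⟨T, hTS, ?_⟩
  have hT : IsIrreducible T ∧ IsClosed T := ⟨hSi T hTS, hSc T hTS⟩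
  have hgT : g T = (Classical.choose (QuasiSober.sober hT.1 hT.2)).1 := dif_pos hT
  rw [hgT]
  set τ := Classical.choose (QuasiSober.sober hT.1 hT.2) with hτ
  have hτg : IsGenericPoint τ T := Classical.choose_spec (QuasiSober.sober hT.1 hT.2)
  have hτT : τ ∈ T := hτg.mem
  have hτC : τ ∈ C' := by rw [hSU]; exact ⟨T, hTS, hτT⟩
  have hτv : τ ⤳ ⟨z, hzV⟩ := hτg.specializes hvT
  have hτz : τ.1 ⤳ z := hτv.map continuous_subtype_val
  exact hzmax τ.1 hτC hτz

end MaxPts

section LocFin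

variable {X X' : Scheme.{u}} (p : X' ⟶ X) [IsLocallyNoetherian X']

/-- The fibre-maximal points over a locally finite family of points form a locally finite family. -/
theorem locallyFinite_fibMax {I : Type u} (ξ : I → X)
    (hlf : ∀ x : X, ∃ U : Set X, IsOpen U ∧ x ∈ U ∧ {i | (closure {ξ i} ∩ U).Nonempty}.Finite)
    (x' : X') :
    ∃ U' : Set X', IsOpen U' ∧ x' ∈ U' ∧
      {j : Σ i, J p (ξ i) | (closure {j.2.1} ∩ U').Nonempty}.Finite := by
  obtain ⟨U, hUo, hxU, hF⟩ := hlf (p x')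
  let W : X'.Opens := ⟨p ⁻¹' U, hUo.preimage p.continuous⟩
  obtain ⟨V, hV, hx'V, hVW⟩ := exists_isAffineOpen_mem_and_subset (x := x') (U := W) hxU
  refine ⟨V, V.2, hx'V, ?_⟩
  have hfin : (⋃ i ∈ {i | (closure {ξ i} ∩ U).Nonempty},
      Sigma.mk i '' {ξ' : J p (ξ i) | ξ'.1 ∈ V}).Finite := by
    apply hF.biUnion
    intro i _
    apply Set.Finite.image
    have := finite_maximal_points V hV (p ⁻¹' closure {ξ i})
      (isClosed_closure.preimage p.continuous)
    apply Set.Finite.of_finite_image (f := Subtype.val) _ Subtype.val_injective.injOn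
    apply this.subset
    rintro _ ⟨ξ', hξ'V, rfl⟩
    refine ⟨hξ'V, ?_, ?_⟩
    · change p ξ'.1 ∈ closure {ξ i}
      rw [ξ'.2.1]
      exact subset_closure rfl
    · intro y hy hys
      have h1 : ξ i ⤳ p y := specializes_iff_mem_closure.mpr hy
      have h2 : p y ⤳ p ξ'.1 := hys.map p.continuous
      rw [ξ'.2.1] at h2
      have h3 : p y = ξ i := (h2.antisymm h1).eq
      exact ξ'.2.2 y (by rw [h3, ξ'.2.1]) hys
  refine hfin.subset ?_
  rintro ⟨i, ξ'⟩ ⟨y, hy, hyV⟩
  have hξ'V : ξ'.1 ∈ V := (specializes_iff_mem_closure.mpr hy).mem_open V.2 hyV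
  have hi : (closure {ξ i} ∩ U).Nonempty := by
    refine ⟨ξ i, subset_closure rfl, ?_⟩
    have := hVW hξ'V
    change p ξ'.1 ∈ U at this
    rwa [ξ'.2.1] at this
  exact Set.mem_biUnion hi ⟨ξ', hξ'V, rfl⟩

end LocFin

section Main

variable {X X' : Scheme.{u}} (p : X' ⟶ X) [Flat p] (δ : X → ℤ) (δ' : X' → ℤ) (c : ℤ)
  (hc : ∀ x' : X', (∀ y, p y = p x' → y ⤳ x' → y = x') → δ' x' = δ (p x') + c)

include hc in
/-- **Flat pullback preserves rational equivalence to zero.** -/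
theorem ratEquivZero_pullFun (hX : Cyc.IsSetup X δ) (hX' : Cyc.IsSetup X' δ') (k : ℤ)
    (α : AlgebraicCycle X ℤ) (h0 : Cyc.RatEquivZero δ k α) (α' : AlgebraicCycle X' ℤ)
    (hα' : ⇑α' = Cyc.pullFun p δ' δ c ⇑α) : Cyc.RatEquivZero δ' (k + c) α' := by
  obtain ⟨hN, -, hδ⟩ := hX
  obtain ⟨hN', -, hδ'⟩ := hX'
  haveI := hN
  haveI := hN'
  obtain ⟨ι, ξ, f, hξδ, hf, hlf, hsum⟩ := h0
  have hlf' := locallyFinite_fibMax p ξ hlf
  refine ⟨Σ i, J p (ξ i), fun j => j.2.1,
    fun j => (resFun p (ξ j.1) (f j.1) j.2.1 j.2.2.1) ^ (fibMult p j.2.1).toNat, ?_, ?_, hlf', ?_⟩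
  · intro j
    change δ' j.2.1 = k + c + 1
    have := hc j.2.1 j.2.2.2
    rw [j.2.2.1, hξδ] at this
    omega
  · intro j
    exact pow_ne_zero _ (resFun_ne_zero p _ _ (hf j.1) _ _)
  · intro x'
    rw [hα']
    have d1 : Cyc.pullFun p δ' δ c ⇑α x' =
        ∑ᶠ i, Cyc.pullFun p δ' δ c (Cyc.divFun δ (ξ i) (f i)) x' := by
      unfold Cyc.pullFun
      split_ifs with h
      · rw [hsum (p x'), finsum_mul]
      · rw [finsum_zero]
    rw [d1]
    obtain ⟨U', hU'o, hx'U', hfin⟩ := hlf' x'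
    have hsupp : (Function.support fun j : Σ i, J p (ξ i) => Cyc.divFun δ' j.2.1
        ((resFun p (ξ j.1) (f j.1) j.2.1 j.2.2.1) ^ (fibMult p j.2.1).toNat) x').Finite := by
      apply hfin.subset
      intro j hj
      have hcond : j.2.1 ⤳ x' ∧ δ' x' + 1 = δ' j.2.1 := by
        by_contra hcon
        apply hj
        simp only [Cyc.divFun]
        rw [dif_neg hcon]
      exact ⟨x', specializes_iff_mem_closure.mp hcond.1, hx'U'⟩
    rw [finsum_sigma _ hsupp]
    refine finsum_congr fun i => ?_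
    rw [pullFun_divFun_eq_finsum p δ δ' hδ hδ' c hc (ξ i) (f i) (hf i) x']
    refine finsum_congr fun ξ' => ?_
    rw [CurveDeg.divFun_pow δ' ξ'.1 _ (resFun_ne_zero p _ _ (hf i) _ _) _ x']
    congr 1

end Main

end Groth.Agent.H48.FlatPullRat
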