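import Mathlib
import Groth.Prelude.Def_C1
import Groth.Prelude.Def_Pic
import Groth.Agent.H54.PullbackSection
import Groth.Agent.H67.PullBasis
import Groth.Agent.H8.MeroGen

/-!
# Pulling back germs of sections of a module

For `p : X' ⟶ X`, an `O_X`-module `L` and `x' : X'`:
* `pullStalk p L x' : L_{p x'} → (p^*L)_{x'}`, additive and semilinear over the stalk map, sending
  the germ of a section `t` to the germ of the pulled-back section `pullSect p L V t`;
* `pullFibre p L x' : L(p x') → (p^*L)(x')` on the fibres `secFibre`;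
* `isFreeGen_pullSect`: the pullback of a free generator is a free generator.
-/

set_option autoImplicit false
set_option linter.unusedSectionVars false
set_option linter.style.haveILetI false
universe u

open CategoryTheory AlgebraicGeometry IsLocalRing Opposite

namespace Groth.Agent.H48.PullStalk

open Groth.Agent.H54.PB Groth.Agent.H18 Groth.Agent.H8

variable {X' X : Scheme.{u}} (p : X' ⟶ X) (L : X.Modules)

/-- germs of pulled-back sections only depend on the germ -/
theorem germ_pullSect_congr (x' : X') {V V' : X.Opens} (hV : p x' ∈ V) (hV' : p x' ∈ V')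
    (t : Γ(L, V)) (t' : Γ(L, V'))
    (h : L.presheaf.germ V (p x') hV t = L.presheaf.germ V' (p x') hV' t') :
    ((Scheme.Modules.pullback p).obj L).presheaf.germ (p ⁻¹ᵁ V) x' hV (pullSect p L V t) =
      ((Scheme.Modules.pullback p).obj L).presheaf.germ (p ⁻¹ᵁ V') x' hV'
        (pullSect p L V' t') := by
  obtain ⟨W, hW, i1, i2, he⟩ := TopCat.Presheaf.germ_eq L.presheaf (p x') hV hV' t t' h
  have he' : mres L i1.le t = mres L i2.le t' := he
  have h1 := pullSect_mres p L i1.le t
  have h2 := pullSect_mres p L i2.le t'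
  rw [he'] at h1
  have h3 : mres ((Scheme.Modules.pullback p).obj L) (p.preimage_mono i1.le) (pullSect p L V t) =
      mres ((Scheme.Modules.pullback p).obj L) (p.preimage_mono i2.le) (pullSect p L V' t') :=
    h1.symm.trans h2
  have hx' : x' ∈ p ⁻¹ᵁ W := hW
  rw [← TopCat.Presheaf.germ_res_apply ((Scheme.Modules.pullback p).obj L).presheaf
      (homOfLE (p.preimage_mono i1.le)) x' hx' (pullSect p L V t),
    ← TopCat.Presheaf.germ_res_apply ((Scheme.Modules.pullback p).obj L).presheaf
      (homOfLE (p.preimage_mono i2.le)) x' hx' (pullSect p L V' t')]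
  exact congrArg _ h3

/-- the pullback of a germ -/
noncomputable def pullStalk (x' : X') (m : L.presheaf.stalk (p x')) :
    ((Scheme.Modules.pullback p).obj L).presheaf.stalk x' :=
  ((Scheme.Modules.pullback p).obj L).presheaf.germ
    (p ⁻¹ᵁ (TopCat.Presheaf.exists_germ_eq L.presheaf m).choose) x'
    (TopCat.Presheaf.exists_germ_eq L.presheaf m).choose_spec.choose
    (pullSect p L _ (TopCat.Presheaf.exists_germ_eq L.presheaf m).choose_spec.choose_spec.choose)

theorem pullStalk_germ (x' : X') (V : X.Opens) (hV : p x' ∈ V) (t : Γ(L, V)) :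
    pullStalk p L x' (L.presheaf.germ V (p x') hV t) =
      ((Scheme.Modules.pullback p).obj L).presheaf.germ (p ⁻¹ᵁ V) x' hV (pullSect p L V t) := by
  unfold pullStalk
  apply germ_pullSect_congr
  exact (TopCat.Presheaf.exists_germ_eq L.presheaf
    (L.presheaf.germ V (p x') hV t)).choose_spec.choose_spec.choose_spec

theorem pullStalk_add (x' : X') (m m' : L.presheaf.stalk (p x')) :
    pullStalk p L x' (m + m') = pullStalk p L x' m + pullStalk p L x' m' := by
  obtain ⟨V₁, h₁, t₁, rfl⟩ := TopCat.Presheaf.exists_germ_eq L.presheaf m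
  obtain ⟨V₂, h₂, t₂, rfl⟩ := TopCat.Presheaf.exists_germ_eq L.presheaf m'
  have hW : p x' ∈ V₁ ⊓ V₂ := ⟨h₁, h₂⟩
  have e1 : L.presheaf.germ V₁ (p x') h₁ t₁ =
      L.presheaf.germ (V₁ ⊓ V₂) (p x') hW (mres L inf_le_left t₁) :=
    (TopCat.Presheaf.germ_res_apply L.presheaf (homOfLE inf_le_left) (p x') hW t₁).symm
  have e2 : L.presheaf.germ V₂ (p x') h₂ t₂ =
      L.presheaf.germ (V₁ ⊓ V₂) (p x') hW (mres L inf_le_right t₂) :=
    (TopCat.Presheaf.germ_res_apply L.presheaf (homOfLE inf_le_right) (p x') hW t₂).symm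
  rw [e1, e2, ← map_add, pullStalk_germ, pullStalk_germ, pullStalk_germ, pullSect_add, map_add]

theorem pullStalk_smul (x' : X') (r : X.presheaf.stalk (p x')) (m : L.presheaf.stalk (p x')) :
    pullStalk p L x' (r • m) = (p.stalkMap x').hom r • pullStalk p L x' m := by
  obtain ⟨V₁, h₁, r₁, rfl⟩ := X.presheaf.exists_germ_eq r
  obtain ⟨V₂, h₂, t₂, rfl⟩ := TopCat.Presheaf.exists_germ_eq L.presheaf m
  have hW : p x' ∈ V₁ ⊓ V₂ := ⟨h₁, h₂⟩
  have e1 : X.presheaf.germ V₁ (p x') h₁ r₁ =
      X.presheaf.germ (V₁ ⊓ V₂) (p x') hW (X.presheaf.map (homOfLE inf_le_left).op r₁) :=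
    (TopCat.Presheaf.germ_res_apply X.presheaf (homOfLE inf_le_left) (p x') hW r₁).symm
  have e2 : L.presheaf.germ V₂ (p x') h₂ t₂ =
      L.presheaf.germ (V₁ ⊓ V₂) (p x') hW (mres L inf_le_right t₂) :=
    (TopCat.Presheaf.germ_res_apply L.presheaf (homOfLE inf_le_right) (p x') hW t₂).symm
  rw [e1, e2, ← germ_smul', pullStalk_germ, pullStalk_germ, pullSect_smul, germ_smul']
  congr 1
  exact (Scheme.Hom.germ_stalkMap_apply p (V₁ ⊓ V₂) x' hW _).symm

theorem pullStalk_zero (x' : X') : pullStalk p L x' 0 = 0 := by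
  have h := pullStalk_add p L x' 0 0
  rw [add_zero] at h
  exact (add_eq_left.mp h.symm)

theorem pullStalk_stalkSpecializes {x' ξ' : X'} (h' : ξ' ⤳ x')
    (m : L.presheaf.stalk (p x')) :
    ((Scheme.Modules.pullback p).obj L).presheaf.stalkSpecializes h' (pullStalk p L x' m) =
      pullStalk p L ξ' (L.presheaf.stalkSpecializes (h'.map p.continuous) m) := by
  obtain ⟨V, hV, t, rfl⟩ := TopCat.Presheaf.exists_germ_eq L.presheaf m
  have hξV : p ξ' ∈ V := (h'.map p.continuous).mem_open V.2 hV
  have e1 : (L.presheaf.stalkSpecializes (h'.map p.continuous)) (L.presheaf.germ V (p x') hV t) =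
      L.presheaf.germ V (p ξ') hξV t :=
    TopCat.Presheaf.germ_stalkSpecializes_apply _ _ _ _
  rw [e1, pullStalk_germ, pullStalk_germ]
  exact TopCat.Presheaf.germ_stalkSpecializes_apply _ _ _ _

theorem stalkMap_mem_maximalIdeal (x' : X') (r : X.presheaf.stalk (p x'))
    (hr : r ∈ maximalIdeal (X.presheaf.stalk (p x'))) :
    (p.stalkMap x').hom r ∈ maximalIdeal (X'.presheaf.stalk x') := by
  rw [mem_maximalIdeal, mem_nonunits_iff] at hr ⊢
  exact fun hu => hr (isUnit_of_map_unit (p.stalkMap x').hom r hu)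

theorem pullStalk_mem (x' : X') (m : L.presheaf.stalk (p x'))
    (hm : m ∈ maximalIdeal (X.presheaf.stalk (p x')) •
      (⊤ : Submodule (X.presheaf.stalk (p x')) (L.presheaf.stalk (p x')))) :
    pullStalk p L x' m ∈ maximalIdeal (X'.presheaf.stalk x') •
      (⊤ : Submodule (X'.presheaf.stalk x')
        (((Scheme.Modules.pullback p).obj L).presheaf.stalk x')) := by
  refine Submodule.smul_induction_on hm ?_ ?_
  · intro r hr n _
    rw [pullStalk_smul]
    exact Submodule.smul_mem_smul (stalkMap_mem_maximalIdeal p x' r hr) Submodule.mem_top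
  · intro a b ha hb
    rw [pullStalk_add]
    exact add_mem ha hb

/-- the pullback of an element of the fibre `L(p x')` -/
noncomputable def pullFibre (x' : X') (w : Cyc.secFibre L (p x')) :
    Cyc.secFibre ((Scheme.Modules.pullback p).obj L) x' :=
  Submodule.Quotient.mk (pullStalk p L x'
    (Classical.choose (Submodule.Quotient.mk_surjective _ w)))

theorem pullFibre_mk (x' : X') (m : L.presheaf.stalk (p x')) :
    pullFibre p L x' (Submodule.Quotient.mk m) = Submodule.Quotient.mk (pullStalk p L x' m) := by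
  unfold pullFibre
  have hspec := Classical.choose_spec (Submodule.Quotient.mk_surjective
    (maximalIdeal (X.presheaf.stalk (p x')) •
      (⊤ : Submodule (X.presheaf.stalk (p x')) (L.presheaf.stalk (p x'))))
    (Submodule.Quotient.mk m))
  set m₀ := Classical.choose (Submodule.Quotient.mk_surjective
    (maximalIdeal (X.presheaf.stalk (p x')) •
      (⊤ : Submodule (X.presheaf.stalk (p x')) (L.presheaf.stalk (p x'))))
    (Submodule.Quotient.mk m)) with hm₀
  have hd : m₀ - m ∈ maximalIdeal (X.presheaf.stalk (p x')) •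
      (⊤ : Submodule (X.presheaf.stalk (p x')) (L.presheaf.stalk (p x'))) :=
    (Submodule.Quotient.eq _).mp hspec
  have h1 : pullStalk p L x' m₀ = pullStalk p L x' m + pullStalk p L x' (m₀ - m) := by
    rw [← pullStalk_add]
    congr 1
    abel
  rw [h1, Submodule.Quotient.mk_add,
    (Submodule.Quotient.mk_eq_zero _).mpr (pullStalk_mem p L x' _ hd), add_zero]

/-- the pullback of a free generator is a free generator -/
theorem isFreeGen_pullSect {U : X.Opens} {σ : Γ(L, U)} (hσ : IsFreeGen L U σ) :
    IsFreeGen ((Scheme.Modules.pullback p).obj L) (p ⁻¹ᵁ U) (pullSect p L U σ) :=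
  Groth.Agent.H67.PullBasis.isBasisOn_pullSect p L U σ hσ

theorem pullFibre_chart (x' : X') (U : X.Opens) (hU : p x' ∈ U) (σ : Γ(L, U))
    (a : X.presheaf.stalk (p x')) :
    pullFibre p L x' (Submodule.Quotient.mk (a • L.presheaf.germ U (p x') hU σ)) =
      Submodule.Quotient.mk ((p.stalkMap x').hom a •
        ((Scheme.Modules.pullback p).obj L).presheaf.germ (p ⁻¹ᵁ U) x' hU (pullSect p L U σ)) := by
  rw [pullFibre_mk, pullStalk_smul, pullStalk_germ]

end Groth.Agent.H48.PullStalk
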