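import Mathlib
import Groth.Agent.H48.PullStalk
import Groth.Agent.H48.FlatPullRat
import Groth.Agent.H54.C1Indep
import Groth.Agent.H54.C1Cap
import Groth.Agent.H54.FiniteLocalPic

/-!
# Flat pullback commutes with `c_1(L) ∩ -`
-/

set_option autoImplicit false
set_option linter.unusedSectionVars false
set_option linter.style.haveILetI false
universe u

open CategoryTheory AlgebraicGeometry IsLocalRing Opposite Topology

namespace Groth.Agent.H48.FlatC1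

open Groth.Agent.H54.PB Groth.Agent.H18 Groth.Agent.H8 Groth.Agent.H48.PullStalk
  Groth.Agent.H48.FlatDiv Groth.Agent.H54.C1Indep Groth.Agent.H54.SecOrd

section Chart

variable {Z : Scheme.{u}} (M : Z.Modules)

theorem exists_unit_chart {U : Z.Opens} {σ : Γ(M, U)} (hσ : IsFreeGen M U σ) (ξ : Z)
    (hξU : ξ ∈ U) (w : Cyc.secFibre M ξ) (hw : w ≠ 0) :
    ∃ a : Z.presheaf.stalk ξ, a ∉ maximalIdeal (Z.presheaf.stalk ξ) ∧
      w = Submodule.Quotient.mk (a • M.presheaf.germ U ξ hξU σ) := by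
  obtain ⟨m, hm⟩ := Submodule.Quotient.mk_surjective _ w
  obtain ⟨a, ha⟩ := (hσ.germ_bijective hξU).2 m
  have ha' : m = a • M.presheaf.germ U ξ hξU σ := ha.symm
  refine ⟨a, not_mem_of_mk_ne_zero M hσ hξU a m ha' (by rw [hm]; exact hw), ?_⟩
  rw [← ha', hm]

theorem secDivFun_chart (δ : Z → ℤ) {U : Z.Opens} {σ : Γ(M, U)} (hσ : IsFreeGen M U σ) (x : Z)
    (hxU : x ∈ U) (ξ : Z) (hξ : ξ ⤳ x) (w : Cyc.secFibre M ξ) (a : Z.presheaf.stalk ξ)
    (ha : a ∉ maximalIdeal (Z.presheaf.stalk ξ))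
    (hw : w = Submodule.Quotient.mk (a • M.presheaf.germ U ξ (hξ.mem_open U.2 hxU) σ)) :
    Cyc.secDivFun δ M ξ w x = Cyc.divFun δ ξ ((Z.residue ξ).hom a) x := by
  unfold Cyc.secDivFun Cyc.divFun
  by_cases h : ξ ⤳ x ∧ δ x + 1 = δ ξ
  · rw [dif_pos h, dif_pos h, hw]
    exact secOrdAt_chart M hσ h.1 hxU a ha _ rfl
  · rw [dif_neg h, dif_neg h]

end Chart

section Pull

variable {X X' : Scheme.{u}} (p : X' ⟶ X) (L : X.Modules)

/-- the pulled-back family of rational sections -/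
noncomputable def pullSec (v : (ξ : X) → Cyc.secFibre L ξ) (ξ' : X') :
    Cyc.secFibre ((Scheme.Modules.pullback p).obj L) ξ' :=
  pullFibre p L ξ' (v (p ξ'))

theorem pullSec_chart (v : (ξ : X) → Cyc.secFibre L ξ) (ξ' : X') (U : X.Opens) (hU : p ξ' ∈ U)
    (σ : Γ(L, U)) (a : X.presheaf.stalk (p ξ'))
    (hv : v (p ξ') = Submodule.Quotient.mk (a • L.presheaf.germ U (p ξ') hU σ)) :
    pullSec p L v ξ' = Submodule.Quotient.mk ((p.stalkMap ξ').hom a •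
      ((Scheme.Modules.pullback p).obj L).presheaf.germ (p ⁻¹ᵁ U) ξ' hU (pullSect p L U σ)) := by
  unfold pullSec
  rw [hv, pullFibre_chart]

theorem stalkMap_not_mem (ξ' : X') (a : X.presheaf.stalk (p ξ'))
    (ha : a ∉ maximalIdeal (X.presheaf.stalk (p ξ'))) :
    (p.stalkMap ξ').hom a ∉ maximalIdeal (X'.presheaf.stalk ξ') := by
  rw [mem_maximalIdeal, mem_nonunits_iff, not_not] at ha ⊢
  exact ha.map _

theorem pullSec_ne_zero (hL : PicF.IsInvertible L) (v : (ξ : X) → Cyc.secFibre L ξ)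
    (hv : ∀ ξ, v ξ ≠ 0) (ξ' : X') : pullSec p L v ξ' ≠ 0 := by
  obtain ⟨U, hU, σ, hσ⟩ := exists_isFreeGen_of_isInvertible hL (p ξ')
  obtain ⟨a, ha, hva⟩ := exists_unit_chart L hσ (p ξ') hU (v (p ξ')) (hv _)
  rw [pullSec_chart p L v ξ' U hU σ a hva]
  intro h0
  have hσ' := isFreeGen_pullSect p L hσ
  have hU' : ξ' ∈ p ⁻¹ᵁ U := hU
  rw [Groth.Agent.H54.SecOrdGen.mk_smul_eq_zero_iff _ ξ' _ (hσ'.germ_bijective hU')] at h0
  exact stalkMap_not_mem p ξ' a ha h0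

variable [Flat p] [IsLocallyNoetherian X] [IsLocallyNoetherian X']
  (δ : X → ℤ) (δ' : X' → ℤ) (hδ : Cyc.IsDimFun X δ) (hδ' : Cyc.IsDimFun X' δ') (c : ℤ)
  (hc : ∀ x' : X', (∀ y, p y = p x' → y ⤳ x' → y = x') → δ' x' = δ (p x') + c)

include hδ hδ' hc in
/-- **Flat pullback of the divisor of a rational section.** -/
theorem pullFun_secDivFun_eq_finsum (hL : PicF.IsInvertible L)
    (v : (ξ : X) → Cyc.secFibre L ξ) (hv : ∀ ξ, v ξ ≠ 0) (ξ : X) (x' : X') :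
    Cyc.pullFun p δ' δ c (Cyc.secDivFun δ L ξ (v ξ)) x' =
      ∑ᶠ ξ' : J p ξ, fibMult p ξ'.1 *
        Cyc.secDivFun δ' ((Scheme.Modules.pullback p).obj L) ξ'.1 (pullSec p L v ξ'.1) x' := by
  by_cases hA : ξ ⤳ p x'
  · obtain ⟨U, hxU, σ, hσ⟩ := exists_isFreeGen_of_isInvertible hL (p x')
    have hξU : ξ ∈ U := hA.mem_open U.2 hxU
    obtain ⟨a, ha, hva⟩ := exists_unit_chart L hσ ξ hξU (v ξ) (hv ξ)
    have hg : (X.residue ξ).hom a ≠ 0 := by
      intro h0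
      exact ha ((IsLocalRing.residue_eq_zero_iff _).mp h0)
    have h1 : Cyc.secDivFun δ L ξ (v ξ) (p x') =
        Cyc.divFun δ ξ ((X.residue ξ).hom a) (p x') :=
      secDivFun_chart L δ hσ (p x') hxU ξ hA (v ξ) a ha hva
    have hL1 : Cyc.pullFun p δ' δ c (Cyc.secDivFun δ L ξ (v ξ)) x' =
        Cyc.pullFun p δ' δ c (Cyc.divFun δ ξ ((X.residue ξ).hom a)) x' := by
      unfold Cyc.pullFun
      rw [h1]
    rw [hL1, pullFun_divFun_eq_finsum p δ δ' hδ hδ' c hc ξ _ hg x']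
    refine finsum_congr fun ξ' => ?_
    congr 1
    obtain ⟨ξ', hpξ', hmax⟩ := ξ'
    subst hpξ'
    change Cyc.divFun δ' ξ' (resFun p (p ξ') ((X.residue (p ξ')).hom a) ξ' rfl) x' =
      Cyc.secDivFun δ' ((Scheme.Modules.pullback p).obj L) ξ' (pullSec p L v ξ') x'
    by_cases h' : ξ' ⤳ x'
    · have hx'U : x' ∈ p ⁻¹ᵁ U := hxU
      rw [secDivFun_chart ((Scheme.Modules.pullback p).obj L) δ' (isFreeGen_pullSect p L hσ) x'
        hx'U ξ' h' (pullSec p L v ξ') ((p.stalkMap ξ').hom a) (stalkMap_not_mem p ξ' a ha)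
        (pullSec_chart p L v ξ' U hξU σ a hva)]
      congr 1
    · unfold Cyc.divFun Cyc.secDivFun
      rw [dif_neg (fun h => h' h.1), dif_neg (fun h => h' h.1)]
  · have h1 : Cyc.secDivFun δ L ξ (v ξ) (p x') = 0 := by
      unfold Cyc.secDivFun
      rw [dif_neg (fun h => hA h.1)]
    have hL1 : Cyc.pullFun p δ' δ c (Cyc.secDivFun δ L ξ (v ξ)) x' = 0 := by
      unfold Cyc.pullFun
      rw [h1, zero_mul, ite_self]
    rw [hL1]
    symm
    apply finsum_eq_zero_of_forall_eq_zero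
    intro ξ'
    have : Cyc.secDivFun δ' ((Scheme.Modules.pullback p).obj L) ξ'.1 (pullSec p L v ξ'.1) x'
        = 0 := by
      unfold Cyc.secDivFun
      rw [dif_neg]
      rintro ⟨h', -⟩
      apply hA
      rw [← ξ'.2.1]
      exact h'.map p.continuous
    rw [this, mul_zero]

/-- the support of a cycle is a locally finite family of points -/
theorem locallyFinite_support (α : AlgebraicCycle X ℤ) (x : X) :
    ∃ U : Set X, IsOpen U ∧ x ∈ U ∧
      {i : {ξ : X // α ξ ≠ 0} | (closure {i.1} ∩ U).Nonempty}.Finite := by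
  obtain ⟨t, ht, hfin⟩ := α.supportLocallyFiniteWithinDomain x (Set.mem_univ x)
  obtain ⟨U, hUt, hU, hxU⟩ := mem_nhds_iff.mp ht
  refine ⟨U, hU, hxU, ?_⟩
  have hsub : {i : {ξ : X // α ξ ≠ 0} | (closure {i.1} ∩ U).Nonempty} ⊆
      Subtype.val ⁻¹' (t ∩ Function.support α) := by
    rintro i ⟨y, hy, hyU⟩
    have hsp : i.1 ⤳ y := specializes_iff_mem_closure.mpr hy
    exact ⟨hUt (hsp.mem_open hU hyU), i.2⟩
  exact (hfin.preimage Subtype.val_injective.injOn).subset hsub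

include hδ' hc in
/-- the flat pullback of a cycle is a cycle -/
theorem exists_cycle_pullFun (α : AlgebraicCycle X ℤ) :
    ∃ β : AlgebraicCycle X' ℤ, ⇑β = Cyc.pullFun p δ' δ c ⇑α := by
  have hsupp : ∀ z ∈ (Set.univ : Set X'),
      ∃ t ∈ 𝓝 z, (t ∩ Function.support (Cyc.pullFun p δ' δ c ⇑α)).Finite := by
    intro x' _
    obtain ⟨U', hU'o, hx'U', hfin⟩ :=
      FlatPullRat.locallyFinite_fibMax p (fun i : {ξ : X // α ξ ≠ 0} => i.1)
        (locallyFinite_support α) x'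
    refine ⟨U', hU'o.mem_nhds hx'U', (hfin.image (fun j => j.2.1)).subset ?_⟩
    rintro y ⟨hyU, hy⟩
    have hy' : Cyc.pullFun p δ' δ c ⇑α y ≠ 0 := hy
    unfold Cyc.pullFun at hy'
    split_ifs at hy' with h1
    · have hα : α (p y) ≠ 0 := left_ne_zero_of_mul hy'
      have hmax := ShiftPull.fibMax_of_delta_eq p δ δ' hδ' c hc y h1
      refine ⟨⟨⟨p y, hα⟩, ⟨y, rfl, hmax⟩⟩, ?_, rfl⟩
      exact ⟨y, subset_closure rfl, hyU⟩
    · exact absurd rfl hy'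
  exact ⟨⟨Cyc.pullFun p δ' δ c ⇑α, fun _ _ => Set.mem_univ _, hsupp⟩, rfl⟩

include hδ hδ' hc in
/-- **Flat pullback commutes with `c_1(L) ∩ -`**, with the pulled-back sections. -/
theorem pullFun_c1CapFun (hL : PicF.IsInvertible L) (α : AlgebraicCycle X ℤ)
    (v : (ξ : X) → Cyc.secFibre L ξ) (hv : ∀ ξ, v ξ ≠ 0) (x' : X') :
    Cyc.pullFun p δ' δ c (Cyc.c1CapFun δ L ⇑α v) x' =
      Cyc.c1CapFun δ' ((Scheme.Modules.pullback p).obj L) (Cyc.pullFun p δ' δ c ⇑α)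
        (pullSec p L v) x' := by
  have d1 : Cyc.pullFun p δ' δ c (Cyc.c1CapFun δ L ⇑α v) x' =
      ∑ᶠ ξ : X, α ξ * Cyc.pullFun p δ' δ c (Cyc.secDivFun δ L ξ (v ξ)) x' := by
    unfold Cyc.pullFun Cyc.c1CapFun
    split_ifs with h
    · rw [finsum_mul]
      exact finsum_congr fun ξ => mul_assoc _ _ _
    · simp only [mul_zero, finsum_zero]
  rw [d1]
  set S' : X' → ℤ := fun ξ' => Cyc.secDivFun δ' ((Scheme.Modules.pullback p).obj L) ξ'
    (pullSec p L v ξ') x' with hS'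
  have d2 : ∀ ξ : X, α ξ * Cyc.pullFun p δ' δ c (Cyc.secDivFun δ L ξ (v ξ)) x' =
      ∑ᶠ ξ' : J p ξ, α ξ * (fibMult p ξ'.1 * S' ξ'.1) := by
    intro ξ
    rw [pullFun_secDivFun_eq_finsum p L δ δ' hδ hδ' c hc hL v hv ξ x', mul_finsum]
  rw [finsum_congr d2]
  -- the sum over the sigma type
  let F : (Σ ξ : X, J p ξ) → ℤ := fun j => α j.1 * (fibMult p j.2.1 * S' j.2.1)
  have hFsupp : (Function.support F).Finite := by
    obtain ⟨U', hU'o, hx'U', hfin⟩ :=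
      FlatPullRat.locallyFinite_fibMax p (fun i : {ξ : X // α ξ ≠ 0} => i.1)
        (locallyFinite_support α) x'
    let φ : (Σ i : {ξ : X // α ξ ≠ 0}, J p i.1) → (Σ ξ : X, J p ξ) := fun j => ⟨j.1.1, j.2⟩
    refine (hfin.image φ).subset ?_
    intro j hj
    have hj' : α j.1 * (fibMult p j.2.1 * S' j.2.1) ≠ 0 := hj
    have hα : α j.1 ≠ 0 := left_ne_zero_of_mul hj'
    have hS : S' j.2.1 ≠ 0 := right_ne_zero_of_mul (right_ne_zero_of_mul hj')
    have hsp : j.2.1 ⤳ x' := by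
      by_contra hcon
      apply hS
      simp only [hS']
      unfold Cyc.secDivFun
      rw [dif_neg (fun h => hcon h.1)]
    refine ⟨⟨⟨j.1, hα⟩, j.2⟩, ?_, rfl⟩
    exact ⟨x', specializes_iff_mem_closure.mp hsp, hx'U'⟩
  have d3 := FlatPullRat.finsum_sigma F hFsupp
  rw [← d3]
  -- the right hand side
  unfold Cyc.c1CapFun
  let e : (Σ ξ : X, J p ξ) → X' := fun j => j.2.1
  have he : Function.Injective e := by
    rintro ⟨ξ₁, ξ₁', h1, h1'⟩ ⟨ξ₂, ξ₂', h2, h2'⟩ h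
    have h12 : ξ₁' = ξ₂' := h
    subst h12
    subst h1
    subst h2
    rfl
  have hsupp : Function.support (fun ξ' : X' => Cyc.pullFun p δ' δ c ⇑α ξ' * S' ξ') ⊆
      Set.range e := by
    intro ξ' hξ'
    have hne : Cyc.pullFun p δ' δ c ⇑α ξ' ≠ 0 := left_ne_zero_of_mul hξ'
    unfold Cyc.pullFun at hne
    split_ifs at hne with h1
    · exact ⟨⟨p ξ', ⟨ξ', rfl, ShiftPull.fibMax_of_delta_eq p δ δ' hδ' c hc ξ' h1⟩⟩, rfl⟩
    · exact absurd rfl hne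
  have d4 := StalkDict.finsum_eq_finsum_comp_of_support_subset e he
    (fun ξ' : X' => Cyc.pullFun p δ' δ c ⇑α ξ' * S' ξ') hsupp
  refine Eq.trans ?_ d4.symm
  refine finsum_congr fun j => ?_
  obtain ⟨ξ, ξ', hpξ', hmax⟩ := j
  subst hpξ'
  change α (p ξ') * (fibMult p ξ' * S' ξ') = Cyc.pullFun p δ' δ c ⇑α ξ' * S' ξ'
  have hd : δ' ξ' = δ (p ξ') + c := hc ξ' hmax
  unfold Cyc.pullFun
  rw [if_pos hd]
  unfold fibMult
  ring

end Pull

section Main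

variable {X X' : Scheme.{u}} (p : X' ⟶ X) [Flat p] (δ : X → ℤ) (δ' : X' → ℤ) (c : ℤ)
  (hc : ∀ x' : X', (∀ y, p y = p x' → y ⤳ x' → y = x') → δ' x' = δ (p x') + c)

include hc in
/-- **Flat pullback commutes with `c_1(L) ∩ -` up to rational equivalence.** -/
theorem main (hX : Cyc.IsSetup X δ) (hX' : Cyc.IsSetup X' δ') (L : X.Modules)
    (hL : PicF.IsInvertible L) (k : ℤ) (α : AlgebraicCycle X ℤ) (hα : α ∈ Cyc.Zk X δ k)
    (v : (ξ : X) → Cyc.secFibre L ξ) (hv : ∀ ξ, v ξ ≠ 0)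
    (u : (ξ : X') → Cyc.secFibre ((Scheme.Modules.pullback p).obj L) ξ) (hu : ∀ ξ, u ξ ≠ 0)
    (γ₁ γ₂ : AlgebraicCycle X' ℤ)
    (h₁ : ⇑γ₁ = Cyc.pullFun p δ' δ c (Cyc.c1CapFun δ L ⇑α v))
    (h₂ : ⇑γ₂ = Cyc.c1CapFun δ' ((Scheme.Modules.pullback p).obj L)
      (Cyc.pullFun p δ' δ c ⇑α) u) :
    Cyc.RatEquiv δ' (k + c - 1) γ₁ γ₂ := by
  obtain ⟨hN, -, hδ⟩ := hX
  obtain ⟨hN', -, hδ'⟩ := hX'
  haveI := hN
  haveI := hN'
  obtain ⟨β, hβ⟩ := exists_cycle_pullFun p δ δ' hδ' c hc α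
  have hβk : β ∈ Cyc.Zk X' δ' (k + c - 1 + 1) := by
    intro x' hx'
    rw [hβ]
    unfold Cyc.pullFun
    split_ifs with h1
    · rw [hα (p x') (by omega), zero_mul]
    · rfl
  have hL' := Groth.Agent.H54.FiniteLocalPic.isInvertible_pullback p hL
  have h₁' : ⇑γ₁ = Cyc.c1CapFun δ' ((Scheme.Modules.pullback p).obj L) ⇑β (pullSec p L v) := by
    rw [h₁, hβ]
    funext x'
    exact pullFun_c1CapFun p L δ δ' hδ hδ' c hc hL α v hv x'
  rw [← hβ] at h₂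
  exact ratEquiv_of_sections δ' _ hL' (k + c - 1) β hβk (pullSec p L v)
    (pullSec_ne_zero p L hL v hv) u hu γ₁ γ₂ h₁' h₂

end Main

end Groth.Agent.H48.FlatC1
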