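import Mathlib
import Groth.Prelude.Def_Cyc
import Groth.Agent.H48.FlatDiv
import Groth.Agent.H48.ShiftPull2

/-!
# Flat pullback of a principal divisor on an integral scheme
-/

set_option autoImplicit false
set_option linter.unusedSectionVars false
set_option linter.style.haveILetI false
universe u

open AlgebraicGeometry CategoryTheory CategoryTheory.Limits TopologicalSpace Opposite Topology
open IsLocalRing

namespace Groth.Agent.H48.FlatDivGen

open Groth.Agent.H48 Groth.Agent.H48.FlatDiv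

theorem maximalIdeal_stalk_eq_bot {Y : Scheme.{u}} [IsIntegral Y] (y : Y)
    (hy : y = genericPoint Y) : maximalIdeal (Y.presheaf.stalk y) = ⊥ := by
  subst hy
  have : IsField (Y.presheaf.stalk (genericPoint Y)) :=
    (inferInstance : Field Y.functionField).toIsField
  exact IsLocalRing.isField_iff_maximalIdeal_eq.mp this

theorem fibMult_eq_length {X Y : Scheme.{u}} [IsIntegral Y] (f : X ⟶ Y) (ξ : X)
    (hξ : f ξ = genericPoint Y) :
    fibMult f ξ = ((Module.length (X.presheaf.stalk ξ) (X.presheaf.stalk ξ)).toNat : ℤ) := by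
  unfold fibMult
  rw [maximalIdeal_stalk_eq_bot (f ξ) hξ, Ideal.map_bot]
  congr 2
  exact (Submodule.quotEquivOfEqBot ⊥ rfl).length_eq

variable {X Y : Scheme.{u}} [IsIntegral Y] (δX : X → ℤ) (δY : Y → ℤ) (hX : Cyc.IsSetup X δX)
  (hY : Cyc.IsSetup Y δY) (f : X ⟶ Y) [Flat f] [LocallyOfFiniteType f] (r : ℕ)
  (hr : Cyc.HasRelDim f r) (hδ : Cyc.DeltaCompat f δX δY)

include hX hY hr hδ in
theorem pullFun_divFun_generic (g : Y.residueField (genericPoint Y)) (hg : g ≠ 0) (x : X) :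
    Cyc.pullFun f δX δY r (Cyc.divFun δY (genericPoint Y) g) x =
      ∑ᶠ ξ : {ξ : X // (∀ x' : X, x' ⤳ ξ → x' = ξ) ∧ f ξ = genericPoint Y},
        ((Module.length (X.presheaf.stalk ξ.1) (X.presheaf.stalk ξ.1)).toNat : ℤ) *
          Cyc.divFun δX ξ.1
            (f.residueFieldMap ξ.1 ((Y.residueFieldCongr ξ.2.2.symm).hom g)) x := by
  obtain ⟨hNX, -, hdX⟩ := hX
  obtain ⟨hNY, -, hdY⟩ := hY
  haveI := hNX
  haveI := hNY
  have hc : ∀ x' : X, (∀ y, f y = f x' → y ⤳ x' → y = x') → δX x' = δY (f x') + (r : ℤ) :=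
    fun x' hmax => ShiftPull2.shift_of_hasRelDim f δX δY hdX hδ r hr x' hmax
  rw [pullFun_divFun_eq_finsum f δY δX hdY hdX r hc (genericPoint Y) g hg x]
  let e : J f (genericPoint Y) ≃
      {ξ : X // (∀ x' : X, x' ⤳ ξ → x' = ξ) ∧ f ξ = genericPoint Y} :=
    { toFun := fun ξ' => ⟨ξ'.1, fun y hy => by
        refine ξ'.2.2 y ?_ hy
        have h1 : f y ⤳ f ξ'.1 := hy.map f.continuous
        rw [ξ'.2.1] at h1 ⊢
        exact (h1.antisymm (genericPoint_specializes _)).eq, ξ'.2.1⟩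
      invFun := fun ξ => ⟨ξ.1, ξ.2.2, fun y _ hy => ξ.2.1 y hy⟩
      left_inv := fun _ => rfl
      right_inv := fun _ => rfl }
  rw [← finsum_comp_equiv e]
  refine finsum_congr fun ξ' => ?_
  rw [fibMult_eq_length f ξ'.1 ξ'.2.1]
  rfl

end Groth.Agent.H48.FlatDivGen
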