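import Mathlib
import Groth.Agent.H48.GeomRedPI

/-!
# Geometric reducedness after a finite purely inseparable extension, II
-/

open scoped TensorProduct

namespace Groth.Agent.H48.GeomRedPI2

universe u

section Main

variable {k A : Type u} [Field k] [CommRing A] [Algebra k A]

/-- general version of `GeomRedPI.exists_finite_pi_geomReduced` for an abstract perfect closure -/
theorem exists_finite_pi_geomReduced (P : Type u) [Field P] [Algebra k P] [PerfectField P]
    [IsPurelyInseparable k P] [IsNoetherianRing (P ⊗[k] A)] :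
    ∃ (k' : Type u) (_ : Field k') (_ : Algebra k k'), FiniteDimensional k k' ∧
      IsPurelyInseparable k k' ∧
      Algebra.IsGeometricallyReduced k' ((k' ⊗[k] A) ⧸ nilradical (k' ⊗[k] A)) := by
  classical
  have : Algebra.IsAlgebraic k P := IsPurelyInseparable.isAlgebraic k P
  obtain ⟨s, hs⟩ := (isNoetherianRing_iff_ideal_fg _).mp inferInstance (nilradical (P ⊗[k] A))
  obtain ⟨E, hE, hF⟩ := Groth.Agent.H48.GeomNormal.exists_finite_intermediateField_finset
    (A := A) s
  have hpi : IsPurelyInseparable k E := IsPurelyInseparable.tower_bot k E P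
  refine ⟨E, inferInstance, inferInstance, hE, hpi,
    Groth.Agent.H48.GeomRedPI.core (A := A) E P ?_⟩
  rw [← hs, Ideal.span_le]
  intro n hn
  obtain ⟨n', hn'⟩ := hF n hn
  change Groth.Agent.H48.jE A E n' = n at hn'
  have hnil : IsNilpotent n := by
    have : n ∈ nilradical (P ⊗[k] A) := hs ▸ Ideal.subset_span hn
    exact mem_nilradical.mp this
  have hn'nil : IsNilpotent n' := by
    obtain ⟨m, hm⟩ := hnil
    refine ⟨m, Groth.Agent.H48.jE_injective (R := A) E ?_⟩
    have h1 : (Groth.Agent.H48.jE A E) (n' ^ m) = (Groth.Agent.H48.jE A E n') ^ m :=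
      map_pow (Groth.Agent.H48.jE A E).toRingHom n' m
    have h0 : (Groth.Agent.H48.jE A E) 0 = 0 := map_zero (Groth.Agent.H48.jE A E).toRingHom
    rw [h1, hn', hm, h0]
  rw [← hn']
  exact Ideal.mem_map_of_mem _ (mem_nilradical.mpr hn'nil)

end Main

section Artin

variable {k : Type u} [Field k]

/-- The converse: if the reduction of `k' ⊗ K` is geometrically reduced over `k'`, then `K ⊗ P` is
Artinian for a purely inseparable extension `P` of `k` containing `k'`. -/
theorem isArtinianRing_tensor (k' K P : Type u) [Field k'] [Field K] [Field P] [Algebra k k']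
    [Algebra k K] [Algebra k P] [Algebra k' P] [IsScalarTower k k' P] [Module.Finite k k']
    [IsPurelyInseparable k P]
    (hgr : Algebra.IsGeometricallyReduced k' ((k' ⊗[k] K) ⧸ nilradical (k' ⊗[k] K))) :
    IsArtinianRing (K ⊗[k] P) := by
  have hpi' : IsPurelyInseparable k' P := IsPurelyInseparable.tower_top k k' P
  have halg : Algebra.IsAlgebraic k' P := IsPurelyInseparable.isAlgebraic k' P
  have hred : IsReduced (P ⊗[k'] ((k' ⊗[k] K) ⧸ nilradical (k' ⊗[k] K))) := inferInstance
  -- `k' ⊗ K` is Noetherian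
  have hCn : IsNoetherianRing (k' ⊗[k] K) := by
    have h1 : IsNoetherianRing (K ⊗[k] k') := IsNoetherianRing.of_finite K (K ⊗[k] k')
    exact isNoetherianRing_of_ringEquiv _ (Algebra.TensorProduct.comm k K k').toRingEquiv
  let π : P ⊗[k'] (k' ⊗[k] K) →ₐ[k'] P ⊗[k'] ((k' ⊗[k] K) ⧸ nilradical (k' ⊗[k] K)) :=
    Algebra.TensorProduct.map (AlgHom.id k' P) (Ideal.Quotient.mkₐ k' (nilradical (k' ⊗[k] K)))
  have hk : RingHom.ker (Ideal.Quotient.mkₐ k' (nilradical (k' ⊗[k] K))) =
      nilradical (k' ⊗[k] K) := by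
    ext c
    simp [RingHom.mem_ker, Ideal.Quotient.eq_zero_iff_mem]
  have hker : RingHom.ker π = (nilradical (k' ⊗[k] K)).map
      (Algebra.TensorProduct.includeRight : (k' ⊗[k] K) →ₐ[k'] P ⊗[k'] (k' ⊗[k] K)) := by
    have := Algebra.TensorProduct.lTensor_ker (R := k') (A := P)
      (Ideal.Quotient.mkₐ k' (nilradical (k' ⊗[k] K))) (Ideal.Quotient.mkₐ_surjective k' _)
    rw [hk] at this
    exact this
  have hnil : nilradical (P ⊗[k'] (k' ⊗[k] K)) = RingHom.ker π := by
    apply le_antisymm
    · intro y hy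
      have : IsNilpotent (π y) := (mem_nilradical.mp hy).map π
      exact this.eq_zero
    · rw [hker, Ideal.map_le_iff_le_comap]
      intro c hc
      exact (mem_nilradical.mp hc).map _
  have hfg : (nilradical (P ⊗[k'] (k' ⊗[k] K))).FG := by
    rw [hnil, hker]
    exact Ideal.FG.map ((isNoetherianRing_iff_ideal_fg _).mp hCn _) _
  -- the ring isomorphism with `K ⊗ P`
  let e : P ⊗[k'] (k' ⊗[k] K) ≃+* K ⊗[k] P :=
    (Algebra.TensorProduct.cancelBaseChange k k' k' P K).toRingEquiv.trans
      (Algebra.TensorProduct.comm k P K).toRingEquiv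
  have hsubK : Subsingleton (PrimeSpectrum (K ⊗[k] P)) :=
    (PrimeSpectrum.isHomeomorph_comap_of_isPurelyInseparable k P K).injective.subsingleton
  have hsub : Subsingleton (PrimeSpectrum (P ⊗[k'] (k' ⊗[k] K))) :=
    (PrimeSpectrum.comap_injective_of_surjective e.symm.toRingHom e.symm.surjective).subsingleton
  have hprime : ∀ I : Ideal (P ⊗[k'] (k' ⊗[k] K)), I.IsPrime →
      I = nilradical (P ⊗[k'] (k' ⊗[k] K)) := by
    intro I hI
    rw [nilradical_eq_sInf]
    apply le_antisymm
    · refine le_sInf (fun J hJ => ?_)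
      have : (⟨I, hI⟩ : PrimeSpectrum (P ⊗[k'] (k' ⊗[k] K))) = ⟨J, hJ⟩ := Subsingleton.elim _ _
      exact (congrArg PrimeSpectrum.asIdeal this).le
    · exact sInf_le hI
  have hnoeth : IsNoetherianRing (P ⊗[k'] (k' ⊗[k] K)) :=
    IsNoetherianRing.of_prime (fun I hI => (hprime I hI) ▸ hfg)
  have hdim : Ring.KrullDimLE 0 (P ⊗[k'] (k' ⊗[k] K)) := by
    rw [Ring.krullDimLE_zero_iff]
    intro I hI
    obtain ⟨M, hM, hIM⟩ := Ideal.exists_le_maximal I hI.ne_top
    have : I = M := (hprime I hI).trans (hprime M hM.isPrime).symm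
    exact this ▸ hM
  have hart : IsArtinianRing (P ⊗[k'] (k' ⊗[k] K)) :=
    isArtinianRing_iff_isNoetherianRing_krullDimLE_zero.mpr ⟨hnoeth, hdim⟩
  exact e.isArtinianRing

end Artin

end Groth.Agent.H48.GeomRedPI2
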