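import Mathlib

/-!
# Gluing modules along localizations at (not necessarily covering) elements
-/

namespace Groth.Agent.H48.GlueLoc

section basic

variable {R : Type*} [CommRing R] {M M' : Type*} [AddCommGroup M] [AddCommGroup M']
  [Module R M] [Module R M']

theorem surj_pow (a : R) (φ : M →ₗ[R] M') [IsLocalizedModule (Submonoid.powers a) φ] (y : M') :
    ∃ (n : ℕ) (m : M), a ^ n • y = φ m := by
  obtain ⟨⟨m, ⟨s, n, rfl⟩⟩, h⟩ := IsLocalizedModule.surj (Submonoid.powers a) φ y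
  exact ⟨n, m, h⟩

theorem eq_zero_pow (a : R) (φ : M →ₗ[R] M') [IsLocalizedModule (Submonoid.powers a) φ] {m : M}
    (h : φ m = 0) : ∃ n : ℕ, a ^ n • m = 0 := by
  obtain ⟨⟨s, n, rfl⟩, hs⟩ := (IsLocalizedModule.eq_zero_iff (Submonoid.powers a) φ).mp h
  exact ⟨n, hs⟩

theorem eq_zero_of_pow_smul (a : R) (φ : M →ₗ[R] M') [IsLocalizedModule (Submonoid.powers a) φ]
    {x : M'} (n : ℕ) (h : a ^ n • x = 0) : x = 0 := by
  have hu := IsLocalizedModule.map_units φ (⟨a ^ n, n, rfl⟩ : Submonoid.powers a)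
  have hinj := ((Module.End.isUnit_iff _).mp hu).injective
  apply hinj
  rw [map_zero]
  change algebraMap R (Module.End R M') (a ^ n) x = 0
  rw [Module.algebraMap_end_apply]
  exact h

theorem eq_zero_of_isUnit_pow_smul (a : R) (hu : IsUnit (algebraMap R (Module.End R M) a))
    {x : M} (n : ℕ) (h : a ^ n • x = 0) : x = 0 := by
  have hu' : IsUnit (algebraMap R (Module.End R M) (a ^ n)) := by
    rw [map_pow]; exact hu.pow n
  have hinj := ((Module.End.isUnit_iff _).mp hu').injective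
  apply hinj
  rw [map_zero, Module.algebraMap_end_apply]
  exact h

theorem exists_pow_smul_eq_zero_of_comp {A B C : Type*} [AddCommGroup A] [AddCommGroup B]
    [AddCommGroup C] [Module R A] [Module R B] [Module R C] (a b : R)
    (g₀ : A →ₗ[R] B) [IsLocalizedModule (Submonoid.powers b) g₀]
    (t₀ : A →ₗ[R] C) [IsLocalizedModule (Submonoid.powers (a * b)) t₀]
    (v₀ : B →ₗ[R] C) (h : v₀ ∘ₗ g₀ = t₀) {x : B} (hx : v₀ x = 0) :
    ∃ N : ℕ, a ^ N • x = 0 := by
  obtain ⟨e, m, hm⟩ := surj_pow b g₀ x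
  have h1 : t₀ m = 0 := by
    rw [← h, LinearMap.comp_apply, ← hm, map_smul, hx, smul_zero]
  obtain ⟨N, hN⟩ := eq_zero_pow (a * b) t₀ h1
  refine ⟨N, ?_⟩
  apply eq_zero_of_pow_smul b g₀ (N + e)
  have h2 : g₀ ((a * b) ^ N • m) = 0 := by rw [hN, map_zero]
  rw [map_smul, ← hm, smul_smul] at h2
  rw [smul_smul]
  convert h2 using 2
  ring

end basic

section main

universe u

variable {R : Type u} [CommRing R] {ι : Type u} (f : ι → R)
    (Mi : ι → Type u) [∀ i, AddCommGroup (Mi i)] [∀ i, Module R (Mi i)]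
    (Mij : ι → ι → Type u) [∀ i j, AddCommGroup (Mij i j)] [∀ i j, Module R (Mij i j)]
    (g : ∀ i j, Mi i →ₗ[R] Mij i j) [∀ i j, IsLocalizedModule (Submonoid.powers (f j)) (g i j)]
    (ψ : ∀ i j, Mij i j ≃ₗ[R] Mij j i)
    (T : ι → ι → ι → Type u) [∀ i j k, AddCommGroup (T i j k)] [∀ i j k, Module R (T i j k)]
    (t : ∀ i j k, Mi i →ₗ[R] T i j k)
    [∀ i j k, IsLocalizedModule (Submonoid.powers (f j * f k)) (t i j k)]
    (u : ∀ i j k, Mij i j →ₗ[R] T i j k) (hu : ∀ i j k, u i j k ∘ₗ g i j = t i j k)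
    (v : ∀ i j k, Mij i k →ₗ[R] T i j k) (hv : ∀ i j k, v i j k ∘ₗ g i k = t i j k)
    (Ψ₁ : ∀ i j k, T i j k →ₗ[R] T j i k)
    (hΨ₁ : ∀ i j k, Ψ₁ i j k ∘ₗ u i j k = u j i k ∘ₗ (ψ i j).toLinearMap)
    (Ψ₂ : ∀ i j k, T j i k →ₗ[R] T k i j)
    (hΨ₂ : ∀ i j k, Ψ₂ i j k ∘ₗ v j i k = v k i j ∘ₗ (ψ j k).toLinearMap)
    (Ψ₃ : ∀ i j k, T i j k →ₗ[R] T k i j)
    (hΨ₃ : ∀ i j k, Ψ₃ i j k ∘ₗ v i j k = u k i j ∘ₗ (ψ i k).toLinearMap)
    (hcoc : ∀ i j k, Ψ₂ i j k ∘ₗ Ψ₁ i j k = Ψ₃ i j k)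

include hu hv hΨ₁ hΨ₂ hΨ₃ hcoc in
/-- The cocycle condition on elements. -/
theorem cocycle_apply (i j k : ι) (y : Mi i) (b : Mi j) (n : ℕ)
    (hb : f i ^ n • ψ i j (g i j y) = g j i b) :
    v k i j (ψ j k (g j k b)) = u k i j (f i ^ n • ψ i k (g i k y)) := by
  have e1 : Ψ₁ i j k (t i j k y) = u j i k (ψ i j (g i j y)) := by
    rw [← hu i j k, LinearMap.comp_apply]
    exact LinearMap.congr_fun (hΨ₁ i j k) (g i j y)
  have e2 : f i ^ n • Ψ₁ i j k (t i j k y) = v j i k (g j k b) := by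
    rw [e1, ← map_smul, hb]
    have h1 := LinearMap.congr_fun (hu j i k) b
    have h2 := LinearMap.congr_fun (hv j i k) b
    rw [LinearMap.comp_apply] at h1 h2
    rw [h1, h2]
  have e3 : Ψ₂ i j k (v j i k (g j k b)) = v k i j (ψ j k (g j k b)) :=
    LinearMap.congr_fun (hΨ₂ i j k) (g j k b)
  have e4 : Ψ₃ i j k (t i j k y) = u k i j (ψ i k (g i k y)) := by
    rw [← hv i j k, LinearMap.comp_apply]
    exact LinearMap.congr_fun (hΨ₃ i j k) (g i k y)
  rw [← e3, ← e2, map_smul, map_smul, ← e4, ← hcoc i j k, LinearMap.comp_apply]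

include f hu hv hΨ₁ hΨ₂ hΨ₃ hcoc in
/-- `ψ i i` is the identity on the image of `M_i`. -/
theorem psi_self_apply (i : ι) (y : Mi i) : ψ i i (g i i y) = g i i y := by
  obtain ⟨n, b, hb⟩ := surj_pow (f i) (g i i) (ψ i i (g i i y))
  have hc := cocycle_apply f Mi Mij g ψ T t u hu v hv Ψ₁ hΨ₁ Ψ₂ hΨ₂ Ψ₃ hΨ₃ hcoc i i i y b n hb
  have h1 : u i i i (f i ^ n • ψ i i (g i i y)) = v i i i (g i i b) := by
    rw [hb]
    have h1 := LinearMap.congr_fun (hu i i i) b
    have h2 := LinearMap.congr_fun (hv i i i) b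
    rw [LinearMap.comp_apply] at h1 h2
    rw [h1, h2]
  have h2 : v i i i (ψ i i (g i i b) - g i i b) = 0 := by
    rw [map_sub, hc, h1, sub_self]
  obtain ⟨N, hN⟩ := exists_pow_smul_eq_zero_of_comp (f i) (f i) (g i i) (t i i i) (v i i i)
    (hv i i i) h2
  have h3 : ψ i i (g i i b) = g i i b :=
    sub_eq_zero.mp (eq_zero_of_pow_smul (f i) (g i i) N hN)
  rw [← hb, map_smul] at h3
  have h4 : f i ^ n • (ψ i i (ψ i i (g i i y)) - ψ i i (g i i y)) = 0 := by
    rw [smul_sub, h3, sub_self]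
  have h5 := sub_eq_zero.mp (eq_zero_of_pow_smul (f i) (g i i) n h4)
  exact (ψ i i).injective h5

include f hu hv hΨ₁ hΨ₂ hΨ₃ hcoc in
theorem isLocalizedModule_proj [Finite ι]
    (hMi : ∀ i, IsUnit (algebraMap R (Module.End R (Mi i)) (f i)))
    (M : Submodule R (∀ i, Mi i))
    (hM : ∀ m : ∀ i, Mi i, m ∈ M ↔ ∀ i j, g i j (m i) = ψ j i (g j i (m j))) (i : ι) :
    IsLocalizedModule (Submonoid.powers (f i))
      ((LinearMap.proj i).comp M.subtype : ↥M →ₗ[R] Mi i) := by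
  classical
  have : Fintype ι := Fintype.ofFinite ι
  refine ⟨?_, ?_, ?_⟩
  · rintro ⟨x, n, rfl⟩
    change IsUnit (algebraMap R (Module.End R (Mi i)) (f i ^ n))
    rw [map_pow]
    exact (hMi i).pow n
  · intro y
    have h1 : ∀ j, ∃ (n : ℕ) (b : Mi j), f i ^ n • ψ i j (g i j y) = g j i b :=
      fun j => surj_pow (f i) (g j i) (ψ i j (g i j y))
    obtain ⟨n, b, hb⟩ : ∃ (n : ℕ) (b : ∀ j, Mi j),
        ∀ j, f i ^ n • ψ i j (g i j y) = g j i (b j) := by
      choose n₀ b₀ hb₀ using h1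
      refine ⟨Finset.univ.sup n₀, fun j => f i ^ (Finset.univ.sup n₀ - n₀ j) • b₀ j, fun j => ?_⟩
      have hle : n₀ j ≤ Finset.univ.sup n₀ := Finset.le_sup (Finset.mem_univ j)
      rw [map_smul, ← hb₀ j, smul_smul, ← pow_add, Nat.sub_add_cancel hle]
    have h2 : ∀ j k, ∃ N : ℕ, f i ^ N • (ψ k j (g k j (b k)) - g j k (b j)) = 0 := by
      intro j k
      have hc := cocycle_apply f Mi Mij g ψ T t u hu v hv Ψ₁ hΨ₁ Ψ₂ hΨ₂ Ψ₃ hΨ₃ hcoc i k j y (b k) n
        (hb k)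
      have h3 : u j i k (f i ^ n • ψ i j (g i j y)) = v j i k (g j k (b j)) := by
        rw [hb j]
        have h1 := LinearMap.congr_fun (hu j i k) (b j)
        have h2 := LinearMap.congr_fun (hv j i k) (b j)
        rw [LinearMap.comp_apply] at h1 h2
        rw [h1, h2]
      have h4 : v j i k (ψ k j (g k j (b k)) - g j k (b j)) = 0 := by
        rw [map_sub, hc, h3, sub_self]
      exact exists_pow_smul_eq_zero_of_comp (f i) (f k) (g j k) (t j i k) (v j i k) (hv j i k) h4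
    choose N₀ hN₀ using h2
    let N := Finset.univ.sup fun j => Finset.univ.sup (N₀ j)
    have hN : ∀ j k, f i ^ N • (ψ k j (g k j (b k)) - g j k (b j)) = 0 := by
      intro j k
      have hle : N₀ j k ≤ N :=
        le_trans (Finset.le_sup (f := N₀ j) (Finset.mem_univ k))
          (Finset.le_sup (f := fun j => Finset.univ.sup (N₀ j)) (Finset.mem_univ j))
      rw [← Nat.sub_add_cancel hle, pow_add, mul_smul, hN₀ j k, smul_zero]
    let m : ∀ j, Mi j := fun j => f i ^ N • b j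
    have hm : m ∈ M := by
      rw [hM]
      intro j k
      change g j k (f i ^ N • b j) = ψ k j (g k j (f i ^ N • b k))
      rw [map_smul, map_smul, map_smul]
      have := hN j k
      rw [smul_sub, sub_eq_zero] at this
      exact this.symm
    have hbi : b i = f i ^ n • y := by
      have h5 := hb i
      rw [psi_self_apply f Mi Mij g ψ T t u hu v hv Ψ₁ hΨ₁ Ψ₂ hΨ₂ Ψ₃ hΨ₃ hcoc i y, ← map_smul] at h5
      have h6 : g i i (f i ^ n • y - b i) = 0 := by rw [map_sub, h5, sub_self]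
      obtain ⟨e, he⟩ := eq_zero_pow (f i) (g i i) h6
      have := eq_zero_of_isUnit_pow_smul (f i) (hMi i) e he
      exact (sub_eq_zero.mp this).symm
    refine ⟨⟨⟨m, hm⟩, ⟨f i ^ (N + n), N + n, rfl⟩⟩, ?_⟩
    change f i ^ (N + n) • y = f i ^ N • b i
    rw [hbi, smul_smul, pow_add]
  · intro x₁ x₂ h
    have hmi : (x₁ - x₂ : M).1 i = 0 := by
      have : (x₁.1 i) = x₂.1 i := h
      simp [this]
    have hmem := (hM (x₁ - x₂ : M).1).mp (x₁ - x₂ : M).2
    have h1 : ∀ j, ∃ N : ℕ, f i ^ N • (x₁ - x₂ : M).1 j = 0 := by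
      intro j
      apply eq_zero_pow (f i) (g j i)
      rw [hmem j i, hmi, map_zero, map_zero]
    choose N₀ hN₀ using h1
    let N := Finset.univ.sup N₀
    refine ⟨⟨f i ^ N, N, rfl⟩, ?_⟩
    have key : f i ^ N • (x₁ - x₂) = 0 := by
      apply Subtype.ext
      funext j
      have hle : N₀ j ≤ N := Finset.le_sup (Finset.mem_univ j)
      change f i ^ N • (x₁ - x₂ : M).1 j = 0
      rw [← Nat.sub_add_cancel hle, pow_add, mul_smul, hN₀ j, smul_zero]
    rw [smul_sub, sub_eq_zero] at key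
    exact key

end main

end Groth.Agent.H48.GlueLoc
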