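import Mathlib

set_option autoImplicit false
set_option linter.unusedSectionVars false
universe u

open DirectSum

namespace Groth.Agent.H48

section Graded

variable {R S : Type u} [CommRing R] [CommRing S] [Algebra R S] (𝒜 : ℕ → Submodule R S)
  [GradedAlgebra 𝒜]

/-- A homogeneous ideal not contained in `q` has a homogeneous element outside `q`. -/
theorem exists_homogeneous_mem_notMem {J : Ideal S} (hJ : J.IsHomogeneous 𝒜) (q : Ideal S)
    (h : ¬ J ≤ q) : ∃ i : ℕ, ∃ z : S, z ∈ 𝒜 i ∧ z ∈ J ∧ z ∉ q := by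
  classical
  obtain ⟨a, haJ, haq⟩ := SetLike.not_le_iff_exists.mp h
  by_contra hcon
  push Not at hcon
  apply haq
  rw [← DirectSum.sum_support_decompose 𝒜 a]
  refine Ideal.sum_mem _ fun i _ => ?_
  exact hcon i _ (SetLike.coe_mem _) (hJ i haJ)

/-- Same with positive degree when `J` is inside the irrelevant ideal. -/
theorem exists_homogeneous_pos_mem_notMem {J : Ideal S} (hJ : J.IsHomogeneous 𝒜)
    (hirr : J ≤ (HomogeneousIdeal.irrelevant 𝒜).toIdeal) (q : Ideal S)
    (h : ¬ J ≤ q) : ∃ i : ℕ, 0 < i ∧ ∃ z : S, z ∈ 𝒜 i ∧ z ∈ J ∧ z ∉ q := by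
  obtain ⟨i, z, hzi, hzJ, hzq⟩ := exists_homogeneous_mem_notMem 𝒜 hJ q h
  refine ⟨i, ?_, z, hzi, hzJ, hzq⟩
  rcases Nat.eq_zero_or_pos i with rfl | hpos
  · exfalso
    have h1 : z ∈ (HomogeneousIdeal.irrelevant 𝒜).toIdeal := hirr hzJ
    have h2 : GradedRing.proj 𝒜 0 z = 0 := (HomogeneousIdeal.mem_irrelevant_iff 𝒜 z).mp h1
    rw [GradedRing.proj_apply, DirectSum.decompose_of_mem_same 𝒜 hzi] at h2
    apply hzq
    rw [h2]
    exact q.zero_mem
  · exact hpos

/-- Homogeneous prime avoidance, finset version. -/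
theorem homogeneous_prime_avoidance {I : Ideal S} (hI : I.IsHomogeneous 𝒜)
    (hirr : I ≤ (HomogeneousIdeal.irrelevant 𝒜).toIdeal) (s : Finset (Ideal S)) :
    (∀ q ∈ s, q.IsPrime ∧ q.IsHomogeneous 𝒜) → (∀ q ∈ s, ¬ I ≤ q) →
      ∃ x : S, ∃ d : ℕ, 0 < d ∧ x ∈ 𝒜 d ∧ x ∈ I ∧ ∀ q ∈ s, x ∉ q := by
  classical
  induction s using Finset.strongInduction with
  | H s ih =>
    intro hs hIs
    by_cases hincl : ∃ q₁ ∈ s, ∃ q₂ ∈ s, q₁ ≠ q₂ ∧ q₁ ≤ q₂
    · obtain ⟨q₁, hq₁, q₂, hq₂, hne, hle⟩ := hincl
      obtain ⟨x, d, hd, hxd, hxI, hx⟩ := ih (s.erase q₁) (Finset.erase_ssubset hq₁)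
        (fun q hq => hs q (Finset.mem_of_mem_erase hq))
        (fun q hq => hIs q (Finset.mem_of_mem_erase hq))
      refine ⟨x, d, hd, hxd, hxI, fun q hq => ?_⟩
      by_cases hqq : q = q₁
      · subst hqq
        intro hxq
        exact hx q₂ (Finset.mem_erase.mpr ⟨hne.symm, hq₂⟩) (hle hxq)
      · exact hx q (Finset.mem_erase.mpr ⟨hqq, hq⟩)
    · push Not at hincl
      rcases s.eq_empty_or_nonempty with rfl | ⟨q, hq⟩
      · exact ⟨0, 1, Nat.one_pos, (𝒜 1).zero_mem, I.zero_mem, fun q hq => absurd hq (Finset.notMem_empty q)⟩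
      · obtain ⟨x, d, hd, hxd, hxI, hx⟩ := ih (s.erase q) (Finset.erase_ssubset hq)
          (fun q' hq' => hs q' (Finset.mem_of_mem_erase hq'))
          (fun q' hq' => hIs q' (Finset.mem_of_mem_erase hq'))
        by_cases hxq : x ∉ q
        · refine ⟨x, d, hd, hxd, hxI, fun q' hq' => ?_⟩
          by_cases hqq : q' = q
          · subst hqq; exact hxq
          · exact hx q' (Finset.mem_erase.mpr ⟨hqq, hq'⟩)
        · push Not at hxq
          have hqprime : q.IsPrime := (hs q hq).1
          -- w ∈ I \ q homogeneous of positive degree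
          obtain ⟨e₀, he₀, w, hwe, hwI, hwq⟩ :=
            exists_homogeneous_pos_mem_notMem 𝒜 hI hirr q (hIs q hq)
          -- z_{q'} ∈ q' \ q homogeneous
          have hz : ∀ q' : Ideal S, ∃ (i : ℕ) (z : S), q' ∈ s.erase q → z ∈ 𝒜 i ∧ z ∈ q' ∧ z ∉ q := by
            intro q'
            by_cases hq' : q' ∈ s.erase q
            · have hq's : q' ∈ s := Finset.mem_of_mem_erase hq'
              have hne : q' ≠ q := (Finset.mem_erase.mp hq').1
              have hnle : ¬ q' ≤ q := fun hle => hincl q' hq's q hq hne hle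
              obtain ⟨i, z, h1, h2, h3⟩ := exists_homogeneous_mem_notMem 𝒜 (hs q' hq's).2 q hnle
              exact ⟨i, z, fun _ => ⟨h1, h2, h3⟩⟩
            · exact ⟨0, 0, fun h => absurd h hq'⟩
          choose deg z hz using hz
          set y := w * ∏ q' ∈ s.erase q, z q' with hy
          set e := e₀ + ∑ q' ∈ s.erase q, deg q' with he
          have hprod_mem : (∏ q' ∈ s.erase q, z q') ∈ 𝒜 (∑ q' ∈ s.erase q, deg q') :=
            SetLike.prod_mem_graded _ _ _ fun q' hq' => (hz q' hq').1
          have hye : y ∈ 𝒜 e := SetLike.mul_mem_graded hwe hprod_mem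
          have hepos : 0 < e := Nat.add_pos_left he₀ _
          have hyI : y ∈ I := I.mul_mem_right _ hwI
          have hyq' : ∀ q' ∈ s.erase q, y ∈ q' := by
            intro q' hq'
            apply Ideal.mul_mem_left
            obtain ⟨u, hu⟩ := Finset.dvd_prod_of_mem z hq'
            rw [hu]
            exact q'.mul_mem_right _ (hz q' hq').2.1
          have hyq : y ∉ q := by
            intro hyq
            rcases hqprime.mem_or_mem hyq with h1 | h1
            · exact hwq h1
            · rw [hqprime.prod_mem_iff] at h1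
              obtain ⟨q', hq', hzq⟩ := h1
              exact (hz q' hq').2.2 hzq
          refine ⟨x ^ e + y ^ d, e * d, Nat.mul_pos hepos hd, ?_, ?_, ?_⟩
          · apply Submodule.add_mem
            · have := SetLike.pow_mem_graded e hxd
              rwa [smul_eq_mul] at this
            · have := SetLike.pow_mem_graded d hye
              rwa [smul_eq_mul, mul_comm] at this
          · exact I.add_mem (I.pow_mem_of_mem hxI e hepos) (I.pow_mem_of_mem hyI d hd)
          · intro q' hq'
            by_cases hqq : q' = q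
            · subst hqq
              intro hmem
              have h1 : x ^ e ∈ q' := q'.pow_mem_of_mem hxq e hepos
              have h2 : y ^ d ∈ q' := (Ideal.add_mem_iff_right q' h1).mp hmem
              exact hyq (hqprime.mem_of_pow_mem _ h2)
            · have hq'e : q' ∈ s.erase q := Finset.mem_erase.mpr ⟨hqq, hq'⟩
              intro hmem
              have h1 : y ^ d ∈ q' := q'.pow_mem_of_mem (hyq' q' hq'e) d hd
              have h2 : x ^ e ∈ q' := (Ideal.add_mem_iff_left q' h1).mp hmem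
              exact hx q' hq'e ((hs q' hq').1.mem_of_pow_mem _ h2)

end Graded

end Groth.Agent.H48

namespace Groth.Agent.H48

section GradedModule

variable {R S : Type u} [CommRing R] [CommRing S] [Algebra R S] (𝒜 : ℕ → Submodule R S)
  [GradedAlgebra 𝒜]
variable {M : Type u} [AddCommGroup M] [Module R M] [Module S M] [IsScalarTower R S M]
  (ℳ : ℕ → Submodule R M) [DirectSum.Decomposition ℳ] [SetLike.GradedSMul 𝒜 ℳ]

theorem smul_mem_graded {k e : ℕ} {s : S} {m : M} (hs : s ∈ 𝒜 k) (hm : m ∈ ℳ e) :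
    s • m ∈ ℳ (k + e) :=
  SetLike.GradedSMul.smul_mem hs hm

/-- degree-`d` component of `s • m` for homogeneous `s` of degree `k`. -/
theorem decompose_smul_of_mem {k : ℕ} {s : S} (hs : s ∈ 𝒜 k) (m : M) (d : ℕ) :
    (decompose ℳ (s • m) d : M) = if k ≤ d then s • (decompose ℳ m (d - k) : M) else 0 := by
  induction m using DirectSum.Decomposition.inductionOn ℳ with
  | zero => simp
  | @homogeneous e m =>
    have hsm : s • (m : M) ∈ ℳ (k + e) := smul_mem_graded 𝒜 ℳ hs m.2
    by_cases hkd : k ≤ d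
    · rw [if_pos hkd]
      by_cases hed : k + e = d
      · have : d - k = e := by omega
        rw [this, DirectSum.decompose_of_mem_same ℳ m.2, ← hed,
          DirectSum.decompose_of_mem_same ℳ hsm]
      · have : e ≠ d - k := by omega
        rw [DirectSum.decompose_of_mem_ne ℳ hsm hed, DirectSum.decompose_of_mem_ne ℳ m.2 this,
          smul_zero]
    · rw [if_neg hkd]
      have hed : k + e ≠ d := by omega
      rw [DirectSum.decompose_of_mem_ne ℳ hsm hed]
  | add m m' hm hm' =>
    rw [smul_add, DirectSum.decompose_add, DirectSum.add_apply, Submodule.coe_add, hm, hm']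
    by_cases hkd : k ≤ d
    · simp only [if_pos hkd, DirectSum.decompose_add, DirectSum.add_apply, Submodule.coe_add,
        smul_add]
    · simp only [if_neg hkd, add_zero]

/-- Graded Nakayama: a set of homogeneous elements generating `M` modulo `S₊ M` generates `M`. -/
theorem graded_nakayama (N : Submodule S M)
    (hN : ∀ (a : M), a ∈ N → ∀ d, (decompose ℳ a d : M) ∈ N)
    (h : N ⊔ (HomogeneousIdeal.irrelevant 𝒜).toIdeal • (⊤ : Submodule S M) = ⊤) : N = ⊤ := by
  classical
  have key : ∀ d : ℕ, ∀ m ∈ ℳ d, m ∈ N := by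
    intro d
    induction d using Nat.strong_induction_on with
    | _ d ih =>
      intro m hm
      have hb : ∀ b ∈ (HomogeneousIdeal.irrelevant 𝒜).toIdeal • (⊤ : Submodule S M),
          (decompose ℳ b d : M) ∈ N := by
        intro b hb
        refine Submodule.smul_induction_on hb ?_ ?_
        · intro t ht m' _
          rw [← DirectSum.sum_support_decompose 𝒜 t, Finset.sum_smul, DirectSum.decompose_sum,
            DFinsupp.finsetSum_apply, AddSubmonoidClass.coe_finsetSum]
          refine N.sum_mem fun k hk => ?_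
          rw [decompose_smul_of_mem 𝒜 ℳ (SetLike.coe_mem _)]
          have hk0 : k ≠ 0 := by
            rintro rfl
            have h0 : GradedRing.proj 𝒜 0 t = 0 := (HomogeneousIdeal.mem_irrelevant_iff 𝒜 t).mp ht
            rw [GradedRing.proj_apply] at h0
            rw [DFinsupp.mem_support_toFun] at hk
            exact hk (Subtype.ext h0)
          by_cases hkd : k ≤ d
          · rw [if_pos hkd]
            apply N.smul_mem
            exact ih (d - k) (by omega) _ (SetLike.coe_mem _)
          · rw [if_neg hkd]; exact N.zero_mem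
        · intro b b' hb hb'
          rw [DirectSum.decompose_add, DirectSum.add_apply, Submodule.coe_add]
          exact N.add_mem hb hb'
      have hm' : m ∈ N ⊔ (HomogeneousIdeal.irrelevant 𝒜).toIdeal • (⊤ : Submodule S M) := by
        rw [h]; trivial
      obtain ⟨a, ha, b, hb', hab⟩ := Submodule.mem_sup.mp hm'
      have : m = (decompose ℳ a d : M) + (decompose ℳ b d : M) := by
        rw [← Submodule.coe_add, ← DirectSum.add_apply, ← DirectSum.decompose_add, hab,
          DirectSum.decompose_of_mem_same ℳ hm]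
      rw [this]
      exact N.add_mem (hN a ha d) (hb b hb')
  rw [eq_top_iff]
  intro m _
  rw [← DirectSum.sum_support_decompose ℳ m]
  exact N.sum_mem fun d _ => key d _ (SetLike.coe_mem _)

include 𝒜 in
/-- the span of homogeneous elements is stable under taking homogeneous components -/
theorem decompose_mem_span_of_homogeneous {ι : Type*} [Fintype ι] (x : ι → M)
    (hx : ∀ i, SetLike.IsHomogeneousElem ℳ (x i)) (a : M)
    (ha : a ∈ Submodule.span S (Set.range x)) (d : ℕ) :
    (decompose ℳ a d : M) ∈ Submodule.span S (Set.range x) := by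
  classical
  obtain ⟨c, rfl⟩ := (Submodule.mem_span_range_iff_exists_fun S).mp ha
  rw [DirectSum.decompose_sum, DFinsupp.finsetSum_apply, AddSubmonoidClass.coe_finsetSum]
  refine Submodule.sum_mem _ fun i _ => ?_
  obtain ⟨e, he⟩ := hx i
  rw [← DirectSum.sum_support_decompose 𝒜 (c i), Finset.sum_smul, DirectSum.decompose_sum,
    DFinsupp.finsetSum_apply, AddSubmonoidClass.coe_finsetSum]
  refine Submodule.sum_mem _ fun k _ => ?_
  rw [decompose_smul_of_mem 𝒜 ℳ (SetLike.coe_mem _)]
  by_cases hkd : k ≤ d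
  · rw [if_pos hkd]
    apply Submodule.smul_mem
    by_cases hed : e = d - k
    · rw [← hed, DirectSum.decompose_of_mem_same ℳ he]
      exact Submodule.subset_span ⟨i, rfl⟩
    · rw [DirectSum.decompose_of_mem_ne ℳ he hed]
      exact Submodule.zero_mem _
  · rw [if_neg hkd]; exact Submodule.zero_mem _

end GradedModule

end Groth.Agent.H48

namespace Groth.Agent.H48

section GradedFinite

variable {A S : Type u} [CommRing A] [CommRing S] [Algebra A S] (𝒜 : ℕ → Submodule A S)
  [GradedAlgebra 𝒜]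
variable {M : Type u} [AddCommGroup M] [Module A M] [Module S M] [IsScalarTower A S M]
  (ℳ : ℕ → Submodule A M) [DirectSum.Decomposition ℳ] [SetLike.GradedSMul 𝒜 ℳ]

/-- degree-`d` component of `c • m` for homogeneous `m` of degree `e`. -/
theorem decompose_smul_of_mem_right {e : ℕ} {m : M} (hm : m ∈ ℳ e) (c : S) (d : ℕ) :
    (decompose ℳ (c • m) d : M) = if e ≤ d then (decompose 𝒜 c (d - e) : S) • m else 0 := by
  induction c using DirectSum.Decomposition.inductionOn 𝒜 with
  | zero => simp
  | @homogeneous k c =>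
    have hcm : (c : S) • m ∈ ℳ (k + e) := smul_mem_graded 𝒜 ℳ c.2 hm
    by_cases hed : e ≤ d
    · rw [if_pos hed]
      by_cases hkd : k + e = d
      · have : d - e = k := by omega
        rw [this, DirectSum.decompose_of_mem_same 𝒜 c.2, ← hkd,
          DirectSum.decompose_of_mem_same ℳ hcm]
      · have : k ≠ d - e := by omega
        rw [DirectSum.decompose_of_mem_ne ℳ hcm hkd, DirectSum.decompose_of_mem_ne 𝒜 c.2 this,
          zero_smul]
    · rw [if_neg hed]
      have hkd : k + e ≠ d := by omega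
      rw [DirectSum.decompose_of_mem_ne ℳ hcm hkd]
  | add c c' hc hc' =>
    rw [add_smul, DirectSum.decompose_add, DirectSum.add_apply, Submodule.coe_add, hc, hc']
    by_cases hed : e ≤ d
    · simp only [if_pos hed, DirectSum.decompose_add, DirectSum.add_apply, Submodule.coe_add,
        add_smul]
    · simp only [if_neg hed, add_zero]

/-- The `A`-linear map `S → M`, `s ↦ s • t`. -/
noncomputable def smulRightA (t : M) : S →ₗ[A] M :=
  (LinearMap.toSpanSingleton S M t).restrictScalars A

@[simp] theorem smulRightA_apply (t : M) (s : S) : smulRightA (A := A) t s = s • t := rfl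

/-- the candidate generating submodule of the degree `n` piece -/
noncomputable def pieceSup (T : Finset M) (deg : M → ℕ) (n : ℕ) : Submodule A M :=
  ⨆ t ∈ T.filter (fun t => deg t ≤ n), (𝒜 (n - deg t)).map (smulRightA (A := A) t)

theorem pieceSup_le (T : Finset M) (deg : M → ℕ) (hdeg : ∀ t ∈ T, t ∈ ℳ (deg t)) (n : ℕ) :
    pieceSup 𝒜 T deg n ≤ ℳ n := by
  unfold pieceSup
  refine iSup₂_le fun t ht => ?_
  rw [Finset.mem_filter] at ht
  rintro _ ⟨s, hs, rfl⟩
  have := smul_mem_graded 𝒜 ℳ hs (hdeg t ht.1)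
  rw [Nat.sub_add_cancel ht.2] at this
  exact this

theorem mem_pieceSup (T : Finset M) (deg : M → ℕ) (hdeg : ∀ t ∈ T, t ∈ ℳ (deg t)) (n : ℕ)
    (m : M) (hm : m ∈ ℳ n) (hspan : m ∈ Submodule.span S (T : Set M)) :
    m ∈ pieceSup 𝒜 T deg n := by
  classical
  obtain ⟨f, -, hf⟩ := Submodule.mem_span_finset.mp hspan
  have h1 : m = ∑ t ∈ T, (decompose ℳ (f t • t) n : M) := by
    conv_lhs => rw [← DirectSum.decompose_of_mem_same ℳ hm, ← hf]
    rw [DirectSum.decompose_sum, DFinsupp.finsetSum_apply, AddSubmonoidClass.coe_finsetSum]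
  rw [h1]
  refine Submodule.sum_mem _ fun t ht => ?_
  rw [decompose_smul_of_mem_right 𝒜 ℳ (hdeg t ht)]
  by_cases hle : deg t ≤ n
  · rw [if_pos hle]
    unfold pieceSup
    refine Submodule.mem_iSup_of_mem t (Submodule.mem_iSup_of_mem
      (Finset.mem_filter.mpr ⟨ht, hle⟩) ?_)
    exact ⟨_, SetLike.coe_mem _, rfl⟩
  · rw [if_neg hle]; exact Submodule.zero_mem _

theorem pieceSup_fg (T : Finset M) (deg : M → ℕ) (n : ℕ)
    (h : ∀ t ∈ T, deg t ≤ n → (𝒜 (n - deg t)).FG) : (pieceSup 𝒜 T deg n).FG := by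
  unfold pieceSup
  refine Submodule.fg_biSup _ _ fun t ht => ?_
  rw [Finset.mem_filter] at ht
  exact (h t ht.1 ht.2).map _

/-- homogeneous generators of a finite graded module -/
theorem exists_homogeneous_generators [Module.Finite S M] :
    ∃ T : Finset M, (∀ t ∈ T, SetLike.IsHomogeneousElem ℳ t) ∧ Submodule.span S (T : Set M) = ⊤ := by
  classical
  obtain ⟨T₀, hT₀⟩ := (Module.Finite.fg_top : (⊤ : Submodule S M).FG)
  refine ⟨T₀.biUnion fun t => (decompose ℳ t).support.image fun e => (decompose ℳ t e : M), ?_, ?_⟩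
  · intro t ht
    obtain ⟨t₀, _, ht'⟩ := Finset.mem_biUnion.mp ht
    obtain ⟨e, _, rfl⟩ := Finset.mem_image.mp ht'
    exact ⟨e, SetLike.coe_mem _⟩
  · rw [eq_top_iff, ← hT₀, Submodule.span_le]
    intro t ht
    rw [SetLike.mem_coe, ← DirectSum.sum_support_decompose ℳ t]
    refine Submodule.sum_mem _ fun e he => Submodule.subset_span ?_
    exact Finset.mem_coe.mpr (Finset.mem_biUnion.mpr ⟨t, ht, Finset.mem_image.mpr ⟨e, he, rfl⟩⟩)

end GradedFinite

section GradedFiniteRing

variable {A S : Type u} [CommRing A] [CommRing S] [Algebra A S] (𝒜 : ℕ → Submodule A S)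
  [GradedAlgebra 𝒜]

/-- homogeneous algebra generators of positive degree -/
theorem exists_homogeneous_pos_generators (h0 : ∀ s ∈ 𝒜 0, s ∈ Set.range (algebraMap A S))
    [Algebra.FiniteType A S] :
    ∃ G : Finset S, (∀ g ∈ G, ∃ d, 0 < d ∧ g ∈ 𝒜 d) ∧ Algebra.adjoin A (G : Set S) = ⊤ := by
  classical
  obtain ⟨G₀, hG₀⟩ := (Algebra.FiniteType.out : (⊤ : Subalgebra A S).FG)
  refine ⟨G₀.biUnion fun g => ((decompose 𝒜 g).support.erase 0).image fun e => (decompose 𝒜 g e : S),
    ?_, ?_⟩
  · intro g hg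
    obtain ⟨g₀, _, hg'⟩ := Finset.mem_biUnion.mp hg
    obtain ⟨e, he, rfl⟩ := Finset.mem_image.mp hg'
    exact ⟨e, Nat.pos_of_ne_zero (Finset.mem_erase.mp he).1, SetLike.coe_mem _⟩
  · rw [eq_top_iff, ← hG₀]
    apply Algebra.adjoin_le
    intro g hg
    rw [SetLike.mem_coe, ← DirectSum.sum_support_decompose 𝒜 g]
    refine Subalgebra.sum_mem _ fun e he => ?_
    by_cases he0 : e = 0
    · subst he0
      obtain ⟨a, ha⟩ := h0 _ (SetLike.coe_mem (decompose 𝒜 g 0))
      rw [← ha]
      exact Subalgebra.algebraMap_mem _ a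
    · apply Algebra.subset_adjoin
      exact Finset.mem_coe.mpr (Finset.mem_biUnion.mpr ⟨g, hg, Finset.mem_image.mpr
        ⟨e, Finset.mem_erase.mpr ⟨he0, he⟩, rfl⟩⟩)

theorem pos_piece_le_span (G : Finset S) (hG : ∀ g ∈ G, ∃ d, 0 < d ∧ g ∈ 𝒜 d)
    (hadj : Algebra.adjoin A (G : Set S) = ⊤) (k : ℕ) (hk : 0 < k) (x : S) (hx : x ∈ 𝒜 k) :
    x ∈ Ideal.span (G : Set S) := by
  have hQ : ∀ s : S, ∃ a : A, s - algebraMap A S a ∈ Ideal.span (G : Set S) := by
    intro s
    have hs : s ∈ Algebra.adjoin A (G : Set S) := by rw [hadj]; trivial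
    induction hs using Algebra.adjoin_induction with
    | mem g hg => exact ⟨0, by rw [map_zero, sub_zero]; exact Ideal.subset_span hg⟩
    | algebraMap a => exact ⟨a, by rw [sub_self]; exact Ideal.zero_mem _⟩
    | add s s' _ _ hs hs' =>
      obtain ⟨a, ha⟩ := hs
      obtain ⟨a', ha'⟩ := hs'
      refine ⟨a + a', ?_⟩
      have : s + s' - algebraMap A S (a + a') = (s - algebraMap A S a) + (s' - algebraMap A S a') := by
        rw [map_add]; ring
      rw [this]
      exact Ideal.add_mem _ ha ha'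
    | mul s s' _ _ hs hs' =>
      obtain ⟨a, ha⟩ := hs
      obtain ⟨a', ha'⟩ := hs'
      refine ⟨a * a', ?_⟩
      have : s * s' - algebraMap A S (a * a') =
          (s - algebraMap A S a) * s' + algebraMap A S a * (s' - algebraMap A S a') := by
        rw [map_mul]; ring
      rw [this]
      exact Ideal.add_mem _ (Ideal.mul_mem_right _ _ ha) (Ideal.mul_mem_left _ _ ha')
  obtain ⟨a, ha⟩ := hQ x
  have hhom : (Ideal.span (G : Set S)).IsHomogeneous 𝒜 := by
    apply Ideal.homogeneous_span
    intro g hg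
    obtain ⟨d, _, hd⟩ := hG g (Finset.mem_coe.mp hg)
    exact ⟨d, hd⟩
  have h1 := hhom k ha
  rw [DirectSum.decompose_sub, DirectSum.sub_apply, Submodule.coe_sub,
    DirectSum.decompose_of_mem_same 𝒜 hx,
    DirectSum.decompose_of_mem_ne 𝒜 (SetLike.algebraMap_mem_graded 𝒜 a) hk.ne, sub_zero] at h1
  exact h1

theorem fg_piece (h0 : ∀ s ∈ 𝒜 0, s ∈ Set.range (algebraMap A S))
    [Algebra.FiniteType A S] (k : ℕ) : (𝒜 k).FG := by
  classical
  obtain ⟨G, hG, hadj⟩ := exists_homogeneous_pos_generators 𝒜 h0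
  have hdeg : ∀ g : S, ∃ d : ℕ, g ∈ G → 0 < d ∧ g ∈ 𝒜 d := by
    intro g
    by_cases hg : g ∈ G
    · obtain ⟨d, hd⟩ := hG g hg
      exact ⟨d, fun _ => hd⟩
    · exact ⟨0, fun h => absurd h hg⟩
  choose deg hdeg using hdeg
  induction k using Nat.strong_induction_on with
  | _ k ih =>
    rcases Nat.eq_zero_or_pos k with rfl | hk
    · have : 𝒜 0 = Submodule.span A {(1 : S)} := by
        apply le_antisymm
        · intro s hs
          obtain ⟨a, rfl⟩ := h0 s hs
          rw [Algebra.algebraMap_eq_smul_one]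
          exact Submodule.smul_mem _ _ (Submodule.subset_span rfl)
        · rw [Submodule.span_le, Set.singleton_subset_iff]
          exact SetLike.one_mem_graded 𝒜
      rw [this]
      exact Submodule.fg_span_singleton _
    · have heq : 𝒜 k = pieceSup 𝒜 G deg k := by
        apply le_antisymm
        · intro x hx
          exact mem_pieceSup 𝒜 𝒜 G deg (fun g hg => (hdeg g hg).2) k x hx
            (pos_piece_le_span 𝒜 G hG hadj k hk x hx)
        · exact pieceSup_le 𝒜 𝒜 G deg (fun g hg => (hdeg g hg).2) k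
      rw [heq]
      apply pieceSup_fg
      intro g hg hle
      exact ih (k - deg g) (Nat.sub_lt hk (hdeg g hg).1)

end GradedFiniteRing

section GradedFiniteModule

variable {A S : Type u} [CommRing A] [CommRing S] [Algebra A S] (𝒜 : ℕ → Submodule A S)
  [GradedAlgebra 𝒜]
variable {M : Type u} [AddCommGroup M] [Module A M] [Module S M] [IsScalarTower A S M]
  (ℳ : ℕ → Submodule A M) [DirectSum.Decomposition ℳ] [SetLike.GradedSMul 𝒜 ℳ]

theorem fg_piece_module (h0 : ∀ s ∈ 𝒜 0, s ∈ Set.range (algebraMap A S))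
    [Algebra.FiniteType A S] [Module.Finite S M] (n : ℕ) : (ℳ n).FG := by
  classical
  obtain ⟨T, hT, hspan⟩ := exists_homogeneous_generators (S := S) ℳ
  have hdeg : ∀ t : M, ∃ d : ℕ, t ∈ T → t ∈ ℳ d := by
    intro t
    by_cases ht : t ∈ T
    · obtain ⟨d, hd⟩ := hT t ht
      exact ⟨d, fun _ => hd⟩
    · exact ⟨0, fun h => absurd h ht⟩
  choose deg hdeg using hdeg
  have heq : ℳ n = pieceSup 𝒜 T deg n := by
    apply le_antisymm
    · intro x hx
      exact mem_pieceSup 𝒜 ℳ T deg hdeg n x hx (by rw [hspan]; trivial)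
    · exact pieceSup_le 𝒜 ℳ T deg hdeg n
  rw [heq]
  apply pieceSup_fg
  intro t _ _
  exact fg_piece 𝒜 h0 _

end GradedFiniteModule

end Groth.Agent.H48
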