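import Mathlib

set_option autoImplicit false
set_option linter.unusedSectionVars false
universe u

open DirectSum Polynomial

namespace Groth.Agent.H48

section GradedPoly

variable {S : Type u} [CommRing S] (𝒮 : ℕ → AddSubgroup S) [GradedRing 𝒮]

/-- the ring hom `⨁ 𝒮 i → S[X]`, `(s_i) ↦ ∑ s_i X^i` -/
noncomputable def dsToPoly : (⨁ i, 𝒮 i) →+* S[X] :=
  DirectSum.toSemiring (fun i => (Polynomial.monomial i).toAddMonoidHom.comp (𝒮 i).subtype)
    (by
      show Polynomial.monomial 0 ((1 : S)) = 1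
      rfl)
    (by
      intro i j ai aj
      show Polynomial.monomial (i + j) ((ai : S) * (aj : S)) =
        Polynomial.monomial i (ai : S) * Polynomial.monomial j (aj : S)
      rw [Polynomial.monomial_mul_monomial])

theorem dsToPoly_of (i : ℕ) (a : 𝒮 i) :
    dsToPoly 𝒮 (DirectSum.of (fun i => 𝒮 i) i a) = Polynomial.monomial i (a : S) := by
  unfold dsToPoly
  rw [DirectSum.toSemiring_of]
  rfl

theorem dsToPoly_coeff (x : ⨁ i, 𝒮 i) (j : ℕ) : (dsToPoly 𝒮 x).coeff j = (x j : S) := by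
  classical
  induction x using DirectSum.induction_on with
  | zero => simp
  | of i a =>
    rw [dsToPoly_of, Polynomial.coeff_monomial]
    by_cases hij : i = j
    · subst hij
      rw [if_pos rfl, DirectSum.of_eq_same]
    · rw [if_neg hij, DirectSum.of_eq_of_ne _ _ _ (Ne.symm hij)]
      rfl
  | add x y hx hy =>
    rw [map_add, Polynomial.coeff_add, hx, hy, DirectSum.add_apply, AddSubgroup.coe_add]

/-- the ring hom `S → S[X]`, `s ↦ ∑ s_i X^i` -/
noncomputable def gradedToPoly : S →+* S[X] :=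
  (dsToPoly 𝒮).comp (DirectSum.decomposeRingEquiv 𝒮).toRingHom

theorem gradedToPoly_coeff (s : S) (j : ℕ) :
    (gradedToPoly 𝒮 s).coeff j = (DirectSum.decompose 𝒮 s j : S) :=
  dsToPoly_coeff 𝒮 _ j

end GradedPoly

section Integral

attribute [local instance] Polynomial.algebra

variable {R S : Type u} [CommRing R] [CommRing S] [Algebra R S]
  (ℛ : ℕ → AddSubgroup R) [GradedRing ℛ] (𝒮 : ℕ → AddSubgroup S) [GradedRing 𝒮]

theorem decompose_algebraMap (hmap : ∀ i : ℕ, ∀ r ∈ ℛ i, algebraMap R S r ∈ 𝒮 i) (r : R) (j : ℕ) :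
    (DirectSum.decompose 𝒮 (algebraMap R S r) j : S) =
      algebraMap R S (DirectSum.decompose ℛ r j : R) := by
  classical
  induction r using DirectSum.Decomposition.inductionOn ℛ with
  | zero => simp
  | @homogeneous i r =>
    have h1 : algebraMap R S (r : R) ∈ 𝒮 i := hmap i _ r.2
    by_cases hij : i = j
    · subst hij
      rw [DirectSum.decompose_of_mem_same 𝒮 h1, DirectSum.decompose_of_mem_same ℛ r.2]
    · rw [DirectSum.decompose_of_mem_ne 𝒮 h1 hij, DirectSum.decompose_of_mem_ne ℛ r.2 hij, map_zero]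
  | add r r' hr hr' =>
    rw [map_add, DirectSum.decompose_add, DirectSum.add_apply, AddSubgroup.coe_add, hr, hr',
      DirectSum.decompose_add, DirectSum.add_apply, AddSubgroup.coe_add, map_add]

theorem gradedToPoly_algebraMap (hmap : ∀ i : ℕ, ∀ r ∈ ℛ i, algebraMap R S r ∈ 𝒮 i) (r : R) :
    gradedToPoly 𝒮 (algebraMap R S r) = (gradedToPoly ℛ r).map (algebraMap R S) := by
  ext j
  rw [gradedToPoly_coeff, Polynomial.coeff_map, gradedToPoly_coeff, decompose_algebraMap ℛ 𝒮 hmap]

theorem isIntegral_decompose (hmap : ∀ i : ℕ, ∀ r ∈ ℛ i, algebraMap R S r ∈ 𝒮 i) (s : S)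
    (hs : IsIntegral R s) (i : ℕ) : IsIntegral R ((DirectSum.decompose 𝒮 s i : 𝒮 i) : S) := by
  obtain ⟨P, hP, hPs⟩ := hs
  have hint : IsIntegral R[X] (gradedToPoly 𝒮 s) := by
    refine ⟨P.map (gradedToPoly ℛ), hP.map _, ?_⟩
    rw [Polynomial.eval₂_map]
    have hcomp : (algebraMap R[X] S[X]).comp (gradedToPoly ℛ) =
        (gradedToPoly 𝒮).comp (algebraMap R S) := by
      ext r : 1
      simp only [RingHom.comp_apply]
      rw [gradedToPoly_algebraMap ℛ 𝒮 hmap]
      rfl
    rw [hcomp, ← Polynomial.hom_eval₂, hPs, map_zero]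
  have := IsIntegral.coeff hint i
  rwa [gradedToPoly_coeff] at this

end Integral

end Groth.Agent.H48
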