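import Mathlib
import Groth.Prelude.Def_C1
import Groth.Agent.H8.MeroGen
import Groth.Agent.H54.SecOrdGen
import Groth.Agent.H39.RelRegGeom

/-!
# Zero schemes of sections of invertible modules: the ideal in a chart, and base change (helper48)
-/

set_option autoImplicit false
set_option linter.unusedSectionVars false
set_option linter.style.haveILetI false
universe u

open CategoryTheory CategoryTheory.Limits AlgebraicGeometry IsLocalRing Opposite

namespace Groth.Agent.H48.GysinKer

open Groth.Agent.H8

/-- In a local ring, two generators of the same principal ideal differ by a unit. -/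
theorem exists_isUnit_mul_of_span_eq {R : Type*} [CommRing R] [IsLocalRing R] {a b : R}
    (h : Ideal.span {a} = Ideal.span {b}) : ∃ c : R, IsUnit c ∧ a = c * b := by
  have ha : a ∈ Ideal.span {b} := h ▸ Ideal.subset_span rfl
  have hb : b ∈ Ideal.span {a} := h.symm ▸ Ideal.subset_span rfl
  obtain ⟨c, hc⟩ := Ideal.mem_span_singleton'.mp ha
  obtain ⟨d, hd⟩ := Ideal.mem_span_singleton'.mp hb
  by_cases hcu : IsUnit c
  · exact ⟨c, hcu, hc.symm⟩
  · have hcd : c * d ∈ nonunits R := fun h => hcu (isUnit_of_mul_isUnit_left h)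
    have h1 : IsUnit (1 - c * d) := IsLocalRing.isUnit_one_sub_self_of_mem_nonunits _ hcd
    have h2 : (1 - c * d) * a = 0 := by
      rw [sub_mul, one_mul, mul_assoc, hd, hc, sub_self]
    have ha0 : a = 0 := (h1.mul_right_eq_zero).mp h2
    have hb0 : b = 0 := by rw [← hd, ha0, mul_zero]
    exact ⟨1, isUnit_one, by rw [ha0, hb0, mul_zero]⟩

variable {X D : Scheme.{u}}

/-- The ideal of the zero scheme of `s` at a point, in a chart: it is generated by the
coefficient of `s` on a local free generator. -/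
theorem ker_stalkMap_eq_span (i : D ⟶ X) (L : X.Modules) (s : L.presheaf.obj (op ⊤))
    (hD : Cyc.IsZeroSchemeOf i L s) (d : D) {U : X.Opens} {σ : Γ(L, U)}
    (hσ : IsFreeGen L U σ) (hdU : i d ∈ U) (a : X.presheaf.stalk (i d))
    (ha : L.presheaf.germ ⊤ (i d) trivial s = a • L.presheaf.germ U (i d) hdU σ) :
    RingHom.ker (i.stalkMap d).hom = Ideal.span {a} := by
  obtain ⟨t, f₀, ht, hs, hker⟩ := hD.2 d
  obtain ⟨c, hc⟩ := (hσ.germ_bijective hdU).2 t
  have hc : c • L.presheaf.germ U (i d) hdU σ = t := hc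
  have hmem : L.presheaf.germ U (i d) hdU σ ∈ Submodule.span (X.presheaf.stalk (i d)) {t} := by
    rw [ht]; trivial
  obtain ⟨c', hc'⟩ := Submodule.mem_span_singleton.mp hmem
  have h1 : c' * c = 1 := by
    apply (hσ.germ_bijective hdU).1
    change (c' * c) • L.presheaf.germ U (i d) hdU σ = (1 : X.presheaf.stalk (i d)) • _
    rw [mul_smul, hc, hc', one_smul]
  have h2 : a = f₀ * c := by
    apply (hσ.germ_bijective hdU).1
    change a • L.presheaf.germ U (i d) hdU σ = (f₀ * c) • _
    rw [← ha, hs, mul_smul, hc]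
  have hcu : IsUnit c := IsUnit.of_mul_eq_one c' (by rw [mul_comm]; exact h1)
  rw [hker, h2]
  exact (Ideal.span_singleton_mul_right_unit hcu f₀).symm

section BaseChange

open Groth.Agent.H39.RegImmStalk3 Groth.Agent.H39.RelRegGeom

variable {X X' D : Scheme.{u}} (f : X' ⟶ X) (i : D ⟶ X)

theorem germ_comp_appLE (U : X.Opens) (UT : X'.Opens) (hUT : UT ≤ f ⁻¹ᵁ U) (x' : X')
    (hx' : x' ∈ UT) :
    (X'.presheaf.germ UT x' hx').hom.comp (f.appLE U UT hUT).hom =
      (f.stalkMap x').hom.comp (X.presheaf.germ U (f x') (hUT hx')).hom := by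
  ext a
  simp only [RingHom.comp_apply]
  erw [Scheme.Hom.germ_stalkMap_apply]
  rw [Scheme.Hom.appLE]
  exact TopCat.Presheaf.germ_res_apply X'.presheaf (homOfLE hUT) x' hx' _

/-- Kernel of the stalk map of a base-changed closed immersion, in charts (after helper39). -/
theorem ker_stalkMap_of_isPullback {X Y S T : Scheme.{u}} {f : T ⟶ S} {g : Y ⟶ X} {iX : X ⟶ S}
    {iY : Y ⟶ T} (H : IsPullback g iY iX f) [IsClosedImmersion iX] (y : Y)
    (US : S.Opens) (hUS : IsAffineOpen US) (UT : T.Opens) (hUT : IsAffineOpen UT)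
    (hUST : UT ≤ f ⁻¹ᵁ US) (hy : iY y ∈ UT) :
    RingHom.ker (iY.stalkMap y).hom =
      (RingHom.ker (iX.app US).hom).map
        ((T.presheaf.germ UT (iY y) hy).hom.comp (f.appLE US UT hUST).hom) := by
  haveI : IsClosedImmersion iY :=
    MorphismProperty.of_isPullback (P := @IsClosedImmersion) H inferInstance
  haveI : IsClosedImmersion (iX ∣_ US) := inferInstance
  haveI : IsClosedImmersion (iY ∣_ UT) := inferInstance
  obtain ⟨hUT', hsurj⟩ :=
    isAffineOpen_preimage_and_surjective_of_isClosedImmersion_restrict iY UT hUT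
  rw [ker_stalkMap_eq_of_surjective iY y UT hUT hy hUT' hsurj,
    ker_app_of_isPullback H hUST hUS hUT, Ideal.map_map]

variable [IsClosedImmersion i]

/-- **Base change of a locally principal closed subscheme**: if the ideal of `D` at `g z` is
generated by the germ of `A`, the ideal of `X' ×_X D` at `z` is generated by the germ of the
pullback of `A`. -/
theorem ker_stalkMap_fst_eq_span (z : ↥(pullback f i)) (U : X.Opens) (hU : IsAffineOpen U)
    (hzU : f (pullback.fst f i z) ∈ U) (A : Γ(X, U))
    (hA : ∀ hd : i (pullback.snd f i z) ∈ U,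
      RingHom.ker (i.stalkMap (pullback.snd f i z)).hom =
        Ideal.span {(X.presheaf.germ U _ hd).hom A}) :
    RingHom.ker ((pullback.fst f i).stalkMap z).hom =
      Ideal.span {(X'.presheaf.germ (f ⁻¹ᵁ U) (pullback.fst f i z) hzU).hom ((f.app U).hom A)} := by
  have hpt : i (pullback.snd f i z) = f (pullback.fst f i z) := by
    rw [← Scheme.Hom.comp_apply, ← Scheme.Hom.comp_apply, pullback.condition]
  have hd : i (pullback.snd f i z) ∈ U := by rw [hpt]; exact hzU
  haveI : IsClosedImmersion (i ∣_ U) := inferInstance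
  obtain ⟨hU', hsurj⟩ :=
    isAffineOpen_preimage_and_surjective_of_isClosedImmersion_restrict i U hU
  have h1 := ker_stalkMap_eq_of_surjective i (pullback.snd f i z) U hU hd hU' hsurj
  rw [hA hd] at h1
  have h2 : ∀ (y : X) (hy : y ∈ U), i (pullback.snd f i z) = y →
      Ideal.span {(X.presheaf.germ U y hy).hom A} =
        (RingHom.ker (i.app U).hom).map (X.presheaf.germ U y hy).hom := by
    rintro y hy rfl
    exact h1
  have h3 := h2 _ hzU hpt
  obtain ⟨_, ⟨UT, hUT, rfl⟩, hxUT, hUTU⟩ := X'.isBasis_affineOpens.exists_subset_of_mem_open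
    (show pullback.fst f i z ∈ f ⁻¹ᵁ U from hzU) (f ⁻¹ᵁ U).2
  have H : IsPullback (pullback.snd f i) (pullback.fst f i) i f :=
    (IsPullback.of_hasPullback f i).flip
  have h4 := ker_stalkMap_of_isPullback H z U hU UT hUT hUTU hxUT
  rw [h4, germ_comp_appLE f U UT hUTU _ hxUT, ← Ideal.map_map, ← h3, Ideal.map_span,
    Set.image_singleton]
  congr 2
  exact Scheme.Hom.germ_stalkMap_apply f U _ hzU A

end BaseChange

end Groth.Agent.H48.GysinKer
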