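import Mathlib
import Groth.Prelude.Def_C1

/-!
# Fibre multiplicities of a base-changed closed immersion (helper48)
-/

set_option autoImplicit false
set_option linter.unusedSectionVars false
set_option linter.style.haveILetI false
universe u

open CategoryTheory CategoryTheory.Limits AlgebraicGeometry IsLocalRing Opposite

namespace Groth.Agent.H48.GysinLen

section Alg

theorem length_quot_congr {R : Type*} [CommRing R] {I J : Ideal R} (h : I = J) :
    Module.length R (R ⧸ I) = Module.length R (R ⧸ J) := by
  subst h
  rfl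

/-- for a surjective ring map `φ : A → B` and an ideal `J` of `B`,
`length_B (B/J) = length_A (A / φ⁻¹ J)`. -/
theorem length_quot_comap {A B : Type u} [CommRing A] [CommRing B] (φ : A →+* B)
    (hφ : Function.Surjective φ) (J : Ideal B) :
    Module.length B (B ⧸ J) = Module.length A (A ⧸ J.comap φ) := by
  letI : Algebra A B := φ.toAlgebra
  have h1 : Module.length A (B ⧸ J) = Module.length B (B ⧸ J) :=
    Module.length_eq_of_surjective (S := A) (R := B) (M := B ⧸ J) hφ
  rw [← h1]
  have hs : Function.Surjective (Algebra.ofId A (B ⧸ J)) := by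
    intro q
    obtain ⟨b, rfl⟩ := Ideal.Quotient.mk_surjective q
    obtain ⟨a, rfl⟩ := hφ b
    exact ⟨a, rfl⟩
  let e : (A ⧸ RingHom.ker (Algebra.ofId A (B ⧸ J))) ≃ₐ[A] (B ⧸ J) :=
    Ideal.quotientKerAlgEquivOfSurjective hs
  have hk : RingHom.ker (Algebra.ofId A (B ⧸ J)) = J.comap φ := by
    ext a
    rw [RingHom.mem_ker, Ideal.mem_comap]
    change Ideal.Quotient.mk J (φ a) = 0 ↔ _
    exact Ideal.Quotient.eq_zero_iff_mem
  rw [← e.toLinearEquiv.length_eq]
  exact length_quot_congr hk

/-- a surjective local homomorphism maps the maximal ideal onto the maximal ideal. -/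
theorem map_maximalIdeal_of_surjective {A B : Type*} [CommRing A] [CommRing B] [IsLocalRing A]
    [IsLocalRing B] (φ : A →+* B) [IsLocalHom φ] (hφ : Function.Surjective φ) :
    (maximalIdeal A).map φ = maximalIdeal B := by
  apply le_antisymm
  · rw [Ideal.map_le_iff_le_comap]
    intro a ha
    rw [Ideal.mem_comap, mem_maximalIdeal, mem_nonunits_iff]
    intro hu
    exact ha (isUnit_of_map_unit φ a hu)
  · intro b hb
    obtain ⟨a, rfl⟩ := hφ b
    apply Ideal.mem_map_of_mem
    rw [mem_maximalIdeal, mem_nonunits_iff]
    intro hu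
    exact hb (hu.map φ)

end Alg

section Geom

variable {X X' D : Scheme.{u}}

theorem map_stalkMap_maximalIdeal_congr {Y : Scheme.{u}} (h₁ h₂ : Y ⟶ X) (e : h₁ = h₂) (z : Y) :
    (maximalIdeal (X.presheaf.stalk (h₁ z))).map (h₁.stalkMap z).hom =
      (maximalIdeal (X.presheaf.stalk (h₂ z))).map (h₂.stalkMap z).hom := by
  subst e
  rfl

theorem map_stalkMap_comp {Y Z : Scheme.{u}} (a : Z ⟶ Y) (b : Y ⟶ X) (z : Z) :
    (maximalIdeal (X.presheaf.stalk ((a ≫ b) z))).map ((a ≫ b).stalkMap z).hom =
      ((maximalIdeal (X.presheaf.stalk (b (a z)))).map (b.stalkMap (a z)).hom).map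
        (a.stalkMap z).hom := by
  rw [Ideal.map_map]
  have : (a ≫ b).stalkMap z = b.stalkMap (a z) ≫ a.stalkMap z := Scheme.Hom.stalkMap_comp a b z
  rw [this]
  rfl

variable (f : X' ⟶ X) (i : D ⟶ X) [IsClosedImmersion i]

/-- **Fibre multiplicities agree** for `g : X' ×_X D → D` at `z` and `f : X' → X` at the image
of `z`, provided the ideal of `X' ×_X D` at `z` lies in `𝔪_{f x'} O_{X',x'}`. -/
theorem length_fibre_snd (z : ↥(pullback f i))
    (hker : RingHom.ker ((pullback.fst f i).stalkMap z).hom ≤
      (maximalIdeal (X.presheaf.stalk (f (pullback.fst f i z)))).map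
        (f.stalkMap (pullback.fst f i z)).hom) :
    Module.length ((pullback f i).presheaf.stalk z)
        ((pullback f i).presheaf.stalk z ⧸
          (maximalIdeal (D.presheaf.stalk (pullback.snd f i z))).map
            ((pullback.snd f i).stalkMap z).hom) =
      Module.length (X'.presheaf.stalk (pullback.fst f i z))
        (X'.presheaf.stalk (pullback.fst f i z) ⧸
          (maximalIdeal (X.presheaf.stalk (f (pullback.fst f i z)))).map
            (f.stalkMap (pullback.fst f i z)).hom) := by
  haveI : IsClosedImmersion (pullback.fst f i) :=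
    MorphismProperty.pullback_fst (P := @IsClosedImmersion) f i inferInstance
  have hφ : Function.Surjective ((pullback.fst f i).stalkMap z).hom :=
    (pullback.fst f i).stalkMap_surjective z
  rw [length_quot_comap _ hφ]
  apply length_quot_congr
  have hm : maximalIdeal (D.presheaf.stalk (pullback.snd f i z)) =
      (maximalIdeal (X.presheaf.stalk (i (pullback.snd f i z)))).map
        (i.stalkMap (pullback.snd f i z)).hom :=
    (map_maximalIdeal_of_surjective _ (i.stalkMap_surjective _)).symm
  rw [hm, ← map_stalkMap_comp (pullback.snd f i) i z,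
    ← map_stalkMap_maximalIdeal_congr _ _ pullback.condition z,
    map_stalkMap_comp (pullback.fst f i) f z,
    Ideal.comap_map_of_surjective _ hφ]
  apply le_antisymm
  · exact sup_le le_rfl hker
  · exact le_sup_left

end Geom

end Groth.Agent.H48.GysinLen
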