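import Mathlib
import Groth.Agent.H10.LengthOrd
import Groth.Agent.H48.StalkDict

/-!
# Length of `A/(g)` for a one-dimensional Noetherian local ring, as a sum over minimal primes

`length_A(A/gA) = ∑_{q ≠ 𝔪} ord_{A/q}(g) · length_{A_q}(A_q)` for `g` a nonzerodivisor
(the case `M = A` of `H10.length_quot_eq_length_ker_add_sum`).
-/

set_option autoImplicit false
set_option linter.unusedSectionVars false
set_option linter.style.haveILetI false
universe u

open Pointwise IsLocalRing

namespace Groth.Agent.H48.ZeroSecAlg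

variable {A : Type u} [CommRing A]

theorem smul_top_eq_span (g : A) :
    g • (⊤ : Submodule A A) = (Ideal.span {g} : Submodule A A) := by
  ext y
  rw [Submodule.mem_smul_pointwise_iff_exists]
  constructor
  · rintro ⟨w, -, rfl⟩
    exact Ideal.mem_span_singleton'.mpr ⟨w, by rw [mul_comm]; rfl⟩
  · intro hy
    obtain ⟨c, rfl⟩ := Ideal.mem_span_singleton'.mp hy
    exact ⟨c, Submodule.mem_top, by rw [mul_comm]; rfl⟩

/-- The index set: non-maximal primes. -/
abbrev NSet (A : Type u) [CommRing A] [IsLocalRing A] : Type u :=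
  {q : PrimeSpectrum A // q.asIdeal ≠ maximalIdeal A}

variable [IsLocalRing A] [IsNoetherianRing A]

theorem finite_NSet
    (H2 : ∀ q q' : PrimeSpectrum A, q.asIdeal ≠ maximalIdeal A → q' ≤ q → q' = q) :
    Finite (NSet A) := by
  have hfin := minimalPrimes.finite_of_isNoetherianRing A
  haveI : Finite ↥(minimalPrimes A) := hfin.to_subtype
  let F : NSet A → ↥(minimalPrimes A) := fun q =>
    ⟨q.1.asIdeal, ⟨⟨q.1.isPrime, bot_le⟩, fun J hJ hle => by
      have := H2 q.1 ⟨J, hJ.1⟩ q.2 hle
      rw [← this]⟩⟩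
  refine Finite.of_injective F ?_
  intro q q' hqq'
  apply Subtype.ext
  apply PrimeSpectrum.ext
  exact congrArg Subtype.val hqq'

theorem length_quot_span_eq_finsum (g : A)
    (hg : ∀ y : A, g * y = 0 → y = 0)
    (H1 : ∀ q : PrimeSpectrum A, q.asIdeal ≠ maximalIdeal A → g ∉ q.asIdeal)
    (H2 : ∀ q q' : PrimeSpectrum A, q.asIdeal ≠ maximalIdeal A → q' ≤ q → q' = q) :
    Module.length A (A ⧸ Ideal.span {g}) =
      ∑ᶠ q : NSet A,
        Ring.ord (A ⧸ q.1.asIdeal) (Ideal.Quotient.mk q.1.asIdeal g) *
          Module.length (Localization.AtPrime q.1.asIdeal)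
            (LocalizedModule q.1.asIdeal.primeCompl A) := by
  have hmaxeq : ∀ q : PrimeSpectrum A, maximalIdeal A ≤ q.asIdeal → q.asIdeal = maximalIdeal A :=
    fun q hq => ((maximalIdeal.isMaximal A).eq_of_le q.isPrime.ne_top hq).symm
  have hsd1 : Module.supportDim A A ≤ 1 := by
    rw [Module.supportDim_self_eq_ringKrullDim, ringKrullDim, Order.krullDim_le_one_iff]
    intro q
    by_cases hqm : q.asIdeal = maximalIdeal A
    · right
      intro q' hle
      have hle' : q.asIdeal ≤ q'.asIdeal := hle
      have : q'.asIdeal = maximalIdeal A := hmaxeq q' (hqm ▸ hle')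
      change q'.asIdeal ≤ q.asIdeal
      rw [this, hqm]
    · left
      intro q' hle
      have := H2 q q' hqm hle
      rw [this]
  have hsd0 : Module.supportDim A (A ⧸ g • (⊤ : Submodule A A)) ≤ 0 := by
    rw [Module.supportDim_eq_of_equiv (Submodule.quotEquivOfEq _ _ (smul_top_eq_span g)),
      Module.supportDim_quotient_eq_ringKrullDim, ringKrullDim_quotient]
    haveI : Subsingleton ↥(PrimeSpectrum.zeroLocus ((Ideal.span {g} : Ideal A) : Set A)) := by
      refine ⟨?_⟩
      have key : ∀ q : PrimeSpectrum A, q ∈ PrimeSpectrum.zeroLocus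
          ((Ideal.span {g} : Ideal A) : Set A) → q.asIdeal = maximalIdeal A := by
        intro q hq
        have hq' : Ideal.span {g} ≤ q.asIdeal := hq
        by_contra hne
        exact H1 q hne (hq' (Ideal.mem_span_singleton_self g))
      rintro ⟨q, hq⟩ ⟨q', hq'⟩
      apply Subtype.ext
      apply PrimeSpectrum.ext
      change q.asIdeal = q'.asIdeal
      rw [key q hq, key q' hq']
    exact Order.krullDim_nonpos_of_subsingleton
  have main := Groth.Agent.H10.length_quot_eq_length_ker_add_sum A g hsd1 hsd0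
  have hker : LinearMap.ker (LinearMap.lsmul A A g) = ⊥ := by
    rw [LinearMap.ker_eq_bot']
    intro y hy
    exact hg y hy
  rw [hker, Module.length_bot, zero_add] at main
  rw [← (Submodule.quotEquivOfEq _ _ (smul_top_eq_span g)).length_eq, main,
    ← finsum_subtype_eq_finsum_cond]
  have hiff : ∀ q : PrimeSpectrum A,
      (q ∈ Module.support A A ∧ q.asIdeal ≠ maximalIdeal A) ↔ q.asIdeal ≠ maximalIdeal A := by
    intro q
    constructor
    · exact fun h => h.2
    · intro h
      refine ⟨?_, h⟩
      rw [Module.support_eq_zeroLocus]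
      intro a ha
      have : a = 0 := by
        have := Module.mem_annihilator.mp ha (1 : A)
        simpa using this
      rw [this]
      exact q.asIdeal.zero_mem
  let e : {q : PrimeSpectrum A // q ∈ Module.support A A ∧ q.asIdeal ≠ maximalIdeal A} ≃ NSet A :=
    Equiv.subtypeEquivRight hiff
  exact (finsum_comp_equiv e (f := fun q : NSet A =>
    Ring.ord (A ⧸ q.1.asIdeal) (Ideal.Quotient.mk q.1.asIdeal g) *
          Module.length (Localization.AtPrime q.1.asIdeal)
            (LocalizedModule q.1.asIdeal.primeCompl A))).symm.symm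

theorem length_quot_span_eq_finsum_toNat (g : A)
    (hg : ∀ y : A, g * y = 0 → y = 0)
    (H1 : ∀ q : PrimeSpectrum A, q.asIdeal ≠ maximalIdeal A → g ∉ q.asIdeal)
    (H2 : ∀ q q' : PrimeSpectrum A, q.asIdeal ≠ maximalIdeal A → q' ≤ q → q' = q)
    (hfin : Module.length A (A ⧸ Ideal.span {g}) ≠ ⊤) :
    (Module.length A (A ⧸ Ideal.span {g})).toNat =
      ∑ᶠ q : NSet A,
        (Ring.ord (A ⧸ q.1.asIdeal) (Ideal.Quotient.mk q.1.asIdeal g)).toNat *
          (Module.length (Localization.AtPrime q.1.asIdeal)
            (LocalizedModule q.1.asIdeal.primeCompl A)).toNat := by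
  haveI := finite_NSet (A := A) H2
  have main := length_quot_span_eq_finsum g hg H1 H2
  have hne : (∑ᶠ q : NSet A,
      Ring.ord (A ⧸ q.1.asIdeal) (Ideal.Quotient.mk q.1.asIdeal g) *
        Module.length (Localization.AtPrime q.1.asIdeal)
          (LocalizedModule q.1.asIdeal.primeCompl A)) ≠ ⊤ := by
    rw [← main]; exact hfin
  have hterm := Groth.Agent.H48.StalkDict.forall_ne_top_of_finsum_ne_top _ hne
  rw [main, Groth.Agent.H48.StalkDict.toNat_finsum _ hterm]
  exact finsum_congr fun q => ENat.toNat_mul _ _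

end Groth.Agent.H48.ZeroSecAlg
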