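import Mathlib
import Groth.Prelude.Def_C1
import Groth.Prelude.Def_Pic
import Groth.Agent.H54.C1Indep
import Groth.Agent.H54.DivZero
import Groth.Agent.H48.ZeroSecAlg
import Groth.Agent.H48.FlatDiv

/-!
# `[Z(s)]_k = c_1(L) ∩ [Y]_{k+1}` with the sections induced by `s`
-/

set_option autoImplicit false
set_option linter.unusedSectionVars false
set_option linter.style.haveILetI false
universe u

open CategoryTheory AlgebraicGeometry IsLocalRing Opposite

namespace Groth.Agent.H48.ZeroSecC1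

open Groth.Agent.H8 Groth.Agent.H54.SecOrd Groth.Agent.H54.C1Indep

variable {Y : Scheme.{u}}

/-- the coefficient of `[Z(s)]_k` computed in a chart -/
theorem zeroSectionFun_chart (δ : Y → ℤ) (k : ℤ) (L : Y.Modules)
    (s : L.presheaf.obj (Opposite.op ⊤)) {U : Y.Opens} {σ : Γ(L, U)} (hσ : IsFreeGen L U σ)
    (x : Y) (hxU : x ∈ U) (hx : δ x = k) (g : Y.presheaf.stalk x)
    (hg : (L.presheaf.germ ⊤ x trivial) s = g • L.presheaf.germ U x hxU σ) :
    Cyc.zeroSectionFun δ k L s x =
      ((Module.length (Y.presheaf.stalk x) (Y.presheaf.stalk x ⧸ Ideal.span {g})).toNat : ℤ) := by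
  unfold Cyc.zeroSectionFun
  rw [if_pos hx]
  have hbx := hσ.germ_bijective hxU
  have ht : ∃ t : L.presheaf.stalk x, Submodule.span (Y.presheaf.stalk x) {t} = ⊤ := by
    refine ⟨L.presheaf.germ U x hxU σ, ?_⟩
    rw [eq_top_iff]
    intro m _
    obtain ⟨r, hr⟩ := hbx.2 m
    rw [Submodule.mem_span_singleton]
    exact ⟨r, hr⟩
  rw [dif_pos ht]
  have htspan := Classical.choose_spec ht
  set t := Classical.choose ht with htdef
  obtain ⟨v, hv⟩ := hbx.2 t
  obtain ⟨w, hw⟩ : ∃ w : Y.presheaf.stalk x, w • t = L.presheaf.germ U x hxU σ :=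
    Submodule.mem_span_singleton.mp (htspan ▸ (Submodule.mem_top : _ ∈ ⊤))
  have hv' : v • L.presheaf.germ U x hxU σ = t := hv
  have hwv : w * v = 1 := by
    apply hbx.1
    change (w * v) • L.presheaf.germ U x hxU σ = (1 : Y.presheaf.stalk x) • _
    rw [mul_smul, hv', hw, one_smul]
  have hf : ∃ f : Y.presheaf.stalk x, (L.presheaf.germ ⊤ x trivial) s = f • t :=
    ⟨g * w, by rw [mul_smul, hw, hg]⟩
  rw [dif_pos hf]
  have hfspec := Classical.choose_spec hf
  set f := Classical.choose hf with hfdef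
  have hfg : g = f * v := by
    apply hbx.1
    change g • L.presheaf.germ U x hxU σ = (f * v) • L.presheaf.germ U x hxU σ
    rw [mul_smul, hv', ← hfspec, hg]
  have hvu : IsUnit v := IsUnit.of_mul_eq_one w (by rw [mul_comm]; exact hwv)
  rw [hfg, Ideal.span_singleton_mul_right_unit hvu]

variable (δ : Y → ℤ) (hY : Cyc.IsSetup Y δ) (L : Y.Modules) (hL : PicF.IsInvertible L) (k : ℤ)
  (hdim : ∀ y : Y, δ y ≤ k + 1) (s : L.presheaf.obj (Opposite.op ⊤))
  (hZ : ∀ y : Y, (L.presheaf.germ ⊤ y trivial) s ∈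
    IsLocalRing.maximalIdeal (Y.presheaf.stalk y) •
      (⊤ : Submodule (Y.presheaf.stalk y) (L.presheaf.stalk y)) → δ y ≤ k)
  (hreg : ∀ y : Y, δ y = k →
    Function.Injective (fun a : Y.presheaf.stalk y => a • (L.presheaf.germ ⊤ y trivial) s))

theorem subschemeFun_id (m : ℤ) (ξ : Y) (hξ : δ ξ = m) :
    Cyc.subschemeFun δ m (𝟙 Y) ξ =
      ((Module.length (Y.presheaf.stalk ξ) (Y.presheaf.stalk ξ)).toNat : ℤ) := by
  unfold Cyc.subschemeFun
  rw [if_pos hξ]
  have : {z : Y | (𝟙 Y : Y ⟶ Y) z = ξ} = {ξ} := by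
    ext z
    simp
  rw [this, finsum_mem_singleton]

include hY hL hdim hZ hreg in
theorem main_pos (x : Y) (hx : δ x = k) :
    Cyc.zeroSectionFun δ k L s x =
      Cyc.c1CapFun δ L (Cyc.subschemeFun δ (k + 1) (𝟙 Y))
        (fun ξ => Submodule.Quotient.mk ((L.presheaf.germ ⊤ ξ trivial) s)) x := by
  classical
  haveI : IsLocallyNoetherian Y := hY.1
  have hδ := hY.2.2
  obtain ⟨U, hxU, σ, hσ⟩ := exists_isFreeGen_of_isInvertible hL x
  have hbx := hσ.germ_bijective hxU
  obtain ⟨g, hg0⟩ := hbx.2 ((L.presheaf.germ ⊤ x trivial) s)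
  have hg : (L.presheaf.germ ⊤ x trivial) s = g • L.presheaf.germ U x hxU σ := hg0.symm
  rw [zeroSectionFun_chart δ k L s hσ x hxU hx g hg]
  -- facts about generizations
  have hgen : ∀ ξ : Y, ξ ⤳ x → ξ ≠ x → δ ξ = k + 1 := by
    intro ξ h hne
    have h1 := (hδ ξ x h hne).1
    have h2 := hdim ξ
    omega
  have hgermξ : ∀ (ξ : Y) (h : ξ ⤳ x), (L.presheaf.germ ⊤ ξ trivial) s =
      (Y.presheaf.stalkSpecializes h).hom g •
        L.presheaf.germ U ξ (h.mem_open U.2 hxU) σ := by
    intro ξ h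
    have h1 : (L.presheaf.stalkSpecializes h) ((L.presheaf.germ ⊤ x trivial) s) =
        (L.presheaf.germ ⊤ ξ trivial) s :=
      TopCat.Presheaf.germ_stalkSpecializes_apply _ _ _ _
    have h2 : (L.presheaf.stalkSpecializes h) (L.presheaf.germ U x hxU σ) =
        L.presheaf.germ U ξ (h.mem_open U.2 hxU) σ :=
      TopCat.Presheaf.germ_stalkSpecializes_apply _ _ _ _
    rw [← h1, hg, stalkSpecializes_smul, h2]
  have hunit : ∀ (ξ : Y) (h : ξ ⤳ x), δ ξ = k + 1 →
      (Y.presheaf.stalkSpecializes h).hom g ∉ maximalIdeal (Y.presheaf.stalk ξ) := by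
    intro ξ h hd
    apply not_mem_of_mk_ne_zero L hσ (h.mem_open U.2 hxU) _ _ (hgermξ ξ h)
    intro h0
    rw [Submodule.Quotient.mk_eq_zero] at h0
    have := hZ ξ h0
    omega
  have hspec : ∀ (ξ : Y) (h : ξ ⤳ x), δ ξ = k + 1 → Cyc.specMap x ξ h g ≠ 0 := by
    intro ξ h hd h0
    apply hunit ξ h hd
    have : (Y.residue ξ).hom ((Y.presheaf.stalkSpecializes h).hom g) = 0 := h0
    exact (IsLocalRing.residue_eq_zero_iff _).mp this
  -- the algebra hypotheses
  have hqne : ∀ q : PrimeSpectrum (Y.presheaf.stalk x),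
      q.asIdeal ≠ maximalIdeal (Y.presheaf.stalk x) → Y.fromSpecStalk x q ≠ x :=
    fun q hq h => hq ((StalkDict.fromSpecStalk_eq_iff_closedPoint x q).mp h)
  have H1 : ∀ q : PrimeSpectrum (Y.presheaf.stalk x),
      q.asIdeal ≠ maximalIdeal (Y.presheaf.stalk x) → g ∉ q.asIdeal := by
    intro q hq hmem
    have h' := StalkDict.specializes_fromSpecStalk x q
    have hk := StalkDict.ker_specMap_fromSpecStalk x q
    rw [← hk] at hmem
    exact hspec _ h' (hgen _ h' (hqne q hq)) (RingHom.mem_ker.mp hmem)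
  have H2 : ∀ q q' : PrimeSpectrum (Y.presheaf.stalk x),
      q.asIdeal ≠ maximalIdeal (Y.presheaf.stalk x) → q' ≤ q → q' = q := by
    intro q q' hq hle
    have hq' : q'.asIdeal ≠ maximalIdeal (Y.presheaf.stalk x) := by
      intro h
      apply hq
      have hle' : q'.asIdeal ≤ q.asIdeal := hle
      rw [h] at hle'
      exact ((maximalIdeal.isMaximal _).eq_of_le q.isPrime.ne_top hle').symm
    have hd := hgen _ (StalkDict.specializes_fromSpecStalk x q) (hqne q hq)
    have hd' := hgen _ (StalkDict.specializes_fromSpecStalk x q') (hqne q' hq')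
    have hsp : Y.fromSpecStalk x q' ⤳ Y.fromSpecStalk x q :=
      (StalkDict.fromSpecStalk_specializes_iff x q' q).mpr hle
    by_contra hne
    have hne' : Y.fromSpecStalk x q' ≠ Y.fromSpecStalk x q :=
      fun h => hne (StalkDict.fromSpecStalk_injective x h)
    have := (hδ _ _ hsp hne').1
    omega
  have hnzd : ∀ y : Y.presheaf.stalk x, g * y = 0 → y = 0 := by
    intro y hy
    apply hreg x hx
    change y • (L.presheaf.germ ⊤ x trivial) s = (0 : Y.presheaf.stalk x) • _
    rw [hg, ← mul_smul, mul_comm, hy, zero_smul, zero_smul]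
  haveI hfinN := ZeroSecAlg.finite_NSet (A := Y.presheaf.stalk x) H2
  have hfin : Module.length (Y.presheaf.stalk x) (Y.presheaf.stalk x ⧸ Ideal.span {g}) ≠ ⊤ := by
    apply ne_of_lt
    apply Groth.Agent.H10.length_lt_top_of_support_subset
    intro q hq
    by_contra hne
    rw [Module.support_eq_zeroLocus, Ideal.annihilator_quotient] at hq
    exact H1 q hne (hq (Ideal.mem_span_singleton_self g))
  have key := ZeroSecAlg.length_quot_span_eq_finsum_toNat g hnzd H1 H2 hfin
  rw [key, FlatDiv.natCast_finsum]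
  -- the right hand side
  unfold Cyc.c1CapFun
  let e : ZeroSecAlg.NSet (Y.presheaf.stalk x) → Y := fun q => Y.fromSpecStalk x q.1
  have he : Function.Injective e := by
    intro q q' h
    apply Subtype.ext
    exact StalkDict.fromSpecStalk_injective x h
  have hsupp : Function.support (fun ξ : Y => Cyc.subschemeFun δ (k + 1) (𝟙 Y) ξ *
      Cyc.secDivFun δ L ξ (Submodule.Quotient.mk ((L.presheaf.germ ⊤ ξ trivial) s)) x) ⊆
      Set.range e := by
    intro ξ hξ
    have hne : Cyc.secDivFun δ L ξ (Submodule.Quotient.mk ((L.presheaf.germ ⊤ ξ trivial) s)) x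
        ≠ 0 := right_ne_zero_of_mul hξ
    have hcond : ξ ⤳ x ∧ δ x + 1 = δ ξ := by
      by_contra hcon
      apply hne
      unfold Cyc.secDivFun
      rw [dif_neg hcon]
    obtain ⟨q, hq⟩ := StalkDict.exists_fromSpecStalk_eq x ξ hcond.1
    have hq2 : q.asIdeal ≠ maximalIdeal (Y.presheaf.stalk x) := by
      intro h
      have := (StalkDict.fromSpecStalk_eq_iff_closedPoint x q).mpr h
      rw [hq] at this
      rw [this] at hcond
      omega
    exact ⟨⟨q, hq2⟩, hq⟩
  rw [StalkDict.finsum_eq_finsum_comp_of_support_subset e he _ hsupp]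
  refine finsum_congr fun q => ?_
  have h' := StalkDict.specializes_fromSpecStalk x q.1
  have hk := StalkDict.ker_specMap_fromSpecStalk x q.1
  have hd := hgen _ h' (hqne q.1 q.2)
  have hd' : δ x + 1 = δ (Y.fromSpecStalk x q.1) := by omega
  change _ = Cyc.subschemeFun δ (k + 1) (𝟙 Y) (Y.fromSpecStalk x q.1) *
    Cyc.secDivFun δ L (Y.fromSpecStalk x q.1) _ x
  rw [subschemeFun_id δ (k + 1) _ hd]
  unfold Cyc.secDivFun
  rw [dif_pos ⟨h', hd'⟩,
    secOrdAt_chart L hσ h' hxU _ (hunit _ h' hd) _ (hgermξ _ h')]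
  have hs1 : Cyc.specMap x (Y.fromSpecStalk x q.1) h' 1 ≠ 0 := by
    rw [map_one]; exact one_ne_zero
  have hord : Cyc.ordAt x (Y.fromSpecStalk x q.1) h'
      ((Y.residue (Y.fromSpecStalk x q.1)).hom ((Y.presheaf.stalkSpecializes h').hom g)) =
      ((Ring.ord (Y.presheaf.stalk x ⧸ q.1.asIdeal)
        (Ideal.Quotient.mk q.1.asIdeal g)).toNat : ℤ) := by
    have h1 := StalkDict.ordAt_specMap_div x δ hδ _ h' hd' g 1 (hspec _ h' hd) hs1
    rw [map_one (Cyc.specMap x (Y.fromSpecStalk x q.1) h'), div_one] at h1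
    have h2 : Ring.ord (Cyc.LocQuot x (Y.fromSpecStalk x q.1) h')
        (Ideal.Quotient.mk _ (1 : Y.presheaf.stalk x)) = 0 := by
      rw [map_one]
      exact Ring.ord_one _
    rw [h2] at h1
    rw [FlatDivAlg.ord_quotient_congr _ _ hk] at h1
    rw [ENat.toNat_zero, Nat.cast_zero, sub_zero] at h1
    exact h1
  rw [hord]
  -- the multiplicity
  have hlen : Module.length (Localization.AtPrime q.1.asIdeal)
      (LocalizedModule q.1.asIdeal.primeCompl (Y.presheaf.stalk x)) =
      Module.length (Y.presheaf.stalk (Y.fromSpecStalk x q.1))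
        (Y.presheaf.stalk (Y.fromSpecStalk x q.1)) := by
    rw [← FlatDivAlg.length_localizedModule_congr _ _ hk]
    letI := (Y.presheaf.stalkSpecializes h').hom.toAlgebra
    haveI := StalkLoc.isLocalization_stalkSpecializes x _ h'
    exact FlatDivAlg.length_localizedModule_eq
      (RingHom.ker (Cyc.specMap x (Y.fromSpecStalk x q.1) h')).primeCompl
      (Y.presheaf.stalk (Y.fromSpecStalk x q.1))
      (Algebra.linearMap (Y.presheaf.stalk x) (Y.presheaf.stalk (Y.fromSpecStalk x q.1)))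
  rw [hlen]
  push_cast
  ring

include hY hL hdim hZ hreg in
theorem main :
    Cyc.zeroSectionFun δ k L s =
      Cyc.c1CapFun δ L (Cyc.subschemeFun δ (k + 1) (𝟙 Y))
        (fun ξ => Submodule.Quotient.mk ((L.presheaf.germ ⊤ ξ trivial) s)) := by
  funext x
  by_cases hx : δ x = k
  · exact main_pos δ hY L hL k hdim s hZ hreg x hx
  · have h1 : Cyc.zeroSectionFun δ k L s x = 0 := by
      unfold Cyc.zeroSectionFun
      rw [if_neg hx]
    rw [h1]
    unfold Cyc.c1CapFun
    symm
    apply finsum_eq_zero_of_forall_eq_zero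
    intro ξ
    by_cases hξ : δ ξ = k + 1
    · have : Cyc.secDivFun δ L ξ
          (Submodule.Quotient.mk ((L.presheaf.germ ⊤ ξ trivial) s)) x = 0 := by
        unfold Cyc.secDivFun
        rw [dif_neg]
        rintro ⟨-, h2⟩
        omega
      rw [this, mul_zero]
    · have : Cyc.subschemeFun δ (k + 1) (𝟙 Y) ξ = 0 := by
        unfold Cyc.subschemeFun
        rw [if_neg hξ]
      rw [this, zero_mul]

end Groth.Agent.H48.ZeroSecC1
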