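import Mathlib
import Groth.Agent.H48.GysinKer
import Groth.Agent.H48.GysinLen
import Groth.Agent.H48.FlatC1
import Groth.Agent.H48.ShiftPull2
import Groth.Agent.H63.C1T

/-!
# The Gysin map commutes with flat pullback (helper48)
-/

set_option autoImplicit false
set_option linter.unusedSectionVars false
set_option linter.unusedVariables false
set_option linter.style.haveILetI false
universe u

open CategoryTheory CategoryTheory.Limits AlgebraicGeometry IsLocalRing Opposite Topology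

namespace Groth.Agent.H48.GysinFlat

open Groth.Agent.H54.PB Groth.Agent.H18 Groth.Agent.H8 Groth.Agent.H48.PullStalk
  Groth.Agent.H48.FlatC1 Groth.Agent.H54.C1Indep Groth.Agent.H54.SecOrd Groth.Agent.H54.SecOrdGen
  Groth.Agent.H54.C1Cap Groth.Agent.H63.C1 Groth.Agent.H48.GysinKer Groth.Agent.H48.GysinLen

section Chart

variable {X : Scheme.{u}} {L : X.Modules}

/-- the coefficient of a global section on a local free generator -/
theorem exists_coeff {U : X.Opens} {σ : Γ(L, U)} (hσ : IsFreeGen L U σ)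
    (s : L.presheaf.obj (op ⊤)) :
    ∃ A : Γ(X, U), ∀ (y : X) (hy : y ∈ U),
      L.presheaf.germ ⊤ y trivial s = X.presheaf.germ U y hy A • L.presheaf.germ U y hy σ := by
  obtain ⟨A, hA⟩ := hσ.exists_smul_eq le_rfl (L.presheaf.map (homOfLE le_top).op s)
  refine ⟨A, fun y hy => ?_⟩
  have h1 : L.presheaf.germ ⊤ y trivial s =
      L.presheaf.germ U y hy (L.presheaf.map (homOfLE le_top).op s) :=
    (TopCat.Presheaf.germ_res_apply L.presheaf (homOfLE le_top) y hy s).symm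
  rw [h1, ← hA, Mero.germ_smul]
  congr 1
  exact TopCat.Presheaf.germ_res_apply L.presheaf (homOfLE le_rfl) y hy _

theorem exists_chart (hL : PicF.IsInvertible L) (x : X) :
    ∃ (U : X.Opens) (_ : IsAffineOpen U) (_ : x ∈ U) (σ : Γ(L, U)), IsFreeGen L U σ := by
  obtain ⟨U₀, hxU₀, σ₀, hσ₀⟩ := exists_isFreeGen_of_isInvertible hL x
  obtain ⟨_, ⟨U, hU, rfl⟩, hxU, hUU₀⟩ :=
    X.isBasis_affineOpens.exists_subset_of_mem_open hxU₀ U₀.2
  exact ⟨U, hU, hxU, _, hσ₀.res (show U ≤ U₀ from hUU₀)⟩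

end Chart

section Gysin

variable {X X' D : Scheme.{u}} (f : X' ⟶ X) (i : D ⟶ X) [IsClosedImmersion i]
  (L : X.Modules) (hL : PicF.IsInvertible L) (s : L.presheaf.obj (op ⊤))
  (hD : Cyc.IsZeroSchemeOf i L s)

include hD in
theorem germ_coeff_mem {U : X.Opens} {σ : Γ(L, U)} (hσ : IsFreeGen L U σ) (A : Γ(X, U))
    (hA : ∀ (y : X) (hy : y ∈ U), L.presheaf.germ ⊤ y trivial s =
      X.presheaf.germ U y hy A • L.presheaf.germ U y hy σ)
    (y : X) (hy : y ∈ U) (hyD : y ∈ Set.range i) :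
    X.presheaf.germ U y hy A ∈ maximalIdeal (X.presheaf.stalk y) := by
  rw [hD.1] at hyD
  have h0 : (Submodule.Quotient.mk ((L.presheaf.germ ⊤ y trivial) s) : Cyc.secFibre L y) = 0 :=
    hyD
  rw [hA y hy] at h0
  exact (mk_smul_eq_zero_iff L y _ (hσ.germ_bijective hy) _).mp h0

include hD in
theorem ker_fst_eq (z : ↥(pullback f i)) {U : X.Opens} (hU : IsAffineOpen U)
    (hzU : f (pullback.fst f i z) ∈ U) {σ : Γ(L, U)} (hσ : IsFreeGen L U σ) (A : Γ(X, U))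
    (hA : ∀ (y : X) (hy : y ∈ U), L.presheaf.germ ⊤ y trivial s =
      X.presheaf.germ U y hy A • L.presheaf.germ U y hy σ) :
    RingHom.ker ((pullback.fst f i).stalkMap z).hom =
      Ideal.span {(X'.presheaf.germ (f ⁻¹ᵁ U) (pullback.fst f i z) hzU).hom
        ((f.app U).hom A)} := by
  apply ker_stalkMap_fst_eq_span f i z U hU hzU A
  intro hd
  exact ker_stalkMap_eq_span i L s hD _ hσ hd _ (hA _ hd)

include hD hL in
theorem ker_fst_le (z : ↥(pullback f i)) :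
    RingHom.ker ((pullback.fst f i).stalkMap z).hom ≤
      (maximalIdeal (X.presheaf.stalk (f (pullback.fst f i z)))).map
        (f.stalkMap (pullback.fst f i z)).hom := by
  obtain ⟨U, hU, hzU, σ, hσ⟩ := exists_chart hL (f (pullback.fst f i z))
  obtain ⟨A, hA⟩ := exists_coeff hσ s
  rw [ker_fst_eq f i L s hD z hU hzU hσ A hA, Ideal.span_le, Set.singleton_subset_iff]
  have hpt : i (pullback.snd f i z) = f (pullback.fst f i z) := by
    rw [← Scheme.Hom.comp_apply, ← Scheme.Hom.comp_apply, pullback.condition]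
  have hmem := germ_coeff_mem i L s hD hσ A hA _ hzU ⟨_, hpt⟩
  have h2 := Ideal.mem_map_of_mem (f.stalkMap (pullback.fst f i z)).hom hmem
  erw [Scheme.Hom.germ_stalkMap_apply] at h2
  exact h2

variable (δ' : X' → ℤ) (s' : ((Scheme.Modules.pullback f).obj L).presheaf.obj (op ⊤))
  (hD' : Cyc.IsZeroSchemeOf (pullback.fst f i) ((Scheme.Modules.pullback f).obj L) s')

include hL hD hD' in
/-- At the points of `D' = X' ×_X D`, the divisors of the Gysin sections of `(f^*L, s')` and of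
the pulled back Gysin sections of `(L, s)` agree along closures of points outside `D'`. -/
theorem secDivFun_gysin_eq (w : (ξ : X) → Cyc.secFibre L ξ)
    (w' : (ξ : X') → Cyc.secFibre ((Scheme.Modules.pullback f).obj L) ξ)
    (ξ' : X') (hξ' : ξ' ∉ Set.range (pullback.fst f i)) (z : ↥(pullback f i)) :
    Cyc.secDivFun δ' ((Scheme.Modules.pullback f).obj L) ξ'
        (Cyc.gysinChoice ((Scheme.Modules.pullback f).obj L) s' w' ξ') (pullback.fst f i z) =
      Cyc.secDivFun δ' ((Scheme.Modules.pullback f).obj L) ξ'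
        (pullSec f L (Cyc.gysinChoice L s w) ξ') (pullback.fst f i z) := by
  haveI : IsClosedImmersion (pullback.fst f i) :=
    MorphismProperty.pullback_fst (P := @IsClosedImmersion) f i inferInstance
  set x' := pullback.fst f i z with hx'
  by_cases h : ξ' ⤳ x' ∧ δ' x' + 1 = δ' ξ'
  swap
  · unfold Cyc.secDivFun
    rw [dif_neg h, dif_neg h]
  obtain ⟨U, hU, hzU, σ, hσ⟩ := exists_chart hL (f x')
  obtain ⟨A, hA⟩ := exists_coeff hσ s
  have hσ' := PullStalk.isFreeGen_pullSect f L hσ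
  obtain ⟨B', hB'⟩ := exists_coeff hσ' s'
  have hx'U : x' ∈ f ⁻¹ᵁ U := hzU
  have hξU : ξ' ∈ f ⁻¹ᵁ U := h.1.mem_open (f ⁻¹ᵁ U).2 hx'U
  have hk1 := ker_stalkMap_eq_span (pullback.fst f i) _ s' hD' z hσ' hx'U _ (hB' _ hx'U)
  have hk2 := ker_fst_eq f i L s hD z hU hzU hσ A hA
  obtain ⟨c, hc, hcB⟩ := exists_isUnit_mul_of_span_eq (hk1.symm.trans hk2)
  have hne1 : (Submodule.Quotient.mk
      ((((Scheme.Modules.pullback f).obj L).presheaf.germ ⊤ ξ' trivial) s') :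
      Cyc.secFibre ((Scheme.Modules.pullback f).obj L) ξ') ≠ 0 := by
    intro h0
    apply hξ'
    rw [hD'.1]
    exact h0
  have hu1 : Cyc.gysinChoice ((Scheme.Modules.pullback f).obj L) s' w' ξ' =
      Submodule.Quotient.mk (X'.presheaf.germ (f ⁻¹ᵁ U) ξ' hξU B' •
        ((Scheme.Modules.pullback f).obj L).presheaf.germ (f ⁻¹ᵁ U) ξ' hξU
          (pullSect f L U σ)) := by
    unfold Cyc.gysinChoice
    rw [if_pos hne1, hB' ξ' hξU]
  have ha1 : X'.presheaf.germ (f ⁻¹ᵁ U) ξ' hξU B' ∉ maximalIdeal (X'.presheaf.stalk ξ') :=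
    not_mem_of_mk_ne_zero _ hσ' hξU _ _ (hB' ξ' hξU) hne1
  have hfξ : f ξ' ∉ Set.range i := by
    intro hmem
    apply hξ'
    rw [Scheme.Pullback.range_fst]
    exact hmem
  have hne2 : (Submodule.Quotient.mk ((L.presheaf.germ ⊤ (f ξ') trivial) s) :
      Cyc.secFibre L (f ξ')) ≠ 0 := by
    intro h0
    apply hfξ
    rw [hD.1]
    exact h0
  have hv : Cyc.gysinChoice L s w (f ξ') =
      Submodule.Quotient.mk (X.presheaf.germ U (f ξ') hξU A • L.presheaf.germ U (f ξ') hξU σ) := by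
    unfold Cyc.gysinChoice
    rw [if_pos hne2, hA (f ξ') hξU]
  have hu2 := pullSec_chart f L (Cyc.gysinChoice L s w) ξ' U hξU σ _ hv
  have hst : (f.stalkMap ξ').hom (X.presheaf.germ U (f ξ') hξU A) =
      X'.presheaf.germ (f ⁻¹ᵁ U) ξ' hξU ((f.app U).hom A) :=
    Scheme.Hom.germ_stalkMap_apply f U ξ' hξU A
  have ha2' : X.presheaf.germ U (f ξ') hξU A ∉ maximalIdeal (X.presheaf.stalk (f ξ')) :=
    not_mem_of_mk_ne_zero L hσ hξU _ _ (hA (f ξ') hξU) hne2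
  have ha2 := stalkMap_not_mem f ξ' _ ha2'
  rw [hst] at hu2 ha2
  rw [secDivFun_chart _ δ' hσ' x' hx'U ξ' h.1 _ _ ha1 hu1,
    secDivFun_chart _ δ' hσ' x' hx'U ξ' h.1 _ _ ha2 hu2]
  unfold Cyc.divFun
  rw [dif_pos h, dif_pos h]
  have hsp : ∀ T : Γ(X', f ⁻¹ᵁ U),
      (X'.residue ξ').hom (X'.presheaf.germ (f ⁻¹ᵁ U) ξ' hξU T) =
        Cyc.specMap x' ξ' h.1 (X'.presheaf.germ (f ⁻¹ᵁ U) x' hx'U T) := by
    intro T
    unfold Cyc.specMap
    rw [CommRingCat.hom_comp, RingHom.comp_apply]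
    congr 1
    exact (TopCat.Presheaf.germ_stalkSpecializes_apply X'.presheaf hx'U h.1 T).symm
  rw [hsp, hsp]
  have hcB' : X'.presheaf.germ (f ⁻¹ᵁ U) x' hx'U B' =
      c * X'.presheaf.germ (f ⁻¹ᵁ U) x' hx'U ((f.app U).hom A) := hcB
  rw [hcB', map_mul, ordAt_mul x' ξ' h.1 ?_ ?_, ordAt_specMap_of_isUnit x' ξ' h.1 c hc, zero_add]
  · exact (hc.map (Cyc.specMap x' ξ' h.1)).ne_zero
  · rw [← hsp]
    intro h0
    exact ha2 ((residue_eq_zero_iff ξ' _).mp h0)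

end Gysin

section Sum

variable {X : Scheme.{u}} (δ : X → ℤ) {L : X.Modules} (hL : PicF.IsInvertible L)

include hL in
/-- the divisors of two nonzero rational sections differ by a principal divisor -/
theorem exists_ratio (u₁ u₂ : (ξ : X) → Cyc.secFibre L ξ) (hu₁ : ∀ ξ, u₁ ξ ≠ 0)
    (hu₂ : ∀ ξ, u₂ ξ ≠ 0) :
    ∃ E : (ξ : X) → X.residueField ξ, (∀ ξ, E ξ ≠ 0) ∧ ∀ ξ x,
      Cyc.secDivFun δ L ξ (u₁ ξ) x - Cyc.secDivFun δ L ξ (u₂ ξ) x = Cyc.divFun δ ξ (E ξ) x := by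
  have hex : ∀ ξ, ∃ m₂ : L.presheaf.stalk ξ,
      (Submodule.Quotient.mk m₂ : Cyc.secFibre L ξ) = u₂ ξ :=
    fun ξ => Submodule.Quotient.mk_surjective _ _
  choose m₂ hm₂ using hex
  have hm₂ne : ∀ ξ, (Submodule.Quotient.mk (m₂ ξ) : Cyc.secFibre L ξ) ≠ 0 :=
    fun ξ => (hm₂ ξ).symm ▸ hu₂ ξ
  choose e he hs₁' using fun ξ => exists_unit_smul hL ξ (m₂ ξ) (hm₂ne ξ) (u₁ ξ) (hu₁ ξ)
  refine ⟨fun ξ => X.residue ξ (e ξ), fun ξ h0 => he ξ ((residue_eq_zero_iff ξ _).mp h0),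
    fun ξ x => ?_⟩
  unfold Cyc.secDivFun Cyc.divFun
  split_ifs with h
  · rw [hs₁' ξ, secOrdAt_smul hL h.1 (m₂ ξ) (hm₂ne ξ) (e ξ) (he ξ), hm₂ ξ]
    ring
  · simp

include hL in
/-- **Changing sections away from a closed set `C`**: if two families of sections have the same
divisors at the points of `C` along closures of points outside `C`, the two values of
`c₁(L) ∩ β` differ on `C` by a function rationally equivalent to zero on `C`. -/
theorem exists_ratZeroOn_sub (k : ℤ) (β : AlgebraicCycle X ℤ) (hβ : β ∈ Cyc.Zk X δ (k + 1))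
    (C : Set X) (u₁ u₂ : (ξ : X) → Cyc.secFibre L ξ) (hu₁ : ∀ ξ, u₁ ξ ≠ 0)
    (hu₂ : ∀ ξ, u₂ ξ ≠ 0)
    (hE : ∀ ξ, ξ ∉ C → ∀ x ∈ C,
      Cyc.secDivFun δ L ξ (u₁ ξ) x = Cyc.secDivFun δ L ξ (u₂ ξ) x) :
    ∃ H : X → ℤ, RatZeroOn δ k C H ∧
      ∀ x ∈ C, H x = Cyc.c1CapFun δ L ⇑β u₁ x - Cyc.c1CapFun δ L ⇑β u₂ x := by
  obtain ⟨E, hE0, hEdiv⟩ := exists_ratio δ hL u₁ u₂ hu₁ hu₂
  refine ⟨fun x => ∑ᶠ j : {ξ : X // β ξ ≠ 0 ∧ ξ ∈ C},
    Cyc.divFun δ j.1 ((E j.1) ^ (β j.1)) x, ?_, ?_⟩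
  · refine ⟨{ξ : X // β ξ ≠ 0 ∧ ξ ∈ C}, fun j => j.1, fun j => (E j.1) ^ (β j.1),
      fun j => j.2.2, ?_, fun j => zpow_ne_zero _ (hE0 j.1), ?_, fun x => rfl⟩
    · intro j
      by_contra hne
      exact j.2.1 (hβ j.1 hne)
    · intro x
      obtain ⟨t, ht, hfin⟩ := β.supportLocallyFiniteWithinDomain x (Set.mem_univ x)
      obtain ⟨U, hUt, hU, hxU⟩ := mem_nhds_iff.mp ht
      refine ⟨U, hU, hxU, ?_⟩
      have hsub : {j : {ξ : X // β ξ ≠ 0 ∧ ξ ∈ C} | (closure {j.1} ∩ U).Nonempty} ⊆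
          Subtype.val ⁻¹' (t ∩ Function.support β) := by
        rintro j ⟨y, hy, hyU⟩
        have hsp : j.1 ⤳ y := specializes_iff_mem_closure.mpr hy
        exact ⟨hUt (hsp.mem_open hU hyU), j.2.1⟩
      exact (hfin.preimage Subtype.val_injective.injOn).subset hsub
  · intro x hx
    unfold Cyc.c1CapFun
    have hfin : ∀ (F : X → ℤ), (∀ ξ, ¬ ξ ⤳ x → F ξ = 0) →
        (Function.support fun ξ => β ξ * F ξ).Finite := by
      intro F hF
      refine (finite_gen_support β x).subset ?_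
      intro ξ hξ
      rw [Function.mem_support] at hξ
      refine ⟨fun h0 => hξ (by rw [h0, zero_mul]), ?_⟩
      by_contra hsp
      exact hξ (by rw [hF ξ hsp, mul_zero])
    have hsd : ∀ (s : (ξ : X) → Cyc.secFibre L ξ) (ξ : X), ¬ ξ ⤳ x →
        Cyc.secDivFun δ L ξ (s ξ) x = 0 := by
      intro s ξ hsp
      unfold Cyc.secDivFun
      rw [dif_neg (fun h => hsp h.1)]
    have hf₁ := hfin (fun ξ => Cyc.secDivFun δ L ξ (u₁ ξ) x) (hsd u₁)
    have hf₂ := hfin (fun ξ => Cyc.secDivFun δ L ξ (u₂ ξ) x) (hsd u₂)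
    rw [← finsum_sub_distrib hf₁ hf₂]
    rw [finsum_eq_finsum_subtype
      (fun ξ => β ξ * Cyc.secDivFun δ L ξ (u₁ ξ) x - β ξ * Cyc.secDivFun δ L ξ (u₂ ξ) x)
      (fun ξ => β ξ ≠ 0 ∧ ξ ∈ C)]
    · refine finsum_congr fun j => ?_
      rw [divFun_zpow δ j.1 (hE0 j.1) (β j.1) x, ← hEdiv j.1 x, mul_sub]
    · intro ξ hξ
      by_cases hβ0 : β ξ = 0
      · rw [hβ0, zero_mul, zero_mul, sub_zero]
      · have hξC : ξ ∉ C := fun hC => hξ ⟨hβ0, hC⟩
        rw [hE ξ hξC x hx, sub_self]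

end Sum

section Main

variable {X X' D : Scheme.{u}} (f : X' ⟶ X) (i : D ⟶ X) [IsClosedImmersion i]

/-- flat pullback along `g : X' ×_X D → D` of a function restricted from `X`, in terms of flat
pullback along `f`. -/
theorem pullFun_snd_eq (δ : X → ℤ) (δ' : X' → ℤ) (r : ℤ) (G : X → ℤ) (z : ↥(pullback f i))
    (hker : RingHom.ker ((pullback.fst f i).stalkMap z).hom ≤
      (maximalIdeal (X.presheaf.stalk (f (pullback.fst f i z)))).map
        (f.stalkMap (pullback.fst f i z)).hom) :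
    Cyc.pullFun (pullback.snd f i) (fun z => δ' (pullback.fst f i z)) (fun d => δ (i d)) r
        (fun d => G (i d)) z =
      Cyc.pullFun f δ' δ r G (pullback.fst f i z) := by
  have hpt : i (pullback.snd f i z) = f (pullback.fst f i z) := by
    rw [← Scheme.Hom.comp_apply, ← Scheme.Hom.comp_apply, pullback.condition]
  unfold Cyc.pullFun
  beta_reduce
  rw [hpt, length_fibre_snd f i z hker]

variable [Flat f] [LocallyOfFiniteType f]

/-- **The Gysin map commutes with flat pullback.** -/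
theorem main (δ : X → ℤ) (δ' : X' → ℤ) (hX : Cyc.IsSetup X δ) (hX' : Cyc.IsSetup X' δ')
    (r : ℕ) (hr : Cyc.HasRelDim f r) (hδ : Cyc.DeltaCompat f δ' δ) (L : X.Modules)
    (hL : PicF.IsInvertible L) (s : L.presheaf.obj (op ⊤)) (hD : Cyc.IsZeroSchemeOf i L s)
    (s' : ((Scheme.Modules.pullback f).obj L).presheaf.obj (op ⊤))
    (hD' : Cyc.IsZeroSchemeOf (pullback.fst f i) ((Scheme.Modules.pullback f).obj L) s')
    (k : ℤ) (α : AlgebraicCycle X ℤ) (hα : α ∈ Cyc.Zk X δ (k + 1))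
    (w : (ξ : X) → Cyc.secFibre L ξ) (hw : ∀ ξ, w ξ ≠ 0)
    (w' : (ξ : X') → Cyc.secFibre ((Scheme.Modules.pullback f).obj L) ξ) (hw' : ∀ ξ, w' ξ ≠ 0)
    (ζ₁ ζ₂ : AlgebraicCycle (pullback f i) ℤ)
    (h₁ : ∀ z, ζ₁ z = Cyc.c1CapFun δ' ((Scheme.Modules.pullback f).obj L)
      (Cyc.pullFun f δ' δ r ⇑α) (Cyc.gysinChoice ((Scheme.Modules.pullback f).obj L) s' w')
      (pullback.fst f i z))
    (h₂ : ⇑ζ₂ = Cyc.pullFun (pullback.snd f i) (fun z => δ' (pullback.fst f i z))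
      (fun d => δ (i d)) r
      (fun d => Cyc.c1CapFun δ L ⇑α (Cyc.gysinChoice L s w) (i d))) :
    Cyc.RatEquiv (fun z => δ' (pullback.fst f i z)) (k + r) ζ₁ ζ₂ := by
  obtain ⟨hN, -, hδX⟩ := hX
  obtain ⟨hN', -, hδX'⟩ := hX'
  haveI := hN
  haveI := hN'
  haveI : IsClosedImmersion (pullback.fst f i) :=
    MorphismProperty.pullback_fst (P := @IsClosedImmersion) f i inferInstance
  have hc : ∀ x' : X', (∀ y, f y = f x' → y ⤳ x' → y = x') → δ' x' = δ (f x') + (r : ℤ) :=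
    fun x' hmax => Groth.Agent.H48.ShiftPull2.shift_of_hasRelDim f δ' δ hδX' hδ r hr x' hmax
  obtain ⟨β, hβ⟩ := exists_cycle_pullFun f δ δ' hδX' (r : ℤ) hc α
  have hβk : β ∈ Cyc.Zk X' δ' (k + r + 1) := by
    intro x' hx'
    rw [hβ]
    unfold Cyc.pullFun
    split_ifs with h1
    · rw [hα (f x') (by omega), zero_mul]
    · rfl
  have hL' := Groth.Agent.H54.FiniteLocalPic.isInvertible_pullback f hL
  have hv := gysinChoice_ne_zero L s w hw
  have hu₁ := gysinChoice_ne_zero ((Scheme.Modules.pullback f).obj L) s' w' hw'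
  have hu₂ := pullSec_ne_zero f L hL _ hv
  have h₂' : ∀ z, ζ₂ z = Cyc.c1CapFun δ' ((Scheme.Modules.pullback f).obj L) ⇑β
      (pullSec f L (Cyc.gysinChoice L s w)) (pullback.fst f i z) := by
    intro z
    rw [h₂, pullFun_snd_eq f i δ δ' r _ z (ker_fst_le f i L hL s hD z), hβ]
    exact pullFun_c1CapFun f L δ δ' hδX hδX' (r : ℤ) hc hL α _ hv _
  obtain ⟨H, hH, hHeq⟩ := exists_ratZeroOn_sub δ' hL' (k + r) β hβk
    (Set.range (pullback.fst f i)) _ _ hu₁ hu₂ (by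
      rintro ξ' hξ' _ ⟨z, rfl⟩
      exact secDivFun_gysin_eq f i L hL s hD δ' s' hD' w w' ξ' hξ' z)
  have hpull := ratZeroOn_pull (pullback.fst f i) δ' (k + r) H hH
  unfold Cyc.RatEquiv
  refine ratEquivZero_of_ratZeroOn (ζ₁ - ζ₂) (hpull.congr fun z => ?_)
  have hcoe : (ζ₁ - ζ₂) z = ζ₁ z - ζ₂ z := rfl
  rw [hcoe, h₁ z, h₂' z, hHeq _ ⟨z, rfl⟩, hβ]

end Main

end Groth.Agent.H48.GysinFlat
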