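import Mathlib
import Groth.Prelude.Def_Cyc
import Groth.Prelude.Def_Bivar
import Groth.Agent.H48.DimDrop
import Groth.Agent.H48.NormPush3
import Groth.Agent.H48.EnvelopeKer
import Groth.Agent.H48.DivLocFin

/-!
# Proper pushforward preserves rational equivalence
-/

set_option autoImplicit false
set_option linter.unusedSectionVars false
set_option linter.style.haveILetI false
universe u

open AlgebraicGeometry CategoryTheory CategoryTheory.Limits TopologicalSpace Opposite Topology

namespace Groth.Agent.H48.ProperPushRat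

section Top

variable {α : Type*} [TopologicalSpace α] {I : Type*}

/-- A locally finite family of sets meets a compact set in finitely many members. -/
theorem finite_meet_of_isCompact (C : I → Set α)
    (hlf : ∀ x : α, ∃ U : Set α, IsOpen U ∧ x ∈ U ∧ {i | (C i ∩ U).Nonempty}.Finite)
    (K : Set α) (hK : IsCompact K) : {i | (C i ∩ K).Nonempty}.Finite := by
  choose U hUo hxU hfin using hlf
  obtain ⟨F, hF⟩ := hK.elim_nhds_subcover U (fun x _ => (hUo x).mem_nhds (hxU x))
  have hfin' : (⋃ x ∈ F, {i | (C i ∩ U x).Nonempty}).Finite :=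
    F.finite_toSet.biUnion fun x _ => hfin x
  refine hfin'.subset ?_
  rintro i ⟨z, hzC, hzK⟩
  obtain ⟨x, hxF, hzx⟩ := Set.mem_iUnion₂.mp (hF.2 hzK)
  exact Set.mem_biUnion hxF ⟨z, hzC, hzx⟩

end Top

section Norm

variable {X Y : Scheme.{u}} (p : X ⟶ Y)

theorem normGen_ne_zero (x : X) (t : X.residueField x) (ht : t ≠ 0) : Cyc.normGen p x t ≠ 0 := by
  unfold Cyc.normGen
  letI := (p.residueFieldMap x).hom.toAlgebra
  by_cases hfin : Module.Finite (Y.residueField (p x)) (X.residueField x)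
  · exact Algebra.norm_ne_zero_iff.mpr ht
  · rw [Algebra.norm_eq_one_of_not_module_finite hfin]
    exact one_ne_zero

end Norm

section Main

variable {X Y : Scheme.{u}} (p : X ⟶ Y) [IsProper p] (δX : X → ℤ) (δY : Y → ℤ)

/-- The image family of a locally finite family of irreducible closed sets under a proper
morphism is locally finite. -/
theorem locallyFinite_image {I : Type u} (ξ : I → X)
    (hlf : ∀ x : X, ∃ U : Set X, IsOpen U ∧ x ∈ U ∧ {i | (closure {ξ i} ∩ U).Nonempty}.Finite)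
    (y : Y) : ∃ U : Set Y, IsOpen U ∧ y ∈ U ∧ {i | (closure {p (ξ i)} ∩ U).Nonempty}.Finite := by
  obtain ⟨V, hV, hyV, -⟩ := exists_isAffineOpen_mem_and_subset (x := y) (U := ⊤) trivial
  refine ⟨V, V.2, hyV, ?_⟩
  have hK : IsCompact ((p : X → Y) ⁻¹' (V : Set Y)) :=
    QuasiCompact.isCompact_preimage _ V.2 hV.isCompact
  refine (finite_meet_of_isCompact (fun i => closure {ξ i}) hlf _ hK).subset ?_
  rintro i ⟨y', hy'1, hy'2⟩
  have hsp : p (ξ i) ⤳ y' := specializes_iff_mem_closure.mpr hy'1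
  obtain ⟨x', hx'1, hx'2⟩ := p.isClosedMap.specializingMap hsp
  exact ⟨x', specializes_iff_mem_closure.mp hx'1, by rw [Set.mem_preimage, hx'2]; exact hy'2⟩

/-- **Proper pushforward preserves rational equivalence to zero.** -/
theorem ratEquivZero_map (hX : Cyc.IsSetup X δX) (hY : Cyc.IsSetup Y δY)
    (hδ : Cyc.DeltaCompat p δX δY) (k : ℤ) (γ : AlgebraicCycle X ℤ)
    (h : Cyc.RatEquivZero δX k γ) : Cyc.RatEquivZero δY k (AlgebraicCycle.map p δX δY γ) := by
  classical
  haveI : IsLocallyNoetherian X := hX.1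
  haveI : IsLocallyNoetherian Y := hY.1
  have hdX : Cyc.IsDimFun X δX := hX.2.2
  have hdY : Cyc.IsDimFun Y δY := hY.2.2
  obtain ⟨ι, ξ, f, hξ, hf, hlf, hsum⟩ := h
  refine ⟨{i : ι // δY (p (ξ i)) = k + 1}, fun i => p (ξ i.1),
    fun i => Cyc.normGen p (ξ i.1) (f i.1), fun i => i.2,
    fun i => normGen_ne_zero p _ _ (hf i.1), ?_, ?_⟩
  · intro y
    obtain ⟨U, hU, hyU, hfin⟩ := locallyFinite_image p ξ hlf y
    refine ⟨U, hU, hyU, ?_⟩
    exact (hfin.preimage (Subtype.val_injective.injOn)).subset fun i hi => hi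
  · intro y
    simp only [AlgebraicCycle.map, Function.locallyFinsupp.map_apply]
    have hcompact : IsCompact ((p : X → Y) ⁻¹' {y}) := Scheme.Hom.isCompact_preimage_singleton p y
    have hS : (((p : X → Y) ⁻¹' {y}) ∩
        ⋃ i, Function.support (Cyc.divFun δX (ξ i) (f i))).Finite :=
      Groth.Agent.H48.DivLocFin.finite_inter_of_isCompact hcompact fun z _ =>
        Groth.Agent.H48.DivLocFin.iUnion_support_divFun_locallyFinite δX hdX ξ f hf hlf z
    have hI : {i | ∃ x ∈ (p : X → Y) ⁻¹' {y}, Cyc.divFun δX (ξ i) (f i) x ≠ 0}.Finite := by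
      refine (finite_meet_of_isCompact (fun i => closure {ξ i}) hlf _ hcompact).subset ?_
      rintro i ⟨x, hx, hne⟩
      refine ⟨x, ?_, hx⟩
      have hcond : ξ i ⤳ x ∧ δX x + 1 = δX (ξ i) := by
        by_contra hc
        apply hne
        unfold Cyc.divFun
        rw [dif_neg hc]
      exact specializes_iff_mem_closure.mp hcond.1
    have key := Groth.Agent.H48.EnvelopeKer.finsum_mem_finsum_mul_comm
      (fun i x => Cyc.divFun δX (ξ i) (f i) x)
      (fun x => ((AlgebraicCycle.mapCoeff p δX δY x : ℕ) : ℤ)) ((p : X → Y) ⁻¹' {y}) hS hI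
    have h1 : ∑ᶠ x ∈ (p : X → Y) ⁻¹' {y}, γ x * ((AlgebraicCycle.mapCoeff p δX δY x : ℕ) : ℤ) =
        ∑ᶠ x ∈ (p : X → Y) ⁻¹' {y}, (∑ᶠ i, Cyc.divFun δX (ξ i) (f i) x) *
          ((AlgebraicCycle.mapCoeff p δX δY x : ℕ) : ℤ) :=
      finsum_mem_congr rfl fun x _ => by rw [hsum x]
    refine (h1.trans key).trans ?_
    rw [finsum_subtype_eq_finsum_cond (fun i : ι => δY (p (ξ i)) = k + 1)
      (f := fun i : ι => Cyc.divFun δY (p (ξ i)) (Cyc.normGen p (ξ i) (f i)) y)]
    refine finsum_congr fun i => ?_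
    rw [finsum_eq_if]
    by_cases hP : δY (p (ξ i)) = k + 1
    · rw [if_pos hP]
      exact Groth.Agent.H48.NormPush.finsum_divFun_eq_general p δX δY hdX hdY hδ (ξ i)
        (by rw [hξ, hP]) (f i) (hf i) y
    · rw [if_neg hP]
      exact Groth.Agent.H48.DimDrop.finsum_divFun_eq_zero p δX δY hδ hdX hdY (ξ i)
        (by rw [hξ]; exact fun h => hP h.symm) (f i) (hf i) y

/-- **Proper pushforward preserves rational equivalence.** -/
theorem ratEquiv_map (hX : Cyc.IsSetup X δX) (hY : Cyc.IsSetup Y δY)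
    (hδ : Cyc.DeltaCompat p δX δY) (k : ℤ) (α β : AlgebraicCycle X ℤ)
    (h : Cyc.RatEquiv δX k α β) :
    Cyc.RatEquiv δY k (AlgebraicCycle.map p δX δY α) (AlgebraicCycle.map p δX δY β) := by
  unfold Cyc.RatEquiv at h ⊢
  have h1 := ratEquivZero_map p δX δY hX hY hδ k (α - β) h
  have h2 : AlgebraicCycle.map p δX δY (α - β) =
      AlgebraicCycle.map p δX δY α - AlgebraicCycle.map p δX δY β := by
    have hadd := Bivar.cycMap_add p δX δY (α - β) β
    rw [sub_add_cancel] at hadd
    rw [hadd, add_sub_cancel_right]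
  rw [← h2]
  exact h1

end Main

end Groth.Agent.H48.ProperPushRat
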