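import Mathlib
import Groth.Agent.H48.FlatC1
import Groth.Agent.H48.ProperPushRat
import Groth.Agent.H48.CurveDegMain

/-!
# The projection formula for `c_1`: `p_*(c_1(p^*L) ∩ α) ∼ c_1(L) ∩ p_*α`
-/

set_option autoImplicit false
set_option linter.unusedSectionVars false
set_option linter.style.haveILetI false
universe u

open CategoryTheory AlgebraicGeometry IsLocalRing Opposite Topology

namespace Groth.Agent.H48.ProjFormula

open Groth.Agent.H54.PB Groth.Agent.H18 Groth.Agent.H8 Groth.Agent.H48.PullStalk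
  Groth.Agent.H48.FlatC1 Groth.Agent.H54.C1Indep

section Cycle

variable {Z : Scheme.{u}} [IsLocallyNoetherian Z] (δ : Z → ℤ) (hδ : Cyc.IsDimFun Z δ)

include hδ in
/-- `c_1(M) ∩ α`, computed with nonzero rational sections, is a cycle -/
theorem exists_cycle_c1CapFun (M : Z.Modules) (hM : PicF.IsInvertible M)
    (α : AlgebraicCycle Z ℤ) (u : (ξ : Z) → Cyc.secFibre M ξ) (hu : ∀ ξ, u ξ ≠ 0) :
    ∃ γ : AlgebraicCycle Z ℤ, ⇑γ = Cyc.c1CapFun δ M ⇑α u := by
  have hsupp : ∀ z ∈ (Set.univ : Set Z),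
      ∃ t ∈ 𝓝 z, (t ∩ Function.support (Cyc.c1CapFun δ M ⇑α u)).Finite := by
    intro z _
    obtain ⟨U, hzU, σ, hσ⟩ := exists_isFreeGen_of_isInvertible hM z
    have key : ∀ i : {ξ : Z // α ξ ≠ 0}, ∃ g : Z.residueField i.1, g ≠ 0 ∧
        ∀ x ∈ U, i.1 ⤳ x → Cyc.secDivFun δ M i.1 (u i.1) x = Cyc.divFun δ i.1 g x := by
      intro i
      by_cases hi : i.1 ∈ U
      · obtain ⟨a, ha, hua⟩ := exists_unit_chart M hσ i.1 hi (u i.1) (hu i.1)
        refine ⟨(Z.residue i.1).hom a, ?_, ?_⟩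
        · intro h0
          exact ha ((IsLocalRing.residue_eq_zero_iff _).mp h0)
        · intro x hx hsp
          exact secDivFun_chart M δ hσ x hx i.1 hsp (u i.1) a ha hua
      · refine ⟨1, one_ne_zero, ?_⟩
        intro x hx hsp
        exact absurd (hsp.mem_open U.2 hx) hi
    choose g hg0 hg using key
    obtain ⟨t, ht, hfin⟩ := DivLocFin.iUnion_support_divFun_locallyFinite δ hδ
      (fun i : {ξ : Z // α ξ ≠ 0} => i.1) g hg0 (locallyFinite_support α) z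
    refine ⟨t ∩ U, Filter.inter_mem ht (U.2.mem_nhds hzU), hfin.subset ?_⟩
    rintro x ⟨⟨hxt, hxU⟩, hx⟩
    refine ⟨hxt, ?_⟩
    have hx' : Cyc.c1CapFun δ M ⇑α u x ≠ 0 := hx
    unfold Cyc.c1CapFun at hx'
    obtain ⟨ξ, hξ⟩ : ∃ ξ, α ξ * Cyc.secDivFun δ M ξ (u ξ) x ≠ 0 := by
      by_contra hcon
      push Not at hcon
      exact hx' (finsum_eq_zero_of_forall_eq_zero hcon)
    have hα : α ξ ≠ 0 := left_ne_zero_of_mul hξ
    have hS : Cyc.secDivFun δ M ξ (u ξ) x ≠ 0 := right_ne_zero_of_mul hξ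
    have hsp : ξ ⤳ x := by
      by_contra hcon
      apply hS
      unfold Cyc.secDivFun
      rw [dif_neg (fun h => hcon h.1)]
    rw [Set.mem_iUnion]
    refine ⟨⟨ξ, hα⟩, ?_⟩
    rw [Function.mem_support, ← hg ⟨ξ, hα⟩ x hxU hsp]
    exact hS
  exact ⟨⟨Cyc.c1CapFun δ M ⇑α u, fun _ _ => Set.mem_univ _, hsupp⟩, rfl⟩

end Cycle

section Main

variable {X Y : Scheme.{u}} (p : X ⟶ Y) [IsProper p] (δX : X → ℤ) (δY : Y → ℤ)

/-- the points of the support of `α` whose image specializes to `y` -/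
theorem finite_support_over [IsLocallyNoetherian X] (α : AlgebraicCycle X ℤ) (y : Y) :
    {ξ : X | α ξ ≠ 0 ∧ p ξ ⤳ y}.Finite := by
  have hcompact : IsCompact ((p : X → Y) ⁻¹' {y}) := Scheme.Hom.isCompact_preimage_singleton p y
  have h1 := ProperPushRat.finite_meet_of_isCompact
    (fun i : {ξ : X // α ξ ≠ 0} => closure {i.1}) (locallyFinite_support α) _ hcompact
  refine (h1.image Subtype.val).subset ?_
  rintro ξ ⟨hα, hsp⟩
  obtain ⟨x, hx1, hx2⟩ := p.isClosedMap.specializingMap hsp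
  exact ⟨⟨ξ, hα⟩, ⟨x, specializes_iff_mem_closure.mp hx1, hx2⟩, rfl⟩

/-- **The projection formula for `c_1`**, exact form with pulled-back sections. -/
theorem map_c1CapFun_pullSec (hX : Cyc.IsSetup X δX) (hY : Cyc.IsSetup Y δY)
    (hδ : Cyc.DeltaCompat p δX δY) (L : Y.Modules) (hL : PicF.IsInvertible L)
    (α : AlgebraicCycle X ℤ) (v : (η : Y) → Cyc.secFibre L η) (hv : ∀ η, v η ≠ 0)
    (γ₀ : AlgebraicCycle X ℤ)
    (hγ₀ : ⇑γ₀ = Cyc.c1CapFun δX ((Scheme.Modules.pullback p).obj L) ⇑α (pullSec p L v))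
    (y : Y) :
    (AlgebraicCycle.map p δX δY γ₀) y =
      Cyc.c1CapFun δY L ⇑(AlgebraicCycle.map p δX δY α) v y := by
  classical
  haveI : IsLocallyNoetherian X := hX.1
  haveI : IsLocallyNoetherian Y := hY.1
  have hdX : Cyc.IsDimFun X δX := hX.2.2
  have hdY : Cyc.IsDimFun Y δY := hY.2.2
  obtain ⟨U, hyU, σ, hσ⟩ := exists_isFreeGen_of_isInvertible hL y
  -- the chart coefficients
  have hex : ∀ η : Y, ∃ a : Y.presheaf.stalk η, a ∉ maximalIdeal (Y.presheaf.stalk η) ∧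
      ∀ hη : η ∈ U, v η = Submodule.Quotient.mk (a • L.presheaf.germ U η hη σ) := by
    intro η
    by_cases hη : η ∈ U
    · obtain ⟨a, ha, hva⟩ := exists_unit_chart L hσ η hη (v η) (hv η)
      exact ⟨a, ha, fun _ => hva⟩
    · refine ⟨1, ?_, fun h => absurd h hη⟩
      rw [mem_maximalIdeal, mem_nonunits_iff, not_not]
      exact isUnit_one
  choose a ha hva using hex
  set b : (η : Y) → Y.residueField η := fun η => (Y.residue η).hom (a η) with hb
  have hb0 : ∀ η, b η ≠ 0 := by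
    intro η h0
    exact ha η ((IsLocalRing.residue_eq_zero_iff _).mp h0)
  set G : (ξ : X) → X.residueField ξ := fun ξ => (p.residueFieldMap ξ).hom (b (p ξ)) with hG
  have hG0 : ∀ ξ, G ξ ≠ 0 := by
    intro ξ
    simp only [hG]
    rw [Ne, map_eq_zero]
    exact hb0 _
  -- the divisors in the chart
  have hD : ∀ η : Y, Cyc.secDivFun δY L η (v η) y = Cyc.divFun δY η (b η) y := by
    intro η
    by_cases hη : η ⤳ y
    · exact secDivFun_chart L δY hσ y hyU η hη (v η) (a η) (ha η) (hva η _)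
    · unfold Cyc.secDivFun Cyc.divFun
      rw [dif_neg (fun h => hη h.1), dif_neg (fun h => hη h.1)]
  have hUp : ∀ x : X, p x = y → ∀ ξ : X,
      Cyc.secDivFun δX ((Scheme.Modules.pullback p).obj L) ξ (pullSec p L v ξ) x =
        Cyc.divFun δX ξ (G ξ) x := by
    intro x hx ξ
    by_cases hξ : ξ ⤳ x
    · have hxU : x ∈ p ⁻¹ᵁ U := by
        change p x ∈ U
        rw [hx]; exact hyU
      have hξU : p ξ ∈ U := hξ.mem_open (p ⁻¹ᵁ U).2 hxU
      rw [secDivFun_chart ((Scheme.Modules.pullback p).obj L) δX (isFreeGen_pullSect p L hσ) x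
        hxU ξ hξ (pullSec p L v ξ) ((p.stalkMap ξ).hom (a (p ξ)))
        (stalkMap_not_mem p ξ _ (ha (p ξ)))
        (pullSec_chart p L v ξ U hξU σ (a (p ξ)) (hva (p ξ) hξU))]
      congr 1
    · unfold Cyc.secDivFun Cyc.divFun
      rw [dif_neg (fun h => hξ h.1), dif_neg (fun h => hξ h.1)]
  have hfinξ := finite_support_over p α y
  have hcompact : IsCompact ((p : X → Y) ⁻¹' {y}) := Scheme.Hom.isCompact_preimage_singleton p y
  -- the left hand side
  have hdivsp : ∀ (ξ x : X) (g : X.residueField ξ), Cyc.divFun δX ξ g x ≠ 0 → ξ ⤳ x := by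
    intro ξ x g hne
    by_contra hcon
    apply hne
    unfold Cyc.divFun
    rw [dif_neg (fun h => hcon h.1)]
  have hL1 : (AlgebraicCycle.map p δX δY γ₀) y =
      ∑ᶠ ξ : X, α ξ * ∑ᶠ x ∈ (p : X → Y) ⁻¹' {y},
        Cyc.divFun δX ξ (G ξ) x * ((AlgebraicCycle.mapCoeff p δX δY x : ℕ) : ℤ) := by
    simp only [AlgebraicCycle.map, Function.locallyFinsupp.map_apply]
    have h1 : ∑ᶠ x ∈ (p : X → Y) ⁻¹' {y}, γ₀ x * ((AlgebraicCycle.mapCoeff p δX δY x : ℕ) : ℤ) =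
        ∑ᶠ x ∈ (p : X → Y) ⁻¹' {y}, (∑ᶠ ξ : X, α ξ * Cyc.divFun δX ξ (G ξ) x) *
          ((AlgebraicCycle.mapCoeff p δX δY x : ℕ) : ℤ) := by
      refine finsum_mem_congr rfl fun x hx => ?_
      rw [hγ₀]
      unfold Cyc.c1CapFun
      congr 1
      refine finsum_congr fun ξ => ?_
      rw [hUp x hx ξ]
    have hS : (((p : X → Y) ⁻¹' {y}) ∩
        ⋃ ξ : X, Function.support (fun x => α ξ * Cyc.divFun δX ξ (G ξ) x)).Finite := by
      have h2 := DivLocFin.finite_inter_of_isCompact hcompact fun z _ =>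
        DivLocFin.iUnion_support_divFun_locallyFinite δX hdX
          (fun i : {ξ : X // α ξ ≠ 0} => i.1) (fun i => G i.1) (fun i => hG0 i.1)
          (locallyFinite_support α) z
      refine h2.subset ?_
      rintro x ⟨hx, hx2⟩
      refine ⟨hx, ?_⟩
      rw [Set.mem_iUnion] at hx2 ⊢
      obtain ⟨ξ, hξ⟩ := hx2
      have hξ' : α ξ * Cyc.divFun δX ξ (G ξ) x ≠ 0 := hξ
      exact ⟨⟨ξ, left_ne_zero_of_mul hξ'⟩, right_ne_zero_of_mul hξ'⟩
    have hI : {ξ : X | ∃ x ∈ (p : X → Y) ⁻¹' {y}, α ξ * Cyc.divFun δX ξ (G ξ) x ≠ 0}.Finite := by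
      refine hfinξ.subset ?_
      rintro ξ ⟨x, hx, hne⟩
      refine ⟨left_ne_zero_of_mul hne, ?_⟩
      have hsp := hdivsp ξ x _ (right_ne_zero_of_mul hne)
      have hx' : p x = y := hx
      rw [← hx']
      exact hsp.map p.continuous
    have key := EnvelopeKer.finsum_mem_finsum_mul_comm
      (fun ξ x => α ξ * Cyc.divFun δX ξ (G ξ) x)
      (fun x => ((AlgebraicCycle.mapCoeff p δX δY x : ℕ) : ℤ)) ((p : X → Y) ⁻¹' {y}) hS hI
    refine (h1.trans key).trans ?_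
    refine finsum_congr fun ξ => ?_
    rw [mul_finsum_mem]
    exact finsum_mem_congr rfl fun x _ => mul_assoc _ _ _
  have hterm : ∀ ξ : X, ∑ᶠ x ∈ (p : X → Y) ⁻¹' {y},
        Cyc.divFun δX ξ (G ξ) x * ((AlgebraicCycle.mapCoeff p δX δY x : ℕ) : ℤ) =
      ((AlgebraicCycle.mapCoeff p δX δY ξ : ℕ) : ℤ) * Cyc.divFun δY (p ξ) (b (p ξ)) y := by
    intro ξ
    by_cases hd : δX ξ = δY (p ξ)
    · rw [NormPush.finsum_divFun_eq_general p δX δY hdX hdY hδ ξ hd (G ξ) (hG0 ξ) y]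
      have hn : Cyc.normGen p ξ (G ξ) = b (p ξ) ^ p.residueDegree ξ := by
        unfold Cyc.normGen Scheme.Hom.residueDegree
        letI := (p.residueFieldMap ξ).hom.toAlgebra
        exact Algebra.norm_algebraMap (b (p ξ))
      rw [hn, CurveDeg.divFun_pow δY (p ξ) _ (hb0 _)]
      unfold AlgebraicCycle.mapCoeff
      rw [if_pos hd]
    · rw [DimDrop.finsum_divFun_eq_zero p δX δY hδ hdX hdY ξ hd (G ξ) (hG0 ξ) y]
      unfold AlgebraicCycle.mapCoeff
      rw [if_neg hd, Nat.cast_zero, zero_mul]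
  rw [hL1, finsum_congr (fun ξ => by rw [hterm ξ])]
  -- the right hand side
  unfold Cyc.c1CapFun
  simp only [AlgebraicCycle.map, Function.locallyFinsupp.map_apply]
  set h' : X → ℤ := fun ξ => α ξ * (((AlgebraicCycle.mapCoeff p δX δY ξ : ℕ) : ℤ) *
    Cyc.divFun δY (p ξ) (b (p ξ)) y) with hh'
  have r2 : ∀ η : Y, (∑ᶠ ξ ∈ (p : X → Y) ⁻¹' {η},
        α ξ * ((AlgebraicCycle.mapCoeff p δX δY ξ : ℕ) : ℤ)) * Cyc.secDivFun δY L η (v η) y =
      ∑ᶠ ξ ∈ (p : X → Y) ⁻¹' {η}, h' ξ := by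
    intro η
    rw [hD η, finsum_mem_mul]
    refine finsum_mem_congr rfl fun ξ hξ => ?_
    have hξ' : p ξ = η := hξ
    simp only [hh']
    rw [hξ', mul_assoc]
  rw [finsum_congr r2]
  have hfin : ((p : X → Y) ⁻¹' Set.univ ∩ Function.support h').Finite := by
    refine hfinξ.subset ?_
    rintro ξ ⟨-, hξ⟩
    have hξ' : α ξ * (((AlgebraicCycle.mapCoeff p δX δY ξ : ℕ) : ℤ) *
      Cyc.divFun δY (p ξ) (b (p ξ)) y) ≠ 0 := hξ
    refine ⟨left_ne_zero_of_mul hξ', ?_⟩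
    have hne := right_ne_zero_of_mul (right_ne_zero_of_mul hξ')
    by_contra hcon
    apply hne
    unfold Cyc.divFun
    rw [dif_neg (fun h => hcon h.1)]
  have r3 := CycPush.finsum_mem_fiberwise (p : X → Y) Set.univ h' hfin
  rw [finsum_mem_univ, Set.preimage_univ, finsum_mem_univ] at r3
  rw [r3]

/-- **The projection formula for `c_1`.** -/
theorem main (hX : Cyc.IsSetup X δX) (hY : Cyc.IsSetup Y δY)
    (hδ : Cyc.DeltaCompat p δX δY) (L : Y.Modules) (hL : PicF.IsInvertible L) (k : ℤ)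
    (α : AlgebraicCycle X ℤ) (hα : α ∈ Cyc.Zk X δX (k + 1))
    (u : (ξ : X) → Cyc.secFibre ((Scheme.Modules.pullback p).obj L) ξ) (hu : ∀ ξ, u ξ ≠ 0)
    (v : (η : Y) → Cyc.secFibre L η) (hv : ∀ η, v η ≠ 0) (γ : AlgebraicCycle X ℤ)
    (hγ : ⇑γ = Cyc.c1CapFun δX ((Scheme.Modules.pullback p).obj L) ⇑α u)
    (γ' : AlgebraicCycle Y ℤ)
    (hγ' : ⇑γ' = Cyc.c1CapFun δY L ⇑(AlgebraicCycle.map p δX δY α) v) :
    Cyc.RatEquiv δY k (AlgebraicCycle.map p δX δY γ) γ' := by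
  haveI : IsLocallyNoetherian X := hX.1
  have hL' := Groth.Agent.H54.FiniteLocalPic.isInvertible_pullback p hL
  obtain ⟨γ₀, hγ₀⟩ := exists_cycle_c1CapFun δX hX.2.2 _ hL' α (pullSec p L v)
    (pullSec_ne_zero p L hL v hv)
  have h1 : Cyc.RatEquiv δX k γ γ₀ :=
    ratEquiv_of_sections δX _ hL' k α hα u hu (pullSec p L v) (pullSec_ne_zero p L hL v hv)
      γ γ₀ hγ hγ₀
  have h2 := ProperPushRat.ratEquiv_map p δX δY hX hY hδ k γ γ₀ h1
  have h3 : AlgebraicCycle.map p δX δY γ₀ = γ' := by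
    ext y
    rw [hγ']
    exact map_c1CapFun_pullSec p δX δY hX hY hδ L hL α v hv γ₀ hγ₀ y
  rw [← h3]
  exact h2

end Main

end Groth.Agent.H48.ProjFormula
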