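import Mathlib
import Groth.Agent.H48.ZeroSecC1
import Groth.Agent.H48.ProjFormula
import Groth.Agent.H48.ClosedDim

/-!
# `c_1(L) ∩ [Y]_{k+1} ∼ ι_*[Z(s)]_k` for a closed subscheme `ι : Y → X` and a regular section of `ι^*L`
-/

set_option autoImplicit false
set_option linter.unusedSectionVars false
set_option linter.style.haveILetI false
universe u

open CategoryTheory AlgebraicGeometry IsLocalRing Opposite Topology

namespace Groth.Agent.H48.ZeroSecPush

open Groth.Agent.H8 Groth.Agent.H48.FlatC1 Groth.Agent.H54.C1Indep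

section Alg

theorem isUniversallyCatenary_of_surjective {R R' : Type u} [CommRing R] [CommRing R']
    (f : R →+* R') (hf : Function.Surjective f) (hR : CAlg.IsUniversallyCatenary R) :
    CAlg.IsUniversallyCatenary R' := by
  haveI := hR.1
  refine ⟨isNoetherianRing_of_surjective R R' f hf, fun S _ _ hS => ?_⟩
  letI : Algebra R R' := f.toAlgebra
  letI : Algebra R S := ((algebraMap R' S).comp f).toAlgebra
  haveI : IsScalarTower R R' S := IsScalarTower.of_algebraMap_eq (fun r => rfl)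
  have h1 : Algebra.FiniteType R R' :=
    Algebra.FiniteType.of_surjective (Algebra.ofId R R') hf
  exact hR.2 S (Algebra.FiniteType.trans h1 hS)

end Alg

section Rat

variable {X : Scheme.{u}}

theorem ratEquivZero_neg (δ : X → ℤ) (k : ℤ) (α : AlgebraicCycle X ℤ)
    (h : Cyc.RatEquivZero δ k α) : Cyc.RatEquivZero δ k (-α) := by
  obtain ⟨ι, ξ, f, hξ, hf, hlf, hsum⟩ := h
  refine ⟨ι, ξ, fun i => (f i)⁻¹, hξ, fun i => inv_ne_zero (hf i), hlf, ?_⟩
  intro x
  have h1 : (-α) x = - α x := rfl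
  rw [h1, hsum x, ← finsum_neg_distrib]
  exact finsum_congr fun i => (Groth.Agent.H54.C1Cap.divFun_inv δ (ξ i) (hf i) x).symm

theorem ratEquiv_symm (δ : X → ℤ) (k : ℤ) (α β : AlgebraicCycle X ℤ)
    (h : Cyc.RatEquiv δ k α β) : Cyc.RatEquiv δ k β α := by
  unfold Cyc.RatEquiv at h ⊢
  have := ratEquivZero_neg δ k _ h
  rwa [neg_sub] at this

/-- a function supported on maximal points of a locally Noetherian scheme is a cycle -/
theorem exists_cycle_of_support_maximal [IsLocallyNoetherian X] (g : X → ℤ)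
    (hg : ∀ z, g z ≠ 0 → ∀ y, y ⤳ z → y = z) : ∃ γ : AlgebraicCycle X ℤ, ⇑γ = g := by
  have hsupp : ∀ z ∈ (Set.univ : Set X), ∃ t ∈ 𝓝 z, (t ∩ Function.support g).Finite := by
    intro z _
    obtain ⟨V, hV, hzV, -⟩ := exists_isAffineOpen_mem_and_subset (x := z) (U := ⊤) trivial
    refine ⟨V, V.2.mem_nhds hzV, ?_⟩
    refine (FlatPullRat.finite_maximal_points V hV Set.univ isClosed_univ).subset ?_
    rintro x ⟨hxV, hx⟩
    exact ⟨hxV, Set.mem_univ _, fun y _ hy => hg x hx y hy⟩
  exact ⟨⟨g, fun _ _ => Set.mem_univ _, hsupp⟩, rfl⟩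

theorem exists_nonzero_family {M : X.Modules} (hM : PicF.IsInvertible M) :
    ∃ w : (ξ : X) → Cyc.secFibre M ξ, ∀ ξ, w ξ ≠ 0 := by
  have key : ∀ ξ : X, ∃ w : Cyc.secFibre M ξ, w ≠ 0 := by
    intro ξ
    obtain ⟨U, hξU, σ, hσ⟩ := exists_isFreeGen_of_isInvertible hM ξ
    refine ⟨Submodule.Quotient.mk ((1 : X.presheaf.stalk ξ) • M.presheaf.germ U ξ hξU σ), ?_⟩
    rw [Ne, Groth.Agent.H54.SecOrdGen.mk_smul_eq_zero_iff M ξ _ (hσ.germ_bijective hξU)]
    rw [mem_maximalIdeal, mem_nonunits_iff, not_not]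
    exact isUnit_one
  choose w hw using key
  exact ⟨w, hw⟩

end Rat

section Main

variable {X Y : Scheme.{u}} (δ : X → ℤ) (ι : Y ⟶ X) [IsClosedImmersion ι]

theorem isSetup_comp (hX : Cyc.IsSetup X δ) : Cyc.IsSetup Y (fun y => δ (ι y)) := by
  haveI := hX.1
  refine ⟨LocallyOfFiniteType.isLocallyNoetherian ι, fun y => ?_, ClosedDim.isDimFun_comp ι δ hX.2.2⟩
  exact isUniversallyCatenary_of_surjective (ι.stalkMap y).hom (ι.stalkMap_surjective y)
    (hX.2.1 (ι y))

/-- the pushforward of the fundamental cycle of `Y` is the cycle of the subscheme `Y` -/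
theorem map_fund (k : ℤ) (fundY : AlgebraicCycle Y ℤ)
    (hfund : ⇑fundY = Cyc.subschemeFun (fun y => δ (ι y)) k (𝟙 Y)) (x : X) :
    (AlgebraicCycle.map ι (fun y => δ (ι y)) δ fundY) x = Cyc.subschemeFun δ k ι x := by
  simp only [AlgebraicCycle.map, Function.locallyFinsupp.map_apply]
  have hterm : ∀ y ∈ (ι : Y → X) ⁻¹' {x}, fundY y *
      ((AlgebraicCycle.mapCoeff ι (fun y => δ (ι y)) δ y : ℕ) : ℤ) =
      if δ x = k then ((Module.length (Y.presheaf.stalk y) (Y.presheaf.stalk y)).toNat : ℤ)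
        else 0 := by
    intro y hy
    have hy' : ι y = x := hy
    have hmc : AlgebraicCycle.mapCoeff ι (fun y => δ (ι y)) δ y = 1 := by
      unfold AlgebraicCycle.mapCoeff
      rw [if_pos rfl, ClosedDim.residueDegree_eq_one]
    rw [hmc, Nat.cast_one, mul_one, hfund]
    by_cases hk : δ x = k
    · rw [if_pos hk]
      exact ZeroSecC1.subschemeFun_id (fun y => δ (ι y)) k y (by simp only [hy', hk])
    · rw [if_neg hk]
      unfold Cyc.subschemeFun
      rw [if_neg (by simp only [hy']; exact hk)]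
  rw [finsum_mem_congr rfl hterm]
  unfold Cyc.subschemeFun
  by_cases hk : δ x = k
  · simp only [if_pos hk]
    rfl
  · simp only [if_neg hk]
    exact finsum_mem_zero _

include ι in
theorem main (hX : Cyc.IsSetup X δ) (L : X.Modules) (hL : PicF.IsInvertible L) (k : ℤ)
    (hY : ∀ y : Y, δ (ι y) ≤ k + 1)
    (s : ((Scheme.Modules.pullback ι).obj L).presheaf.obj (Opposite.op ⊤))
    (hZ : ∀ y : Y, (((Scheme.Modules.pullback ι).obj L).presheaf.germ ⊤ y trivial) s ∈
      IsLocalRing.maximalIdeal (Y.presheaf.stalk y) •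
        (⊤ : Submodule (Y.presheaf.stalk y)
          (((Scheme.Modules.pullback ι).obj L).presheaf.stalk y)) → δ (ι y) ≤ k)
    (hreg : ∀ y : Y, δ (ι y) = k → Function.Injective (fun a : Y.presheaf.stalk y =>
      a • (((Scheme.Modules.pullback ι).obj L).presheaf.germ ⊤ y trivial) s))
    (v : (ξ : X) → Cyc.secFibre L ξ) (hv : ∀ ξ, v ξ ≠ 0) (γ : AlgebraicCycle X ℤ)
    (hγ : ⇑γ = Cyc.c1CapFun δ L (Cyc.subschemeFun δ (k + 1) ι) v) (ζ : AlgebraicCycle Y ℤ)
    (hζ : ⇑ζ = Cyc.zeroSectionFun (fun y => δ (ι y)) k ((Scheme.Modules.pullback ι).obj L) s) :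
    Cyc.RatEquiv δ k γ (AlgebraicCycle.map ι (fun y => δ (ι y)) δ ζ) := by
  have hYs := isSetup_comp δ ι hX
  haveI : IsLocallyNoetherian Y := hYs.1
  have hL' := Groth.Agent.H54.FiniteLocalPic.isInvertible_pullback ι hL
  -- the fundamental cycle of `Y`
  obtain ⟨fundY, hfund⟩ := exists_cycle_of_support_maximal
    (Cyc.subschemeFun (fun y => δ (ι y)) (k + 1) (𝟙 Y)) (by
      intro z hz y hy
      by_contra hne
      have hzk : δ (ι z) = k + 1 := by
        by_contra hcon
        apply hz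
        unfold Cyc.subschemeFun
        rw [if_neg hcon]
      have h1 := (hYs.2.2 y z hy hne).1
      have h2 := hY y
      simp only at h1
      omega)
  have hfundk : fundY ∈ Cyc.Zk Y (fun y => δ (ι y)) (k + 1) := by
    intro y hy
    rw [hfund]
    unfold Cyc.subschemeFun
    rw [if_neg hy]
  -- the sections
  obtain ⟨w, hw⟩ := exists_nonzero_family hL'
  set u' := Cyc.gysinChoice ((Scheme.Modules.pullback ι).obj L) s w with hu'
  have hu'0 : ∀ ξ, u' ξ ≠ 0 := gysinChoice_ne_zero _ s w hw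
  have h1925 := ZeroSecC1.main (fun y => δ (ι y)) hYs ((Scheme.Modules.pullback ι).obj L) hL' k
    hY s hZ hreg
  have hζ' : ⇑ζ = Cyc.c1CapFun (fun y => δ (ι y)) ((Scheme.Modules.pullback ι).obj L)
      ⇑fundY u' := by
    rw [hζ, h1925, hfund]
    funext y
    unfold Cyc.c1CapFun
    refine finsum_congr fun ξ => ?_
    by_cases hξ : Cyc.subschemeFun (fun y => δ (ι y)) (k + 1) (𝟙 Y) ξ = 0
    · rw [hξ, zero_mul, zero_mul]
    · have hξk : δ (ι ξ) = k + 1 := by
        by_contra hcon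
        apply hξ
        unfold Cyc.subschemeFun
        rw [if_neg hcon]
      have hne : (Submodule.Quotient.mk
          ((((Scheme.Modules.pullback ι).obj L).presheaf.germ ⊤ ξ trivial) s) :
          Cyc.secFibre ((Scheme.Modules.pullback ι).obj L) ξ) ≠ 0 := by
        intro h0
        rw [Submodule.Quotient.mk_eq_zero] at h0
        have := hZ ξ h0
        omega
      have : u' ξ = Submodule.Quotient.mk
          ((((Scheme.Modules.pullback ι).obj L).presheaf.germ ⊤ ξ trivial) s) := by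
        simp only [hu']
        unfold Cyc.gysinChoice
        rw [if_pos hne]
      rw [this]
  have hγ' : ⇑γ = Cyc.c1CapFun δ L
      ⇑(AlgebraicCycle.map ι (fun y => δ (ι y)) δ fundY) v := by
    rw [hγ]
    congr 1
    funext x
    exact (map_fund δ ι (k + 1) fundY hfund x).symm
  have := ProjFormula.main ι (fun y => δ (ι y)) δ hYs hX (ClosedDim.deltaCompat ι δ) L hL k
    fundY hfundk u' hu'0 v hv ζ hζ' γ hγ'
  exact ratEquiv_symm δ k _ _ this

end Main

end Groth.Agent.H48.ZeroSecPush
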