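import Mathlib
import Groth.Prelude.Def_Bivar
import Groth.Agent.H48.GysinFlat
import Groth.Agent.H48.ProjFormula
import Groth.Agent.H48.ProperPushRat
import Groth.Agent.H48.ZeroSecPush
import Groth.Agent.H48.FibreDict

/-!
# The Gysin map commutes with proper pushforward (helper48)
-/

set_option autoImplicit false
set_option linter.unusedSectionVars false
set_option linter.unusedVariables false
set_option linter.style.haveILetI false
universe u

open CategoryTheory CategoryTheory.Limits AlgebraicGeometry IsLocalRing Opposite Topology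

namespace Groth.Agent.H48.GysinPush

open Groth.Agent.H54.PB Groth.Agent.H18 Groth.Agent.H8 Groth.Agent.H48.PullStalk
  Groth.Agent.H48.FlatC1 Groth.Agent.H54.C1Indep Groth.Agent.H54.SecOrd Groth.Agent.H54.SecOrdGen
  Groth.Agent.H54.C1Cap Groth.Agent.H63.C1 Groth.Agent.H48.GysinKer Groth.Agent.H48.GysinLen
  Groth.Agent.H48.GysinFlat

section Restrict

variable {W X : Scheme.{u}} (j : W ⟶ X) [IsClosedImmersion j]

/-- restriction of a cycle to a closed subscheme -/
theorem exists_cycle_comp (c : AlgebraicCycle X ℤ) :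
    ∃ c' : AlgebraicCycle W ℤ, ∀ w, c' w = c (j w) := by
  have hinj : Function.Injective j := j.isEmbedding.injective
  have hsupp : ∀ z ∈ (Set.univ : Set W),
      ∃ t ∈ 𝓝 z, (t ∩ Function.support (fun w => c (j w))).Finite := by
    intro z _
    obtain ⟨t, ht, hfin⟩ := c.supportLocallyFiniteWithinDomain (j z) (Set.mem_univ _)
    refine ⟨(j : W → X) ⁻¹' t, j.continuous.continuousAt.preimage_mem_nhds ht, ?_⟩
    refine (hfin.preimage hinj.injOn).subset ?_
    rintro w ⟨hw1, hw2⟩
    exact ⟨hw1, hw2⟩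
  exact ⟨⟨fun w => c (j w), fun _ _ => Set.mem_univ _, hsupp⟩, fun w => rfl⟩

end Restrict

section Push

variable {X X' D : Scheme.{u}} (f : X' ⟶ X) [IsProper f] (i : D ⟶ X) [IsClosedImmersion i]
  (δ : X → ℤ) (δ' : X' → ℤ)

theorem snd_fst_pt (z : ↥(pullback f i)) :
    i (pullback.snd f i z) = f (pullback.fst f i z) := by
  rw [← Scheme.Hom.comp_apply, ← Scheme.Hom.comp_apply, pullback.condition]

theorem residueFieldMap_fst_surjective (z : ↥(pullback f i)) :
    Function.Surjective ((pullback.fst f i).residueFieldMap z).hom := by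
  haveI : IsClosedImmersion (pullback.fst f i) :=
    MorphismProperty.pullback_fst (P := @IsClosedImmersion) f i inferInstance
  exact Groth.Agent.H48.ClosedOrd.residueFieldMap_surjective _ z
    ((pullback.fst f i).stalkMap_surjective z)

/-- pushing forward along `g : X' ×_X D → D` the restriction of a cycle on `X'`. -/
theorem map_snd_apply (c : AlgebraicCycle X' ℤ) (c' : AlgebraicCycle (pullback f i) ℤ)
    (hc : ∀ z, c' z = c (pullback.fst f i z)) (d : D) :
    (AlgebraicCycle.map (pullback.snd f i) (fun z => δ' (pullback.fst f i z))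
      (fun d => δ (i d)) c') d = (AlgebraicCycle.map f δ' δ c) (i d) := by
  haveI : IsClosedImmersion (pullback.fst f i) :=
    MorphismProperty.pullback_fst (P := @IsClosedImmersion) f i inferInstance
  simp only [AlgebraicCycle.map, Function.locallyFinsupp.map_apply]
  have hinj : Function.Injective (pullback.fst f i) := (pullback.fst f i).isEmbedding.injective
  have hinji : Function.Injective i := i.isEmbedding.injective
  have himg : (pullback.fst f i : ↥(pullback f i) → X') ''
      ((pullback.snd f i : ↥(pullback f i) → D) ⁻¹' {d}) = (f : X' → X) ⁻¹' {i d} := by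
    ext x'
    constructor
    · rintro ⟨z, hz, rfl⟩
      have hz' : pullback.snd f i z = d := hz
      change f (pullback.fst f i z) = i d
      rw [← snd_fst_pt, hz']
    · intro hx'
      have hx'' : f x' = i d := hx'
      have hr : x' ∈ Set.range (pullback.fst f i) := by
        rw [Scheme.Pullback.range_fst]
        exact ⟨d, hx''.symm⟩
      obtain ⟨z, rfl⟩ := hr
      refine ⟨z, ?_, rfl⟩
      apply hinji
      rw [snd_fst_pt]
      exact hx''
  rw [← himg, finsum_mem_image hinj.injOn]
  refine finsum_mem_congr rfl fun z hz => ?_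
  rw [hc z]
  congr 2
  unfold AlgebraicCycle.mapCoeff
  have hdeg := Groth.Agent.H48.FibreDict.residueDegree_eq (pullback.fst f i) f
    (pullback.snd f i) i pullback.condition z (residueFieldMap_fst_surjective f i z)
    (Groth.Agent.H48.ClosedOrd.residueFieldMap_surjective i _ (i.stalkMap_surjective _))
  rw [hdeg]
  have hpt := snd_fst_pt f i z
  simp only [hpt]

theorem deltaCompat_snd (hδ : Cyc.DeltaCompat f δ' δ) :
    Cyc.DeltaCompat (pullback.snd f i) (fun z => δ' (pullback.fst f i z))
      (fun d => δ (i d)) := by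
  intro z
  obtain ⟨n, hn1, hn2⟩ := hδ (pullback.fst f i z)
  refine ⟨n, ?_, ?_⟩
  · rw [← hn1]
    exact Groth.Agent.H48.FibreDict.trdeg_eq (pullback.fst f i) f
      (pullback.snd f i) i pullback.condition z (residueFieldMap_fst_surjective f i z)
      (Groth.Agent.H48.ClosedOrd.residueFieldMap_surjective i _ (i.stalkMap_surjective _))
  · change δ' (pullback.fst f i z) = δ (i (pullback.snd f i z)) + n
    rw [snd_fst_pt, hn2]

/-- **The Gysin map commutes with proper pushforward.** -/
theorem main (hX : Cyc.IsSetup X δ) (hX' : Cyc.IsSetup X' δ') (hδ : Cyc.DeltaCompat f δ' δ)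
    (L : X.Modules) (hL : PicF.IsInvertible L) (s : L.presheaf.obj (op ⊤))
    (hD : Cyc.IsZeroSchemeOf i L s)
    (s' : ((Scheme.Modules.pullback f).obj L).presheaf.obj (op ⊤))
    (hD' : Cyc.IsZeroSchemeOf (pullback.fst f i) ((Scheme.Modules.pullback f).obj L) s')
    (k : ℤ) (α' : AlgebraicCycle X' ℤ) (hα' : α' ∈ Cyc.Zk X' δ' (k + 1))
    (w : (ξ : X) → Cyc.secFibre L ξ) (hw : ∀ ξ, w ξ ≠ 0)
    (w' : (ξ : X') → Cyc.secFibre ((Scheme.Modules.pullback f).obj L) ξ) (hw' : ∀ ξ, w' ξ ≠ 0)
    (γ : AlgebraicCycle D ℤ)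
    (hγ : ∀ d, γ d = Cyc.c1CapFun δ L ⇑(AlgebraicCycle.map f δ' δ α')
      (Cyc.gysinChoice L s w) (i d))
    (γ' : AlgebraicCycle (pullback f i) ℤ)
    (hγ' : ∀ z, γ' z = Cyc.c1CapFun δ' ((Scheme.Modules.pullback f).obj L) ⇑α'
      (Cyc.gysinChoice ((Scheme.Modules.pullback f).obj L) s' w') (pullback.fst f i z)) :
    Cyc.RatEquiv (fun d => δ (i d)) k γ
      (AlgebraicCycle.map (pullback.snd f i) (fun z => δ' (pullback.fst f i z))
        (fun d => δ (i d)) γ') := by
  haveI : IsLocallyNoetherian X := hX.1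
  haveI : IsLocallyNoetherian X' := hX'.1
  haveI : IsClosedImmersion (pullback.fst f i) :=
    MorphismProperty.pullback_fst (P := @IsClosedImmersion) f i inferInstance
  have hδX' := hX'.2.2
  have hL' := Groth.Agent.H54.FiniteLocalPic.isInvertible_pullback f hL
  have hv := gysinChoice_ne_zero L s w hw
  have hu₁ := gysinChoice_ne_zero ((Scheme.Modules.pullback f).obj L) s' w' hw'
  have hu₂ := pullSec_ne_zero f L hL _ hv
  obtain ⟨γ₀, hγ₀⟩ := Groth.Agent.H48.ProjFormula.exists_cycle_c1CapFun δ' hδX'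
    ((Scheme.Modules.pullback f).obj L) hL' α' _ hu₂
  have hγ_eq : ∀ d, γ d = (AlgebraicCycle.map f δ' δ γ₀) (i d) := by
    intro d
    rw [hγ d]
    exact (Groth.Agent.H48.ProjFormula.map_c1CapFun_pullSec f δ' δ hX' hX hδ L hL α' _ hv γ₀
      hγ₀ (i d)).symm
  obtain ⟨H, hH, hHeq⟩ := exists_ratZeroOn_sub δ' hL' k α' hα'
    (Set.range (pullback.fst f i)) _ _ hu₁ hu₂ (by
      rintro ξ' hξ' _ ⟨z, rfl⟩
      exact secDivFun_gysin_eq f i L hL s hD δ' s' hD' w w' ξ' hξ' z)
  have hpull := ratZeroOn_pull (pullback.fst f i) δ' k H hH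
  obtain ⟨γ₀', hγ₀'⟩ := exists_cycle_comp (pullback.fst f i) γ₀
  have hθ : Cyc.RatEquivZero (fun z => δ' (pullback.fst f i z)) k (γ' - γ₀') := by
    refine ratEquivZero_of_ratZeroOn (γ' - γ₀') (hpull.congr fun z => ?_)
    have hcoe : (γ' - γ₀') z = γ' z - γ₀' z := rfl
    rw [hcoe, hγ' z, hγ₀' z, hHeq _ ⟨z, rfl⟩, hγ₀]
  have hpush := Groth.Agent.H48.ProperPushRat.ratEquivZero_map (pullback.snd f i)
    (fun z => δ' (pullback.fst f i z)) (fun d => δ (i d))
    (Groth.Agent.H48.ZeroSecPush.isSetup_comp δ' (pullback.fst f i) hX')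
    (Groth.Agent.H48.ZeroSecPush.isSetup_comp δ i hX) (deltaCompat_snd f i δ δ' hδ) k _ hθ
  have hneg := Groth.Agent.H48.ZeroSecPush.ratEquivZero_neg _ k _ hpush
  unfold Cyc.RatEquiv
  have hfinal : γ - AlgebraicCycle.map (pullback.snd f i) (fun z => δ' (pullback.fst f i z))
      (fun d => δ (i d)) γ' =
      - AlgebraicCycle.map (pullback.snd f i) (fun z => δ' (pullback.fst f i z))
        (fun d => δ (i d)) (γ' - γ₀') := by
    have hadd := Bivar.cycMap_add (pullback.snd f i) (fun z => δ' (pullback.fst f i z))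
      (fun d => δ (i d)) (γ' - γ₀') γ₀'
    rw [sub_add_cancel] at hadd
    have hγ₀map : AlgebraicCycle.map (pullback.snd f i) (fun z => δ' (pullback.fst f i z))
        (fun d => δ (i d)) γ₀' = γ := by
      ext d
      rw [map_snd_apply f i δ δ' γ₀ γ₀' hγ₀' d, hγ_eq d]
    rw [hadd, hγ₀map]
    abel
  rw [hfinal]
  exact hneg

end Push

end Groth.Agent.H48.GysinPush
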