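import Mathlib
import Groth.Agent.H17.HS.Serre
import Groth.Agent.H64.HypHilb

/-!
# Degree bound for the Hilbert polynomial of a proper quotient of a polynomial ring
-/

open MvPolynomial Polynomial

attribute [local instance] MvPolynomial.gradedAlgebra

namespace Groth.Agent.H48.HilbDeg

universe u

variable {k : Type u} [Field k] {d : ℕ}

instance finite_hom (n : ℕ) : Module.Finite k (homogeneousSubmodule (Fin d) k n) := by
  classical
  rw [homogeneousSubmodule_eq_finsupp_supported]
  have hset : {e : Fin d →₀ ℕ | e.degree = n} =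
      ((Finset.univ : Finset (Fin d)).finsuppAntidiag n : Set (Fin d →₀ ℕ)) := by
    ext e
    simp [Finsupp.degree_eq_sum]
  rw [hset]
  exact Module.Finite.equiv (AddMonoidAlgebra.supportedEquivFinsupp _).symm

/-- the degree `n` piece of the quotient -/
noncomputable def piece (I : Ideal (MvPolynomial (Fin d) k)) (n : ℕ) :
    Submodule k (MvPolynomial (Fin d) k ⧸ I) :=
  Submodule.map ((Ideal.Quotient.mkₐ k I).toLinearMap) (homogeneousSubmodule (Fin d) k n)

theorem mem_piece {I : Ideal (MvPolynomial (Fin d) k)} {n : ℕ} {y : MvPolynomial (Fin d) k ⧸ I} :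
    y ∈ piece I n ↔ ∃ g ∈ homogeneousSubmodule (Fin d) k n, Ideal.Quotient.mk I g = y := by
  simp [piece, Submodule.mem_map]

theorem isGrading_piece (I : Ideal (MvPolynomial (Fin d) k))
    (hI : I.IsHomogeneous (homogeneousSubmodule (Fin d) k)) :
    Groth.Agent.H17.HS.IsGrading (A := k) (piece I) := by
  constructor
  · intro y
    obtain ⟨b, rfl⟩ := Ideal.Quotient.mk_surjective y
    refine ⟨b.totalDegree + 1, fun n => Ideal.Quotient.mk I (homogeneousComponent n b),
      fun n => mem_piece.mpr ⟨_, homogeneousComponent_mem n b, rfl⟩, ?_⟩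
    rw [← map_sum, sum_homogeneousComponent]
  · intro m f hf hsum n hn
    have hf' : ∀ n, ∃ g ∈ homogeneousSubmodule (Fin d) k n, Ideal.Quotient.mk I g = f n :=
      fun n => mem_piece.mp (hf n)
    choose g hg hgf using hf'
    have hmem : ∑ j ∈ Finset.range m, g j ∈ I := by
      rw [← Ideal.Quotient.eq_zero_iff_mem, map_sum]
      simp only [hgf]
      exact hsum
    have hcomp := homogeneousComponent_mem_of_mem hI hmem n
    have hcomp' : homogeneousComponent n (∑ j ∈ Finset.range m, g j) = g n := by
      rw [map_sum]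
      rw [Finset.sum_eq_single n]
      · rw [homogeneousComponent_of_mem (hg n), if_pos rfl]
      · intro j _ hjn
        rw [homogeneousComponent_of_mem (hg j), if_neg (Ne.symm hjn)]
      · intro hn'
        exact absurd (Finset.mem_range.mpr hn) hn'
    rw [hcomp'] at hcomp
    rw [← hgf n]
    exact Ideal.Quotient.eq_zero_iff_mem.mpr hcomp

instance finite_piece (I : Ideal (MvPolynomial (Fin d) k)) (n : ℕ) :
    Module.Finite k (piece I n) :=
  Module.Finite.map _ _

theorem exists_hilbert_poly (I : Ideal (MvPolynomial (Fin d) k))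
    (hI : I.IsHomogeneous (homogeneousSubmodule (Fin d) k)) :
    ∃ (P : ℚ[X]) (n₀ : ℕ), ∀ n, n₀ ≤ n →
      (Module.finrank k (piece I n) : ℚ) = P.eval (n : ℚ) := by
  classical
  have hJ : ∀ b ∈ I, ∀ y : MvPolynomial (Fin d) k ⧸ I, b • y = 0 := by
    intro b hb y
    obtain ⟨c, rfl⟩ := Ideal.Quotient.mk_surjective y
    change Ideal.Quotient.mk I (b * c) = 0
    exact Ideal.Quotient.eq_zero_iff_mem.mpr (I.mul_mem_right _ hb)
  have hgen : ∀ b : MvPolynomial (Fin d) k, ∃ p ∈ Algebra.adjoin k
      ((Finset.univ.image (MvPolynomial.X : Fin d → MvPolynomial (Fin d) k) :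
        Finset (MvPolynomial (Fin d) k)) : Set (MvPolynomial (Fin d) k)), b - p ∈ I := by
    intro b
    refine ⟨b, ?_, by simp⟩
    have : ((Finset.univ.image (MvPolynomial.X : Fin d → MvPolynomial (Fin d) k) :
        Finset (MvPolynomial (Fin d) k)) : Set (MvPolynomial (Fin d) k)) =
        Set.range (MvPolynomial.X : Fin d → MvPolynomial (Fin d) k) := by
      ext; simp
    rw [this, MvPolynomial.adjoin_range_X]
    exact Algebra.mem_top
  have hS : ∀ b ∈ Finset.univ.image (MvPolynomial.X : Fin d → MvPolynomial (Fin d) k),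
      ∀ n, ∀ y ∈ piece I n, b • y ∈ piece I (n + 1) := by
    intro b hb n y hy
    obtain ⟨i, -, rfl⟩ := Finset.mem_image.mp hb
    obtain ⟨g, hg, rfl⟩ := mem_piece.mp hy
    refine mem_piece.mpr ⟨MvPolynomial.X i * g, ?_, ?_⟩
    · rw [mem_homogeneousSubmodule, add_comm]
      exact (isHomogeneous_X k i).mul hg
    · rfl
  have hfin : ∀ n, Module.length k (piece I n) ≠ ⊤ := by
    intro n
    rw [Module.length_eq_finrank]
    exact ENat.coe_ne_top _
  obtain ⟨P, n₀, hP⟩ := Groth.Agent.H17.HS.hilbert_serre (A := k)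
    (Finset.univ.image (MvPolynomial.X : Fin d → MvPolynomial (Fin d) k))
    (N := MvPolynomial (Fin d) k ⧸ I) I hJ hgen (piece I) (isGrading_piece I hI) hS hfin
  refine ⟨P, n₀, fun n hn => ?_⟩
  rw [← hP n hn, Module.length_eq_finrank, ENat.toNat_coe]

/-- rank–nullity for the degree `n` piece -/
theorem finrank_piece_add (I : Ideal (MvPolynomial (Fin d) k)) (n : ℕ) :
    Module.finrank k (piece I n) +
      Module.finrank k ↥(I.restrictScalars k ⊓ homogeneousSubmodule (Fin d) k n) =
      Module.finrank k (homogeneousSubmodule (Fin d) k n) := by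
  set V := homogeneousSubmodule (Fin d) k n with hV
  set q : MvPolynomial (Fin d) k →ₗ[k] (MvPolynomial (Fin d) k ⧸ I) :=
    (Ideal.Quotient.mkₐ k I).toLinearMap with hq
  have hrn := LinearMap.finrank_range_add_finrank_ker (q.domRestrict V)
  have hrange : LinearMap.range (q.domRestrict V) = piece I n := by
    ext y
    simp [piece, Submodule.mem_map, hq, hV]
  have hker : Module.finrank k (LinearMap.ker (q.domRestrict V)) =
      Module.finrank k (I.restrictScalars k ⊓ V : Submodule k _) := by
    have hkq : LinearMap.ker q = I.restrictScalars k := by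
      ext p
      simp [hq, Ideal.Quotient.eq_zero_iff_mem]
    have : LinearMap.ker (q.domRestrict V) = Submodule.comap V.subtype (LinearMap.ker q ⊓ V) := by
      ext p
      simp [LinearMap.mem_ker, LinearMap.domRestrict_apply]
    rw [this, ← hkq]
    apply LinearEquiv.finrank_eq
    exact Submodule.comapSubtypeEquivOfLe inf_le_right
  rw [hrange, hker] at hrn
  exact hrn

/-- lower bound for the degree `n` part of an ideal containing a form of degree `m` -/
theorem finrank_le_finrank_inf (I : Ideal (MvPolynomial (Fin d) k)) {m : ℕ}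
    {f : MvPolynomial (Fin d) k} (hfI : f ∈ I) (hf : f.IsHomogeneous m) (hf0 : f ≠ 0) (n : ℕ)
    (hmn : m ≤ n) :
    Module.finrank k (homogeneousSubmodule (Fin d) k (n - m)) ≤
      Module.finrank k ↥(I.restrictScalars k ⊓ homogeneousSubmodule (Fin d) k n) := by
  have hinj : Function.Injective (LinearMap.mulLeft k f) := fun a b hab => mul_left_cancel₀ hf0 hab
  have hle : Submodule.map (LinearMap.mulLeft k f) (homogeneousSubmodule (Fin d) k (n - m)) ≤
      I.restrictScalars k ⊓ homogeneousSubmodule (Fin d) k n := by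
    rintro _ ⟨g, hg, rfl⟩
    refine ⟨I.mul_mem_right _ hfI, ?_⟩
    have : m + (n - m) = n := by omega
    rw [SetLike.mem_coe, mem_homogeneousSubmodule, ← this]
    exact hf.mul hg
  calc Module.finrank k (homogeneousSubmodule (Fin d) k (n - m))
      = Module.finrank k (Submodule.map (LinearMap.mulLeft k f)
          (homogeneousSubmodule (Fin d) k (n - m))) :=
        LinearEquiv.finrank_eq (Submodule.equivMapOfInjective _ hinj _)
    _ ≤ _ := Submodule.finrank_mono hle

/-- a numerical estimate for differences of binomial coefficients -/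
theorem choose_sub_le (r a m : ℕ) (hma : m ≤ a) :
    (a + (r + 1)).choose (r + 1) ≤ (a - m + (r + 1)).choose (r + 1) + m * (a + (r + 1)) ^ r := by
  induction m with
  | zero => simp
  | succ m ih =>
    have h1 := ih (by omega)
    have h2 : a - m = (a - (m + 1)) + 1 := by omega
    have h3 : (a - m + (r + 1)).choose (r + 1) =
        (a - (m + 1) + (r + 1)).choose r + (a - (m + 1) + (r + 1)).choose (r + 1) := by
      rw [h2]
      have : a - (m + 1) + 1 + (r + 1) = (a - (m + 1) + (r + 1)) + 1 := by omega
      rw [this, Nat.choose_succ_succ]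
    have h4 : (a - (m + 1) + (r + 1)).choose r ≤ (a + (r + 1)) ^ r :=
      (Nat.choose_le_pow _ _).trans (Nat.pow_le_pow_left (by omega) r)
    rw [h3] at h1
    calc (a + (r + 1)).choose (r + 1)
        ≤ (a - (m + 1) + (r + 1)).choose r + (a - (m + 1) + (r + 1)).choose (r + 1) +
            m * (a + (r + 1)) ^ r := h1
      _ ≤ (a - (m + 1) + (r + 1)).choose (r + 1) + (m + 1) * (a + (r + 1)) ^ r := by
          rw [add_mul, one_mul]
          omega

theorem exists_homogeneous_mem (I : Ideal (MvPolynomial (Fin d) k))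
    (hI : I.IsHomogeneous (homogeneousSubmodule (Fin d) k)) (hne : I ≠ ⊥) :
    ∃ (m : ℕ) (f : MvPolynomial (Fin d) k), f ∈ I ∧ f.IsHomogeneous m ∧ f ≠ 0 := by
  obtain ⟨x, hx, hx0⟩ := Submodule.exists_mem_ne_zero_of_ne_bot hne
  by_contra hcon
  push Not at hcon
  apply hx0
  rw [← sum_homogeneousComponent x]
  refine Finset.sum_eq_zero (fun i _ => ?_)
  by_contra hi
  exact hi (hcon i _ (homogeneousComponent_mem_of_mem hI hx i)
    (homogeneousComponent_isHomogeneous i x))

theorem hilbert_degree_lt (d : ℕ) (hd : 0 < d)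
    (I : HomogeneousIdeal (MvPolynomial.homogeneousSubmodule (Fin d) k)) (hI : I ≠ ⊥) :
    ∃ P : Polynomial ℚ, P.degree < ((d - 1 : ℕ) : WithBot ℕ) ∧ ∃ N : ℕ, ∀ n : ℕ, N ≤ n →
      ((Module.finrank k ↥(MvPolynomial.homogeneousSubmodule (Fin d) k n) : ℚ) -
        (Module.finrank k ↥(I.toIdeal.restrictScalars k ⊓
          MvPolynomial.homogeneousSubmodule (Fin d) k n) : ℚ)) = P.eval (n : ℚ) := by
  have hne : I.toIdeal ≠ ⊥ := by
    intro h
    apply hI
    apply HomogeneousIdeal.toIdeal_injective
    rw [h, HomogeneousIdeal.toIdeal_bot]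
  obtain ⟨m, f, hfI, hf, hf0⟩ := exists_homogeneous_mem I.toIdeal I.isHomogeneous hne
  have hH : ∀ n, ((Module.finrank k ↥(MvPolynomial.homogeneousSubmodule (Fin d) k n) : ℚ) -
        (Module.finrank k ↥(I.toIdeal.restrictScalars k ⊓
          MvPolynomial.homogeneousSubmodule (Fin d) k n) : ℚ)) =
      (Module.finrank k (piece I.toIdeal n) : ℚ) := by
    intro n
    rw [← finrank_piece_add I.toIdeal n]
    push_cast
    ring
  simp only [hH]
  obtain ⟨r, rfl⟩ : ∃ r, d = r + 1 := ⟨d - 1, by omega⟩
  -- the basic inequality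
  have hbound : ∀ n, m ≤ n → Module.finrank k (piece I.toIdeal n) + (n - m + r).choose r ≤
      (n + r).choose r := by
    intro n hmn
    have h1 := finrank_piece_add I.toIdeal n
    have h2 := finrank_le_finrank_inf I.toIdeal hfI hf hf0 n hmn
    rw [Groth.Agent.H64.finrank_homogeneousSubmodule_fin] at h1 h2
    omega
  rcases Nat.eq_zero_or_pos r with hr | hr
  · subst hr
    refine ⟨0, ?_, m, fun n hn => ?_⟩
    · rw [Polynomial.degree_zero]
      exact WithBot.bot_lt_coe _
    · have := hbound n hn
      simp only [Nat.choose_zero_right] at this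
      have h0 : Module.finrank k (piece I.toIdeal n) = 0 := by omega
      rw [h0]
      simp
  · obtain ⟨r', rfl⟩ : ∃ r', r = r' + 1 := ⟨r - 1, by omega⟩
    obtain ⟨P, n₀, hP⟩ := exists_hilbert_poly I.toIdeal I.isHomogeneous
    refine ⟨P, ?_, n₀, hP⟩
    let Q : ℚ[X] := Polynomial.C (m : ℚ) * (Polynomial.X + Polynomial.C ((r' + 1 : ℕ) : ℚ)) ^ r'
    have hQdeg : Q.natDegree ≤ r' := by
      refine (Polynomial.natDegree_C_mul_le _ _).trans ?_
      refine (Polynomial.natDegree_pow_le).trans ?_
      rw [Polynomial.natDegree_X_add_C, mul_one]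
    have hPQ : P.natDegree ≤ Q.natDegree := by
      apply Groth.Agent.H17.HS.natDegree_le_of_eventually_le
      · refine ⟨n₀, fun n hn => ?_⟩
        rw [← hP n hn]
        exact Nat.cast_nonneg _
      · refine ⟨max n₀ m, fun n hn => ?_⟩
        rw [← hP n (le_of_max_le_left hn)]
        have hmn : m ≤ n := le_of_max_le_right hn
        have h1 := hbound n hmn
        have h2 := choose_sub_le r' n m hmn
        have h3 : Module.finrank k (piece I.toIdeal n) ≤ m * (n + (r' + 1)) ^ r' := by omega
        have h4 : Q.eval (n : ℚ) = ((m * (n + (r' + 1)) ^ r' : ℕ) : ℚ) := by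
          simp only [Q, Polynomial.eval_mul, Polynomial.eval_C, Polynomial.eval_pow,
            Polynomial.eval_add, Polynomial.eval_X]
          push_cast
          ring
        rw [h4]
        exact_mod_cast h3
    have : P.degree ≤ (r' : WithBot ℕ) :=
      Polynomial.degree_le_natDegree.trans (by exact_mod_cast hPQ.trans hQdeg)
    refine this.trans_lt ?_
    have : r' + 1 + 1 - 1 = r' + 1 := by omega
    rw [this]
    exact_mod_cast Nat.lt_succ_self r'

end Groth.Agent.H48.HilbDeg
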