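import Mathlib

/-!
# Homogenization: a finite type algebra as the degree-zero part of a localized graded algebra

The graded-quotient part (`quotGrading`, `quotGrading_isInternal`, `quotGradedAlgebra`) is taken
from helper18's `Groth.Agent.H18.GradedQuot` (copied here to keep this file self-contained).
-/

open HomogeneousLocalization DirectSum

namespace Groth.Agent.H48.Homog

section quot

variable {R A : Type*} [CommRing R] [CommRing A] [Algebra R A]
variable (𝒜 : ℕ → Submodule R A) [GradedAlgebra 𝒜] (I : Ideal A)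

/-- The grading on the quotient by an ideal: images of the graded pieces. -/
def quotGrading (n : ℕ) : Submodule R (A ⧸ I) :=
  (𝒜 n).map (Ideal.Quotient.mkₐ R I).toLinearMap

omit [GradedAlgebra 𝒜] in
theorem mk_mem_quotGrading {n : ℕ} {a : A} (ha : a ∈ 𝒜 n) :
    Ideal.Quotient.mk I a ∈ quotGrading 𝒜 I n :=
  ⟨a, ha, rfl⟩

omit [GradedAlgebra 𝒜] in
theorem exists_of_mem_quotGrading {n : ℕ} {b : A ⧸ I} (hb : b ∈ quotGrading 𝒜 I n) :
    ∃ a ∈ 𝒜 n, Ideal.Quotient.mk I a = b := by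
  obtain ⟨a, ha, rfl⟩ := hb
  exact ⟨a, ha, rfl⟩

instance quotGrading_gradedMonoid : SetLike.GradedMonoid (quotGrading 𝒜 I) where
  one_mem := ⟨1, SetLike.GradedOne.one_mem, map_one (Ideal.Quotient.mk I)⟩
  mul_mem := by
    rintro i j _ _ ⟨a, ha, rfl⟩ ⟨b, hb, rfl⟩
    exact ⟨a * b, SetLike.GradedMul.mul_mem ha hb, map_mul (Ideal.Quotient.mk I) a b⟩

variable {I} in
theorem quotGrading_isInternal (hI : I.IsHomogeneous 𝒜) :
    DirectSum.IsInternal (quotGrading 𝒜 I) := by
  classical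
  constructor
  · rw [injective_iff_map_eq_zero]
    intro x hx
    have hch : ∀ n : ℕ, ∃ a ∈ 𝒜 n, Ideal.Quotient.mk I a = (x n : A ⧸ I) :=
      fun n => exists_of_mem_quotGrading 𝒜 I (x n).2
    choose a ha hax using hch
    have hsum : (DirectSum.coeAddMonoidHom (quotGrading 𝒜 I)) x =
        Ideal.Quotient.mk I (∑ n ∈ x.support, a n) := by
      rw [map_sum]
      conv_lhs => rw [← DirectSum.sum_support_of x]
      rw [map_sum]
      refine Finset.sum_congr rfl fun n _ => ?_
      rw [DirectSum.coeAddMonoidHom_of, hax]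
    rw [hsum, Ideal.Quotient.eq_zero_iff_mem] at hx
    ext m
    by_cases hm : m ∈ x.support
    · have h1 := hI m hx
      rw [DirectSum.decompose_sum, DFinsupp.finsetSum_apply, AddSubmonoidClass.coe_finsetSum] at h1
      have h2 : ∀ n ∈ x.support,
          ((DirectSum.decompose 𝒜 (a n)) m : A) = if n = m then a m else 0 := by
        intro n _
        split_ifs with h
        · subst h; rw [DirectSum.decompose_of_mem_same 𝒜 (ha n)]
        · rw [DirectSum.decompose_of_mem_ne 𝒜 (ha n) h]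
      rw [Finset.sum_congr rfl h2, Finset.sum_ite_eq' x.support m, if_pos hm] at h1
      rw [DirectSum.zero_apply, ZeroMemClass.coe_zero, ← hax, Ideal.Quotient.eq_zero_iff_mem]
      exact h1
    · rw [DFinsupp.notMem_support_iff] at hm
      rw [hm]; rfl
  · intro b
    obtain ⟨a, rfl⟩ := Ideal.Quotient.mk_surjective b
    refine ⟨∑ n ∈ (DirectSum.decompose 𝒜 a).support,
      DirectSum.of (fun n => quotGrading 𝒜 I n) n
        ⟨Ideal.Quotient.mk I (DirectSum.decompose 𝒜 a n),
          mk_mem_quotGrading 𝒜 I (Subtype.prop _)⟩, ?_⟩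
    rw [map_sum]
    conv_rhs => rw [← DirectSum.sum_support_decompose 𝒜 a, map_sum]
    refine Finset.sum_congr rfl fun n _ => ?_
    rw [DirectSum.coeAddMonoidHom_of]

variable {I} in
/-- The quotient of a graded algebra by a homogeneous ideal is graded. -/
@[reducible] noncomputable def quotGradedAlgebra (hI : I.IsHomogeneous 𝒜) :
    GradedAlgebra (quotGrading 𝒜 I) :=
  { quotGrading_gradedMonoid 𝒜 I with
    toDecomposition := (quotGrading_isInternal 𝒜 hI).chooseDecomposition }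

end quot

section homog

universe u

variable {R R' : Type u} [CommRing R] [CommRing R'] [Algebra R R']

attribute [local instance] MvPolynomial.gradedAlgebra

variable {n : ℕ} (φ₀ : MvPolynomial (Fin n) R →ₐ[R] R')

/-- Dehomogenization `X_0 ↦ 1`, `X_i ↦ φ₀ X_i`. -/
noncomputable def dehom : MvPolynomial (Option (Fin n)) R →ₐ[R] R' :=
  MvPolynomial.aeval (fun o : Option (Fin n) => o.elim 1 (fun i => φ₀ (MvPolynomial.X i)))

@[simp] theorem dehom_X_none : dehom φ₀ (MvPolynomial.X none) = 1 := by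
  simp [dehom]

@[simp] theorem dehom_X_some (i : Fin n) :
    dehom φ₀ (MvPolynomial.X (some i)) = φ₀ (MvPolynomial.X i) := by
  simp [dehom]

/-- The homogeneous ideal generated by homogeneous forms of positive degree killed by `dehom`. -/
noncomputable def homIdeal : Ideal (MvPolynomial (Option (Fin n)) R) :=
  Ideal.span {F | ∃ d : ℕ, 0 < d ∧
    F ∈ MvPolynomial.homogeneousSubmodule (Option (Fin n)) R d ∧ dehom φ₀ F = 0}

theorem homIdeal_isHomogeneous :
    (homIdeal φ₀).IsHomogeneous (MvPolynomial.homogeneousSubmodule (Option (Fin n)) R) :=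
  Ideal.homogeneous_span _ _ (fun _ ⟨d, _, hF, _⟩ => ⟨d, hF⟩)

theorem homIdeal_le_ker : homIdeal φ₀ ≤ RingHom.ker (dehom φ₀) := by
  rw [homIdeal, Ideal.span_le]
  rintro F ⟨d, _, _, h⟩
  exact h

theorem mem_homIdeal_of_pos {d : ℕ} (hd : 0 < d) {F : MvPolynomial (Option (Fin n)) R}
    (hF : F ∈ MvPolynomial.homogeneousSubmodule (Option (Fin n)) R d) (h : dehom φ₀ F = 0) :
    F ∈ homIdeal φ₀ :=
  Ideal.subset_span ⟨d, hd, hF, h⟩

theorem homIdeal_le_irrelevant : homIdeal φ₀ ≤
    (HomogeneousIdeal.irrelevant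
      (MvPolynomial.homogeneousSubmodule (Option (Fin n)) R)).toIdeal := by
  rw [homIdeal, Ideal.span_le]
  rintro F ⟨d, hd, hF, _⟩
  exact HomogeneousIdeal.mem_irrelevant_of_mem _ hd hF

theorem eq_zero_of_mem_homIdeal_of_mem_zero {F : MvPolynomial (Option (Fin n)) R}
    (hF : F ∈ homIdeal φ₀)
    (h0 : F ∈ MvPolynomial.homogeneousSubmodule (Option (Fin n)) R 0) : F = 0 := by
  have := homIdeal_le_irrelevant φ₀ hF
  change F ∈ HomogeneousIdeal.irrelevant _ at this
  rw [HomogeneousIdeal.mem_irrelevant_iff, GradedRing.proj_apply,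
    DirectSum.decompose_of_mem_same _ h0] at this
  exact this

/-- The homogenized algebra. -/
abbrev HS : Type u := MvPolynomial (Option (Fin n)) R ⧸ homIdeal φ₀

/-- Its grading. -/
noncomputable abbrev HG : ℕ → Submodule R (HS φ₀) :=
  quotGrading (MvPolynomial.homogeneousSubmodule (Option (Fin n)) R) (homIdeal φ₀)

noncomputable instance : GradedAlgebra (HG φ₀) :=
  quotGradedAlgebra _ (homIdeal_isHomogeneous φ₀)

/-- The induced map `S → R'`. -/
noncomputable def dehomBar : HS φ₀ →ₐ[R] R' :=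
  Ideal.Quotient.liftₐ (homIdeal φ₀) (dehom φ₀) (fun _ ha => homIdeal_le_ker φ₀ ha)

@[simp] theorem dehomBar_mk (F : MvPolynomial (Option (Fin n)) R) :
    dehomBar φ₀ (Ideal.Quotient.mk _ F) = dehom φ₀ F := rfl

/-- The element `f = X_0`. -/
noncomputable def fS : HS φ₀ := Ideal.Quotient.mk _ (MvPolynomial.X none)

theorem fS_mem : fS φ₀ ∈ HG φ₀ 1 :=
  mk_mem_quotGrading _ _ (MvPolynomial.isHomogeneous_X R none)

theorem dehomBar_fS : dehomBar φ₀ (fS φ₀) = 1 := by
  simp [fS]

theorem algebraMap_injective : Function.Injective (algebraMap R (HS φ₀)) := by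
  rw [injective_iff_map_eq_zero]
  intro r hr
  have h1 : algebraMap R (HS φ₀) r = Ideal.Quotient.mk _ (MvPolynomial.C r) := rfl
  rw [h1, Ideal.Quotient.eq_zero_iff_mem] at hr
  have := eq_zero_of_mem_homIdeal_of_mem_zero φ₀ hr (MvPolynomial.isHomogeneous_C _ r)
  exact MvPolynomial.C_injective _ _ (by rw [this, map_zero])

theorem mem_range_of_mem_zero {x : HS φ₀} (hx : x ∈ HG φ₀ 0) :
    x ∈ Set.range (algebraMap R (HS φ₀)) := by
  obtain ⟨a, ha, rfl⟩ := exists_of_mem_quotGrading _ _ hx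
  rw [MvPolynomial.homogeneousSubmodule_zero, Submodule.mem_one] at ha
  obtain ⟨r, rfl⟩ := ha
  exact ⟨r, rfl⟩

open scoped Classical in
/-- The degree one generators. -/
noncomputable def gens : Finset (HS φ₀) :=
  Finset.univ.image (fun o : Option (Fin n) =>
    Ideal.Quotient.mk (homIdeal φ₀) (MvPolynomial.X o))

theorem gens_subset : (↑(gens φ₀) : Set (HS φ₀)) ⊆ (HG φ₀ 1 : Set (HS φ₀)) := by
  intro x hx
  simp only [gens, Finset.coe_image, Finset.coe_univ, Set.image_univ, Set.mem_range] at hx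
  obtain ⟨o, rfl⟩ := hx
  exact mk_mem_quotGrading _ _ (MvPolynomial.isHomogeneous_X R o)

theorem adjoin_gens : Algebra.adjoin R (↑(gens φ₀) : Set (HS φ₀)) = ⊤ := by
  have h1 : (↑(gens φ₀) : Set (HS φ₀)) =
      (Ideal.Quotient.mkₐ R (homIdeal φ₀)) '' (Set.range MvPolynomial.X) := by
    ext x
    simp only [gens, Finset.coe_image, Finset.coe_univ, Set.image_univ, Set.mem_range,
      Set.mem_image, exists_exists_eq_and]
    rfl
  rw [h1, ← AlgHom.map_adjoin, MvPolynomial.adjoin_range_X, Algebra.map_top]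
  exact (AlgHom.range_eq_top _).mpr (Ideal.Quotient.mkₐ_surjective R _)

/-- The map `S_f → R'`. -/
noncomputable def locMap : Localization.Away (fS φ₀) →+* R' :=
  IsLocalization.Away.lift (fS φ₀) (g := (dehomBar φ₀).toRingHom)
    (by change IsUnit (dehomBar φ₀ (fS φ₀)); rw [dehomBar_fS]; exact isUnit_one)

theorem locMap_algebraMap (a : HS φ₀) :
    locMap φ₀ (algebraMap (HS φ₀) (Localization.Away (fS φ₀)) a) = dehomBar φ₀ a :=
  IsLocalization.Away.lift_eq _ _ _

theorem locMap_mk (a : HS φ₀) (k : ℕ) :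
    locMap φ₀ (Localization.mk a (⟨fS φ₀ ^ k, k, rfl⟩ : Submonoid.powers (fS φ₀))) =
      dehomBar φ₀ a := by
  have h1 : Localization.mk a (⟨fS φ₀ ^ k, ⟨k, rfl⟩⟩ : Submonoid.powers (fS φ₀)) *
      algebraMap (HS φ₀) (Localization.Away (fS φ₀)) (fS φ₀ ^ k) = algebraMap _ _ a := by
    rw [Localization.mk_eq_mk']
    exact IsLocalization.mk'_spec _ _ _
  have h2 := congrArg (locMap φ₀) h1
  rw [map_mul, locMap_algebraMap, locMap_algebraMap, map_pow, dehomBar_fS, one_pow, mul_one] at h2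
  exact h2

/-- The comparison map `S_(f) → R'`. -/
noncomputable def e₀ : Away (HG φ₀) (fS φ₀) →+* R' :=
  (locMap φ₀).comp (algebraMap (Away (HG φ₀) (fS φ₀)) (Localization.Away (fS φ₀)))

theorem e₀_mk (k : ℕ) (a : HS φ₀) (ha : a ∈ HG φ₀ (k • 1)) :
    e₀ φ₀ (Away.mk (HG φ₀) (fS_mem φ₀) k a ha) = dehomBar φ₀ a :=
  locMap_mk φ₀ a k

theorem e₀_injective : Function.Injective (e₀ φ₀) := by
  rw [injective_iff_map_eq_zero]
  intro z hz
  obtain ⟨k, a, ha, rfl⟩ := Away.mk_surjective (HG φ₀) (fS_mem φ₀) z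
  rw [e₀_mk] at hz
  obtain ⟨F, hF, rfl⟩ := exists_of_mem_quotGrading _ _ ha
  rw [dehomBar_mk] at hz
  have hmem : MvPolynomial.X none * F ∈ homIdeal φ₀ := by
    apply mem_homIdeal_of_pos φ₀ (d := 1 + k • 1) (by omega)
    · exact SetLike.GradedMul.mul_mem (MvPolynomial.isHomogeneous_X R none) hF
    · rw [map_mul, hz, mul_zero]
  have hzero : fS φ₀ * Ideal.Quotient.mk _ F = 0 := by
    rw [fS, ← map_mul, Ideal.Quotient.eq_zero_iff_mem]
    exact hmem
  apply HomogeneousLocalization.val_injective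
  rw [Away.val_mk, HomogeneousLocalization.val_zero, Localization.mk_eq_mk',
    IsLocalization.mk'_eq_zero_iff]
  exact ⟨⟨fS φ₀, Submonoid.mem_powers _⟩, hzero⟩

theorem e₀_algebraMap (r : R) :
    e₀ φ₀ (Away.mk (HG φ₀) (fS_mem φ₀) 0 (algebraMap R (HS φ₀) r)
      (by rw [zero_smul]; exact SetLike.algebraMap_mem_graded _ r)) = algebraMap R R' r := by
  rw [e₀_mk, AlgHom.commutes]

theorem e₀_surjective (hφ₀ : Function.Surjective φ₀) : Function.Surjective (e₀ φ₀) := by
  intro r'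
  obtain ⟨F, rfl⟩ := hφ₀ r'
  induction F using MvPolynomial.induction_on with
  | C r =>
    refine ⟨_, (e₀_algebraMap φ₀ r).trans ?_⟩
    rw [← MvPolynomial.algebraMap_eq, AlgHom.commutes]
  | add p q hp hq =>
    obtain ⟨x, hx⟩ := hp
    obtain ⟨y, hy⟩ := hq
    exact ⟨x + y, by rw [map_add, hx, hy, map_add]⟩
  | mul_X p i hp =>
    obtain ⟨x, hx⟩ := hp
    refine ⟨x * Away.mk (HG φ₀) (fS_mem φ₀) 1
      (Ideal.Quotient.mk _ (MvPolynomial.X (some i)))
      (by rw [one_smul]; exact mk_mem_quotGrading _ _ (MvPolynomial.isHomogeneous_X R _)), ?_⟩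
    rw [map_mul, hx, e₀_mk, dehomBar_mk, dehom_X_some, map_mul]

end homog

section final

universe u

theorem exists_homogenization (R R' : Type u) [CommRing R] [CommRing R'] [Algebra R R']
    [Algebra.FiniteType R R'] :
    ∃ (S : Type u) (_ : CommRing S) (_ : Algebra R S) (𝒜 : ℕ → Submodule R S)
      (_ : GradedAlgebra 𝒜) (f : S) (_ : f ∈ 𝒜 1) (s : Finset S)
      (e : HomogeneousLocalization.Away 𝒜 f ≃+* R'),
      Function.Injective (algebraMap R S) ∧ (∀ x ∈ 𝒜 0, x ∈ Set.range (algebraMap R S)) ∧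
      (↑s ⊆ (𝒜 1 : Set S)) ∧ Algebra.adjoin R (s : Set S) = ⊤ ∧
      ∀ r : R, (e.symm (algebraMap R R' r)).val =
        algebraMap S (Localization.Away f) (algebraMap R S r) := by
  obtain ⟨n, φ₀, hφ₀⟩ := Algebra.FiniteType.iff_quotient_mvPolynomial''.mp ‹_›
  let e := RingEquiv.ofBijective (e₀ φ₀) ⟨e₀_injective φ₀, e₀_surjective φ₀ hφ₀⟩
  refine ⟨HS φ₀, inferInstance, inferInstance, HG φ₀, inferInstance, fS φ₀, fS_mem φ₀, gens φ₀, e,
    algebraMap_injective φ₀, fun x hx => mem_range_of_mem_zero φ₀ hx, gens_subset φ₀,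
    adjoin_gens φ₀, ?_⟩
  intro r
  have h1 : e.symm (algebraMap R R' r) = Away.mk (HG φ₀) (fS_mem φ₀) 0 (algebraMap R (HS φ₀) r)
      (by rw [zero_smul]; exact SetLike.algebraMap_mem_graded _ r) := by
    rw [RingEquiv.symm_apply_eq]
    exact (e₀_algebraMap φ₀ r).symm
  rw [h1, Away.val_mk, ← Localization.mk_one_eq_algebraMap]
  congr 1

end final

end Groth.Agent.H48.Homog
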