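import Mathlib

set_option autoImplicit false
universe u

namespace Groth.Agent.H48

section Idem

variable {R : Type u} [CommRing R]

/-- idempotents lying in a prime -/
def idemIn (p : PrimeSpectrum R) : Set R := {e : R | IsIdempotentElem e ∧ e ∈ p.asIdeal}

theorem idem_join {e₁ e₂ : R} (h₁ : IsIdempotentElem e₁) (h₂ : IsIdempotentElem e₂) :
    IsIdempotentElem (e₁ + e₂ - e₁ * e₂) := by
  have h1 : e₁ * e₁ = e₁ := h₁
  have h2 : e₂ * e₂ = e₂ := h₂
  show (e₁ + e₂ - e₁ * e₂) * (e₁ + e₂ - e₁ * e₂) = e₁ + e₂ - e₁ * e₂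
  have : (e₁ + e₂ - e₁ * e₂) * (e₁ + e₂ - e₁ * e₂) =
      e₁ * e₁ + e₂ * e₂ + 2 * (e₁ * e₂) - 2 * ((e₁ * e₁) * e₂) - 2 * (e₁ * (e₂ * e₂)) + (e₁ * e₁) * (e₂ * e₂) := by
    ring
  rw [this, h1, h2]
  ring

theorem exists_idem_span_singleton (p : PrimeSpectrum R) (x : R) (hx : x ∈ Ideal.span (idemIn p)) :
    ∃ e₀ ∈ idemIn p, x ∈ Ideal.span {e₀} := by
  induction hx using Submodule.span_induction with
  | mem x hx => exact ⟨x, hx, Ideal.subset_span rfl⟩
  | zero => exact ⟨0, ⟨IsIdempotentElem.zero, p.asIdeal.zero_mem⟩, Ideal.zero_mem _⟩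
  | add x y _ _ hx hy =>
    obtain ⟨e₁, ⟨h₁, h₁p⟩, hx⟩ := hx
    obtain ⟨e₂, ⟨h₂, h₂p⟩, hy⟩ := hy
    refine ⟨e₁ + e₂ - e₁ * e₂, ⟨idem_join h₁ h₂, ?_⟩, ?_⟩
    · exact p.asIdeal.sub_mem (p.asIdeal.add_mem h₁p h₂p) (p.asIdeal.mul_mem_right _ h₁p)
    · have he₁ : e₁ ∈ Ideal.span {e₁ + e₂ - e₁ * e₂} := by
        rw [Ideal.mem_span_singleton']
        refine ⟨e₁, ?_⟩
        have h1 : e₁ * e₁ = e₁ := h₁
        have : e₁ * (e₁ + e₂ - e₁ * e₂) = e₁ * e₁ + e₁ * e₂ - (e₁ * e₁) * e₂ := by ring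
        rw [this, h1]; ring
      have he₂ : e₂ ∈ Ideal.span {e₁ + e₂ - e₁ * e₂} := by
        rw [Ideal.mem_span_singleton']
        refine ⟨e₂, ?_⟩
        have h2 : e₂ * e₂ = e₂ := h₂
        have : e₂ * (e₁ + e₂ - e₁ * e₂) = e₂ * e₂ + e₁ * e₂ - e₁ * (e₂ * e₂) := by ring
        rw [this, h2]; ring
      rw [Ideal.mem_span_singleton'] at hx hy
      obtain ⟨a, rfl⟩ := hx
      obtain ⟨b, rfl⟩ := hy
      exact Ideal.add_mem _ (Ideal.mul_mem_left _ _ he₁) (Ideal.mul_mem_left _ _ he₂)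
  | smul a x _ hx =>
    obtain ⟨e₀, he₀, hx⟩ := hx
    exact ⟨e₀, he₀, Ideal.mul_mem_left _ _ hx⟩

theorem idem_mem_or (p : PrimeSpectrum R) (e : R) (he : IsIdempotentElem e) :
    e ∈ idemIn p ∨ 1 - e ∈ idemIn p := by
  have h0 : e * (1 - e) = 0 := by
    have h1 : e * e = e := he
    rw [mul_sub, mul_one, h1, sub_self]
  have : e * (1 - e) ∈ p.asIdeal := by rw [h0]; exact p.asIdeal.zero_mem
  rcases p.2.mem_or_mem this with h | h
  · exact Or.inl ⟨he, h⟩
  · exact Or.inr ⟨he.one_sub, h⟩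

/-- idempotents of the quotient by the ideal generated by idempotents in `p` are trivial -/
theorem quotient_idem_trivial (p : PrimeSpectrum R) (x : R ⧸ Ideal.span (idemIn p))
    (hx : IsIdempotentElem x) : x = 0 ∨ x = 1 := by
  obtain ⟨e, rfl⟩ := Ideal.Quotient.mk_surjective x
  have h1 : e * e - e ∈ Ideal.span (idemIn p) := by
    rw [← Ideal.Quotient.eq, map_mul]
    exact hx
  obtain ⟨e₀, ⟨he₀, he₀p⟩, hmem⟩ := exists_idem_span_singleton p _ h1
  rw [Ideal.mem_span_singleton'] at hmem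
  obtain ⟨c, hc⟩ := hmem
  have he₀' : e₀ * e₀ = e₀ := he₀
  have hidem : IsIdempotentElem (e * (1 - e₀)) := by
    show e * (1 - e₀) * (e * (1 - e₀)) = e * (1 - e₀)
    have e1 : e * (1 - e₀) * (e * (1 - e₀)) - e * (1 - e₀) =
        (e * e - e) * (1 - e₀) - (e * e) * (e₀ - e₀ * e₀) := by ring
    have e2 : (e * e - e) * (1 - e₀) = 0 := by
      rw [← hc]
      have : c * e₀ * (1 - e₀) = c * (e₀ - e₀ * e₀) := by ring
      rw [this, he₀', sub_self, mul_zero]
    rw [← sub_eq_zero, e1, e2, he₀', sub_self, mul_zero, sub_zero]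
  have hcong : Ideal.Quotient.mk (Ideal.span (idemIn p)) (e * (1 - e₀)) =
      Ideal.Quotient.mk (Ideal.span (idemIn p)) e := by
    rw [Ideal.Quotient.eq]
    have : e * (1 - e₀) - e = -(e * e₀) := by ring
    rw [this]
    exact neg_mem (Ideal.mul_mem_left _ _ (Ideal.subset_span ⟨he₀, he₀p⟩))
  rcases idem_mem_or p _ hidem with h | h
  · left
    rw [← hcong]
    exact Ideal.Quotient.eq_zero_iff_mem.mpr (Ideal.subset_span h)
  · right
    rw [← hcong, ← sub_eq_zero, ← map_one (Ideal.Quotient.mk (Ideal.span (idemIn p))), ← map_sub,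
      ← neg_eq_zero, ← map_neg, neg_sub]
    exact Ideal.Quotient.eq_zero_iff_mem.mpr (Ideal.subset_span h)

theorem preconnectedSpace_of_idem_trivial {A : Type u} [CommRing A]
    (h : ∀ x : A, IsIdempotentElem x → x = 0 ∨ x = 1) : PreconnectedSpace (PrimeSpectrum A) := by
  rw [preconnectedSpace_iff_clopen]
  intro s hs
  obtain ⟨e, he, rfl⟩ := PrimeSpectrum.isClopen_iff.mp hs
  rcases h e he with rfl | rfl
  · left; simp
  · right; simp

theorem connectedComponent_eq_zeroLocus (p : PrimeSpectrum R) :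
    connectedComponent p = PrimeSpectrum.zeroLocus (idemIn p) := by
  apply Set.Subset.antisymm
  · intro q hq
    rw [PrimeSpectrum.mem_zeroLocus]
    intro e he
    have hclopen : IsClopen (PrimeSpectrum.zeroLocus ({e} : Set R)) :=
      PrimeSpectrum.isClopen_iff_zeroLocus.mpr ⟨e, he.1, rfl⟩
    have hp : p ∈ PrimeSpectrum.zeroLocus ({e} : Set R) := by
      rw [PrimeSpectrum.mem_zeroLocus, Set.singleton_subset_iff]
      exact he.2
    have := hclopen.connectedComponent_subset hp hq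
    rw [PrimeSpectrum.mem_zeroLocus, Set.singleton_subset_iff] at this
    exact this
  · have : PreconnectedSpace (PrimeSpectrum (R ⧸ Ideal.span (idemIn p))) :=
      preconnectedSpace_of_idem_trivial (quotient_idem_trivial p)
    have hrange : Set.range (PrimeSpectrum.comap (Ideal.Quotient.mk (Ideal.span (idemIn p)))) =
        PrimeSpectrum.zeroLocus (idemIn p) := by
      rw [range_comap_of_surjective _ _ Ideal.Quotient.mk_surjective, Ideal.mk_ker,
        PrimeSpectrum.zeroLocus_span]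
    have hpre : IsPreconnected (PrimeSpectrum.zeroLocus (idemIn p)) := by
      rw [← hrange]
      exact isPreconnected_range (PrimeSpectrum.continuous_comap _)
    apply hpre.subset_connectedComponent
    rw [PrimeSpectrum.mem_zeroLocus]
    intro e he
    exact he.2

end Idem

end Groth.Agent.H48
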