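import Mathlib
import Groth.Agent.H48.FieldDim2
import Groth.Agent.H20.GenFibreImage

/-!
# Dimension of the image of a morphism: `dim (range f) ≥ trdeg κ(f ξ)/k`
-/

set_option autoImplicit false
set_option linter.unusedSectionVars false
set_option linter.style.haveILetI false
universe u

open AlgebraicGeometry CategoryTheory CategoryTheory.Limits TopologicalSpace

namespace Groth.Agent.H48.ImageDim

open Groth.Agent.H48.FieldDim Groth.Agent.H48.FieldDim2

variable {S X : Scheme.{u}}

/-- The image of a morphism locally of finite type contains a nonempty open of the closure of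
the image of any point. -/
theorem exists_open_inter_closure_subset_range (f : S ⟶ X) [LocallyOfFiniteType f] (ξ : S) :
    ∃ V : Set X, IsOpen V ∧ f ξ ∈ V ∧ closure {f ξ} ∩ V ⊆ Set.range f := by
  set η := f ξ with hη
  let B : Closeds X := ⟨closure {η}, isClosed_closure⟩
  let I := Scheme.IdealSheafData.vanishingIdeal B
  have hrange : Set.range I.subschemeι = closure {η} := by
    rw [Scheme.IdealSheafData.range_subschemeι]
    exact Scheme.IdealSheafData.coe_support_vanishingIdeal _
  have hirr : IsIrreducible (Set.range I.subschemeι) := by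
    rw [hrange]; exact isIrreducible_singleton.closure
  haveI : IrreducibleSpace ↥(Set.range I.subschemeι) := Subtype.irreducibleSpace hirr
  haveI : IrreducibleSpace ↥I.subscheme :=
    (I.subschemeι.isEmbedding.toHomeomorph).irreducibleSpace_iff.mpr inferInstance
  -- the generic point of the subscheme maps to `η`
  have hgen : I.subschemeι (genericPoint ↥I.subscheme) = η := by
    obtain ⟨t, ht⟩ : η ∈ Set.range I.subschemeι := by rw [hrange]; exact subset_closure rfl
    have h1 : genericPoint ↥I.subscheme ⤳ t := genericPoint_specializes t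
    have h2 : I.subschemeι (genericPoint ↥I.subscheme) ⤳ η := ht ▸ h1.map I.subschemeι.continuous
    have h3 : η ⤳ I.subschemeι (genericPoint ↥I.subscheme) := by
      rw [specializes_iff_mem_closure, ← hrange]
      exact Set.mem_range_self _
    exact (h2.antisymm h3).eq
  let g := pullback.snd f I.subschemeι
  have hg : genericPoint ↥I.subscheme ∈ Set.range g := by
    rw [Scheme.Pullback.range_snd]
    exact ⟨ξ, hgen.symm⟩
  obtain ⟨V, hVne, hV⟩ := Groth.Agent.H20.GenFibre.exists_open_subset_range g hg
  -- `V` is the preimage of an open of `X`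
  obtain ⟨V', hV'o, hV'⟩ := I.subschemeι.isEmbedding.isInducing.isOpen_iff.mp V.2
  have hgV : genericPoint ↥I.subscheme ∈ (V : Set ↥I.subscheme) := by
    obtain ⟨v, hv⟩ := hVne
    exact (genericPoint_specializes v).mem_open V.2 hv
  refine ⟨V', hV'o, ?_, ?_⟩
  · have : genericPoint ↥I.subscheme ∈ I.subschemeι ⁻¹' V' := by
      rw [hV']; exact hgV
    rw [← hgen]; exact this
  · rintro z ⟨hzB, hzV⟩
    obtain ⟨t, rfl⟩ : z ∈ Set.range I.subschemeι := by rw [hrange]; exact hzB
    have htV : t ∈ (V : Set ↥I.subscheme) := by
      change t ∈ V.carrier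
      rw [← hV']; exact hzV
    obtain ⟨a, ha⟩ := hV htV
    have h1 : t ∈ I.subschemeι ⁻¹' Set.range f := by
      rw [← Scheme.Pullback.range_snd]; exact ⟨a, ha⟩
    exact h1

variable {k : Type u} [Field k] (pX : X ⟶ Spec (CommRingCat.of k)) [LocallyOfFiniteType pX]

theorem delta_le_topologicalKrullDim_range (f : S ⟶ X) [LocallyOfFiniteType f] (ξ : S) :
    (((FieldDim.δ pX (f ξ)).toNat : ℕ∞) : WithBot ℕ∞) ≤ topologicalKrullDim ↥(Set.range f) := by
  obtain ⟨V, hVo, hηV, hsub⟩ := exists_open_inter_closure_subset_range f ξ
  rw [← topologicalKrullDim_closure_eq pX (f ξ),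
    ← topologicalKrullDim_closure_inter_open pX (f ξ) V hVo hηV]
  exact (Topology.IsInducing.topologicalKrullDim_le
    (Topology.IsEmbedding.inclusion hsub).isInducing)

end Groth.Agent.H48.ImageDim
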