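import Mathlib

set_option autoImplicit false
universe u

open AlgebraicGeometry CategoryTheory

namespace Groth.Agent.H48

/-- ring-level incomparability for integral ring homs -/
theorem prime_eq_of_le_of_comap_eq {R A : Type*} [CommRing R] [CommRing A] (φ : R →+* A)
    (hφ : φ.IsIntegral) (p q : PrimeSpectrum A) (hpq : p ≤ q)
    (hc : PrimeSpectrum.comap φ p = PrimeSpectrum.comap φ q) : p = q := by
  let _ := φ.toAlgebra
  have hint : Algebra.IsIntegral R A := ⟨hφ⟩
  by_contra hne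
  have hlt : p.asIdeal < q.asIdeal := lt_of_le_of_ne hpq (fun h => hne (PrimeSpectrum.ext h))
  have := p.2
  have h1 := Ideal.IsIntegral.comap_lt_comap (R := R) hlt
  have h2 : p.asIdeal.comap (algebraMap R A) = q.asIdeal.comap (algebraMap R A) :=
    congrArg PrimeSpectrum.asIdeal hc
  rw [h2] at h1
  exact lt_irrefl _ h1

theorem eq_of_specializes_of_integral_affine {X Y : Scheme.{u}} (g : X ⟶ Y) [IsAffine Y]
    [hg : IsIntegralHom g] {x y : X} (h : x ⤳ y) (hxy : g x = g y) : x = y := by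
  have hX : IsAffine X := isAffine_of_isAffineHom g
  have hφ : (g.appTop).hom.IsIntegral := IsIntegralHom.isIntegral_app g ⊤ (isAffineOpen_top Y)
  have hsp : X.toSpecΓ x ⤳ X.toSpecΓ y := h.map X.toSpecΓ.continuous
  let px : PrimeSpectrum Γ(X, ⊤) := X.toSpecΓ x
  let py : PrimeSpectrum Γ(X, ⊤) := X.toSpecΓ y
  have hle : px ≤ py := (PrimeSpectrum.le_iff_specializes px py).mpr hsp
  have hnat : ∀ z : X, (Spec.map g.appTop) (X.toSpecΓ z) = Y.toSpecΓ (g z) := by
    intro z
    rw [← Scheme.Hom.comp_apply, ← Scheme.Hom.comp_apply, Scheme.toSpecΓ_naturality]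
  have hc : PrimeSpectrum.comap (g.appTop).hom (X.toSpecΓ x) =
      PrimeSpectrum.comap (g.appTop).hom (X.toSpecΓ y) := by
    have e1 := hnat x
    have e2 := hnat y
    rw [hxy] at e1
    exact e1.trans e2.symm
  have heq : px = py := prime_eq_of_le_of_comap_eq _ hφ px py hle hc
  have hinj : Function.Injective X.toSpecΓ :=
    (ConcreteCategory.bijective_of_isIso (X.toSpecΓ.base)).1
  exact hinj heq

theorem eq_of_specializes_of_integralHom {X S : Scheme.{u}} (f : X ⟶ S) [IsIntegralHom f]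
    {x y : X} (h : x ⤳ y) (hxy : f x = f y) : x = y := by
  obtain ⟨_, ⟨V, hV : IsAffineOpen V, rfl⟩, hxV, -⟩ :=
    S.isBasis_affineOpens.exists_subset_of_mem_open (Set.mem_univ (f x)) isOpen_univ
  have hyV : f y ∈ V := hxy ▸ hxV
  let x' : ((f ⁻¹ᵁ V : X.Opens) : Scheme.{u}) := ⟨x, hxV⟩
  let y' : ((f ⁻¹ᵁ V : X.Opens) : Scheme.{u}) := ⟨y, hyV⟩
  have hsp : x' ⤳ y' := (subtype_specializes_iff (p := fun z => z ∈ f ⁻¹ᵁ V) ⟨x, hxV⟩ ⟨y, hyV⟩).mpr h
  have : IsAffine ↑V := hV
  have hxy' : (f ∣_ V) x' = (f ∣_ V) y' := by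
    apply Subtype.ext
    rw [morphismRestrict_base_coe, morphismRestrict_base_coe]
    exact hxy
  have := eq_of_specializes_of_integral_affine (f ∣_ V) hsp hxy'
  exact congrArg Subtype.val this

end Groth.Agent.H48
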