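import Mathlib

/-!
# In characteristic zero, elements with vanishing differential are algebraic
-/

open scoped TensorProduct

namespace Groth.Agent.H48

universe u v

open MvPolynomial in
/-- Given an algebraically independent family `v` in a `K`-algebra `L`, the partial derivative with
respect to `v i₀` as a `K`-derivation from `K[v]` to `L`. -/
noncomputable def pderivAdjoin {K : Type u} {L : Type v} [Field K] [Field L] [Algebra K L]
    {ι : Type v} {w : ι → L} (hb : AlgebraicIndependent K w) (i₀ : ι) :
    Derivation K (Algebra.adjoin K (Set.range w)) L :=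
  Derivation.mk'
    ((aeval w).toLinearMap ∘ₗ ((pderiv i₀ : Derivation K (MvPolynomial ι K) (MvPolynomial ι K)) :
      MvPolynomial ι K →ₗ[K] MvPolynomial ι K) ∘ₗ hb.repr.toLinearMap)
    (by
      intro a b
      simp only [LinearMap.coe_comp, Function.comp_apply, AlgHom.toLinearMap_apply, map_mul,
        Derivation.coeFn_coe, Derivation.leibniz, smul_eq_mul, map_add, hb.aeval_repr]
      rfl)

open MvPolynomial in
theorem pderivAdjoin_apply_self {K : Type u} {L : Type v} [Field K] [Field L] [Algebra K L]
    {ι : Type v} {w : ι → L} (hb : AlgebraicIndependent K w) (i₀ : ι) :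
    pderivAdjoin hb i₀ ⟨w i₀, Algebra.subset_adjoin ⟨i₀, rfl⟩⟩ = 1 := by
  classical
  have h1 : hb.repr ⟨w i₀, Algebra.subset_adjoin ⟨i₀, rfl⟩⟩ = X i₀ := by
    have : (⟨w i₀, Algebra.subset_adjoin ⟨i₀, rfl⟩⟩ : Algebra.adjoin K (Set.range w)) =
        hb.aevalEquiv (X i₀) := by
      apply Subtype.ext
      simp
    rw [this]
    exact AlgEquiv.symm_apply_apply _ _
  show aeval w (pderiv i₀ (hb.repr _)) = 1
  rw [h1, pderiv_X_self, map_one]

open scoped IntermediateField.algebraAdjoinAdjoin in
theorem isAlgebraic_of_D_eq_zero {K : Type u} {L : Type v} [Field K] [Field L] [Algebra K L] [CharZero K]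
    (x : L) (hx : KaehlerDifferential.D K L x = 0) : IsAlgebraic K x := by
  by_contra hxt
  have hxt' : Transcendental K x := hxt
  have hind : AlgebraicIndepOn K id ({x} : Set L) := by
    have : AlgebraicIndependent K (fun _ : Unit => x) :=
      algebraicIndependent_unique_type_iff.mpr hxt'
    have h2 := this.comp (fun _ : ({x} : Set L) => ()) (fun a b _ => Subtype.ext (by
      rw [a.2, b.2]))
    convert! h2 using 1
    ext a
    exact a.2
  obtain ⟨t, hxt, ht⟩ := exists_isTranscendenceBasis_superset hind
  have hb : AlgebraicIndependent K ((↑) : t → L) := ht.1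
  let i₀ : t := ⟨x, hxt rfl⟩
  have halg : Algebra.IsAlgebraic (IntermediateField.adjoin K (Set.range ((↑) : t → L))) L :=
    ht.isAlgebraic_field
  have : CharZero (IntermediateField.adjoin K (Set.range ((↑) : t → L))) :=
    charZero_of_injective_algebraMap (algebraMap K _).injective
  have hsep : Algebra.IsSeparable (IntermediateField.adjoin K (Set.range ((↑) : t → L))) L :=
    Algebra.IsAlgebraic.isSeparable_of_perfectField
  have h1 : Algebra.FormallyEtale (Algebra.adjoin K (Set.range ((↑) : t → L)))
      (IntermediateField.adjoin K (Set.range ((↑) : t → L))) :=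
    .of_isLocalization (nonZeroDivisors _)
  have h2 : Algebra.FormallyEtale (IntermediateField.adjoin K (Set.range ((↑) : t → L))) L :=
    Algebra.FormallyEtale.of_isSeparable _ L
  have h3 : Algebra.FormallyEtale (Algebra.adjoin K (Set.range ((↑) : t → L))) L :=
    .comp _ (IntermediateField.adjoin K (Set.range ((↑) : t → L))) _
  let x₀ : Algebra.adjoin K (Set.range ((↑) : t → L)) := ⟨x, Algebra.subset_adjoin ⟨i₀, rfl⟩⟩
  have h4 := KaehlerDifferential.tensorKaehlerEquivOfFormallyEtale_symm_D_algebraMap K
    (Algebra.adjoin K (Set.range ((↑) : t → L))) L x₀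
  have h5 : algebraMap (Algebra.adjoin K (Set.range ((↑) : t → L))) L x₀ = x := rfl
  rw [h5, hx, map_zero] at h4
  let δ := pderivAdjoin hb i₀
  have h6 := congrArg (LinearMap.liftBaseChange L δ.liftKaehlerDifferential) h4
  rw [map_zero, LinearMap.liftBaseChange_tmul, one_smul, Derivation.liftKaehlerDifferential_comp_D] at h6
  have h7 : δ x₀ = 1 := pderivAdjoin_apply_self hb i₀
  rw [h7] at h6
  exact zero_ne_one h6

end Groth.Agent.H48
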