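import Mathlib

/-!
# Kummer extensions of Dedekind domains unramified when the divisor is an `n`-th power

`A` Dedekind with fraction field `K`, `n` invertible in `A`, `(f) = I ^ n`, `L = K(α)`, `α ^ n = f`:
the integral closure of `A` in `L` is finite étale over `A`. Proof via the different ideal.
-/

set_option linter.style.haveILetI false

namespace Groth.Agent.H48.KummerEtale

open Polynomial nonZeroDivisors FractionalIdeal

section frac

variable {A : Type*} {K : Type*} [CommRing A] [IsDedekindDomain A]
    [Field K] [Algebra A K] [IsFractionRing A K]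

/-- If `(f) = I ^ n` (with `n ≥ 1`, `f ≠ 0`) and `p` is a prime, there is `t ≠ 0` in `K` with
`t ^ n * f ∈ A ∖ p`. -/
theorem exists_mul_pow_notMem (n : ℕ) (hn : n ≠ 0) (f : K) (hf : f ≠ 0)
    (I : FractionalIdeal A⁰ K) (hI : spanSingleton A⁰ f = I ^ n)
    (p : Ideal A) [p.IsPrime] :
    ∃ (t : K) (a : A), t ≠ 0 ∧ algebraMap A K a = t ^ n * f ∧ a ∉ p := by
  have hI0 : I ≠ 0 := by
    rintro rfl
    rw [zero_pow hn] at hI
    exact hf (spanSingleton_eq_zero_iff.mp hI)
  have hpI : (p : FractionalIdeal A⁰ K) * I⁻¹ < I⁻¹ := by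
    refine lt_of_le_of_ne ?_ ?_
    · calc (p : FractionalIdeal A⁰ K) * I⁻¹ ≤ 1 * I⁻¹ := by
            gcongr
            exact coeIdeal_le_one
        _ = I⁻¹ := one_mul _
    · intro h
      have h2 : (p : FractionalIdeal A⁰ K) * I⁻¹ * I = I⁻¹ * I := by rw [h]
      rw [mul_assoc, inv_mul_cancel₀ hI0, mul_one] at h2
      have h3 : p = ⊤ := by
        rw [← coeIdeal_top] at h2
        exact coeIdeal_injective h2
      exact (‹p.IsPrime›).ne_top h3
  obtain ⟨t, htI, htp⟩ := SetLike.exists_of_lt hpI
  have hJ : spanSingleton A⁰ t * I ≤ 1 := by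
    calc spanSingleton A⁰ t * I ≤ I⁻¹ * I := by
          gcongr
          exact spanSingleton_le_iff_mem.mpr htI
      _ = 1 := inv_mul_cancel₀ hI0
  obtain ⟨J₀, hJ₀⟩ := le_one_iff_exists_coeIdeal.mp hJ
  have hpow : spanSingleton A⁰ (t ^ n * f) = ((J₀ ^ n : Ideal A) : FractionalIdeal A⁰ K) := by
    rw [coeIdeal_pow, hJ₀, mul_pow, ← hI, spanSingleton_pow, spanSingleton_mul_spanSingleton]
  have hmem : t ^ n * f ∈ (1 : FractionalIdeal A⁰ K) := by
    have h1 : spanSingleton A⁰ (t ^ n * f) ≤ 1 := by
      rw [hpow]; exact coeIdeal_le_one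
    exact spanSingleton_le_iff_mem.mp h1
  obtain ⟨a, ha⟩ := (mem_one_iff A⁰).mp hmem
  refine ⟨t, a, ?_, ha, ?_⟩
  · rintro rfl
    exact htp (zero_mem _)
  · intro hap
    -- then `J₀ ^ n ≤ p`, so `J₀ ≤ p`, so `t ∈ p * I⁻¹`
    have h1 : (J₀ ^ n : Ideal A) ≤ p := by
      have : ((J₀ ^ n : Ideal A) : FractionalIdeal A⁰ K) ≤ (p : FractionalIdeal A⁰ K) := by
        rw [← hpow, spanSingleton_le_iff_mem, ← ha]
        exact (mem_coeIdeal_of_mem A⁰ hap)
      exact (coeIdeal_le_coeIdeal K).mp this
    have h2 : J₀ ≤ p := Ideal.IsPrime.le_of_pow_le h1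
    have h3 : spanSingleton A⁰ t * I ≤ (p : FractionalIdeal A⁰ K) := by
      rw [← hJ₀]; exact (coeIdeal_le_coeIdeal K).mpr h2
    have h4 : spanSingleton A⁰ t ≤ (p : FractionalIdeal A⁰ K) * I⁻¹ := by
      calc spanSingleton A⁰ t = spanSingleton A⁰ t * I * I⁻¹ := by
            rw [mul_assoc, mul_inv_cancel₀ hI0, mul_one]
        _ ≤ (p : FractionalIdeal A⁰ K) * I⁻¹ := by gcongr
    exact htp (spanSingleton_le_iff_mem.mp h4)

end frac

section main

attribute [local instance] FractionRing.liftAlgebra FractionRing.isScalarTower_liftAlgebra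

variable {A : Type*} {K : Type*} {L : Type*} [CommRing A] [IsDedekindDomain A]
    [Field K] [Algebra A K] [IsFractionRing A K]
    [Field L] [Algebra K L] [Algebra A L] [IsScalarTower A K L]

omit [IsDedekindDomain A] [IsFractionRing A K] in
theorem natCast_ne_zero_of_isUnit (n : ℕ) (hn : IsUnit (n : A)) [Nontrivial A] : (n : K) ≠ 0 := by
  have := (hn.map (algebraMap A K)).ne_zero
  simpa using this

omit [IsDedekindDomain A] [IsFractionRing A K] [Algebra A L] [IsScalarTower A K L] [CommRing A]
  [Algebra A K] in
/-- `L = K(α)` with `α ^ n = f`, `n ≠ 0` in `K`, `f ≠ 0`: then `L / K` is finite separable. -/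
theorem isSeparable_finite_of_pow_eq (n : ℕ) (hn : (n : K) ≠ 0) (f : K) (hf : f ≠ 0) (α : L)
    (hα : α ^ n = algebraMap K L f) (hgen : IntermediateField.adjoin K {α} = ⊤) :
    Algebra.IsSeparable K L ∧ FiniteDimensional K L := by
  have hroot : aeval α (X ^ n - C f : K[X]) = 0 := by simp [hα]
  have hsepP : (X ^ n - C f : K[X]).Separable := separable_X_pow_sub_C f hn hf
  have hne : (X ^ n - C f : K[X]) ≠ 0 := hsepP.ne_zero
  have hint : IsIntegral K α := IsAlgebraic.isIntegral ⟨_, hne, hroot⟩
  have hsep : IsSeparable K α := hsepP.of_dvd (minpoly.dvd K α hroot)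
  constructor
  · rw [← separableClosure.eq_top_iff, eq_top_iff, ← hgen, IntermediateField.adjoin_simple_le_iff]
    exact mem_separableClosure_iff.mpr hsep
  · have : FiniteDimensional K (IntermediateField.adjoin K {α}) :=
      IntermediateField.adjoin.finiteDimensional hint
    rw [hgen] at this
    exact Module.Finite.equiv (IntermediateField.topEquiv (F := K) (E := L)).toLinearEquiv

theorem etale_finite (n : ℕ) (hn : IsUnit (n : A)) (f : K) (hf : f ≠ 0)
    (I : FractionalIdeal A⁰ K) (hI : spanSingleton A⁰ f = I ^ n)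
    (α : L) (hα : α ^ n = algebraMap K L f) (hgen : IntermediateField.adjoin K {α} = ⊤) :
    Algebra.Etale A (integralClosure A L) ∧ Module.Finite A (integralClosure A L) := by
  have hn0 : n ≠ 0 := by
    rintro rfl
    simp at hn
  obtain ⟨hsep, hfin⟩ := isSeparable_finite_of_pow_eq n (natCast_ne_zero_of_isUnit n hn) f hf α hα hgen
  haveI : IsDedekindDomain (integralClosure A L) := integralClosure.isDedekindDomain A K L
  haveI : Module.Finite A (integralClosure A L) := IsIntegralClosure.finite A K L _
  haveI : IsFractionRing (integralClosure A L) L :=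
    integralClosure.isFractionRing_of_finite_extension K L
  haveI : Module.IsTorsionFree A L := by
    have : Module.IsTorsionFree A K := inferInstance
    exact Module.IsTorsionFree.trans_faithfulSMul A K L
  haveI : Module.IsTorsionFree A (integralClosure A L) := inferInstance
  set B := integralClosure A L with hB
  -- separability of the fraction fields
  have H : RingHom.comp (algebraMap (FractionRing A) (FractionRing B))
      ↑(FractionRing.algEquiv A K).symm.toRingEquiv =
        RingHom.comp ↑(FractionRing.algEquiv B L).symm.toRingEquiv (algebraMap K L) := by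
    apply IsLocalization.ringHom_ext A⁰
    ext
    simp only [RingHom.coe_comp, RingHom.coe_coe,
      AlgEquiv.coe_ringEquiv, Function.comp_apply, AlgEquiv.commutes,
      ← IsScalarTower.algebraMap_apply]
    rw [IsScalarTower.algebraMap_apply A B L, AlgEquiv.commutes, ← IsScalarTower.algebraMap_apply]
  haveI : Algebra.IsSeparable (FractionRing A) (FractionRing B) :=
    Algebra.IsSeparable.of_equiv_equiv _ _ H
  -- `n` is a unit in `B`
  have hnB : IsUnit ((n : ℕ) : B) := by
    have := hn.map (algebraMap A B)
    simpa using this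
  -- no prime divides the different
  have hunr : ∀ (P : Ideal B) [P.IsPrime], ¬ P ∣ differentIdeal A B := by
    intro P hP hdvd
    have hle : differentIdeal A B ≤ P := Ideal.le_of_dvd hdvd
    obtain ⟨t, a, ht0, hat, hap⟩ :=
      exists_mul_pow_notMem n hn0 f hf I hI (P.comap (algebraMap A B))
    -- the element `x = t α`
    let x : L := algebraMap K L t * α
    have hxn : x ^ n = algebraMap A L a := by
      simp only [x, mul_pow, hα, ← map_pow, ← map_mul, ← hat,
        ← IsScalarTower.algebraMap_apply A K L]
    have hxint : IsIntegral A x := by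
      refine ⟨X ^ n - C a, monic_X_pow_sub_C a hn0, ?_⟩
      simp [hxn]
    let xB : B := ⟨x, hxint⟩
    have hxBn : xB ^ n = algebraMap A B a := by
      apply Subtype.ext
      simpa using hxn
    have hgenx : Algebra.adjoin K {algebraMap B L xB} = ⊤ := by
      have hαalg : IsAlgebraic K α := Algebra.IsAlgebraic.isAlgebraic α
      have h1 : Algebra.adjoin K {α} = ⊤ := by
        rw [← IntermediateField.adjoin_simple_toSubalgebra_of_isAlgebraic hαalg, hgen,
          IntermediateField.top_toSubalgebra]
      rw [eq_top_iff, ← h1]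
      apply Algebra.adjoin_le
      intro y hy
      rw [Set.mem_singleton_iff] at hy
      rw [hy]
      have hx' : (algebraMap B L xB) = algebraMap K L t * α := rfl
      have hα' : α = (algebraMap K L t)⁻¹ * algebraMap B L xB := by
        rw [hx', ← mul_assoc, inv_mul_cancel₀ (by simpa using ht0), one_mul]
      rw [SetLike.mem_coe, hα', ← map_inv₀]
      exact Subalgebra.mul_mem _ (Subalgebra.algebraMap_mem _ _)
        (Algebra.subset_adjoin rfl)
    have hxBint : IsIntegral A xB := IsIntegralClosure.isIntegral A L xB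
    have hmem := aeval_derivative_mem_differentIdeal A K L xB hgenx
    have hroot : aeval xB (X ^ n - C a : A[X]) = 0 := by simp [hxBn]
    obtain ⟨h, hh⟩ := minpoly.isIntegrallyClosed_dvd hxBint hroot
    have hder := congrArg (fun q => aeval xB (derivative q)) hh
    simp only [derivative_sub, derivative_X_pow, derivative_C, sub_zero, derivative_mul,
      map_add, map_mul, minpoly.aeval, zero_mul, add_zero, map_pow, aeval_X,
      map_natCast] at hder
    have h2 : (n : B) * xB ^ (n - 1) ∈ P := by
      rw [hder]
      exact P.mul_mem_right _ (hle hmem)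
    have h3 : xB ^ (n - 1) ∈ P := by
      obtain ⟨u, hu⟩ := hnB
      have : (↑u⁻¹ : B) * ((n : B) * xB ^ (n - 1)) ∈ P := P.mul_mem_left _ h2
      rwa [← mul_assoc, ← hu, Units.inv_mul, one_mul] at this
    have h4 : xB ∈ P := hP.mem_of_pow_mem _ h3
    have h5 : algebraMap A B a ∈ P := by
      rw [← hxBn]
      exact Ideal.pow_mem_of_mem P h4 n (Nat.pos_of_ne_zero hn0)
    exact hap h5
  haveI : Algebra.FormallyUnramified A B :=
    Algebra.formallyUnramified_iff_forall.mpr
      (fun q => not_dvd_differentIdeal_iff.mp (hunr q.asIdeal))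
  haveI : Module.Flat A B := inferInstance
  haveI : Algebra.FinitePresentation A B :=
    Algebra.FinitePresentation.of_finiteType.mp inferInstance
  exact ⟨Algebra.Etale.of_formallyUnramified_of_flat, inferInstance⟩

end main

end Groth.Agent.H48.KummerEtale
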