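import Mathlib

/-!
# The `p`-power step for Kummer-type congruences in integrally closed domains
-/

namespace Groth.Agent.H48.KummerStep

universe u

theorem field_aux {K : Type*} [Field K] (q : ℕ) (W M C R a : K) (hM : M ≠ 0)
    (h : W ^ (q + 1) + M ^ q * C * R * W = M ^ (q + 1) * a) :
    (W / M) ^ (q + 1) + (C * R * (W / M) - a) = 0 := by
  have hMq : M ^ (q + 1) ≠ 0 := pow_ne_zero _ hM
  apply mul_left_cancel₀ hMq
  rw [mul_zero, mul_add, mul_sub, div_pow, mul_div_cancel₀ _ hMq]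
  have : M ^ (q + 1) * (C * R * (W / M)) = M ^ q * C * R * W := by
    rw [pow_succ]; field_simp
  rw [this, ← h]; ring

variable {A : Type u} [CommRing A]

/-- going up: `μ ∣ y - 1` and `μ^(p-1) ∣ p` imply `μ^p ∣ y^p - 1`. -/
theorem step_up (p : ℕ) (hp : p.Prime) (μ y : A) (hμ : μ ^ (p - 1) ∣ (p : A))
    (h : μ ∣ y - 1) : μ ^ p ∣ y ^ p - 1 := by
  obtain ⟨z, hz⟩ := h
  obtain ⟨c, hc⟩ := hμ
  obtain ⟨r, hr⟩ := exists_add_pow_prime_eq hp (1 : A) (μ * z)
  have hy : y = 1 + μ * z := by rw [← hz]; ring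
  obtain ⟨q, rfl⟩ : ∃ q, p = q + 1 := ⟨p - 1, (Nat.sub_add_cancel hp.one_le).symm⟩
  simp only [Nat.add_sub_cancel] at hc
  refine ⟨z ^ (q + 1) + c * z * r, ?_⟩
  rw [hy, hr, hc]
  ring

/-- going down: in an integrally closed domain, `μ^p ∣ y^p - 1` and `μ^(p-1) ∣ p` imply
`μ ∣ y - 1`. -/
theorem step_down [IsDomain A] [IsIntegrallyClosed A] (p : ℕ) (hp : p.Prime) (μ y : A)
    (hμ0 : μ ≠ 0) (hμ : μ ^ (p - 1) ∣ (p : A)) (h : μ ^ p ∣ y ^ p - 1) : μ ∣ y - 1 := by
  obtain ⟨a, ha⟩ := h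
  obtain ⟨c, hc⟩ := hμ
  obtain ⟨r, hr⟩ := exists_add_pow_prime_eq hp (1 : A) (y - 1)
  have hp1 : 1 < p := hp.one_lt
  obtain ⟨q, rfl⟩ : ∃ q, p = q + 1 := ⟨p - 1, (Nat.sub_add_cancel hp.one_le).symm⟩
  simp only [Nat.add_sub_cancel] at hc
  -- the relation in `A`
  have hrel : (y - 1) ^ (q + 1) + μ ^ q * c * r * (y - 1) = μ ^ (q + 1) * a := by
    have h1 : y ^ (q + 1) = 1 + (y - 1) ^ (q + 1) + ((q + 1 : ℕ) : A) * 1 * (y - 1) * r := by
      have : 1 + (y - 1) = y := by ring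
      rw [this, one_pow] at hr
      exact hr
    rw [← ha, h1, hc]
    ring
  have hμK : algebraMap A (FractionRing A) μ ≠ 0 := by
    rw [Ne, map_eq_zero_iff _ (IsFractionRing.injective A (FractionRing A))]
    exact hμ0
  have hzint : IsIntegral A
      (algebraMap A (FractionRing A) (y - 1) / algebraMap A (FractionRing A) μ) := by
    have hdeg : (Polynomial.C (c * r) * Polynomial.X - Polynomial.C a).degree <
        ((q + 1 : ℕ) : WithBot ℕ) := by
      refine lt_of_le_of_lt (Polynomial.degree_sub_le _ _) ?_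
      rw [max_lt_iff]
      constructor
      · refine lt_of_le_of_lt (Polynomial.degree_C_mul_X_le _) ?_
        exact_mod_cast hp1
      · refine lt_of_le_of_lt Polynomial.degree_C_le ?_
        exact_mod_cast hp.pos
    refine ⟨Polynomial.X ^ (q + 1) + (Polynomial.C (c * r) * Polynomial.X - Polynomial.C a),
      Polynomial.monic_X_pow_add hdeg, ?_⟩
    have hrelK := congrArg (algebraMap A (FractionRing A)) hrel
    simp only [map_add, map_mul, map_pow] at hrelK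
    simp only [Polynomial.eval₂_add, Polynomial.eval₂_sub, Polynomial.eval₂_mul,
      Polynomial.eval₂_pow, Polynomial.eval₂_X, Polynomial.eval₂_C, map_mul]
    exact field_aux q _ _ _ _ _ hμK hrelK
  obtain ⟨b, hb⟩ := IsIntegrallyClosed.isIntegral_iff.mp hzint
  refine ⟨b, ?_⟩
  apply IsFractionRing.injective A (FractionRing A)
  rw [map_mul, hb, mul_div_cancel₀ _ hμK]

/-- the equivalence for one step -/
theorem step_iff [IsDomain A] [IsIntegrallyClosed A] (p : ℕ) (hp : p.Prime) (μ y : A)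
    (hμ0 : μ ≠ 0) (hμ : μ ^ (p - 1) ∣ (p : A)) : μ ^ p ∣ y ^ p - 1 ↔ μ ∣ y - 1 :=
  ⟨step_down p hp μ y hμ0 hμ, step_up p hp μ y hμ⟩

/-- the iterated equivalence -/
theorem iterate_iff [IsDomain A] [IsIntegrallyClosed A] (p : ℕ) (hp : p.Prime) (n : ℕ) (lam x : A)
    (hlam : lam ≠ 0) (hstar : lam ^ (p ^ (n - 1) * (p - 1)) ∣ (p : A)) :
    ∀ j, j ≤ n → (lam ^ p ^ j ∣ x ^ p ^ j - 1 ↔ lam ∣ x - 1) := by
  intro j
  induction j with
  | zero => intro _; simp
  | succ j ih =>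
    intro hj
    rw [← ih (by omega)]
    have h1 : lam ^ p ^ (j + 1) = (lam ^ p ^ j) ^ p := by rw [← pow_mul, pow_succ]
    have h2 : x ^ p ^ (j + 1) = (x ^ p ^ j) ^ p := by rw [← pow_mul, pow_succ]
    rw [h1, h2]
    apply step_iff p hp _ _ (pow_ne_zero _ hlam)
    refine dvd_trans ?_ hstar
    rw [← pow_mul]
    apply pow_dvd_pow
    have : p ^ j ≤ p ^ (n - 1) := Nat.pow_le_pow_right hp.pos (by omega)
    exact Nat.mul_le_mul_right _ this

end Groth.Agent.H48.KummerStep
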