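import Mathlib

/-!
# Maximal points of closed subsets
-/

set_option autoImplicit false
universe u

namespace Groth.Agent.H48.MaxPoint

/-- Every point of a closed subset `T` of a quasi-sober `T0` space is a specialization of a point
of `T` with no proper generization inside `T`. -/
theorem exists_maximal_point {X : Type u} [TopologicalSpace X] [QuasiSober X] [T0Space X]
    (T : Set X) (hT : IsClosed T) (s₀ : X) (hs₀ : s₀ ∈ T) :
    ∃ w ∈ T, w ⤳ s₀ ∧ ∀ s' ∈ T, s' ⤳ w → s' = w := by
  let t₀ : T := ⟨s₀, hs₀⟩
  let C : Set T := irreducibleComponent t₀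
  have hCirr : IsIrreducible C := isIrreducible_irreducibleComponent
  have hCcl : IsClosed C := isClosed_irreducibleComponent
  have hemb : Topology.IsClosedEmbedding (Subtype.val : T → X) := hT.isClosedEmbedding_subtypeVal
  let W : Set X := Subtype.val '' C
  have hWcl : IsClosed W := hemb.isClosedMap C hCcl
  have hWirr : IsIrreducible W := hCirr.image _ continuous_subtype_val.continuousOn
  obtain ⟨w, hw⟩ := QuasiSober.sober hWirr hWcl
  have hwW : w ∈ W := by rw [← hw.def]; exact subset_closure rfl
  have hWT : W ⊆ T := by rintro _ ⟨c, -, rfl⟩; exact c.2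
  refine ⟨w, hWT hwW, ?_, ?_⟩
  · rw [specializes_iff_mem_closure, hw.def]
    exact ⟨t₀, mem_irreducibleComponent, rfl⟩
  · intro s' hs' hsw
    let t' : T := ⟨s', hs'⟩
    let D : Set T := closure {t'}
    have hDirr : IsPreirreducible D := isIrreducible_singleton.closure.isPreirreducible
    have hCD : C ⊆ D := by
      intro c hc
      change c ∈ closure {t'}
      rw [hemb.isEmbedding.isInducing.closure_eq_preimage_closure_image, Set.image_singleton]
      change (c : X) ∈ closure {s'}
      have h1 : (c : X) ∈ closure {w} := by rw [hw.def]; exact ⟨c, hc, rfl⟩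
      have h2 : closure {w} ⊆ closure {s'} := specializes_iff_closure_subset.mp hsw
      exact h2 h1
    have hDC : D = C := (irreducibleComponent_property t₀).2.2 D hDirr hCD
    have h3 : s' ∈ W := ⟨t', by rw [← hDC]; exact subset_closure rfl, rfl⟩
    have h4 : w ⤳ s' := by rw [specializes_iff_mem_closure, hw.def]; exact h3
    exact (hsw.antisymm h4).eq

end Groth.Agent.H48.MaxPoint
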