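import Mathlib
import Groth.Prelude.Def_Cyc
import Groth.Agent.H48.ClosedDim
import Groth.Agent.H48.DivLocFin
import Groth.Agent.H48.EnvelopeKer3
import Groth.Agent.H54.SecOrdGen

/-!
# Mayer–Vietoris for Chow groups: exactness in the middle
-/

set_option autoImplicit false
set_option linter.unusedSectionVars false
set_option linter.style.haveILetI false
universe u

open AlgebraicGeometry CategoryTheory CategoryTheory.Limits TopologicalSpace Opposite Topology

namespace Groth.Agent.H48.MayerVietoris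

section Push

variable {Z X : Scheme.{u}} (j : Z ⟶ X)

/-- Pushforward along a closed immersion, at a point of the image. -/
theorem map_apply_of_isClosedImmersion [IsClosedImmersion j] (wZ : Z → ℤ) (wX : X → ℤ)
    (hw : ∀ z, wZ z = wX (j z)) (α : AlgebraicCycle Z ℤ) (z : Z) :
    AlgebraicCycle.map j wZ wX α (j z) = α z := by
  have hinj : Function.Injective j := j.isEmbedding.injective
  simp only [AlgebraicCycle.map, Function.locallyFinsupp.map_apply]
  have hfib : (j : Z → X) ⁻¹' {j z} = {z} := by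
    ext z'
    simp only [Set.mem_preimage, Set.mem_singleton_iff]
    exact ⟨fun h => hinj h, fun h => congrArg j h⟩
  rw [hfib, finsum_mem_singleton]
  unfold AlgebraicCycle.mapCoeff
  rw [if_pos (hw z), Groth.Agent.H48.ClosedDim.residueDegree_eq_one]
  simp

theorem map_apply_of_notMem_range [QuasiCompact j] (wZ : Z → ℤ) (wX : X → ℤ)
    (α : AlgebraicCycle Z ℤ) (x : X) (hx : x ∉ Set.range j) :
    AlgebraicCycle.map j wZ wX α x = 0 := by
  simp only [AlgebraicCycle.map, Function.locallyFinsupp.map_apply]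
  refine finsum_mem_eq_zero_of_forall_eq_zero fun z hz => ?_
  exact absurd ⟨z, hz⟩ hx

end Push

theorem finsum_eq_subtype_add_subtype_not {ι : Type*} (a : ι → ℤ) (P : ι → Prop)
    (hfin : (Function.support a).Finite) :
    ∑ᶠ i, a i = ∑ᶠ i : {i // P i}, a i.1 + ∑ᶠ i : {i // ¬ P i}, a i.1 := by
  rw [finsum_subtype_eq_finsum_cond (p := P) (f := a),
    finsum_subtype_eq_finsum_cond (p := fun i => ¬ P i) (f := a)]
  have h1 : ∑ᶠ i, a i = ∑ᶠ i ∈ ({i | P i} ∪ {i | ¬ P i} : Set ι), a i := by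
    have : ({i | P i} ∪ {i | ¬ P i} : Set ι) = Set.univ := by
      ext i
      simp only [Set.mem_union, Set.mem_setOf_eq, Set.mem_univ, iff_true]
      exact em _
    rw [this, finsum_mem_univ]
  rw [h1]
  refine finsum_mem_union' ?_ (hfin.subset Set.inter_subset_right)
    (hfin.subset Set.inter_subset_right)
  rw [Set.disjoint_left]
  intro i h1 h2
  exact h2 h1

section Side

variable {Z X : Scheme.{u}} (j : Z ⟶ X) [IsClosedImmersion j] [IsLocallyNoetherian X]
  (δ : X → ℤ) (hd : Cyc.IsDimFun X δ)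

include hd in
/-- A locally finite family of principal divisors on `X` whose generic points lie in the closed
subscheme `Z` restricts to such a family on `Z`. -/
theorem exists_cycle_of_family (k : ℤ) {I : Type u} (ξ : I → X)
    (g : (i : I) → X.residueField (ξ i)) (hξ : ∀ i, δ (ξ i) = k + 1) (hg : ∀ i, g i ≠ 0)
    (hlf : ∀ x : X, ∃ U : Set X, IsOpen U ∧ x ∈ U ∧ {i | (closure {ξ i} ∩ U).Nonempty}.Finite)
    (hmem : ∀ i, ξ i ∈ Set.range j) :
    ∃ D : AlgebraicCycle Z ℤ,
      (∀ z : Z, D z = ∑ᶠ i, Cyc.divFun δ (ξ i) (g i) (j z)) ∧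
      (∀ φ : AlgebraicCycle Z ℤ, (∀ z, φ z = D z) → Cyc.RatEquivZero (fun z => δ (j z)) k φ) ∧
      (∀ φ : AlgebraicCycle Z ℤ, (∀ z, φ z = - D z) →
        Cyc.RatEquivZero (fun z => δ (j z)) k φ) := by
  classical
  haveI : IsLocallyNoetherian Z := LocallyOfFiniteType.isLocallyNoetherian j
  have hdZ := Groth.Agent.H48.ClosedDim.isDimFun_comp j δ hd
  choose ζ hζ using hmem
  let t : (i : I) → X.residueField (j (ζ i)) :=
    fun i => (X.residueFieldCongr (hζ i).symm).hom (g i)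
  have ht : ∀ i, t i ≠ 0 := fun i => (map_ne_zero _).mpr (hg i)
  have hdivt : ∀ i, Cyc.divFun δ (j (ζ i)) (t i) = Cyc.divFun δ (ξ i) (g i) :=
    fun i => Groth.Agent.H48.EnvelopeKer.divFun_residueFieldCongr δ _ _ _ _
  let G : (i : I) → Z.residueField (ζ i) := fun i => (j.residueFieldMap (ζ i)).hom (t i)
  have hG : ∀ i, G i ≠ 0 := fun i => (map_ne_zero _).mpr (ht i)
  have hGinv : ∀ i, (G i)⁻¹ ≠ 0 := fun i => inv_ne_zero (hG i)
  have hdivG : ∀ i z, Cyc.divFun (X := Z) (fun z => δ (j z)) (ζ i) (G i) z =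
      Cyc.divFun δ (ξ i) (g i) (j z) := by
    intro i z
    rw [← hdivt i]
    exact (Groth.Agent.H48.ClosedOrd.divFun_map_of_isClosedImmersion j δ (ζ i) z (t i)).symm
  have hdivGinv : ∀ i z, Cyc.divFun (X := Z) (fun z => δ (j z)) (ζ i) (G i)⁻¹ z =
      - Cyc.divFun (X := Z) (fun z => δ (j z)) (ζ i) (G i) z := by
    intro i z
    unfold Cyc.divFun
    by_cases hc : ζ i ⤳ z ∧ δ (j z) + 1 = δ (j (ζ i))
    · rw [dif_pos hc, dif_pos hc]
      exact Groth.Agent.H54.SecOrdGen.ordAt_inv z (ζ i) hc.1 (hG i)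
    · rw [dif_neg hc, dif_neg hc, neg_zero]
  have hδζ : ∀ i, δ (j (ζ i)) = k + 1 := fun i => by rw [hζ, hξ]
  have hlfZ : ∀ z : Z, ∃ U : Set Z, IsOpen U ∧ z ∈ U ∧
      {i | (closure {ζ i} ∩ U).Nonempty}.Finite := by
    intro z
    obtain ⟨U', hU'o, hzU', hfin⟩ := hlf (j z)
    refine ⟨j ⁻¹' U', hU'o.preimage j.continuous, hzU', hfin.subset ?_⟩
    rintro i ⟨w, hw1, hw2⟩
    refine ⟨j w, ?_, hw2⟩
    have h1 : ζ i ⤳ w := specializes_iff_mem_closure.mpr hw1
    have h2 : j (ζ i) ⤳ j w := h1.map j.continuous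
    rw [hζ] at h2
    exact specializes_iff_mem_closure.mp h2
  let Df : Z → ℤ := fun z => ∑ᶠ i, Cyc.divFun (X := Z) (fun z => δ (j z)) (ζ i) (G i) z
  have hDsupp : ∀ z ∈ (Set.univ : Set Z), ∃ t ∈ 𝓝 z, (t ∩ Function.support Df).Finite :=
    fun z _ => Groth.Agent.H48.DivLocFin.support_finsum_divFun_locallyFinite _ hdZ ζ G hG hlfZ z
  let D : AlgebraicCycle Z ℤ := ⟨Df, fun _ _ => Set.mem_univ _, hDsupp⟩
  have hD : ∀ z, D z = Df z := fun z => rfl
  refine ⟨D, ?_, ?_, ?_⟩
  · intro z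
    rw [hD]
    exact finsum_congr fun i => hdivG i z
  · intro φ hφ
    exact ⟨I, ζ, G, hδζ, hG, hlfZ, fun z => by rw [hφ z, hD]⟩
  · intro φ hφ
    refine ⟨I, ζ, fun i => (G i)⁻¹, hδζ, hGinv, hlfZ, fun z => ?_⟩
    rw [hφ z, hD]
    simp only [Df]
    rw [← finsum_neg_distrib]
    exact finsum_congr fun i => (hdivGinv i z).symm

end Side

end Groth.Agent.H48.MayerVietoris
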