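import Mathlib
import Groth.Prelude.Def_Cyc
import Groth.Agent.H48.MayerVietoris

/-!
# Mayer–Vietoris for Chow groups: exactness in the middle (main theorem)
-/

set_option autoImplicit false
set_option linter.unusedSectionVars false
set_option linter.style.haveILetI false
universe u

open AlgebraicGeometry CategoryTheory CategoryTheory.Limits TopologicalSpace Opposite Topology

namespace Groth.Agent.H48.MayerVietoris

theorem main (X : Scheme.{u}) (δ : X → ℤ) (hX : Cyc.IsSetup X δ) (X₁ X₂ : Scheme.{u})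
    (i₁ : X₁ ⟶ X) (i₂ : X₂ ⟶ X) [IsClosedImmersion i₁] [IsClosedImmersion i₂]
    (hcov : Set.range ⇑i₁ ∪ Set.range ⇑i₂ = Set.univ) (k : ℤ) (α₁ : AlgebraicCycle X₁ ℤ)
    (α₂ : AlgebraicCycle X₂ ℤ) (h₁ : α₁ ∈ Cyc.Zk X₁ (fun x => δ (i₁ x)) k)
    (h₂ : α₂ ∈ Cyc.Zk X₂ (fun x => δ (i₂ x)) k)
    (h : Cyc.RatEquiv δ k (AlgebraicCycle.map i₁ (fun x => δ (i₁ x)) δ α₁)
      (AlgebraicCycle.map i₂ (fun x => δ (i₂ x)) δ α₂)) :
    ∃ β : AlgebraicCycle (pullback i₁ i₂) ℤ,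
      β ∈ Cyc.Zk (pullback i₁ i₂) (fun z => δ (i₁ (pullback.fst i₁ i₂ z))) k ∧
      Cyc.RatEquiv (fun x => δ (i₁ x)) k α₁
        (AlgebraicCycle.map (pullback.fst i₁ i₂) (fun z => δ (i₁ (pullback.fst i₁ i₂ z)))
          (fun x => δ (i₁ x)) β) ∧
      Cyc.RatEquiv (fun x => δ (i₂ x)) k α₂
        (AlgebraicCycle.map (pullback.snd i₁ i₂) (fun z => δ (i₁ (pullback.fst i₁ i₂ z)))
          (fun x => δ (i₂ x)) β) := by
  classical
  haveI : IsLocallyNoetherian X := hX.1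
  have hd : Cyc.IsDimFun X δ := hX.2.2
  obtain ⟨ι, ξ, g, hξ, hg, hlf, hsum⟩ := h
  let P : ι → Prop := fun i => ξ i ∈ Set.range i₁
  have hP2 : ∀ i : {i // ¬ P i}, ξ i.1 ∈ Set.range i₂ := by
    intro i
    have : ξ i.1 ∈ Set.range i₁ ∪ Set.range i₂ := by rw [hcov]; trivial
    exact this.resolve_left i.2
  have hlf1 : ∀ x : X, ∃ U : Set X, IsOpen U ∧ x ∈ U ∧
      {i : {i // P i} | (closure {ξ i.1} ∩ U).Nonempty}.Finite := by
    intro x
    obtain ⟨U, hU, hxU, hfin⟩ := hlf x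
    refine ⟨U, hU, hxU, ?_⟩
    have : {i : {i // P i} | (closure {ξ i.1} ∩ U).Nonempty} =
        Subtype.val ⁻¹' {i | (closure {ξ i} ∩ U).Nonempty} := rfl
    rw [this]
    exact hfin.preimage Subtype.val_injective.injOn
  have hlf2 : ∀ x : X, ∃ U : Set X, IsOpen U ∧ x ∈ U ∧
      {i : {i // ¬ P i} | (closure {ξ i.1} ∩ U).Nonempty}.Finite := by
    intro x
    obtain ⟨U, hU, hxU, hfin⟩ := hlf x
    refine ⟨U, hU, hxU, ?_⟩
    have : {i : {i // ¬ P i} | (closure {ξ i.1} ∩ U).Nonempty} =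
        Subtype.val ⁻¹' {i | (closure {ξ i} ∩ U).Nonempty} := rfl
    rw [this]
    exact hfin.preimage Subtype.val_injective.injOn
  obtain ⟨D₁, hD₁, hD₁pos, -⟩ := exists_cycle_of_family i₁ δ hd k
    (fun i : {i // P i} => ξ i.1) (fun i => g i.1) (fun i => hξ i.1) (fun i => hg i.1) hlf1
    (fun i => i.2)
  obtain ⟨D₂, hD₂, -, hD₂neg⟩ := exists_cycle_of_family i₂ δ hd k
    (fun i : {i // ¬ P i} => ξ i.1) (fun i => g i.1) (fun i => hξ i.1) (fun i => hg i.1) hlf2 hP2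
  have hsplit : ∀ x, ∑ᶠ i, Cyc.divFun δ (ξ i) (g i) x =
      ∑ᶠ i : {i // P i}, Cyc.divFun δ (ξ i.1) (g i.1) x +
        ∑ᶠ i : {i // ¬ P i}, Cyc.divFun δ (ξ i.1) (g i.1) x := by
    intro x
    apply finsum_eq_subtype_add_subtype_not (fun i => Cyc.divFun δ (ξ i) (g i) x) P
    obtain ⟨U, hU, hxU, hfin⟩ := hlf x
    refine hfin.subset ?_
    intro i hi
    have hcond : ξ i ⤳ x := by
      by_contra hc
      apply hi
      change Cyc.divFun δ (ξ i) (g i) x = 0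
      unfold Cyc.divFun
      rw [dif_neg (fun h => hc h.1)]
    exact ⟨x, specializes_iff_mem_closure.mp hcond, hxU⟩
  have hA1 : ∀ x, x ∉ Set.range i₁ →
      ∑ᶠ i : {i // P i}, Cyc.divFun δ (ξ i.1) (g i.1) x = 0 := by
    intro x hx
    refine finsum_eq_zero_of_forall_eq_zero fun i => ?_
    unfold Cyc.divFun
    rw [dif_neg]
    rintro ⟨h1, -⟩
    exact hx (h1.mem_closed i₁.isClosedEmbedding.isClosed_range i.2)
  have hA2 : ∀ x, x ∉ Set.range i₂ →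
      ∑ᶠ i : {i // ¬ P i}, Cyc.divFun δ (ξ i.1) (g i.1) x = 0 := by
    intro x hx
    refine finsum_eq_zero_of_forall_eq_zero fun i => ?_
    unfold Cyc.divFun
    rw [dif_neg]
    rintro ⟨h1, -⟩
    exact hx (h1.mem_closed i₂.isClosedEmbedding.isClosed_range (hP2 i))
  have hsum' : ∀ x, AlgebraicCycle.map i₁ (fun x => δ (i₁ x)) δ α₁ x -
      AlgebraicCycle.map i₂ (fun x => δ (i₂ x)) δ α₂ x =
      ∑ᶠ i : {i // P i}, Cyc.divFun δ (ξ i.1) (g i.1) x +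
        ∑ᶠ i : {i // ¬ P i}, Cyc.divFun δ (ξ i.1) (g i.1) x := by
    intro x
    rw [← hsplit x, ← hsum x]
    simp only [Function.locallyFinsuppWithin.coe_sub, Pi.sub_apply]
  have hm1 : ∀ x₁, AlgebraicCycle.map i₁ (fun x => δ (i₁ x)) δ α₁ (i₁ x₁) = α₁ x₁ :=
    fun x₁ => map_apply_of_isClosedImmersion i₁ _ δ (fun _ => rfl) α₁ x₁
  have hm2 : ∀ x₂, AlgebraicCycle.map i₂ (fun x => δ (i₂ x)) δ α₂ (i₂ x₂) = α₂ x₂ :=
    fun x₂ => map_apply_of_isClosedImmersion i₂ _ δ (fun _ => rfl) α₂ x₂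
  have K1 : ∀ x₁ x₂, i₁ x₁ = i₂ x₂ → α₁ x₁ - D₁ x₁ = α₂ x₂ + D₂ x₂ := by
    intro x₁ x₂ he
    have h1 := hsum' (i₁ x₁)
    rw [hm1, ← hD₁ x₁] at h1
    rw [he, hm2, ← hD₂ x₂] at h1
    linarith
  have K2 : ∀ x₁, i₁ x₁ ∉ Set.range i₂ → α₁ x₁ - D₁ x₁ = 0 := by
    intro x₁ hx
    have h1 := hsum' (i₁ x₁)
    rw [hm1, ← hD₁ x₁, hA2 _ hx, map_apply_of_notMem_range i₂ _ δ α₂ _ hx] at h1
    linarith
  have K3 : ∀ x₂, i₂ x₂ ∉ Set.range i₁ → α₂ x₂ + D₂ x₂ = 0 := by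
    intro x₂ hx
    have h1 := hsum' (i₂ x₂)
    rw [hm2, ← hD₂ x₂, hA1 _ hx, map_apply_of_notMem_range i₁ _ δ α₁ _ hx] at h1
    linarith
  -- the cycle on the intersection
  set pr₁ := pullback.fst i₁ i₂ with hpr₁
  set pr₂ := pullback.snd i₁ i₂ with hpr₂
  have hinj₁ : Function.Injective pr₁ := pr₁.isEmbedding.injective
  have hc : ∀ z : ↥(pullback i₁ i₂), i₁ (pr₁ z) = i₂ (pr₂ z) := by
    intro z
    have := congrArg (fun m : pullback i₁ i₂ ⟶ X => m z) (pullback.condition (f := i₁) (g := i₂))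
    exact this
  let βf : ↥(pullback i₁ i₂) → ℤ := fun z => α₁ (pr₁ z) - D₁ (pr₁ z)
  have hβsupp : ∀ z ∈ (Set.univ : Set ↥(pullback i₁ i₂)),
      ∃ t ∈ 𝓝 z, (t ∩ Function.support βf).Finite := by
    intro z _
    obtain ⟨t, ht, hfin⟩ := (α₁ - D₁).supportLocallyFiniteWithinDomain (pr₁ z) (Set.mem_univ _)
    refine ⟨pr₁ ⁻¹' t, pr₁.continuous.continuousAt ht,
      (hfin.preimage hinj₁.injOn).subset ?_⟩
    rintro z' ⟨hz't, hz'⟩
    refine ⟨hz't, ?_⟩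
    have hz'' : βf z' ≠ 0 := hz'
    change (α₁ - D₁) (pr₁ z') ≠ 0
    simp only [Function.locallyFinsuppWithin.coe_sub, Pi.sub_apply]
    exact hz''
  let β : AlgebraicCycle (pullback i₁ i₂) ℤ := ⟨βf, fun _ _ => Set.mem_univ _, hβsupp⟩
  have hβ : ∀ z, β z = βf z := fun z => rfl
  have hD₁k : ∀ x₁, δ (i₁ x₁) ≠ k → D₁ x₁ = 0 := by
    intro x₁ hx
    rw [hD₁]
    refine finsum_eq_zero_of_forall_eq_zero fun i => ?_
    unfold Cyc.divFun
    rw [dif_neg]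
    rintro ⟨-, h2⟩
    apply hx
    have := hξ i.1
    change δ (i₁ x₁) + 1 = δ (ξ i.1) at h2
    omega
  refine ⟨β, ?_, ?_, ?_⟩
  · intro z hz
    rw [hβ]
    simp only [βf]
    rw [h₁ (pr₁ z) hz, hD₁k (pr₁ z) hz, sub_zero]
  · apply hD₁pos
    intro x₁
    simp only [Function.locallyFinsuppWithin.coe_sub, Pi.sub_apply]
    by_cases hx : x₁ ∈ Set.range pr₁
    · obtain ⟨z, rfl⟩ := hx
      rw [map_apply_of_isClosedImmersion pr₁ (fun z => δ (i₁ (pullback.fst i₁ i₂ z)))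
        (fun x => δ (i₁ x)) (fun _ => rfl) β z, hβ]
      simp only [βf]
      ring
    · rw [map_apply_of_notMem_range pr₁ (fun z => δ (i₁ (pullback.fst i₁ i₂ z)))
        (fun x => δ (i₁ x)) β _ hx]
      have hx' : i₁ x₁ ∉ Set.range i₂ := by
        rw [hpr₁, Scheme.Pullback.range_fst] at hx
        exact hx
      have := K2 x₁ hx'
      linarith
  · apply hD₂neg
    intro x₂
    simp only [Function.locallyFinsuppWithin.coe_sub, Pi.sub_apply]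
    by_cases hx : x₂ ∈ Set.range pr₂
    · obtain ⟨z, rfl⟩ := hx
      rw [map_apply_of_isClosedImmersion pr₂ (fun z => δ (i₁ (pullback.fst i₁ i₂ z)))
        (fun x => δ (i₂ x)) (fun z => congrArg δ (hc z)) β z, hβ]
      simp only [βf]
      have := K1 (pr₁ z) (pr₂ z) (hc z)
      linarith
    · rw [map_apply_of_notMem_range pr₂ (fun z => δ (i₁ (pullback.fst i₁ i₂ z)))
        (fun x => δ (i₂ x)) β _ hx]
      have hx' : i₂ x₂ ∉ Set.range i₁ := by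
        rw [hpr₂, Scheme.Pullback.range_snd] at hx
        exact hx
      have := K3 x₂ hx'
      linarith

end Groth.Agent.H48.MayerVietoris
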