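import Mathlib

/-!
# For a separable algebraic extension `k'/k`, the multiplication `k' ⊗ k' → k'` is a localization
-/

open TensorProduct
open scoped IntermediateField

namespace Groth.Agent.H48.MulLoc

universe u

variable {k k' : Type u} [Field k] [Field k'] [Algebra k k']

/-- Naturality of `lmul'`. -/
theorem lmul'_map (E : IntermediateField k k') (z : E ⊗[k] E) :
    Algebra.TensorProduct.lmul' (S := k') k (Algebra.TensorProduct.map E.val E.val z) =
      ((Algebra.TensorProduct.lmul' (S := E) k z : E) : k') := by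
  induction z using TensorProduct.induction_on with
  | zero => simp
  | tmul x y => simp
  | add x y hx hy => simp only [map_add, hx, hy, AddMemClass.coe_add]

/-- For each `s`, an element `e` with `μ e = 1` killing `1 ⊗ s - s ⊗ 1`. -/
theorem exists_elem [Algebra.IsSeparable k k'] (s : k') :
    ∃ e : k' ⊗[k] k', Algebra.TensorProduct.lmul' (S := k') k e = 1 ∧
      e * ((1 : k') ⊗ₜ[k] s - s ⊗ₜ[k] (1 : k')) = 0 := by
  have hint : IsIntegral k s := Algebra.IsIntegral.isIntegral s
  have : FiniteDimensional k k⟮s⟯ := IntermediateField.adjoin.finiteDimensional hint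
  have : Algebra.IsSeparable k k⟮s⟯ := inferInstance
  have : Algebra.FormallyUnramified k k⟮s⟯ := Algebra.FormallyUnramified.of_isSeparable k k⟮s⟯
  let s₁ : k⟮s⟯ := ⟨s, IntermediateField.mem_adjoin_simple_self k s⟩
  refine ⟨Algebra.TensorProduct.map k⟮s⟯.val k⟮s⟯.val (Algebra.FormallyUnramified.elem k k⟮s⟯),
    ?_, ?_⟩
  · rw [lmul'_map, Algebra.FormallyUnramified.lmul_elem]
    rfl
  · have h1 : (1 : k') ⊗ₜ[k] s - s ⊗ₜ[k] (1 : k') =
        Algebra.TensorProduct.map k⟮s⟯.val k⟮s⟯.val ((1 : k⟮s⟯) ⊗ₜ[k] s₁ - s₁ ⊗ₜ[k] (1 : k⟮s⟯)) := by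
      simp [s₁]
    rw [h1, ← map_mul, mul_comm, Algebra.FormallyUnramified.one_tmul_sub_tmul_one_mul_elem,
      map_zero]

theorem exists_elem_of_mem_ker [Algebra.IsSeparable k k'] (t : k' ⊗[k] k')
    (ht : Algebra.TensorProduct.lmul' (S := k') k t = 0) :
    ∃ e : k' ⊗[k] k', Algebra.TensorProduct.lmul' (S := k') k e = 1 ∧ e * t = 0 := by
  have hmem : t ∈ KaehlerDifferential.ideal k k' := ht
  rw [← KaehlerDifferential.span_range_eq_ideal] at hmem
  clear ht
  induction hmem using Submodule.span_induction with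
  | mem x hx =>
    obtain ⟨s, rfl⟩ := hx
    exact exists_elem s
  | zero => exact ⟨1, map_one _, mul_zero _⟩
  | add x y _ _ hx hy =>
    obtain ⟨e, he1, he2⟩ := hx
    obtain ⟨e', he1', he2'⟩ := hy
    refine ⟨e * e', by rw [map_mul, he1, he1', mul_one], ?_⟩
    rw [mul_add, mul_right_comm, he2, zero_mul, mul_assoc, he2', mul_zero, add_zero]
  | smul a x _ hx =>
    obtain ⟨e, he1, he2⟩ := hx
    refine ⟨e, he1, ?_⟩
    rw [smul_eq_mul, mul_left_comm, he2, mul_zero]

theorem exists_localization_equiv [Algebra.IsSeparable k k'] :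
    ∃ (S : Submonoid (k' ⊗[k] k')) (e : Localization S ≃+* k'), ∀ x : k' ⊗[k] k',
      e (algebraMap (k' ⊗[k] k') (Localization S) x) =
        Algebra.TensorProduct.lmul' (S := k') k x := by
  let μ : k' ⊗[k] k' →+* k' := (Algebra.TensorProduct.lmul' (S := k') k).toRingHom
  have hprime : (RingHom.ker μ).IsPrime := RingHom.ker_isPrime μ
  let S := (RingHom.ker μ).primeCompl
  have hunit : ∀ y : S, IsUnit (μ y) := fun y => isUnit_iff_ne_zero.mpr y.2
  let φ : Localization S →+* k' := IsLocalization.lift hunit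
  have hφ : ∀ x, φ (algebraMap _ _ x) = μ x := IsLocalization.lift_eq hunit
  have hsurj : Function.Surjective φ := fun y =>
    ⟨algebraMap (k' ⊗[k] k') (Localization S) (y ⊗ₜ[k] (1 : k')), by rw [hφ]; simp [μ]⟩
  have hinj : Function.Injective φ := by
    rw [IsLocalization.lift_injective_iff]
    intro x y
    constructor
    · intro h
      rw [← hφ, ← hφ, h]
    · intro h
      have h0 : Algebra.TensorProduct.lmul' (S := k') k (x - y) = 0 := by
        rw [map_sub, sub_eq_zero]
        exact h
      obtain ⟨e, he1, he2⟩ := exists_elem_of_mem_ker (x - y) h0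
      rw [IsLocalization.eq_iff_exists S]
      refine ⟨⟨e, ?_⟩, ?_⟩
      · intro hmem
        have : μ e = 0 := hmem
        have h1 : μ e = 1 := he1
        rw [h1] at this
        exact one_ne_zero this
      · rw [← sub_eq_zero, ← mul_sub]
        exact he2
  exact ⟨S, RingEquiv.ofBijective φ ⟨hinj, hsurj⟩, hφ⟩

end Groth.Agent.H48.MulLoc
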