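import Mathlib

/-!
# The largest submodule with nowhere dense support
-/

open PrimeSpectrum

namespace Groth.Agent.H48

variable {R : Type*} [CommRing R] (M : Type*) [AddCommGroup M] [Module R M]

/-- Elements of `M` vanishing at all generic points of `Supp M`. -/
def genericKer : Submodule R M where
  carrier := {m | ∀ p ∈ (Module.annihilator R M).minimalPrimes, ∃ s ∉ p, s • m = 0}
  zero_mem' := fun p hp => ⟨1, (Ideal.ne_top_iff_one _).mp hp.1.1.ne_top, by simp⟩
  add_mem' := by
    intro a b ha hb p hp
    obtain ⟨s, hs, hsa⟩ := ha p hp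
    obtain ⟨t, ht, htb⟩ := hb p hp
    have := hp.1.1
    refine ⟨s * t, fun h => (this.mem_or_mem h).elim hs ht, ?_⟩
    rw [smul_add, mul_smul s t b, htb, smul_zero, add_zero, mul_comm, mul_smul, hsa, smul_zero]
  smul_mem' := by
    intro c a ha p hp
    obtain ⟨s, hs, hsa⟩ := ha p hp
    exact ⟨s, hs, by rw [smul_comm, hsa, smul_zero]⟩

variable {M}

theorem mem_genericKer {m : M} : m ∈ genericKer (R := R) M ↔
    ∀ p ∈ (Module.annihilator R M).minimalPrimes, ∃ s ∉ p, s • m = 0 := Iff.rfl

theorem le_genericKer_iff (K' : Submodule R M) : K' ≤ genericKer (R := R) M ↔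
    ∀ p (hp : p ∈ (Module.annihilator R M).minimalPrimes),
      (⟨p, hp.1.1⟩ : PrimeSpectrum R) ∉ Module.support R K' := by
  constructor
  · intro h p hp
    rw [Module.notMem_support_iff']
    intro m
    obtain ⟨s, hs, hsm⟩ := h m.2 p hp
    exact ⟨s, hs, Subtype.ext hsm⟩
  · intro h m hm p hp
    have := h p hp
    rw [Module.notMem_support_iff'] at this
    obtain ⟨s, hs, hsm⟩ := this ⟨m, hm⟩
    exact ⟨s, hs, congrArg Subtype.val hsm⟩

section Noeth

variable [IsNoetherianRing R] [Module.Finite R M]

theorem nowhereDense_iff (K' : Submodule R M) :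
    (∀ U : Set (PrimeSpectrum R), IsOpen U →
      U ∩ Module.support R M ⊆ closure (Module.support R ↥K') → U ∩ Module.support R M = ∅) ↔
    ∀ p (hp : p ∈ (Module.annihilator R M).minimalPrimes),
      (⟨p, hp.1.1⟩ : PrimeSpectrum R) ∉ Module.support R K' := by
  have hclosed : IsClosed (Module.support R K') := by
    rw [Module.support_eq_zeroLocus]; exact isClosed_zeroLocus _
  constructor
  · intro h p hp hpK
    have hPfin : (Module.annihilator R M).minimalPrimes.Finite :=
      Ideal.finite_minimalPrimes_of_isNoetherianRing R _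
    let U : Set (PrimeSpectrum R) :=
      (⋃ p' ∈ ((Module.annihilator R M).minimalPrimes \ {p}), zeroLocus (p' : Set R))ᶜ
    have hU : IsOpen U := by
      rw [isOpen_compl_iff]
      exact (hPfin.subset Set.sdiff_subset).isClosed_biUnion fun p' _ => isClosed_zeroLocus _
    have hsub : U ∩ Module.support R M ⊆ closure (Module.support R K') := by
      rintro x ⟨hxU, hxM⟩
      apply subset_closure
      rw [Module.support_eq_zeroLocus, mem_zeroLocus] at hxM
      obtain ⟨p', hp', hp'x⟩ := Ideal.exists_minimalPrimes_le hxM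
      have : p' = p := by
        by_contra hne
        apply hxU
        simp only [Set.mem_iUnion]
        exact ⟨p', ⟨hp', hne⟩, hp'x⟩
      subst this
      exact Module.mem_support_mono (p := ⟨p', hp.1.1⟩) hp'x hpK
    have hempty := h U hU hsub
    have hpmem : (⟨p, hp.1.1⟩ : PrimeSpectrum R) ∈ U ∩ Module.support R M := by
      refine ⟨?_, ?_⟩
      · intro hx
        simp only [Set.mem_iUnion] at hx
        obtain ⟨p', ⟨hp', hne⟩, hle⟩ := hx
        exact hne (le_antisymm hle (hp.2 hp'.1 hle))
      · rw [Module.support_eq_zeroLocus, mem_zeroLocus]; exact hp.1.2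
    rw [hempty] at hpmem; exact hpmem
  · intro h U hU hsub
    by_contra hne
    obtain ⟨x, hxU, hxM⟩ := Set.nonempty_iff_ne_empty.mpr hne
    have hxM' := hxM
    rw [Module.support_eq_zeroLocus, mem_zeroLocus] at hxM'
    obtain ⟨p, hp, hpx⟩ := Ideal.exists_minimalPrimes_le hxM'
    let pp : PrimeSpectrum R := ⟨p, hp.1.1⟩
    have hspec : pp ⤳ x := (PrimeSpectrum.le_iff_specializes pp x).mp hpx
    have hpU : pp ∈ U := hspec.mem_open hU hxU
    have hpM : pp ∈ Module.support R M := by
      rw [Module.support_eq_zeroLocus, mem_zeroLocus]; exact hp.1.2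
    have := hsub ⟨hpU, hpM⟩
    rw [hclosed.closure_eq] at this
    exact h p hp this

theorem support_quotient_genericKer :
    Module.support R (M ⧸ genericKer (R := R) M) = Module.support R M := by
  apply le_antisymm
  · exact Module.support_subset_of_surjective _ (Submodule.mkQ_surjective _)
  · intro x hxM
    have hxM' := hxM
    rw [Module.support_eq_zeroLocus, mem_zeroLocus] at hxM'
    obtain ⟨p, hp, hpx⟩ := Ideal.exists_minimalPrimes_le hxM'
    have hpM : (⟨p, hp.1.1⟩ : PrimeSpectrum R) ∈ Module.support R M := by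
      rw [Module.support_eq_zeroLocus, mem_zeroLocus]; exact hp.1.2
    refine Module.mem_support_mono (p := ⟨p, hp.1.1⟩) hpx ?_
    rw [Module.mem_support_iff'] at hpM ⊢
    obtain ⟨m, hm⟩ := hpM
    refine ⟨Submodule.Quotient.mk m, fun r hr h0 => ?_⟩
    rw [← Submodule.Quotient.mk_smul, Submodule.Quotient.mk_eq_zero] at h0
    obtain ⟨t, ht, htm⟩ := h0 p hp
    exact hm (t * r) (fun h => (hp.1.1.mem_or_mem h).elim ht hr) (by rw [mul_smul]; exact htm)

theorem associatedPrimes_quotient_genericKer_subset :
    associatedPrimes R (M ⧸ genericKer (R := R) M) ⊆ (Module.annihilator R M).minimalPrimes := by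
  intro q hq
  rw [AssociatedPrimes.mem_iff, isAssociatedPrime_iff] at hq
  obtain ⟨hqprime, x, hx⟩ := hq
  obtain ⟨m, rfl⟩ := Submodule.Quotient.mk_surjective _ x
  have hqmem : ∀ s : R, s ∈ q ↔ s • m ∈ genericKer (R := R) M := by
    intro s
    rw [hx, Submodule.mem_colon_singleton, Submodule.mem_bot, ← Submodule.Quotient.mk_smul,
      Submodule.Quotient.mk_eq_zero]
  have hmK : m ∉ genericKer (R := R) M := by
    intro hm
    apply hqprime.ne_top
    rw [Ideal.eq_top_iff_one, hqmem, one_smul]
    exact hm
  rw [mem_genericKer] at hmK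
  push Not at hmK
  obtain ⟨p, hp, hpm⟩ := hmK
  have hqp : q ≤ p := by
    intro s hs
    rw [hqmem] at hs
    obtain ⟨t, ht, htm⟩ := hs p hp
    by_contra hsp
    exact hpm (t * s) (fun h => (hp.1.1.mem_or_mem h).elim ht hsp) (by rw [mul_smul]; exact htm)
  have hann : Module.annihilator R M ≤ q := by
    intro r hr
    rw [hqmem, Module.mem_annihilator.mp hr m]
    exact zero_mem _
  have hpq : p ≤ q := hp.2 ⟨hqprime, hann⟩ hqp
  rw [le_antisymm hqp hpq]
  exact hp

theorem exists_pow_smul_eq_zero_of_mem_genericKer (f : R)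
    (hf : ∀ p ∈ associatedPrimes R M, ¬ Minimal (fun x => x ∈ associatedPrimes R M) p → f ∈ p)
    {m : M} (hm : m ∈ genericKer (R := R) M) : ∃ n : ℕ, f ^ n • m = 0 := by
  suffices h : f ∈ (Submodule.span R {m}).annihilator.radical by
    obtain ⟨n, hn⟩ := h
    exact ⟨n, Submodule.mem_annihilator_span_singleton _ _ |>.mp hn⟩
  rw [← Ideal.sInf_minimalPrimes, Ideal.mem_sInf]
  intro q hq
  have hqAss : q ∈ associatedPrimes R (Submodule.span R {m}) :=
    Module.associatedPrimes.minimalPrimes_annihilator_subset_associatedPrimes R _ hq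
  have hqM : q ∈ associatedPrimes R M :=
    associatedPrimes.subset_of_injective (f := (Submodule.span R {m}).subtype)
      Subtype.val_injective hqAss
  apply hf q hqM
  intro hmin
  have hannq : Module.annihilator R M ≤ q :=
    Submodule.annihilator_top (R := R) (M := M) ▸ IsAssociatedPrime.annihilator_le hqM
  have hqprime : q.IsPrime := hq.1.1
  obtain ⟨p, hp, hpq⟩ := Ideal.exists_minimalPrimes_le hannq
  have hpAss : p ∈ associatedPrimes R M :=
    Module.associatedPrimes.minimalPrimes_annihilator_subset_associatedPrimes R M hp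
  have hqp : q ≤ p := hmin.2 hpAss hpq
  have hqeq : q = p := le_antisymm hqp hpq
  subst hqeq
  obtain ⟨s, hs, hsm⟩ := hm q hp
  apply hs
  apply hq.1.2
  rw [Submodule.mem_annihilator_span_singleton]
  exact hsm

theorem bijective_map_mkQ_genericKer (f : R)
    (hf : ∀ p ∈ associatedPrimes R M, ¬ Minimal (fun x => x ∈ associatedPrimes R M) p → f ∈ p) :
    Function.Bijective
      (LocalizedModule.map (Submonoid.powers f) (genericKer (R := R) M).mkQ) := by
  constructor
  · rw [injective_iff_map_eq_zero]
    intro x hx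
    induction x using LocalizedModule.induction_on with
    | h m s =>
      rw [LocalizedModule.map_mk, ← LocalizedModule.zero_mk 1, LocalizedModule.mk_eq] at hx
      obtain ⟨u, hu⟩ := hx
      rw [smul_zero, smul_zero, one_smul] at hu
      obtain ⟨k, hk⟩ := u.2
      have hmem : f ^ k • m ∈ genericKer (R := R) M := by
        rw [← Submodule.Quotient.mk_eq_zero, Submodule.Quotient.mk_smul]
        have : u • (genericKer (R := R) M).mkQ m = 0 := hu
        rw [Submonoid.smul_def, ← hk] at this
        exact this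
      obtain ⟨n, hn⟩ := exists_pow_smul_eq_zero_of_mem_genericKer f hf hmem
      rw [← LocalizedModule.zero_mk 1, LocalizedModule.mk_eq]
      refine ⟨⟨f ^ (n + k), pow_mem (Submonoid.mem_powers f) (n + k)⟩, ?_⟩
      rw [smul_zero, smul_zero, one_smul]
      change f ^ (n + k) • m = 0
      rw [pow_add, mul_smul]
      exact hn
  · exact LocalizedModule.map_surjective _ _ (Submodule.mkQ_surjective _)

end Noeth

end Groth.Agent.H48
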