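import Mathlib
import Groth.Agent.H48.CompDimBC2
import Groth.Agent.H48.CycDim7
import Groth.Agent.H48.ProdDim

/-!
# Nowhere dense locally closed subsets of equidimensional schemes of finite type over a field
-/

set_option autoImplicit false
set_option linter.unusedSectionVars false
set_option linter.style.haveILetI false
universe u

open AlgebraicGeometry CategoryTheory CategoryTheory.Limits TopologicalSpace Opposite

namespace Groth.Agent.H48.NowhereDenseDim

open Groth.Agent.H48.DimFunSch Groth.Agent.H48.FieldDim Groth.Agent.H48.FieldDim2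
  Groth.Agent.H48.CompDimBC2 Groth.Agent.H48.CycDim7

variable {k : Type u} [Field k] {Y : Scheme.{u}} (g : Y ⟶ Spec (CommRingCat.of k))
  [LocallyOfFiniteType g]

include g in
theorem isLocallyNoetherian : IsLocallyNoetherian Y :=
  LocallyOfFiniteType.isLocallyNoetherian g

/-- The generic point of an irreducible component has an open neighbourhood inside the
component. -/
theorem exists_open_subset_closure [IsLocallyNoetherian Y] (ξ : Y)
    (hξ : closure ({ξ} : Set Y) ∈ irreducibleComponents Y) :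
    ∃ W₀ : Set Y, IsOpen W₀ ∧ ξ ∈ W₀ ∧ W₀ ⊆ closure ({ξ} : Set Y) := by
  obtain ⟨W₀, hW₀o, hξW₀, hW₀⟩ := exists_open_nhd_isGen_specializes ξ
  refine ⟨W₀, hW₀o, hξW₀, fun w hw => ?_⟩
  obtain ⟨ξ'', hξ''gen, hξ''w⟩ := exists_isGen_specializes w
  have h1 : ξ'' ∈ W₀ := hξ''w.mem_open hW₀o hw
  have h2 : ξ'' ⤳ ξ := hW₀ ξ'' h1 hξ''gen
  have h3 : ξ'' = ξ := eq_of_specializes_of_closure_mem_irreducibleComponents hξ h2
  rw [← h3]
  exact specializes_iff_mem_closure.mp hξ''w

theorem lt_of_add_one_le {x : WithBot ℕ∞} {N : ℕ} (h : x + 1 ≤ (N : WithBot ℕ∞)) :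
    x < (N : WithBot ℕ∞) := by
  induction x with
  | bot => exact WithBot.bot_lt_coe _
  | coe a =>
    have h1 : (a + 1 : ℕ∞) ≤ (N : ℕ∞) := by exact_mod_cast h
    have h2 : a < (N : ℕ∞) := by
      have hne : a ≠ ⊤ := by
        rintro rfl
        simp at h1
      exact lt_of_lt_of_le (ENat.lt_add_one_iff hne |>.mpr le_rfl) h1
    exact_mod_cast h2

include g in
/-- Statement S4644. -/
theorem isNowhereDense_iff [Nonempty ↥Y]
    (heq : ∀ T ∈ irreducibleComponents ↥Y, topologicalKrullDim ↥T = topologicalKrullDim ↥Y)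
    (Z : Set ↥Y) (hZ : IsLocallyClosed Z) :
    IsNowhereDense Z ↔ topologicalKrullDim ↥Z < topologicalKrullDim ↥Y := by
  haveI : IsLocallyNoetherian Y := isLocallyNoetherian g
  haveI : JacobsonSpace Y := LocallyOfFiniteType.jacobsonSpace g
  have hδ := isDimFun g
  have hnn := FieldDim.delta_nonneg g
  -- the common dimension
  have hgenDim : ∀ ξ : Y, closure ({ξ} : Set Y) ∈ irreducibleComponents Y →
      (((FieldDim.δ g ξ).toNat : ℕ∞) : WithBot ℕ∞) = topologicalKrullDim Y := by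
    intro ξ hξ
    rw [← topologicalKrullDim_closure_eq g ξ]
    exact heq _ hξ
  obtain ⟨y₀⟩ := (inferInstance : Nonempty ↥Y)
  obtain ⟨ξ₀, hξ₀, -⟩ := Groth.Agent.H48.DimIneqSch.exists_generic_specializes y₀
  have hN := hgenDim ξ₀ hξ₀
  set N : ℕ := (FieldDim.δ g ξ₀).toNat with hNdef
  have hN' : topologicalKrullDim Y = (N : WithBot ℕ∞) := by
    rw [← hN]; rfl
  obtain ⟨O, F, hO, hF, rfl⟩ := hZ
  have hZlc : IsLocallyClosed (O ∩ F) := ⟨O, F, hO, hF, rfl⟩
  constructor
  · intro hnd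
    rw [topologicalKrullDim_eq_iSup_of_isLocallyClosed g _ hZlc, hN']
    apply lt_of_add_one_le
    refine Groth.Agent.H48.ProdDim.iSup_add_le' _ _ _ fun z => ?_
    obtain ⟨ξ, hξ, hξz⟩ := Groth.Agent.H48.DimIneqSch.exists_generic_specializes z.1
    have hne : ξ ≠ z.1 := by
      intro h
      obtain ⟨W₀, hW₀o, hξW₀, hW₀⟩ := exists_open_subset_closure ξ hξ
      have hξF : ξ ∈ F := by rw [h]; exact z.2.2
      have hsub : W₀ ∩ O ⊆ closure (O ∩ F) := by
        intro w hw
        refine subset_closure ⟨hw.2, ?_⟩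
        exact (closure_minimal (Set.singleton_subset_iff.mpr hξF) hF) (hW₀ hw.1)
      have hint : W₀ ∩ O ⊆ interior (closure (O ∩ F)) :=
        interior_maximal hsub (hW₀o.inter hO)
      have hmem : ξ ∈ interior (closure (O ∩ F)) := hint ⟨hξW₀, by rw [h]; exact z.2.1⟩
      have hnd' : interior (closure (O ∩ F)) = ∅ := hnd
      rw [hnd'] at hmem
      exact hmem
    have hlt : FieldDim.δ g z.1 < FieldDim.δ g ξ := (hδ _ _ hξz hne).1
    have h1 : (((FieldDim.δ g ξ).toNat : ℕ∞) : WithBot ℕ∞) = (N : WithBot ℕ∞) := by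
      rw [hgenDim ξ hξ, hN']
    have h2 : (FieldDim.δ g ξ).toNat = N := by exact_mod_cast h1
    have h3 := hnn z.1
    have h4 : (FieldDim.δ g z.1).toNat + 1 ≤ N := by omega
    exact_mod_cast h4
  · intro hlt
    by_contra hnd
    have hne : (interior (closure (O ∩ F))).Nonempty := by
      rw [Set.nonempty_iff_ne_empty]
      intro h
      exact hnd h
    obtain ⟨v, hv⟩ := hne
    have hvcl : v ∈ closure (O ∩ F) := interior_subset hv
    obtain ⟨z₀, hz₀V, hz₀Z⟩ := mem_closure_iff.mp hvcl _ isOpen_interior hv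
    obtain ⟨ξ, hξ, hξz₀⟩ := Groth.Agent.H48.DimIneqSch.exists_generic_specializes z₀
    have hξV : ξ ∈ interior (closure (O ∩ F)) := hξz₀.mem_open isOpen_interior hz₀V
    have hξO : ξ ∈ O := hξz₀.mem_open hO hz₀Z.1
    have hξF : ξ ∈ F :=
      (closure_minimal Set.inter_subset_right hF) (interior_subset hξV)
    have hge : (((FieldDim.δ g ξ).toNat : ℕ∞) : WithBot ℕ∞) ≤ topologicalKrullDim ↥(O ∩ F) := by
      rw [topologicalKrullDim_eq_iSup_of_isLocallyClosed g _ hZlc]
      exact le_iSup (fun z : ↥(O ∩ F) => (((FieldDim.δ g z.1).toNat : ℕ∞) : WithBot ℕ∞))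
        ⟨ξ, hξO, hξF⟩
    rw [hgenDim ξ hξ] at hge
    exact absurd hlt (not_lt.mpr hge)

end Groth.Agent.H48.NowhereDenseDim
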