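import Mathlib
import Groth.Agent.H37.OrbitLC2
import Groth.Agent.H49.FibreDimBC
import Groth.Agent.H48.RelDelta
import Groth.Agent.H48.ImageDim

/-!
# Orbit–stabilizer dimension formula for actions of group schemes over a field
-/

set_option autoImplicit false
set_option linter.unusedSectionVars false
set_option linter.style.haveILetI false
universe u

open CategoryTheory CategoryTheory.Limits AlgebraicGeometry MonoidalCategory
  CartesianMonoidalCategory MonObj

namespace Groth.Agent.H48.OrbitStabDim

open Groth.Agent.H37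

section Shear

variable {S : Scheme.{u}} {G X : Over S} [GrpObj G]

/-- The shear automorphism `(g, h) ↦ (g, g h)` of `G × G`. -/
noncomputable def σ : G ⊗ G ≅ G ⊗ G where
  hom := lift (fst G G) (fst G G * snd G G)
  inv := lift (fst G G) ((fst G G)⁻¹ * snd G G)
  hom_inv_id := by
    apply CartesianMonoidalCategory.hom_ext
    · simp
    · rw [Category.assoc, lift_snd, MonObj.comp_mul, GrpObj.comp_inv, lift_fst, lift_snd,
        inv_mul_cancel_left, Category.id_comp]
  inv_hom_id := by
    apply CartesianMonoidalCategory.hom_ext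
    · simp
    · rw [Category.assoc, lift_snd, MonObj.comp_mul, lift_fst, lift_snd,
        mul_inv_cancel_left, Category.id_comp]

/-- The automorphism `(g, y) ↦ (g, g y)` of `G × X`. -/
noncomputable def τ (a : AlgGrp.Action G X) : G ⊗ X ≅ G ⊗ X where
  hom := lift (fst G X) a.act
  inv := lift (fst G X) (lift ((fst G X)⁻¹) (snd G X) ≫ a.act)
  hom_inv_id := by
    apply CartesianMonoidalCategory.hom_ext
    · simp
    · rw [Category.assoc, lift_snd, Category.id_comp]
      have h1 : lift (fst G X) a.act ≫ lift ((fst G X)⁻¹) (snd G X) =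
          lift ((fst G X)⁻¹) (lift (fst G X) (snd G X) ≫ a.act) := by
        apply CartesianMonoidalCategory.hom_ext
        · rw [Category.assoc, lift_fst, GrpObj.comp_inv, lift_fst, lift_fst]
        · rw [Category.assoc, lift_snd, lift_snd, lift_snd]
          simp
      rw [reassoc_of% h1, ← act_mul, inv_mul_cancel, act_one]
  inv_hom_id := by
    apply CartesianMonoidalCategory.hom_ext
    · simp
    · rw [Category.assoc, lift_snd, Category.id_comp]
      have h1 : lift (fst G X) (lift ((fst G X)⁻¹) (snd G X) ≫ a.act) ≫ a.act =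
          lift (fst G X) (lift ((fst G X)⁻¹) (snd G X) ≫ a.act) ≫
            lift (fst G X) (snd G X) ≫ a.act := by simp
      rw [h1]
      have h2 : lift (fst G X) (lift ((fst G X)⁻¹) (snd G X) ≫ a.act) ≫
          lift (fst G X) (snd G X) = lift (fst G X) (lift ((fst G X)⁻¹) (snd G X) ≫ a.act) := by
        simp
      rw [reassoc_of% h2, ← act_mul, mul_inv_cancel, act_one]

theorem σ_whisker (a : AlgGrp.Action G X) (x : 𝟙_ (Over S) ⟶ X) :
    (σ (G := G)).hom ≫ (G ◁ a.orbitMap x) = (G ◁ a.orbitMap x) ≫ (τ a).hom := by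
  apply CartesianMonoidalCategory.hom_ext
  · simp [σ, τ]
  · simp only [σ, τ, Category.assoc, whiskerLeft_snd, lift_snd]
    rw [← Category.assoc, lift_snd, comp_orbitMap', act_mul]
    congr 1
    apply CartesianMonoidalCategory.hom_ext
    · simp
    · rw [lift_snd, whiskerLeft_snd, comp_orbitMap']

end Shear

section Sections

variable {S : Scheme.{u}} {G X : Over S} [GrpObj G]

/-- The section `g ↦ (g, x)`. -/
noncomputable def sx (x : 𝟙_ (Over S) ⟶ X) : G ⟶ G ⊗ X := lift (𝟙 G) (toUnit G ≫ x)

/-- The graph `g ↦ (g, g x)` of the orbit map. -/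
noncomputable def sα (a : AlgGrp.Action G X) (x : 𝟙_ (Over S) ⟶ X) : G ⟶ G ⊗ X :=
  lift (𝟙 G) (a.orbitMap x)

theorem sx_τ (a : AlgGrp.Action G X) (x : 𝟙_ (Over S) ⟶ X) :
    sx (G := G) x ≫ (τ a).hom = sα a x := by
  apply CartesianMonoidalCategory.hom_ext
  · simp [sx, sα, τ]
  · simp only [sx, sα, τ, Category.assoc, lift_snd]
    rfl

theorem sx_snd (x : 𝟙_ (Over S) ⟶ X) : sx (G := G) x ≫ snd G X = toUnit G ≫ x := by
  simp [sx]

theorem sα_snd (a : AlgGrp.Action G X) (x : 𝟙_ (Over S) ⟶ X) :
    sα a x ≫ snd G X = a.orbitMap x := by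
  simp [sα]

end Sections

section Homog

variable {S : Scheme.{u}} {G X : Over S} [GrpObj G]

/-- **Homogeneity**: all fibres of the orbit map over points of the orbit have the dimension of the
stabilizer. -/
theorem topologicalKrullDim_fiber_orbitMap (a : AlgGrp.Action G X) (x : 𝟙_ (Over S) ⟶ X)
    [LocallyOfFiniteType (a.orbitMap x).left] (g₀ : G.left) :
    topologicalKrullDim ↑((a.orbitMap x).left.fiber ((a.orbitMap x).left g₀)) =
      topologicalKrullDim ↑((a.orbitMap x).left.fiber (x.left ((toUnit G).left g₀))) := by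
  set αl := (a.orbitMap x).left with hαl
  set Φ := (G ◁ a.orbitMap x).left with hΦ
  have H : IsPullback Φ (snd G G).left (snd G X).left αl :=
    (isPullback_whiskerLeft_snd G (a.orbitMap x)).map (Over.forget S)
  haveI : LocallyOfFiniteType Φ :=
    MorphismProperty.of_isPullback (P := @LocallyOfFiniteType) H.flip inferInstance
  have hbc := fun q => Groth.Agent.H49.FibreDimBC.topologicalKrullDim_fiber_eq αl (snd G X).left Φ
    (snd G G).left H.flip q
  -- the isomorphism square
  haveI : IsIso (σ (G := G)).hom.left := (Over.forget S).map_isIso (σ (G := G)).hom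
  haveI : IsIso (τ a).hom.left := (Over.forget S).map_isIso (τ a).hom
  have hcomm : (σ (G := G)).hom.left ≫ Φ = Φ ≫ (τ a).hom.left := by
    rw [hΦ, ← Over.comp_left, ← Over.comp_left, σ_whisker]
  have Hiso : IsPullback (σ (G := G)).hom.left Φ Φ (τ a).hom.left :=
    IsPullback.of_horiz_isIso ⟨hcomm⟩
  have hiso := fun q => Groth.Agent.H49.FibreDimBC.topologicalKrullDim_fiber_eq Φ (τ a).hom.left Φ
    (σ (G := G)).hom.left Hiso q
  -- the two points
  have e1 : (τ a).hom.left ((sx (G := G) x).left g₀) = (sα a x).left g₀ := by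
    have h := congrArg (fun m => m.left) (sx_τ a x)
    simp only [Over.comp_left] at h
    exact congr($(h).base g₀)
  have e2 : (snd G X).left ((sx (G := G) x).left g₀) = x.left ((toUnit G).left g₀) := by
    have h := congrArg (fun m => m.left) (sx_snd (G := G) x)
    simp only [Over.comp_left] at h
    exact congr($(h).base g₀)
  have e3 : (snd G X).left ((sα a x).left g₀) = αl g₀ := by
    have h := congrArg (fun m => m.left) (sα_snd a x)
    simp only [Over.comp_left] at h
    exact congr($(h).base g₀)
  rw [← e3, ← hbc, ← e1, ← hiso, hbc, e2]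

end Homog

section Count

open Groth.Agent.H48.FieldDim Groth.Agent.H48.FieldDim2 Groth.Agent.H48.RelDelta
  Groth.Agent.H48.CycFib

variable {k : Type u} [Field k] {X Y : Scheme.{u}} (q : Y ⟶ Spec (CommRingCat.of k))
  [LocallyOfFiniteType q] (f : X ⟶ Y) [LocallyOfFiniteType f]

include q in
/-- If the image of `f` is locally closed and all fibres over points of the image have the same
dimension `d`, then `dim X = dim (image) + d`. -/
theorem topologicalKrullDim_eq_range_add (hO : IsLocallyClosed (Set.range f.base))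
    (d : WithBot ℕ∞) (hd : ∀ x : X, topologicalKrullDim ↑(f.fiber (f x)) = d) :
    topologicalKrullDim X = topologicalKrullDim ↥(Set.range f.base) + d := by
  have hδX := isDimFun (f ≫ q)
  have hδ := deltaCompat_comp q f
  have hfib := fun y => topologicalKrullDim_fiber f (FieldDim.δ (f ≫ q)) (FieldDim.δ q) hδX hδ y
  have hnn : ∀ y : Y, 0 ≤ FieldDim.δ q y := delta_nonneg q
  apply le_antisymm
  · rw [topologicalKrullDim_eq_iSup (f ≫ q)]
    refine iSup_le fun g => ?_
    obtain ⟨n, -, hn⟩ := hδ g
    have h1 : (((FieldDim.δ q (f g)).toNat : ℕ∞) : WithBot ℕ∞) ≤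
        topologicalKrullDim ↥(Set.range f.base) := by
      rw [topologicalKrullDim_eq_iSup_of_isLocallyClosed q _ hO]
      exact le_iSup (fun z : Set.range f.base =>
        (((FieldDim.δ q z.1).toNat : ℕ∞) : WithBot ℕ∞)) ⟨f g, g, rfl⟩
    have h2 : ((n : ℕ∞) : WithBot ℕ∞) ≤ d := by
      rw [← hd g, hfib (f g)]
      refine le_trans (le_of_eq ?_) (le_iSup _ (f.asFiber g))
      rw [Scheme.Hom.fiberι_asFiber, hn]
      simp
    have h3 : (((FieldDim.δ (f ≫ q) g).toNat : ℕ∞) : WithBot ℕ∞) =
        (((FieldDim.δ q (f g)).toNat : ℕ∞) : WithBot ℕ∞) + ((n : ℕ∞) : WithBot ℕ∞) := by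
      rw [hn]
      have : (FieldDim.δ q (f g) + (n : ℤ)).toNat = (FieldDim.δ q (f g)).toNat + n := by
        have := hnn (f g)
        omega
      rw [this]
      push_cast
      rfl
    rw [h3]
    exact add_le_add h1 h2
  · rw [topologicalKrullDim_eq_iSup_of_isLocallyClosed q _ hO]
    refine Groth.Agent.H48.ProdDim.iSup_add_le' _ _ _ ?_
    rintro ⟨_, g, rfl⟩
    rw [← hd g, hfib (f g), add_comm]
    refine Groth.Agent.H48.ProdDim.iSup_add_le' _ _ _ fun t => ?_
    have hz := map_fiberι f (f g) t
    obtain ⟨n, -, hn⟩ := hδ (f.fiberι (f g) t)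
    rw [hz] at hn
    refine le_trans (le_of_eq ?_) (delta_le_topologicalKrullDim (f ≫ q) (f.fiberι (f g) t))
    rw [hn]
    have h4 : (FieldDim.δ q (f g) + (n : ℤ) - FieldDim.δ q (f g)).toNat + (FieldDim.δ q (f g)).toNat
        = (FieldDim.δ q (f g) + (n : ℤ)).toNat := by
      have := hnn (f g)
      omega
    rw [← h4]
    push_cast
    rfl

end Count

section Main

variable {k : Type u} [Field k]

/-- The fibre of a morphism to the spectrum of a field is the whole space. -/
theorem topologicalKrullDim_fiber_of_subsingleton {Y T : Scheme.{u}} [Subsingleton T] (π : Y ⟶ T)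
    (s : T) : topologicalKrullDim ↑(π.fiber s) = topologicalKrullDim Y := by
  have h1 := (IsHomeomorph.topologicalKrullDim_eq _ (π.fiberHomeo s).isHomeomorph)
  have h2 : (π.base ⁻¹' {s} : Set Y) = Set.univ := by
    ext y
    simp only [Set.mem_preimage, Set.mem_singleton_iff, Set.mem_univ, iff_true]
    exact Subsingleton.elim _ _
  rw [h1, h2]
  exact (Homeomorph.Set.univ Y).isHomeomorph.topologicalKrullDim_eq

/-- **Orbit–stabilizer dimension formula** (statement S16130). -/
theorem topologicalKrullDim_eq_orbit_add_stabilizer (G X : Over (Spec (CommRingCat.of k)))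
    [GrpObj G] [LocallyOfFiniteType G.hom] [QuasiCompact G.hom] [LocallyOfFiniteType X.hom]
    (a : AlgGrp.Action G X) (x : 𝟙_ (Over (Spec (CommRingCat.of k))) ⟶ X) :
    topologicalKrullDim ↥G.left =
      topologicalKrullDim ↥(Set.range (a.orbitMap x).left.base) +
        topologicalKrullDim ↥(Limits.pullback (a.orbitMap x).left x.left) := by
  set αl := (a.orbitMap x).left with hαl
  have ho : αl ≫ X.hom = G.hom := Over.w (a.orbitMap x)
  haveI : LocallyOfFiniteType (αl ≫ X.hom) := by rw [ho]; infer_instance
  haveI : LocallyOfFiniteType αl := locallyOfFiniteType_of_comp αl X.hom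
  have hO : IsLocallyClosed (Set.range αl.base) := isLocallyClosed_orbitSet' G X a x
  haveI : Subsingleton ↥(𝟙_ (Over (Spec (CommRingCat.of k)))).left :=
    subsingleton_spec_field (k := k)
  have hstab : ∀ s : (𝟙_ (Over (Spec (CommRingCat.of k)))).left,
      topologicalKrullDim ↑(αl.fiber (x.left s)) =
        topologicalKrullDim ↥(Limits.pullback αl x.left) := by
    intro s
    have H4 : IsPullback (pullback.fst αl x.left) (pullback.snd αl x.left) αl x.left :=
      IsPullback.of_hasPullback _ _
    rw [← Groth.Agent.H49.FibreDimBC.topologicalKrullDim_fiber_eq αl x.left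
      (pullback.snd αl x.left) (pullback.fst αl x.left) H4 s]
    exact topologicalKrullDim_fiber_of_subsingleton _ s
  refine topologicalKrullDim_eq_range_add X.hom αl hO _ fun g => ?_
  rw [topologicalKrullDim_fiber_orbitMap a x g]
  exact hstab _

end Main

end Groth.Agent.H48.OrbitStabDim
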