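import Mathlib
import Groth.Agent.H48.CompDimBC2

/-!
# Irreducible components of a product over a field: topological description
-/

set_option autoImplicit false
set_option linter.unusedSectionVars false
set_option linter.style.haveILetI false
universe u

open AlgebraicGeometry CategoryTheory CategoryTheory.Limits TopologicalSpace Opposite

namespace Groth.Agent.H48.ProdCompTop

open Groth.Agent.H48.CompDimBC2

section lift

variable {X Y P : Scheme.{u}} {k : Type u} [Field k] (f : X ⟶ Spec (.of k))
  (g : Y ⟶ Spec (.of k)) (p : P ⟶ X) (q : P ⟶ Y) (hpb : IsPullback p q f g)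

include hpb in
/-- Generizations of `p w` lift to generizations of `w` inside the fibre of `q`. -/
theorem exists_generization_fst (w : P) (x : X) (hx : x ⤳ p w) :
    ∃ w₁ : P, w₁ ⤳ w ∧ p w₁ = x ∧ q w₁ = q w := by
  have hsq : IsPullback (q.fiberToSpecResidueField (q w)) (q.fiberι (q w))
      (Y.fromSpecResidueField (q w)) q :=
    (IsPullback.of_hasPullback q (Y.fromSpecResidueField (q w))).flip
  have hpaste : IsPullback (q.fiberToSpecResidueField (q w)) (q.fiberι (q w) ≫ p)
      (Y.fromSpecResidueField (q w) ≫ g) f := hsq.paste_vert hpb.flip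
  haveI : Flat (Y.fromSpecResidueField (q w) ≫ g) := inferInstance
  haveI : Flat (q.fiberι (q w) ≫ p) :=
    MorphismProperty.of_isPullback (P := @Flat) hpaste inferInstance
  have hgen : GeneralizingMap (q.fiberι (q w) ≫ p) := Flat.generalizingMap _
  have hw : (q.fiberι (q w) ≫ p) (q.asFiber w) = p w := by
    rw [Scheme.Hom.comp_apply, q.fiberι_asFiber]
  obtain ⟨a, ha1, ha2⟩ := hgen (hw ▸ hx)
  refine ⟨q.fiberι (q w) a, ?_, ?_, ?_⟩
  · have := ha1.map (q.fiberι (q w)).continuous
    rwa [q.fiberι_asFiber] at this
  · rw [← Scheme.Hom.comp_apply]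
    exact ha2
  · have : q.fiberι (q w) a ∈ Set.range (q.fiberι (q w)) := ⟨a, rfl⟩
    rw [q.range_fiberι] at this
    exact this

include hpb in
theorem generalizingMap_fst : GeneralizingMap p := by
  intro w x hx
  obtain ⟨w₁, h1, h2, -⟩ := exists_generization_fst f g p q hpb w x hx
  exact ⟨w₁, h1, h2⟩

end lift

section Top

variable {Z : Type u} [TopologicalSpace Z] [QuasiSober Z] [T0Space Z]

/-- The closure of a maximal point is an irreducible component. -/
theorem closure_mem_irreducibleComponents_of_maximal (ξ : Z) (h : ∀ η : Z, η ⤳ ξ → η = ξ) :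
    closure ({ξ} : Set Z) ∈ irreducibleComponents Z := by
  refine ⟨isIrreducible_singleton.closure, fun V hV hle => ?_⟩
  have hVc : IsIrreducible (closure V) := hV.closure
  obtain ⟨v, hv⟩ := QuasiSober.sober hVc isClosed_closure
  have h1 : v ⤳ ξ := by
    rw [specializes_iff_mem_closure, hv.def]
    exact subset_closure (hle (subset_closure rfl))
  rw [← h v h1, hv.def]
  exact subset_closure

/-- A maximal irreducible subset of a closed set is the closure of a point maximal in that
set. -/
theorem exists_generic_of_maximal_irreducible (T : Set Z) (hT : IsClosed T) (W : Set Z)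
    (hW : Maximal (fun V : Set Z => IsIrreducible V ∧ V ⊆ T) W) :
    ∃ w : Z, closure ({w} : Set Z) = W ∧ w ∈ T ∧ ∀ w' ∈ T, w' ⤳ w → w' = w := by
  have hWc : closure W = W := by
    apply le_antisymm
    · exact hW.2 ⟨hW.1.1.closure, closure_minimal hW.1.2 hT⟩ subset_closure
    · exact subset_closure
  have hWcl : IsClosed W := hWc ▸ isClosed_closure
  obtain ⟨w, hw⟩ := QuasiSober.sober hW.1.1 hWcl
  have hwW : closure ({w} : Set Z) = W := hw.def
  have hwT : w ∈ T := hW.1.2 (hwW ▸ subset_closure rfl)
  refine ⟨w, hwW, hwT, fun w' hw'T hsp => ?_⟩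
  have h1 : W ≤ closure ({w'} : Set Z) := by
    rw [← hwW]
    exact specializes_iff_closure_subset.mp hsp
  have h2 : closure ({w'} : Set Z) ≤ W :=
    hW.2 ⟨isIrreducible_singleton.closure,
      closure_minimal (Set.singleton_subset_iff.mpr hw'T) hT⟩ h1
  have h3 : w ⤳ w' := by
    rw [specializes_iff_mem_closure, hwW]
    exact h2 (subset_closure rfl)
  exact (hsp.antisymm h3).eq

end Top

section main

variable {X Y P : Scheme.{u}} {k : Type u} [Field k] (f : X ⟶ Spec (.of k))
  (g : Y ⟶ Spec (.of k)) (p : P ⟶ X) (q : P ⟶ Y) (hpb : IsPullback p q f g)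

include hpb in
/-- Statement S4672 for a general pullback square. -/
theorem mem_irreducibleComponents_iff (W : Set P) :
    W ∈ irreducibleComponents P ↔
      ∃ X' ∈ irreducibleComponents X, ∃ Y' ∈ irreducibleComponents Y,
        Maximal (fun V : Set P => IsIrreducible V ∧ V ⊆ p ⁻¹' X' ∩ q ⁻¹' Y') W := by
  have hgp : GeneralizingMap p := generalizingMap_fst f g p q hpb
  have hgq : GeneralizingMap q := generalizingMap_fst g f q p hpb.flip
  constructor
  · intro hW
    obtain ⟨w, hw⟩ := exists_generic_of_mem_irreducibleComponents W hW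
    have hmax : ∀ w' : P, w' ⤳ w → w' = w := fun w' h =>
      eq_of_specializes_of_closure_mem_irreducibleComponents (by rw [hw]; exact hW) h
    have hX' : closure ({p w} : Set X) ∈ irreducibleComponents X := by
      apply closure_mem_irreducibleComponents_of_maximal
      intro x hx
      obtain ⟨w₁, h1, h2⟩ := hgp hx
      rw [← h2, hmax w₁ h1]
    have hY' : closure ({q w} : Set Y) ∈ irreducibleComponents Y := by
      apply closure_mem_irreducibleComponents_of_maximal
      intro y hy
      obtain ⟨w₁, h1, h2⟩ := hgq hy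
      rw [← h2, hmax w₁ h1]
    refine ⟨_, hX', _, hY', ⟨hW.1, ?_⟩, fun V hV hWV => hW.2 hV.1 hWV⟩
    intro w' hw'
    rw [← hw] at hw'
    have hsp : w ⤳ w' := specializes_iff_mem_closure.mpr hw'
    exact ⟨specializes_iff_mem_closure.mp (hsp.map p.continuous),
      specializes_iff_mem_closure.mp (hsp.map q.continuous)⟩
  · rintro ⟨X', hX', Y', hY', hW⟩
    obtain ⟨ξ, hξ⟩ := exists_generic_of_mem_irreducibleComponents X' hX'
    obtain ⟨η, hη⟩ := exists_generic_of_mem_irreducibleComponents Y' hY'
    have hX'c : IsClosed X' := isClosed_of_mem_irreducibleComponents X' hX'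
    have hY'c : IsClosed Y' := isClosed_of_mem_irreducibleComponents Y' hY'
    have hTc : IsClosed (p ⁻¹' X' ∩ q ⁻¹' Y') :=
      (hX'c.preimage p.continuous).inter (hY'c.preimage q.continuous)
    obtain ⟨w, hwW, hwT, hwmax⟩ := exists_generic_of_maximal_irreducible _ hTc W hW
    have hξmax : ∀ x : X, x ⤳ ξ → x = ξ := fun x h =>
      eq_of_specializes_of_closure_mem_irreducibleComponents (by rw [hξ]; exact hX') h
    have hηmax : ∀ y : Y, y ⤳ η → y = η := fun y h =>
      eq_of_specializes_of_closure_mem_irreducibleComponents (by rw [hη]; exact hY') h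
    have hpw : p w = ξ := by
      have h1 : ξ ⤳ p w := by
        rw [specializes_iff_mem_closure, hξ]
        exact hwT.1
      obtain ⟨w₁, h2, h3, h4⟩ := exists_generization_fst f g p q hpb w ξ h1
      have hw₁T : w₁ ∈ p ⁻¹' X' ∩ q ⁻¹' Y' := by
        refine ⟨?_, ?_⟩
        · change p w₁ ∈ X'
          rw [h3, ← hξ]
          exact subset_closure rfl
        · change q w₁ ∈ Y'
          rw [h4]
          exact hwT.2
      rw [← hwmax w₁ hw₁T h2, h3]
    have hqw : q w = η := by
      have h1 : η ⤳ q w := by
        rw [specializes_iff_mem_closure, hη]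
        exact hwT.2
      obtain ⟨w₁, h2, h3, h4⟩ := exists_generization_fst g f q p hpb.flip w η h1
      have hw₁T : w₁ ∈ p ⁻¹' X' ∩ q ⁻¹' Y' := by
        refine ⟨?_, ?_⟩
        · change p w₁ ∈ X'
          rw [h4]
          exact hwT.1
        · change q w₁ ∈ Y'
          rw [h3, ← hη]
          exact subset_closure rfl
      rw [← hwmax w₁ hw₁T h2, h3]
    rw [← hwW]
    apply closure_mem_irreducibleComponents_of_maximal
    intro v hv
    apply hwmax v ?_ hv
    have h1 : p v = ξ := hξmax _ (hpw ▸ hv.map p.continuous)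
    have h2 : q v = η := hηmax _ (hqw ▸ hv.map q.continuous)
    refine ⟨?_, ?_⟩
    · change p v ∈ X'
      rw [h1, ← hξ]
      exact subset_closure rfl
    · change q v ∈ Y'
      rw [h2, ← hη]
      exact subset_closure rfl

end main

end Groth.Agent.H48.ProdCompTop
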