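import Mathlib

/-!
# Universally injective ring maps with purely inseparable residue field extensions

Tools for: `R → S` injective on spectra with purely inseparable residue field extensions is
stable under base change.
-/

open TensorProduct

namespace Groth.Agent.H48

universe u

theorem ringExpChar_eq_of_ringHom {F L : Type*} [Field F] [Field L] (f : F →+* L) :
    ringExpChar L = ringExpChar F := by
  have : ExpChar L (ringExpChar F) := expChar_of_injective_ringHom f.injective (ringExpChar F)
  exact ringExpChar.eq L (ringExpChar F)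

/-- A common field extension of two extensions of a field. -/
theorem exists_common_field_ext {F L₁ L₂ : Type u} [Field F] [Field L₁] [Field L₂]
    (m₁ : F →+* L₁) (m₂ : F →+* L₂) :
    ∃ (Ω : Type u) (_ : Field Ω) (j₁ : L₁ →+* Ω) (j₂ : L₂ →+* Ω), j₁.comp m₁ = j₂.comp m₂ := by
  let _ : Algebra F L₁ := m₁.toAlgebra
  let _ : Algebra F L₂ := m₂.toAlgebra
  have : Nontrivial (L₁ ⊗[F] L₂) :=
    Algebra.TensorProduct.nontrivial_of_algebraMap_injective_of_isDomain F L₁ L₂
      (algebraMap F L₁).injective (algebraMap F L₂).injective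
  obtain ⟨m, hm⟩ := Ideal.exists_maximal (L₁ ⊗[F] L₂)
  let _ : Field ((L₁ ⊗[F] L₂) ⧸ m) := Ideal.Quotient.field m
  refine ⟨(L₁ ⊗[F] L₂) ⧸ m, inferInstance,
    (Ideal.Quotient.mk m).comp (Algebra.TensorProduct.includeLeft (R := F) (S := F)
      (A := L₁) (B := L₂)).toRingHom,
    (Ideal.Quotient.mk m).comp (Algebra.TensorProduct.includeRight (R := F)
      (A := L₁) (B := L₂)).toRingHom, ?_⟩
  ext x
  simp only [RingHom.coe_comp, Function.comp_apply, AlgHom.toRingHom_eq_coe, RingHom.coe_coe,
    Algebra.TensorProduct.includeLeft_apply, Algebra.TensorProduct.includeRight_apply]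
  congr 1
  change (algebraMap F L₁ x) ⊗ₜ[F] (1 : L₂) = 1 ⊗ₜ (algebraMap F L₂ x)
  rw [Algebra.algebraMap_eq_smul_one, Algebra.algebraMap_eq_smul_one, TensorProduct.smul_tmul]

section
variable {R S : Type*} [CommRing R] [CommRing S] [Algebra R S]

/-- The "purely inseparable residue field extensions" hypothesis. -/
def PIResidue (R S : Type*) [CommRing R] [CommRing S] [Algebra R S] : Prop :=
  ∀ (q : Ideal S) [q.IsPrime] (x : q.ResidueField), ∃ n : ℕ,
    x ^ (ringExpChar (q.comap (algebraMap R S)).ResidueField) ^ n ∈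
      Set.range (Ideal.ResidueField.map (q.comap (algebraMap R S)) q (algebraMap R S) rfl)

theorem key_relation (hpi : PIResidue R S) (q : Ideal S) [q.IsPrime] (s : S) :
    ∃ (n : ℕ) (a b : R), b ∉ q.comap (algebraMap R S) ∧
      algebraMap R S b * s ^ (ringExpChar q.ResidueField) ^ n - algebraMap R S a ∈ q := by
  obtain ⟨n, y, hy⟩ := hpi q (algebraMap S q.ResidueField s)
  rw [← ringExpChar_eq_of_ringHom
    (Ideal.ResidueField.map (q.comap (algebraMap R S)) q (algebraMap R S) rfl)] at hy
  obtain ⟨a', b', hb', hab⟩ := IsFractionRing.div_surjective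
    (A := R ⧸ q.comap (algebraMap R S)) y
  obtain ⟨a, rfl⟩ := Ideal.Quotient.mk_surjective a'
  obtain ⟨b, rfl⟩ := Ideal.Quotient.mk_surjective b'
  have hb : b ∉ q.comap (algebraMap R S) := by
    intro hb
    rw [← Ideal.Quotient.eq_zero_iff_mem] at hb
    rw [hb] at hb'
    exact zero_notMem_nonZeroDivisors hb'
  refine ⟨n, a, b, hb, ?_⟩
  rw [← Ideal.algebraMap_residueField_eq_zero, map_sub, map_mul, map_pow, ← hy, ← hab, sub_eq_zero,
    Ideal.algebraMap_quotient_residueField_mk, Ideal.algebraMap_quotient_residueField_mk, map_div₀,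
    Ideal.ResidueField.map_algebraMap, Ideal.ResidueField.map_algebraMap]
  have hne : algebraMap S q.ResidueField (algebraMap R S b) ≠ 0 := by
    rw [Ne, Ideal.algebraMap_residueField_eq_zero]
    exact hb
  field_simp

/-- Field-valued points: two ring maps `S → Ω` to a field that agree on `R` coincide. -/
theorem ringHom_eq_of_comp_eq
    (hinj : Function.Injective (PrimeSpectrum.comap (algebraMap R S))) (hpi : PIResidue R S)
    {Ω : Type*} [Field Ω] (f₁ f₂ : S →+* Ω)
    (h : f₁.comp (algebraMap R S) = f₂.comp (algebraMap R S)) : f₁ = f₂ := by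
  have hker : RingHom.ker f₁ = RingHom.ker f₂ := by
    have h1 : (⟨RingHom.ker f₁, RingHom.ker_isPrime f₁⟩ : PrimeSpectrum S) =
        ⟨RingHom.ker f₂, RingHom.ker_isPrime f₂⟩ := by
      apply hinj
      ext r
      change f₁ (algebraMap R S r) = 0 ↔ f₂ (algebraMap R S r) = 0
      have := congrArg (fun g => g r) h
      simp only [RingHom.coe_comp, Function.comp_apply] at this
      rw [this]
    exact congrArg PrimeSpectrum.asIdeal h1
  have hprime : (RingHom.ker f₁).IsPrime := RingHom.ker_isPrime f₁
  -- a ring hom `κ(q) → Ω`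
  let g : (RingHom.ker f₁).ResidueField →+* Ω :=
    Ideal.ResidueField.lift (RingHom.ker f₁) f₁ le_rfl (by
      intro x hx
      rw [Submonoid.mem_comap, IsUnit.mem_submonoid_iff, isUnit_iff_ne_zero]
      exact hx)
  have he : ringExpChar Ω = ringExpChar (RingHom.ker f₁).ResidueField :=
    ringExpChar_eq_of_ringHom g
  ext s
  obtain ⟨n, a, b, hb, hrel⟩ := key_relation hpi (RingHom.ker f₁) s
  have hrel2 : algebraMap R S b * s ^ (ringExpChar (RingHom.ker f₁).ResidueField) ^ n
      - algebraMap R S a ∈ RingHom.ker f₂ := hker ▸ hrel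
  rw [RingHom.mem_ker, map_sub, map_mul, map_pow, sub_eq_zero] at hrel hrel2
  have ha : f₁ (algebraMap R S a) = f₂ (algebraMap R S a) := congrArg (fun g => g a) h
  have hbb : f₁ (algebraMap R S b) = f₂ (algebraMap R S b) := congrArg (fun g => g b) h
  have hbne : f₁ (algebraMap R S b) ≠ 0 := hb
  have hpow : f₁ s ^ (ringExpChar Ω) ^ n = f₂ s ^ (ringExpChar Ω) ^ n := by
    rw [he]
    apply mul_left_cancel₀ hbne
    rw [hrel, ha, ← hrel2, hbb]
  exact iterateFrobenius_inj Ω (ringExpChar Ω) n (by simpa [iterateFrobenius_def] using hpow)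

end

section BaseChange

variable {R S R' : Type u} [CommRing R] [CommRing S] [CommRing R'] [Algebra R S] [Algebra R R']

theorem includeRight_algebraMap (r : R) :
    (Algebra.TensorProduct.includeRight (R := R) (A := R') (B := S)) (algebraMap R S r) =
      algebraMap R' (R' ⊗[R] S) (algebraMap R R' r) := by
  rw [Algebra.TensorProduct.includeRight_apply, Algebra.TensorProduct.algebraMap_apply,
    Algebra.algebraMap_self, RingHom.id_apply]
  calc (1 : R') ⊗ₜ[R] algebraMap R S r = (1 : R') ⊗ₜ[R] (r • (1 : S)) := by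
        rw [Algebra.algebraMap_eq_smul_one]
    _ = (r • (1 : R')) ⊗ₜ[R] (1 : S) := (TensorProduct.smul_tmul r (1 : R') (1 : S)).symm
    _ = algebraMap R R' r ⊗ₜ[R] (1 : S) := by rw [← Algebra.algebraMap_eq_smul_one]

theorem comap_injective_baseChange
    (hinj : Function.Injective (PrimeSpectrum.comap (algebraMap R S))) (hpi : PIResidue R S) :
    Function.Injective (PrimeSpectrum.comap (algebraMap R' (R' ⊗[R] S))) := by
  intro Q₁ Q₂ h
  have hp₁ : Q₁.asIdeal.comap (algebraMap R' (R' ⊗[R] S)) =
      Q₂.asIdeal.comap (algebraMap R' (R' ⊗[R] S)) := congrArg PrimeSpectrum.asIdeal h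
  let p' := Q₁.asIdeal.comap (algebraMap R' (R' ⊗[R] S))
  let m₁ := Ideal.ResidueField.map p' Q₁.asIdeal (algebraMap R' (R' ⊗[R] S)) rfl
  let m₂ := Ideal.ResidueField.map p' Q₂.asIdeal (algebraMap R' (R' ⊗[R] S)) hp₁
  obtain ⟨Ω, _, j₁, j₂, hj⟩ := exists_common_field_ext m₁ m₂
  let f₁ : R' ⊗[R] S →+* Ω := j₁.comp (algebraMap _ Q₁.asIdeal.ResidueField)
  let f₂ : R' ⊗[R] S →+* Ω := j₂.comp (algebraMap _ Q₂.asIdeal.ResidueField)
  have hk₁ : RingHom.ker f₁ = Q₁.asIdeal := by
    ext t
    rw [RingHom.mem_ker]
    change j₁ (algebraMap _ _ t) = 0 ↔ _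
    rw [map_eq_zero_iff j₁ j₁.injective, Ideal.algebraMap_residueField_eq_zero]
  have hk₂ : RingHom.ker f₂ = Q₂.asIdeal := by
    ext t
    rw [RingHom.mem_ker]
    change j₂ (algebraMap _ _ t) = 0 ↔ _
    rw [map_eq_zero_iff j₂ j₂.injective, Ideal.algebraMap_residueField_eq_zero]
  have hR' : f₁.comp (algebraMap R' _) = f₂.comp (algebraMap R' _) := by
    ext r
    change j₁ (algebraMap _ _ (algebraMap R' _ r)) = j₂ (algebraMap _ _ (algebraMap R' _ r))
    rw [← Ideal.ResidueField.map_algebraMap p' Q₁.asIdeal (algebraMap R' _) rfl,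
      ← Ideal.ResidueField.map_algebraMap p' Q₂.asIdeal _ hp₁]
    exact congrArg (fun g => g (algebraMap R' p'.ResidueField r)) hj
  have hS : f₁.comp (Algebra.TensorProduct.includeRight (R := R) (A := R') (B := S)).toRingHom =
      f₂.comp (Algebra.TensorProduct.includeRight (R := R) (A := R') (B := S)).toRingHom := by
    apply ringHom_eq_of_comp_eq hinj hpi
    ext r
    change f₁ (Algebra.TensorProduct.includeRight (algebraMap R S r)) =
      f₂ (Algebra.TensorProduct.includeRight (algebraMap R S r))
    rw [includeRight_algebraMap]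
    exact congrArg (fun g => g (algebraMap R R' r)) hR'
  have hf : f₁ = f₂ := by
    refine RingHom.ext fun t => ?_
    induction t using TensorProduct.induction_on with
    | zero => simp
    | tmul x y =>
      have : x ⊗ₜ[R] y = algebraMap R' (R' ⊗[R] S) x *
          (Algebra.TensorProduct.includeRight (R := R) (A := R') (B := S)) y := by
        simp [Algebra.TensorProduct.algebraMap_apply]
      rw [this, map_mul, map_mul]
      congr 1
      · exact congrArg (fun g => g x) hR'
      · exact congrArg (fun g => g y) hS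
    | add x y hx hy => rw [map_add, map_add, hx, hy]
  ext1
  rw [← hk₁, ← hk₂, hf]

theorem piResidue_baseChange (hpi : PIResidue R S) : PIResidue R' (R' ⊗[R] S) := by
  intro Q _ x
  let p' := Q.comap (algebraMap R' (R' ⊗[R] S))
  let m := Ideal.ResidueField.map p' Q (algebraMap R' (R' ⊗[R] S)) rfl
  let _ : Algebra p'.ResidueField Q.ResidueField := m.toAlgebra
  suffices h : ∀ x : Q.ResidueField, x ∈ perfectClosure p'.ResidueField Q.ResidueField by
    obtain ⟨n, y, hy⟩ := mem_perfectClosure_iff.mp (h x)
    exact ⟨n, y, hy⟩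
  have hT : ∀ t : R' ⊗[R] S, algebraMap (R' ⊗[R] S) Q.ResidueField t ∈
      perfectClosure p'.ResidueField Q.ResidueField := by
    intro t
    induction t using TensorProduct.induction_on with
    | zero => simp
    | tmul r' s =>
      have : r' ⊗ₜ[R] s = algebraMap R' (R' ⊗[R] S) r' *
          (Algebra.TensorProduct.includeRight (R := R) (A := R') (B := S)) s := by
        simp [Algebra.TensorProduct.algebraMap_apply]
      rw [this, map_mul]
      apply mul_mem
      · rw [← Ideal.ResidueField.map_algebraMap p' Q (algebraMap R' (R' ⊗[R] S)) rfl]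
        exact IntermediateField.algebraMap_mem _ _
      · let iS : S →+* R' ⊗[R] S :=
          (Algebra.TensorProduct.includeRight (R := R) (A := R') (B := S)).toRingHom
        let q := Q.comap iS
        obtain ⟨n, a, b, hb, hrel⟩ := key_relation hpi q s
        rw [mem_perfectClosure_iff]
        have he : ringExpChar p'.ResidueField = ringExpChar q.ResidueField := by
          rw [← ringExpChar_eq_of_ringHom m,
            ← ringExpChar_eq_of_ringHom (Ideal.ResidueField.map q Q iS rfl)]
        refine ⟨n, ?_⟩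
        rw [he]
        have h1 : algebraMap (R' ⊗[R] S) Q.ResidueField
            (iS (algebraMap R S b * s ^ (ringExpChar q.ResidueField) ^ n - algebraMap R S a)) = 0 :=
          Ideal.algebraMap_residueField_eq_zero.mpr hrel
        have hb2 : algebraMap (R' ⊗[R] S) Q.ResidueField (iS (algebraMap R S b)) ≠ 0 := by
          rw [Ne, Ideal.algebraMap_residueField_eq_zero]
          exact hb
        have hiS : ∀ r : R, iS (algebraMap R S r) =
            algebraMap R' (R' ⊗[R] S) (algebraMap R R' r) := fun r => includeRight_algebraMap r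
        rw [map_sub, map_mul, map_pow, map_sub, map_mul, map_pow, sub_eq_zero, hiS, hiS,
          ← Ideal.ResidueField.map_algebraMap p' Q (algebraMap R' (R' ⊗[R] S)) rfl,
          ← Ideal.ResidueField.map_algebraMap p' Q (algebraMap R' (R' ⊗[R] S)) rfl] at h1
        rw [hiS, ← Ideal.ResidueField.map_algebraMap p' Q (algebraMap R' (R' ⊗[R] S)) rfl] at hb2
        refine ⟨algebraMap R' p'.ResidueField (algebraMap R R' a) /
          algebraMap R' p'.ResidueField (algebraMap R R' b), ?_⟩
        change m _ = _
        rw [map_div₀, div_eq_iff hb2, mul_comm]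
        exact h1.symm
    | add x y hx hy => rw [map_add]; exact add_mem hx hy
  intro x
  obtain ⟨u', v', hv', rfl⟩ := IsFractionRing.div_surjective (A := (R' ⊗[R] S) ⧸ Q) x
  obtain ⟨u, rfl⟩ := Ideal.Quotient.mk_surjective u'
  obtain ⟨v, rfl⟩ := Ideal.Quotient.mk_surjective v'
  exact div_mem (hT u) (hT v)

end BaseChange

end Groth.Agent.H48
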