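import Mathlib
import Groth.Agent.H48.FieldTensor

/-!
# Base change from `k ⊆ K` to `k(t) ⊆ K(t)`
-/

open scoped TensorProduct Polynomial

namespace Groth.Agent.H48

universe u

set_option linter.unusedSectionVars false

section LinInd

variable {k K : Type u} [Field k] [Field K] [Algebra k K]

/-- `K[X]` as a `k[X]`-algebra. -/
@[reducible] noncomputable def polyAlgebra : Algebra k[X] K[X] :=
  (Polynomial.mapRingHom (algebraMap k K)).toAlgebra

attribute [local instance] polyAlgebra

theorem polyAlgebra_smul_def (p : k[X]) (q : K[X]) : p • q = p.map (algebraMap k K) * q := rfl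

theorem linearIndependent_C {ι : Type*} (b : ι → K) (hb : LinearIndependent k b) :
    LinearIndependent k[X] (fun i => (Polynomial.C (b i) : K[X])) := by
  classical
  rw [linearIndependent_iff']
  intro s g hg i hi
  ext n
  have h1 : ∑ j ∈ s, (g j).coeff n • b j = 0 := by
    have := congrArg (fun p : K[X] => p.coeff n) hg
    simp only [Polynomial.finsetSum_coeff, Polynomial.coeff_zero] at this
    rw [← this]
    refine Finset.sum_congr rfl (fun j _ => ?_)
    rw [polyAlgebra_smul_def, Polynomial.coeff_mul_C, Polynomial.coeff_map, Algebra.smul_def]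
  have := linearIndependent_iff'.mp hb s (fun j => (g j).coeff n) h1 i hi
  simpa using this

end LinInd

section Main

variable {k K kt Kt : Type u} [Field k] [Field K] [Field kt] [Field Kt] [Algebra k K]
  [Algebra k[X] kt] [IsFractionRing k[X] kt] [Algebra K[X] Kt] [IsFractionRing K[X] Kt] [Algebra kt Kt]
  [Algebra K Kt] [IsScalarTower K K[X] Kt]

attribute [local instance] polyAlgebra

include kt in
theorem linearIndependent_algebraMap_of_compat
    (hcompat : ∀ p : k[X], algebraMap kt Kt (algebraMap k[X] kt p) =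
      algebraMap K[X] Kt (p.map (algebraMap k K)))
    {ι : Type*} (b : ι → K) (hb : LinearIndependent k b) :
    LinearIndependent kt (fun i => algebraMap K Kt (b i)) := by
  let _ : Algebra k[X] Kt := ((algebraMap kt Kt).comp (algebraMap k[X] kt)).toAlgebra
  have : IsScalarTower k[X] kt Kt := IsScalarTower.of_algebraMap_eq' rfl
  rw [← LinearIndependent.iff_fractionRing k[X] kt]
  let ψ : K[X] →ₗ[k[X]] Kt :=
    { toFun := algebraMap K[X] Kt
      map_add' := map_add _
      map_smul' := fun p q => by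
        rw [polyAlgebra_smul_def, map_mul, ← hcompat, RingHom.id_apply, Algebra.smul_def]
        rfl }
  have hψ : LinearMap.ker ψ = ⊥ := by
    rw [LinearMap.ker_eq_bot]
    exact IsFractionRing.injective K[X] Kt
  have h := (linearIndependent_C b hb).map' ψ hψ
  have e : (fun i => algebraMap K Kt (b i)) = ψ ∘ fun i => (Polynomial.C (b i) : K[X]) := by
    funext i
    show algebraMap K Kt (b i) = algebraMap K[X] Kt (Polynomial.C (b i))
    rw [IsScalarTower.algebraMap_apply K K[X] Kt]
    rfl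
  rw [e]
  exact h

variable [Algebra k kt] [IsScalarTower k k[X] kt] [Algebra k Kt] [IsScalarTower k kt Kt]
  [IsScalarTower k K Kt]
  (L : Type u) [Field L] [Algebra kt L] [Algebra k L] [IsScalarTower k kt L]

/-- the comparison map `L ⊗[k] K → L ⊗[k(t)] K(t)` -/
noncomputable def Phi : L ⊗[k] K →ₐ[k] L ⊗[kt] Kt :=
  Algebra.TensorProduct.productMap
    ((Algebra.TensorProduct.includeLeft : L →ₐ[kt] L ⊗[kt] Kt).restrictScalars k)
    (((Algebra.TensorProduct.includeRight : Kt →ₐ[kt] L ⊗[kt] Kt).restrictScalars k).comp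
      (IsScalarTower.toAlgHom k K Kt))

theorem Phi_tmul (l : L) (c : K) :
    Phi (k := k) (K := K) (kt := kt) (Kt := Kt) L (l ⊗ₜ c) = l ⊗ₜ[kt] (algebraMap K Kt c) := by
  simp [Phi]

/-- `L`-linear version of `Phi` -/
noncomputable def PhiL : L ⊗[k] K →ₗ[L] L ⊗[kt] Kt :=
  LinearMap.liftBaseChange L
    (((TensorProduct.mk kt L Kt 1).restrictScalars k) ∘ₗ (IsScalarTower.toAlgHom k K Kt).toLinearMap)

theorem PhiL_tmul (l : L) (c : K) :
    PhiL (k := k) (K := K) (kt := kt) (Kt := Kt) L (l ⊗ₜ c) = l ⊗ₜ[kt] (algebraMap K Kt c) := by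
  simp [PhiL, TensorProduct.smul_tmul']

theorem Phi_eq_PhiL (x : L ⊗[k] K) :
    Phi (k := k) (K := K) (kt := kt) (Kt := Kt) L x = PhiL (k := k) (K := K) (kt := kt) (Kt := Kt) L x := by
  induction x using TensorProduct.induction_on with
  | zero => simp
  | tmul l c => rw [Phi_tmul, PhiL_tmul]
  | add x y hx hy => rw [map_add, map_add, hx, hy]

theorem PhiL_injective
    (hcompat : ∀ p : k[X], algebraMap kt Kt (algebraMap k[X] kt p) =
      algebraMap K[X] Kt (p.map (algebraMap k K))) :
    Function.Injective (PhiL (k := k) (K := K) (kt := kt) (Kt := Kt) L) := by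
  classical
  let b := Module.Basis.ofVectorSpace k K
  let B := b.baseChange L
  have hw : LinearIndependent L (fun i => (1 : L) ⊗ₜ[kt] (algebraMap K Kt (b i))) :=
    Module.Flat.linearIndependent_one_tmul
      (linearIndependent_algebraMap_of_compat (kt := kt) hcompat b b.linearIndependent)
  rw [injective_iff_map_eq_zero]
  intro x hx
  have h1 : PhiL (k := k) (K := K) (kt := kt) (Kt := Kt) L x =
      Finsupp.linearCombination L (fun i => (1 : L) ⊗ₜ[kt] (algebraMap K Kt (b i))) (B.repr x) := by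
    conv_lhs => rw [← B.linearCombination_repr x]
    rw [Finsupp.apply_linearCombination]
    have e : (⇑(PhiL (k := k) (K := K) (kt := kt) (Kt := Kt) L) ∘ ⇑B) =
        fun i => (1 : L) ⊗ₜ[kt] (algebraMap K Kt (b i)) := by
      funext i
      simp [B, PhiL_tmul]
    rw [e]
  rw [h1] at hx
  have h2 := linearIndependent_iff.mp hw _ hx
  exact B.repr.map_eq_zero_iff.mp h2

theorem Phi_injective
    (hcompat : ∀ p : k[X], algebraMap kt Kt (algebraMap k[X] kt p) =
      algebraMap K[X] Kt (p.map (algebraMap k K))) :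
    Function.Injective (Phi (k := k) (K := K) (kt := kt) (Kt := Kt) L) := by
  intro x y hxy
  rw [Phi_eq_PhiL, Phi_eq_PhiL] at hxy
  exact PhiL_injective L hcompat hxy

theorem tmul_algebraMap_mem_range
    (hcompat : ∀ p : k[X], algebraMap kt Kt (algebraMap k[X] kt p) =
      algebraMap K[X] Kt (p.map (algebraMap k K))) (l : L) (p : K[X]) :
    l ⊗ₜ[kt] (algebraMap K[X] Kt p) ∈ (Phi (k := k) (K := K) (kt := kt) (Kt := Kt) L).range := by
  induction p using Polynomial.induction_on' generalizing l with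
  | add p q hp hq =>
    rw [map_add, TensorProduct.tmul_add]
    exact add_mem (hp l) (hq l)
  | monomial n c =>
    refine ⟨((algebraMap k[X] kt Polynomial.X) ^ n • l) ⊗ₜ c, ?_⟩
    show Phi (k := k) (K := K) (kt := kt) (Kt := Kt) L (((algebraMap k[X] kt Polynomial.X) ^ n • l) ⊗ₜ c) = _
    rw [Phi_tmul, TensorProduct.smul_tmul, ← Polynomial.C_mul_X_pow_eq_monomial, map_mul, map_pow,
      Algebra.smul_def, map_pow, hcompat, Polynomial.map_X, mul_comm]
    congr 2
    rw [IsScalarTower.algebraMap_apply K K[X] Kt]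
    rfl

theorem exists_denominator
    (hcompat : ∀ p : k[X], algebraMap kt Kt (algebraMap k[X] kt p) =
      algebraMap K[X] Kt (p.map (algebraMap k K))) (a : L ⊗[kt] Kt) :
    ∃ q : K[X], q ≠ 0 ∧ ((1 : L) ⊗ₜ[kt] (algebraMap K[X] Kt q)) * a ∈
      (Phi (k := k) (K := K) (kt := kt) (Kt := Kt) L).range := by
  induction a using TensorProduct.induction_on with
  | zero => exact ⟨1, one_ne_zero, by rw [mul_zero]; exact zero_mem _⟩
  | tmul l y =>
    obtain ⟨p, q, hq, rfl⟩ := IsFractionRing.div_surjective (A := K[X]) y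
    have hq0 : q ≠ 0 := nonZeroDivisors.ne_zero hq
    have hq1 : algebraMap K[X] Kt q ≠ 0 := by
      rw [Ne, map_eq_zero_iff _ (IsFractionRing.injective K[X] Kt)]
      exact hq0
    refine ⟨q, hq0, ?_⟩
    rw [Algebra.TensorProduct.tmul_mul_tmul, one_mul, mul_div_cancel₀ _ hq1]
    exact tmul_algebraMap_mem_range L hcompat l p
  | add x y hx hy =>
    obtain ⟨q, hq, hxq⟩ := hx
    obtain ⟨q', hq', hyq⟩ := hy
    refine ⟨q * q', mul_ne_zero hq hq', ?_⟩
    have h1 : (1 : L) ⊗ₜ[kt] (algebraMap K[X] Kt q) ∈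
        (Phi (k := k) (K := K) (kt := kt) (Kt := Kt) L).range :=
      tmul_algebraMap_mem_range L hcompat 1 q
    have h2 : (1 : L) ⊗ₜ[kt] (algebraMap K[X] Kt q') ∈
        (Phi (k := k) (K := K) (kt := kt) (Kt := Kt) L).range :=
      tmul_algebraMap_mem_range L hcompat 1 q'
    have e : ((1 : L) ⊗ₜ[kt] (algebraMap K[X] Kt (q * q'))) * (x + y) =
        ((1 : L) ⊗ₜ[kt] (algebraMap K[X] Kt q')) * (((1 : L) ⊗ₜ[kt] (algebraMap K[X] Kt q)) * x) +
        ((1 : L) ⊗ₜ[kt] (algebraMap K[X] Kt q)) * (((1 : L) ⊗ₜ[kt] (algebraMap K[X] Kt q')) * y) := by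
      have : (1 : L) ⊗ₜ[kt] (algebraMap K[X] Kt (q * q')) =
          ((1 : L) ⊗ₜ[kt] (algebraMap K[X] Kt q)) * ((1 : L) ⊗ₜ[kt] (algebraMap K[X] Kt q')) := by
        rw [Algebra.TensorProduct.tmul_mul_tmul, one_mul, map_mul]
      rw [this]
      ring
    rw [e]
    exact add_mem (mul_mem h2 hxq) (mul_mem h1 hyq)

/-- `K/k` geometrically irreducible at `L` implies `K(t)/k(t)` irreducible at `L`. -/
theorem irreducibleSpace_tensor_ratFunc
    (hcompat : ∀ p : k[X], algebraMap kt Kt (algebraMap k[X] kt p) =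
      algebraMap K[X] Kt (p.map (algebraMap k K)))
    [h : IrreducibleSpace (PrimeSpectrum (L ⊗[k] K))] :
    IrreducibleSpace (PrimeSpectrum (L ⊗[kt] Kt)) := by
  have hS : (nilradical (L ⊗[k] K)).IsPrime :=
    PrimeSpectrum.irreducibleSpace_iff_isPrime_nilradical.mp h
  rw [PrimeSpectrum.irreducibleSpace_iff_isPrime_nilradical]
  have hinj := Phi_injective (k := k) (K := K) (kt := kt) (Kt := Kt) L hcompat
  have hntS : Nontrivial (L ⊗[k] K) := by
    obtain ⟨p⟩ := (inferInstance : Nonempty (PrimeSpectrum (L ⊗[k] K)))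
    exact ⟨⟨0, 1, fun h => p.2.ne_top ((Ideal.eq_top_iff_one _).mpr (h ▸ p.asIdeal.zero_mem))⟩⟩
  have hnt : Nontrivial (L ⊗[kt] Kt) := hinj.nontrivial
  rw [Ideal.isPrime_iff]
  refine ⟨?_, ?_⟩
  · rw [Ne, Ideal.eq_top_iff_one, mem_nilradical]
    exact not_isNilpotent_one
  · intro a a' haa'
    obtain ⟨q, hq, z, hz⟩ := exists_denominator L hcompat a
    obtain ⟨q', hq', z', hz'⟩ := exists_denominator L hcompat a'
    have hunit : ∀ q : K[X], q ≠ 0 → IsUnit ((1 : L) ⊗ₜ[kt] (algebraMap K[X] Kt q)) := by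
      intro q hq
      have hq1 : algebraMap K[X] Kt q ≠ 0 := by
        rw [Ne, map_eq_zero_iff _ (IsFractionRing.injective K[X] Kt)]
        exact hq
      exact (IsUnit.mk0 _ hq1).map (Algebra.TensorProduct.includeRight : Kt →ₐ[kt] L ⊗[kt] Kt)
    have hzz' : z * z' ∈ nilradical (L ⊗[k] K) := by
      rw [mem_nilradical]
      have h1 : Phi (k := k) (K := K) (kt := kt) (Kt := Kt) L (z * z') ∈ nilradical (L ⊗[kt] Kt) := by
        rw [map_mul]
        have hz1 : Phi (k := k) (K := K) (kt := kt) (Kt := Kt) L z =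
            (1 : L) ⊗ₜ[kt] (algebraMap K[X] Kt q) * a := hz
        have hz1' : Phi (k := k) (K := K) (kt := kt) (Kt := Kt) L z' =
            (1 : L) ⊗ₜ[kt] (algebraMap K[X] Kt q') * a' := hz'
        rw [hz1, hz1']
        have : (1 : L) ⊗ₜ[kt] (algebraMap K[X] Kt q) * a * ((1 : L) ⊗ₜ[kt] (algebraMap K[X] Kt q') * a') =
            ((1 : L) ⊗ₜ[kt] (algebraMap K[X] Kt q) * (1 : L) ⊗ₜ[kt] (algebraMap K[X] Kt q')) * (a * a') := by
          ring
        rw [this]
        exact Ideal.mul_mem_left _ _ haa'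
      obtain ⟨n, hn⟩ := mem_nilradical.mp h1
      refine ⟨n, hinj ?_⟩
      rw [map_pow, hn, map_zero]
    have hback : ∀ (a : L ⊗[kt] Kt) (q : K[X]) (hq : q ≠ 0) (z : L ⊗[k] K)
        (hz : Phi (k := k) (K := K) (kt := kt) (Kt := Kt) L z =
          (1 : L) ⊗ₜ[kt] (algebraMap K[X] Kt q) * a), z ∈ nilradical (L ⊗[k] K) →
        a ∈ nilradical (L ⊗[kt] Kt) := by
      intro a q hq z hz hzn
      have h1 : (1 : L) ⊗ₜ[kt] (algebraMap K[X] Kt q) * a ∈ nilradical (L ⊗[kt] Kt) := by
        rw [← hz, mem_nilradical]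
        exact (mem_nilradical.mp hzn).map _
      obtain ⟨u, hu⟩ := hunit q hq
      have : a = (↑u⁻¹ : L ⊗[kt] Kt) * ((1 : L) ⊗ₜ[kt] (algebraMap K[X] Kt q) * a) := by
        rw [← hu, ← mul_assoc, Units.inv_mul, one_mul]
      rw [this]
      exact Ideal.mul_mem_left _ _ h1
    rcases hS.mem_or_mem hzz' with h' | h'
    · left
      exact hback a q hq z hz h'
    · right
      exact hback a' q' hq' z' hz' h'

end Main

end Groth.Agent.H48
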