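import Mathlib
import Groth.Agent.H47.SmoothReduced

/-!
# A reduced ring of finite type over `ℤ` is reduced modulo almost all primes
-/

open scoped TensorProduct

namespace Groth.Agent.H48.RedModP

universe u v

/-- a prime ideal contains at most one prime number -/
theorem prime_eq_of_mem {A : Type*} [CommRing A] (q : Ideal A) [hq : q.IsPrime] {p p' : ℕ}
    (hp : p.Prime) (hp' : p'.Prime) (h : (p : A) ∈ q) (h' : (p' : A) ∈ q) : p = p' := by
  by_contra hne
  have hcop : Nat.Coprime p p' := (Nat.coprime_primes hp hp').mpr hne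
  have h1 : IsCoprime (p : ℤ) (p' : ℤ) := Nat.isCoprime_iff_coprime.mpr hcop
  obtain ⟨a, b, hab⟩ := h1
  have h2 : ((a * p + b * p' : ℤ) : A) = 1 := by rw [hab]; simp
  have h3 : ((a * p + b * p' : ℤ) : A) ∈ q := by
    push_cast
    exact q.add_mem (q.mul_mem_left _ h) (q.mul_mem_left _ h')
  rw [h2] at h3
  exact hq.ne_top ((Ideal.eq_top_iff_one q).mpr h3)

/-- a finitely generated module over a Noetherian ring has `p`-torsion for only finitely many
prime numbers `p`. -/
theorem finite_torsion_primes (A : Type*) [CommRing A] [IsNoetherianRing A] (M : Type*)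
    [AddCommGroup M] [Module A M] [Module.Finite A M] :
    {p : ℕ | p.Prime ∧ ∃ m : M, m ≠ 0 ∧ (p : A) • m = 0}.Finite := by
  have hfin : (associatedPrimes A M).Finite := associatedPrimes.finite A M
  have hsub : {p : ℕ | p.Prime ∧ ∃ m : M, m ≠ 0 ∧ (p : A) • m = 0} ⊆
      ⋃ q ∈ associatedPrimes A M, {p : ℕ | p.Prime ∧ (p : A) ∈ q} := by
    rintro p ⟨hp, m, hm, hpm⟩
    obtain ⟨q, hq, hle⟩ := exists_le_isAssociatedPrime_of_isNoetherianRing A m hm
    simp only [Set.mem_iUnion]
    refine ⟨q, hq, hp, hle ?_⟩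
    simpa [Submodule.mem_annihilator_span_singleton] using hpm
  refine (Set.Finite.biUnion hfin (fun q hq => ?_)).subset hsub
  haveI : q.IsPrime := hq.isPrime
  apply Set.Subsingleton.finite
  rintro p ⟨hp, hpq⟩ p' ⟨hp', hpq'⟩
  exact prime_eq_of_mem q hp hp' hpq hpq'


theorem isReduced_of_smooth' (R : Type v) [CommRing R] (S : Type u) [CommRing S] [Algebra R S]
    [Algebra.Smooth R S] [IsReduced R] : IsReduced S := by
  obtain ⟨s, hs, hstd⟩ := Algebra.Smooth.exists_span_eq_top_isStandardSmooth R S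
  refine Groth.Agent.H47.isReduced_of_span_eq_top s hs (fun g hg => ?_)
  obtain ⟨ι, σ, _, _, ⟨P⟩⟩ := (hstd g hg).out
  haveI : Algebra.IsStandardSmoothOfRelativeDimension P.dimension R (Localization.Away g) :=
    ⟨_, _, _, ‹_›, P, rfl⟩
  obtain ⟨φ, hφ⟩ := Algebra.IsStandardSmoothOfRelativeDimension.exists_etale_mvPolynomial
    P.dimension R (Localization.Away g)
  letI : Algebra (MvPolynomial (Fin P.dimension) R) (Localization.Away g) :=
    φ.toRingHom.toAlgebra
  haveI : Algebra.Etale (MvPolynomial (Fin P.dimension) R) (Localization.Away g) := hφ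
  exact Groth.Agent.H47.isReduced_of_etale (MvPolynomial (Fin P.dimension) R) (Localization.Away g)

/-- a smooth `ℤ`-algebra is reduced modulo every prime number -/
theorem isRadical_span_prime_of_smooth_aux (S : Type u) [CommRing S] [Algebra.Smooth ℤ S] (p : ℕ)
    (hp : p.Prime) : (Ideal.span {(p : S)}).IsRadical := by
  let I : Ideal ℤ := Ideal.span {(p : ℤ)}
  haveI : I.IsPrime :=
    (Ideal.span_singleton_prime (by exact_mod_cast hp.ne_zero)).mpr (Nat.prime_iff_prime_int.mp hp)
  haveI : IsReduced ((ℤ ⧸ I) ⊗[ℤ] S) := isReduced_of_smooth' (ℤ ⧸ I) ((ℤ ⧸ I) ⊗[ℤ] S)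
  have hmap : I.map (algebraMap ℤ S) = Ideal.span {(p : S)} := by
    rw [Ideal.map_span, Set.image_singleton]
    simp
  rw [← hmap, Ideal.isRadical_iff_quotient_reduced]
  let e := Algebra.TensorProduct.quotIdealMapEquivTensorQuot S I
  let e' := e.toRingEquiv.trans (Algebra.TensorProduct.comm ℤ S (ℤ ⧸ I)).toRingEquiv
  exact isReduced_of_injective e'.toRingHom e'.injective

/-- a smooth `ℤ`-algebra is reduced modulo every prime number (any `ℤ`-algebra instance) -/
theorem isRadical_span_prime_of_smooth (S : Type u) [CommRing S] [inst : Algebra ℤ S]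
    [Algebra.Smooth ℤ S] (p : ℕ) (hp : p.Prime) : (Ideal.span {(p : S)}).IsRadical := by
  obtain rfl : inst = Ring.toIntAlgebra S := Subsingleton.elim _ _
  exact isRadical_span_prime_of_smooth_aux S p hp


theorem formallySmooth_int_of_isFractionRing (B : Type u) [CommRing B] [IsDomain B]
    [Algebra.FiniteType ℤ B] (K : Type u) [Field K] [CharZero K] [Algebra B K]
    [IsFractionRing B K] : Algebra.FormallySmooth ℤ K := by
  haveI : Algebra.EssFiniteType B K := Algebra.EssFiniteType.of_isLocalization K (nonZeroDivisors B)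
  haveI : Algebra.EssFiniteType ℤ K := Algebra.EssFiniteType.comp ℤ B K
  haveI : Algebra.EssFiniteType ℚ K := Algebra.EssFiniteType.of_comp ℤ ℚ K
  haveI : Algebra.FormallySmooth ℚ K := inferInstance
  haveI : Algebra.FormallySmooth ℤ ℚ := Algebra.FormallySmooth.of_isLocalization (nonZeroDivisors ℤ)
  exact Algebra.FormallySmooth.comp ℤ ℚ K

theorem exists_smooth_away (B : Type u) [CommRing B] [IsDomain B] [CharZero B]
    [Algebra.FiniteType ℤ B] :
    ∃ f : B, f ≠ 0 ∧ Algebra.Smooth ℤ (Localization.Away f) := by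
  haveI : CharZero (FractionRing B) :=
    charZero_of_injective_algebraMap (IsFractionRing.injective B (FractionRing B))
  haveI : Algebra.FormallySmooth ℤ (FractionRing B) := by
    have h := formallySmooth_int_of_isFractionRing B (FractionRing B)
    convert h
    · rfl
    · exact Subsingleton.elim _ _
  have hM : (⊥ : Ideal B).primeCompl = nonZeroDivisors B := by
    ext x
    simp [Ideal.primeCompl, mem_nonZeroDivisors_iff_ne_zero]
  haveI : IsLocalization (nonZeroDivisors B) (Localization.AtPrime (⊥ : Ideal B)) :=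
    hM ▸ (inferInstance : IsLocalization (⊥ : Ideal B).primeCompl (Localization.AtPrime (⊥ : Ideal B)))
  let e : FractionRing B ≃ₐ[B] Localization.AtPrime (⊥ : Ideal B) :=
    IsLocalization.algEquiv (nonZeroDivisors B) _ _
  haveI : Algebra.FormallySmooth ℤ (Localization.AtPrime (⊥ : Ideal B)) :=
    Algebra.FormallySmooth.of_equiv (e.restrictScalars ℤ)
  haveI : Algebra.FinitePresentation ℤ B := Algebra.FinitePresentation.of_finiteType.mp inferInstance
  obtain ⟨f, hf, hsm⟩ := Algebra.IsSmoothAt.exists_notMem_smooth ℤ (⊥ : Ideal B)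
  exact ⟨f, by simpa using hf, hsm⟩


/-- `f` is regular modulo `p` if `B/f` has no `p`-torsion -/
theorem mem_span_of_mul_mem {B : Type*} [CommRing B] [IsDomain B] (f : B) (hf : f ≠ 0) (p : ℕ)
    (hp : ¬ ∃ m : B ⧸ Ideal.span {f}, m ≠ 0 ∧ (p : B) • m = 0) (y : B)
    (h : f * y ∈ Ideal.span {(p : B)}) : y ∈ Ideal.span {(p : B)} := by
  rw [Ideal.mem_span_singleton'] at h ⊢
  obtain ⟨b, hb⟩ := h
  have h1 : (p : B) • (Ideal.Quotient.mk (Ideal.span {f}) b) = 0 := by
    rw [Algebra.smul_def, Ideal.Quotient.algebraMap_eq, ← map_mul, Ideal.Quotient.eq_zero_iff_mem,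
      Ideal.mem_span_singleton', mul_comm, hb]
    exact ⟨y, mul_comm _ _⟩
  have h2 : Ideal.Quotient.mk (Ideal.span {f}) b = 0 := by
    by_contra hne
    exact hp ⟨_, hne, h1⟩
  rw [Ideal.Quotient.eq_zero_iff_mem, Ideal.mem_span_singleton'] at h2
  obtain ⟨c, hc⟩ := h2
  refine ⟨c, ?_⟩
  apply mul_left_cancel₀ hf
  rw [← hb, ← hc]
  ring

theorem finite_bad_of_charZero (B : Type u) [CommRing B] [IsDomain B] [CharZero B]
    [Algebra.FiniteType ℤ B] :
    {p : ℕ | p.Prime ∧ ¬ (Ideal.span {(p : B)}).IsRadical}.Finite := by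
  obtain ⟨f, hf, hsm⟩ := exists_smooth_away B
  haveI : IsNoetherianRing B := Algebra.FiniteType.isNoetherianRing ℤ B
  refine (finite_torsion_primes B (B ⧸ Ideal.span {f})).subset ?_
  rintro p ⟨hp, hnr⟩
  refine ⟨hp, ?_⟩
  by_contra hno
  apply hnr
  have key : ∀ m : ℕ, ∀ y : B, f ^ m * y ∈ Ideal.span {(p : B)} → y ∈ Ideal.span {(p : B)} := by
    intro m
    induction m with
    | zero => intro y hy; simpa using hy
    | succ m ih =>
      intro y hy
      apply ih
      apply mem_span_of_mul_mem f hf p hno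
      rw [← mul_assoc, ← pow_succ']
      exact hy
  rintro x ⟨n, hn⟩
  haveI := hsm
  have hrad := isRadical_span_prime_of_smooth (Localization.Away f) p hp
  have h1 : algebraMap B (Localization.Away f) x ∈ Ideal.span {(p : Localization.Away f)} := by
    apply hrad
    refine ⟨n, ?_⟩
    rw [← map_pow]
    obtain ⟨a, ha⟩ := Ideal.mem_span_singleton'.mp hn
    rw [← ha, map_mul, map_natCast]
    exact Ideal.mul_mem_left _ _ (Ideal.subset_span rfl)
  obtain ⟨c, hc⟩ := Ideal.mem_span_singleton'.mp h1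
  obtain ⟨⟨b, ⟨_, m, rfl⟩⟩, hbc⟩ := IsLocalization.surj (Submonoid.powers f) c
  have h2 : f ^ m * x = b * p := by
    apply IsLocalization.injective (Localization.Away f)
      (powers_le_nonZeroDivisors_of_noZeroDivisors hf)
    simp only [map_mul, map_pow, map_natCast] at hbc ⊢
    rw [← hbc, ← hc]
    ring
  apply key m
  rw [h2]
  exact Ideal.mul_mem_left _ _ (Ideal.subset_span rfl)

theorem finite_bad_of_isDomain_aux (B : Type u) [CommRing B] [IsDomain B] [Algebra.FiniteType ℤ B] :
    {p : ℕ | p.Prime ∧ ¬ (Ideal.span {(p : B)}).IsRadical}.Finite := by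
  obtain ⟨c, hc⟩ := CharP.exists B
  rcases Nat.eq_zero_or_pos c with h0 | hpos
  · subst h0
    haveI := CharP.charP_to_charZero B
    exact finite_bad_of_charZero B
  · refine (Set.finite_singleton c).subset ?_
    rintro p ⟨hp, hnr⟩
    by_contra hne
    rw [Set.mem_singleton_iff] at hne
    apply hnr
    have hcprime : c.Prime := (CharP.char_is_prime_or_zero B c).resolve_right hpos.ne'
    have hcop : Nat.Coprime p c := (Nat.coprime_primes hp hcprime).mpr hne
    have h1 : IsCoprime (p : ℤ) (c : ℤ) := Nat.isCoprime_iff_coprime.mpr hcop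
    obtain ⟨a, b, hab⟩ := h1
    have h2 : ((a * p + b * c : ℤ) : B) = 1 := by rw [hab]; simp
    have hunit : IsUnit (p : B) := by
      push_cast at h2
      rw [CharP.cast_eq_zero B c, mul_zero, add_zero] at h2
      exact IsUnit.of_mul_eq_one _ (by rw [mul_comm]; exact h2)
    rw [Ideal.span_singleton_eq_top.mpr hunit]
    exact fun x _ => Submodule.mem_top


/-- a domain of finite type over `ℤ` is reduced modulo almost all primes
(any `ℤ`-algebra instance) -/
theorem finite_bad_of_isDomain (B : Type u) [CommRing B] [IsDomain B] [inst : Algebra ℤ B]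
    [Algebra.FiniteType ℤ B] :
    {p : ℕ | p.Prime ∧ ¬ (Ideal.span {(p : B)}).IsRadical}.Finite := by
  obtain rfl : inst = Ring.toIntAlgebra B := Subsingleton.elim _ _
  exact finite_bad_of_isDomain_aux B

theorem finite_bad (A : Type u) [CommRing A] [Algebra.FiniteType ℤ A] [IsReduced A] :
    {p : ℕ | p.Prime ∧ ¬ (Ideal.span {(p : A)}).IsRadical}.Finite := by
  classical
  haveI : IsNoetherianRing A := Algebra.FiniteType.isNoetherianRing ℤ A
  have hfin : (minimalPrimes A).Finite := minimalPrimes.finite_of_isNoetherianRing A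
  haveI : Fintype (minimalPrimes A) := hfin.fintype
  let A' := ∀ P : minimalPrimes A, A ⧸ P.1
  let φ : A →ₗ[A] A' := Algebra.linearMap A A'
  have hφ : ∀ a (P : minimalPrimes A), φ a P = Ideal.Quotient.mk P.1 a := fun a P => rfl
  have hφinj : Function.Injective φ := by
    rw [injective_iff_map_eq_zero]
    intro a ha
    have h1 : a ∈ sInf (minimalPrimes A) := by
      rw [Ideal.mem_sInf]
      intro P hP
      have := congrFun ha ⟨P, hP⟩
      rw [hφ] at this
      exact Ideal.Quotient.eq_zero_iff_mem.mp this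
    have h2 : sInf (minimalPrimes A) = nilradical A := by
      show sInf (⊥ : Ideal A).minimalPrimes = _
      rw [Ideal.sInf_minimalPrimes]
      rfl
    rw [h2, nilradical_eq_zero] at h1
    exact h1
  let C := A' ⧸ LinearMap.range φ
  have hC := finite_torsion_primes A C
  have hdom : ∀ P : minimalPrimes A,
      {p : ℕ | p.Prime ∧ ¬ (Ideal.span {(p : A ⧸ P.1)}).IsRadical}.Finite := fun P => by
    haveI : P.1.IsPrime := P.2.1.1
    haveI : Algebra.FiniteType ℤ (A ⧸ P.1) :=
      Algebra.FiniteType.of_surjective (Ideal.Quotient.mkₐ ℤ P.1) (Ideal.Quotient.mkₐ_surjective ℤ P.1)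
    exact finite_bad_of_isDomain (A ⧸ P.1)
  refine (hC.union (Set.finite_iUnion hdom)).subset ?_
  rintro p ⟨hp, hnr⟩
  by_contra hnot
  simp only [Set.mem_union, Set.mem_iUnion, Set.mem_ofPred_eq, not_or, not_exists, not_and,
    not_not] at hnot
  obtain ⟨h1, h2⟩ := hnot
  apply hnr
  rintro x ⟨n, hn⟩
  have hP : ∀ P : minimalPrimes A, ∃ y : A,
      Ideal.Quotient.mk P.1 x = (p : A ⧸ P.1) * Ideal.Quotient.mk P.1 y := by
    intro P
    have h3 : Ideal.Quotient.mk P.1 x ∈ Ideal.span {(p : A ⧸ P.1)} := by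
      apply h2 P hp
      refine ⟨n, ?_⟩
      rw [← map_pow]
      obtain ⟨a, ha⟩ := Ideal.mem_span_singleton'.mp hn
      rw [← ha, map_mul, map_natCast]
      exact Ideal.mul_mem_left _ _ (Ideal.subset_span rfl)
    obtain ⟨c, hc⟩ := Ideal.mem_span_singleton'.mp h3
    obtain ⟨y, rfl⟩ := Ideal.Quotient.mk_surjective c
    exact ⟨y, by rw [← hc, mul_comm]⟩
  choose y hy using hP
  let y' : A' := fun P => Ideal.Quotient.mk P.1 (y P)
  have h3 : φ x = (p : A) • y' := by
    funext P
    rw [hφ, Pi.smul_apply, hy P, Algebra.smul_def, Ideal.Quotient.algebraMap_eq, map_natCast]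
  have h4 : (p : A) • (Submodule.Quotient.mk y' : C) = 0 := by
    rw [← Submodule.Quotient.mk_smul, ← h3]
    exact (Submodule.Quotient.mk_eq_zero _).mpr ⟨x, rfl⟩
  have h5 : (Submodule.Quotient.mk y' : C) = 0 := by
    by_contra hne
    exact h1 hp _ hne h4
  obtain ⟨z, hz⟩ := (Submodule.Quotient.mk_eq_zero _).mp h5
  have h6 : φ x = φ ((p : A) * z) := by
    rw [h3, ← hz, ← smul_eq_mul, map_smul]
  rw [hφinj h6]
  exact Ideal.mul_mem_right _ _ (Ideal.subset_span rfl)


/-- a reduced ring of finite type over `ℤ` is reduced modulo almost all primes -/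
theorem finite_not_isReduced (A : Type u) [CommRing A] [Algebra.FiniteType ℤ A] [IsReduced A] :
    {p : ℕ | p.Prime ∧ ¬ IsReduced (A ⧸ Ideal.span {(p : A)})}.Finite := by
  have h := finite_bad A
  simp_rw [Ideal.isRadical_iff_quotient_reduced] at h
  exact h

end Groth.Agent.H48.RedModP
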