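import Mathlib
import Groth.Agent.H48.MulLoc
import Groth.Agent.H48.GeomRed

/-!
# Geometric reducedness over a separable algebraic extension of the base field
-/

open scoped TensorProduct

namespace Groth.Agent.H48.SepBase

universe u

section Descend

variable {k k' : Type u} [Field k] [Field k'] [Algebra k k'] [Algebra.IsSeparable k k']
variable {K A : Type u} [CommRing K] [CommRing A] [Algebra k' K] [Algebra k K]
  [IsScalarTower k k' K] [Algebra k' A] [Algebra k A] [IsScalarTower k k' A]

/-- the canonical surjection `K ⊗[k] A → K ⊗[k'] A` -/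
noncomputable def π : K ⊗[k] A →ₐ[k'] K ⊗[k'] A :=
  Algebra.TensorProduct.mapOfCompatibleSMul k' k k' K A

omit [Algebra.IsSeparable k k'] in
theorem π_tmul (x : K) (a : A) : π (k := k) (k' := k') (x ⊗ₜ[k] a) = x ⊗ₜ[k'] a := rfl

omit [Algebra.IsSeparable k k'] in
theorem π_surjective : Function.Surjective (π (k := k) (k' := k') (K := K) (A := A)) :=
  Algebra.TensorProduct.mapOfCompatibleSMul_surjective k' k k' K A

/-- the map `k' ⊗[k] k' → K ⊗[k] A` -/
noncomputable def ψ : k' ⊗[k] k' →ₐ[k] K ⊗[k] A :=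
  Algebra.TensorProduct.map (IsScalarTower.toAlgHom k k' K) (IsScalarTower.toAlgHom k k' A)

omit [Algebra.IsSeparable k k'] in
theorem π_ψ (t : k' ⊗[k] k') :
    π (k := k) (k' := k') (ψ (K := K) (A := A) t) =
      algebraMap k' (K ⊗[k'] A) (Algebra.TensorProduct.lmul' (S := k') k t) := by
  induction t using TensorProduct.induction_on with
  | zero => simp
  | tmul a b =>
    simp only [ψ, Algebra.TensorProduct.map_tmul, IsScalarTower.coe_toAlgHom', π_tmul,
      Algebra.TensorProduct.lmul'_apply_tmul, Algebra.TensorProduct.algebraMap_apply, map_mul]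
    rw [Algebra.algebraMap_eq_smul_one (A := A) b, TensorProduct.tmul_smul,
      TensorProduct.smul_tmul', Algebra.smul_def, mul_comm (algebraMap k' K b),
      Algebra.TensorProduct.tmul_mul_tmul, mul_one]
  | add x y hx hy => simp only [map_add, hx, hy]

/-- every element of the kernel of `π` is killed by an element mapping to `1`. -/
theorem exists_elem_of_mem_ker (z : K ⊗[k] A) (hz : π (k := k) (k' := k') z = 0) :
    ∃ e : K ⊗[k] A, π (k := k) (k' := k') e = 1 ∧ e * z = 0 := by
  have hker : z ∈ LinearMap.ker (TensorProduct.mapOfCompatibleSMul k' k k' K A) := hz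
  rw [TensorProduct.AlgebraTensorModule.ker_mapOfCompatibleSMul] at hker
  clear hz
  induction hker using Submodule.span_induction with
  | mem x hx =>
    obtain ⟨a, m, n, rfl⟩ := hx
    obtain ⟨e₀, he1, he2⟩ := Groth.Agent.H48.MulLoc.exists_elem (k := k) a
    refine ⟨ψ e₀, ?_, ?_⟩
    · rw [π_ψ, he1, map_one]
    · have h1 : (a • m) ⊗ₜ[k] n - m ⊗ₜ[k] (a • n) =
          - ((m ⊗ₜ[k] n) * ψ (K := K) (A := A) ((1 : k') ⊗ₜ[k] a - a ⊗ₜ[k] (1 : k'))) := by
        simp only [ψ, map_sub, Algebra.TensorProduct.map_tmul, map_one,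
          IsScalarTower.coe_toAlgHom', mul_sub, Algebra.TensorProduct.tmul_mul_tmul, mul_one,
          neg_sub]
        rw [Algebra.smul_def, Algebra.smul_def, mul_comm m, mul_comm n]
      rw [h1, mul_neg, mul_left_comm, ← map_mul, he2, map_zero, mul_zero, neg_zero]
  | zero => exact ⟨1, map_one _, mul_zero _⟩
  | add x y _ _ hx hy =>
    obtain ⟨e, he1, he2⟩ := hx
    obtain ⟨f, hf1, hf2⟩ := hy
    refine ⟨e * f, by rw [map_mul, he1, hf1, mul_one], ?_⟩
    rw [mul_add, mul_right_comm, he2, zero_mul, mul_assoc, hf2, mul_zero, add_zero]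
  | smul a x _ hx =>
    obtain ⟨e, he1, he2⟩ := hx
    exact ⟨e, he1, by rw [mul_smul_comm, he2, smul_zero]⟩

/-- reducedness descends from `K ⊗[k] A` to `K ⊗[k'] A` for `k'/k` separable algebraic. -/
theorem isReduced_of_isReduced_base [IsReduced (K ⊗[k] A)] : IsReduced (K ⊗[k'] A) := by
  refine ⟨fun w hw => ?_⟩
  obtain ⟨x, rfl⟩ := π_surjective (k := k) (k' := k') w
  obtain ⟨n, hn⟩ := hw
  rw [← map_pow] at hn
  obtain ⟨e, he1, he2⟩ := exists_elem_of_mem_ker _ hn
  have h0 : e * x = 0 := by
    apply IsNilpotent.eq_zero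
    refine ⟨n + 1, ?_⟩
    have h2 : (e * x) ^ (n + 1) = (e * x ^ n) * (e ^ n * x) := by ring
    rw [h2, he2, zero_mul]
  have : π (k := k) (k' := k') (e * x) = π (k := k) (k' := k') x := by
    rw [map_mul, he1, one_mul]
  rw [← this, h0, map_zero]

end Descend

section Field

variable (k k' : Type u) [Field k] [Field k'] [Algebra k k'] [Algebra.IsSeparable k k']

/-- `k' ⊗[k] E` is a field when `k'/k` is separable algebraic and `E/k` is purely inseparable. -/
theorem isField_tensor (E : Type u) [Field E] [Algebra k E] [IsPurelyInseparable k E] :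
    IsField (k' ⊗[k] E) := by
  have : IsReduced (k' ⊗[k] E) := Groth.Agent.H48.GeomRed.isReduced_tensor_of_separable k'
  have hnt : Nontrivial (k' ⊗[k] E) :=
    (Algebra.TensorProduct.includeLeft_injective (R := k) (S := k) (A := k') (B := E)
      (algebraMap k E).injective).nontrivial
  rw [← PrimeSpectrum.subsingleton_iff_isField_of_isReduced]
  have h := PrimeSpectrum.isHomeomorph_comap_of_isPurelyInseparable k E k'
  exact h.injective.subsingleton

variable {k k'}
variable {A : Type u} [CommRing A] [Algebra k' A] [Algebra k A] [IsScalarTower k k' A]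

theorem isReduced_tensor_of_purelyInseparable
    (h : ∀ (K : Type u) [Field K] [Algebra k' K], IsReduced (K ⊗[k'] A))
    (E : Type u) [Field E] [Algebra k E] [IsPurelyInseparable k E] : IsReduced (E ⊗[k] A) := by
  have hF : IsField (k' ⊗[k] E) := isField_tensor k k' E
  let _ : Field (k' ⊗[k] E) := hF.toField
  have h1 : IsReduced ((k' ⊗[k] E) ⊗[k'] A) := h (k' ⊗[k] E)
  let e1 := Algebra.TensorProduct.cancelBaseChange k k' k' A E
  let e2 := Algebra.TensorProduct.comm k' (k' ⊗[k] E) A
  let e3 := Algebra.TensorProduct.comm k E A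
  let f : E ⊗[k] A ≃+* (k' ⊗[k] E) ⊗[k'] A :=
    e3.toRingEquiv.trans (e1.symm.toRingEquiv.trans e2.symm.toRingEquiv)
  exact isReduced_of_injective f f.injective

end Field

end Groth.Agent.H48.SepBase
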