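import Mathlib

/-!
# Separably generated extensions are separable (MacLane)
-/

open scoped IntermediateField
open Matrix

namespace Groth.Agent.H48.SepGen

/-- Linear independence of the rows of a matrix is preserved by applying a field homomorphism. -/
theorem vecMul_injective_map {k k' : Type*} [Field k] [Field k'] (σ : k →+* k')
    {J N : Type*} [Fintype J] [Fintype N] [DecidableEq J] [DecidableEq N]
    (W : Matrix J N k) (h : Function.Injective W.vecMul) :
    Function.Injective (W.map σ).vecMul := by
  obtain ⟨G, hG⟩ := LinearMap.exists_leftInverse_of_injective W.vecMulLinear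
    (LinearMap.ker_eq_bot.mpr h)
  let V : Matrix N J k := (LinearMap.toMatrix' G)ᵀ
  have hWV : W * V = 1 := by
    apply Matrix.ext_of_single_vecMul
    intro j
    rw [← Matrix.vecMul_vecMul, Matrix.vecMul_one]
    have h1 : (Pi.single j 1 ᵥ* W) ᵥ* V = G (Pi.single j 1 ᵥ* W) := by
      rw [Matrix.vecMul_transpose, LinearMap.toMatrix'_mulVec]
    rw [h1]
    exact LinearMap.congr_fun hG (Pi.single j 1)
  have hWV' : W.map σ * V.map σ = 1 := by
    rw [← Matrix.map_mul, hWV, Matrix.map_one σ (map_zero σ) (map_one σ)]
  intro c d hcd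
  have := congrArg (fun v => v ᵥ* V.map σ) hcd
  simp only [Matrix.vecMul_vecMul, hWV', Matrix.vecMul_one] at this
  exact this

/-- If `e` and `e ^ p` are both `k`-linearly independent, then on the span of `e`, taking
`p`-th powers preserves linear independence of finite families. -/
theorem linearIndependent_pow_of_span {k K N J : Type*} [Field k] [Field K] [Algebra k K] (p : ℕ)
    (hp : p.Prime) [CharP k p] [Fintype J]
    (e : N → K) (he : LinearIndependent k e) (hep : LinearIndependent k (fun ν => e ν ^ p))
    (v : J → K) (hs : ∀ j, v j ∈ Submodule.span k (Set.range e))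
    (hli : LinearIndependent k v) : LinearIndependent k (fun j => v j ^ p) := by
  classical
  have : Fact p.Prime := ⟨hp⟩
  have : CharP K p := charP_of_injective_algebraMap (algebraMap k K).injective p
  let coord : J → (N →₀ k) := fun j => he.repr ⟨v j, hs j⟩
  have hcoord : ∀ j, v j = ∑ ν ∈ (coord j).support, coord j ν • e ν := by
    intro j
    have h1 := he.linearCombination_repr ⟨v j, hs j⟩
    rw [Finsupp.linearCombination_apply, Finsupp.sum] at h1
    exact h1.symm
  let N' : Finset N := Finset.univ.biUnion (fun j => (coord j).support)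
  have hcoord' : ∀ j, v j = ∑ ν ∈ N', coord j ν • e ν := by
    intro j
    conv_lhs => rw [hcoord j]
    apply Finset.sum_subset
      (Finset.subset_biUnion_of_mem (fun j => (coord j).support) (Finset.mem_univ j))
    intro ν _ hν
    rw [Finsupp.notMem_support_iff.mp hν, zero_smul]
  have hpow : ∀ j, v j ^ p = ∑ ν ∈ N', (coord j ν) ^ p • (e ν) ^ p := by
    intro j
    conv_lhs => rw [hcoord' j]
    rw [sum_pow_char]
    exact Finset.sum_congr rfl fun ν _ => smul_pow _ _ _
  rw [Fintype.linearIndependent_iff]
  intro c hc
  let W : Matrix J N' k := fun j ν => coord j ν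
  have hinj : Function.Injective W.vecMul := by
    rw [← Matrix.coe_vecMulLinear, ← LinearMap.ker_eq_bot, LinearMap.ker_eq_bot']
    intro d hd
    have hd' : ∀ ν : N', ∑ j, d j * coord j ν = 0 := by
      intro ν
      have h2 : (d ᵥ* W) ν = 0 := congrFun hd ν
      exact h2
    have hsum : ∑ j, d j • v j = 0 := by
      calc ∑ j, d j • v j
          = ∑ j, d j • ∑ ν ∈ N', coord j ν • e ν := by
            refine Finset.sum_congr rfl fun j _ => ?_
            rw [← hcoord' j]
        _ = ∑ ν ∈ N', (∑ j, d j * coord j ν) • e ν := by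
            simp_rw [Finset.smul_sum, smul_smul, Finset.sum_smul]
            exact Finset.sum_comm
        _ = 0 := by
            apply Finset.sum_eq_zero
            intro ν hν
            rw [hd' ⟨ν, hν⟩, zero_smul]
    exact funext (Fintype.linearIndependent_iff.mp hli d hsum)
  have hinj' := vecMul_injective_map (frobenius k p) W hinj
  have hc0 : c ᵥ* (W.map (frobenius k p)) = 0 := by
    have hsum : ∑ ν ∈ N', (∑ j, c j * (coord j ν) ^ p) • (e ν) ^ p = 0 := by
      rw [← hc]
      symm
      calc ∑ j, c j • (v j) ^ p
          = ∑ j, c j • ∑ ν ∈ N', (coord j ν) ^ p • (e ν) ^ p := by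
            refine Finset.sum_congr rfl fun j _ => ?_
            rw [hpow j]
        _ = ∑ ν ∈ N', (∑ j, c j * (coord j ν) ^ p) • (e ν) ^ p := by
            simp_rw [Finset.smul_sum, smul_smul, Finset.sum_smul]
            exact Finset.sum_comm
    have h0 := linearIndependent_iff'.mp hep N' (fun ν => ∑ j, c j * (coord j ν) ^ p) hsum
    ext ν
    have := h0 ν ν.2
    change ∑ j, c j * (frobenius k p) (coord j ν) = 0
    simpa [frobenius_def] using this
  exact congrFun (hinj' (hc0.trans (Matrix.zero_vecMul _).symm))

section setting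

variable {k K ι : Type*} [Field k] [Field K] [Algebra k K] (x : ι → K)

/-- The generators as elements of `k(x)`. -/
def xL : ι → IntermediateField.adjoin k (Set.range x) :=
  fun i => ⟨x i, IntermediateField.subset_adjoin k _ ⟨i, rfl⟩⟩

theorem algebraicIndependent_xL (hx : AlgebraicIndependent k x) :
    AlgebraicIndependent k (xL (k := k) x) := by
  apply AlgebraicIndependent.of_comp (IntermediateField.val _)
  exact hx

/-- Monomials in the generators, as elements of `k(x)`. -/
noncomputable def mon (m : ι →₀ ℕ) : IntermediateField.adjoin k (Set.range x) :=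
  MvPolynomial.aeval (xL (k := k) x) (MvPolynomial.monomial m (1 : k))

theorem linearIndependent_mon (hx : AlgebraicIndependent k x) :
    LinearIndependent k (mon (k := k) x) := by
  have := (MvPolynomial.basisMonomials ι k).linearIndependent.map'
    (MvPolynomial.aeval (xL (k := k) x)).toLinearMap
    (LinearMap.ker_eq_bot.mpr (algebraicIndependent_xL x hx))
  have h : mon (k := k) x = ⇑(MvPolynomial.aeval (xL (k := k) x)).toLinearMap ∘
      ⇑(MvPolynomial.basisMonomials ι k) := by
    ext m
    simp [mon, MvPolynomial.coe_basisMonomials]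
  rw [h]
  exact this

theorem mon_pow (m : ι →₀ ℕ) (p : ℕ) : mon (k := k) x m ^ p = mon (k := k) x (p • m) := by
  simp [mon, ← map_pow, MvPolynomial.monomial_pow]

theorem linearIndependent_e (hx : AlgebraicIndependent k x) {I : Type*}
    (b : Module.Basis I (IntermediateField.adjoin k (Set.range x)) K) :
    LinearIndependent k (fun q : (ι →₀ ℕ) × I => mon (k := k) x q.1 • b q.2) :=
  linearIndependent_smul (linearIndependent_mon x hx) b.linearIndependent

theorem linearIndependent_e_pow (hx : AlgebraicIndependent k x) {I : Type*}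
    [Algebra.IsSeparable (IntermediateField.adjoin k (Set.range x)) K]
    (p : ℕ) (hp : p.Prime) [CharP k p]
    (b : Module.Basis I (IntermediateField.adjoin k (Set.range x)) K) :
    LinearIndependent k (fun q : (ι →₀ ℕ) × I => (mon (k := k) x q.1 • b q.2) ^ p) := by
  have : Fact p.Prime := ⟨hp⟩
  have : CharP (IntermediateField.adjoin k (Set.range x)) p :=
    charP_of_injective_algebraMap (algebraMap k _).injective p
  have : ExpChar (IntermediateField.adjoin k (Set.range x)) p := ExpChar.prime hp
  let b' := b.mapPowExpCharPowOfIsSeparable p 1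
  have h1 : LinearIndependent k (fun m : ι →₀ ℕ => mon (k := k) x (p • m)) :=
    (linearIndependent_mon x hx).comp _ (smul_right_injective _ hp.ne_zero)
  have h2 := linearIndependent_smul h1 b'.linearIndependent
  have h : (fun q : (ι →₀ ℕ) × I => (mon (k := k) x q.1 • b q.2) ^ p) =
      fun q : (ι →₀ ℕ) × I => mon (k := k) x (p • q.1) • b' q.2 := by
    ext q
    rw [smul_pow, mon_pow]
    simp [b', Module.Basis.mapPowExpCharPowOfIsSeparable]
  rw [h]
  exact h2

theorem coe_mon (m : ι →₀ ℕ) :
    ((mon (k := k) x m : IntermediateField.adjoin k (Set.range x)) : K) =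
      MvPolynomial.aeval x (MvPolynomial.monomial m (1 : k)) := by
  have h := MvPolynomial.comp_aeval (R := k) (f := xL (k := k) x)
    (IntermediateField.val (IntermediateField.adjoin k (Set.range x)))
  have h2 := congrArg (fun φ => φ (MvPolynomial.monomial m (1 : k))) h
  exact h2

theorem mul_basis_mem_span {I : Type*}
    (b : Module.Basis I (IntermediateField.adjoin k (Set.range x)) K)
    {r : K} (hr : r ∈ Algebra.adjoin k (Set.range x)) (i : I) :
    r * b i ∈ Submodule.span k
      (Set.range (fun q : (ι →₀ ℕ) × I => mon (k := k) x q.1 • b q.2)) := by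
  rw [Algebra.adjoin_range_eq_range_aeval] at hr
  obtain ⟨P, rfl⟩ := hr
  have hP : (MvPolynomial.aeval x) P =
      ∑ m ∈ P.support, P.coeff m • ((mon (k := k) x m : _) : K) := by
    conv_lhs => rw [P.as_sum]
    rw [map_sum]
    refine Finset.sum_congr rfl fun m _ => ?_
    have h2 : (MvPolynomial.monomial m (P.coeff m) : MvPolynomial ι k) =
        P.coeff m • MvPolynomial.monomial m (1 : k) := by
      rw [MvPolynomial.smul_monomial, smul_eq_mul, mul_one]
    rw [h2, map_smul, coe_mon]
  change (MvPolynomial.aeval x) P * b i ∈ _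
  rw [hP, Finset.sum_mul]
  apply Submodule.sum_mem
  intro m _
  have h1 : P.coeff m • ((mon (k := k) x m : _) : K) * b i =
      P.coeff m • (mon (k := k) x m • b i) := by
    rw [smul_mul_assoc, Algebra.smul_def (mon (k := k) x m) (b i),
      IntermediateField.algebraMap_apply]
  rw [h1]
  exact Submodule.smul_mem _ _ (Submodule.subset_span ⟨(m, i), rfl⟩)

theorem exists_denominator (S : Finset (IntermediateField.adjoin k (Set.range x))) :
    ∃ D : K, D ≠ 0 ∧ D ∈ Algebra.adjoin k (Set.range x) ∧
      ∀ l ∈ S, D * (l : K) ∈ Algebra.adjoin k (Set.range x) := by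
  classical
  induction S using Finset.induction_on with
  | empty => exact ⟨1, one_ne_zero, one_mem _, by simp⟩
  | insert l S hl ih =>
    obtain ⟨D, hD0, hDA, hD⟩ := ih
    obtain ⟨r, hr, s', hs', hrs⟩ := IntermediateField.mem_adjoin_iff_div.mp l.2
    by_cases h0 : s' = 0
    · have hl0 : (l : K) = 0 := by rw [hrs, h0, div_zero]
      refine ⟨D, hD0, hDA, ?_⟩
      intro l' hl'
      rcases Finset.mem_insert.mp hl' with rfl | h
      · rw [hl0, mul_zero]; exact zero_mem _
      · exact hD l' h
    · refine ⟨D * s', mul_ne_zero hD0 h0, mul_mem hDA hs', ?_⟩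
      intro l' hl'
      rcases Finset.mem_insert.mp hl' with rfl | h
      · have : D * s' * (l' : K) = D * r := by rw [hrs]; field_simp
        rw [this]
        exact mul_mem hDA hr
      · have : D * s' * (l' : K) = s' * (D * l') := by ring
        rw [this]
        exact mul_mem hs' (hD l' h)

theorem exists_mul_mem_span {I : Type*}
    (b : Module.Basis I (IntermediateField.adjoin k (Set.range x)) K) (s : Finset K) :
    ∃ D : K, D ≠ 0 ∧ ∀ a ∈ s, D * a ∈ Submodule.span k
      (Set.range (fun q : (ι →₀ ℕ) × I => mon (k := k) x q.1 • b q.2)) := by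
  classical
  let S : Finset (IntermediateField.adjoin k (Set.range x)) :=
    s.biUnion (fun a => (b.repr a).support.image (b.repr a))
  obtain ⟨D, hD0, -, hD⟩ := exists_denominator x S
  refine ⟨D, hD0, fun a ha => ?_⟩
  have h1 : a = ∑ i ∈ (b.repr a).support, (b.repr a i) • b i := by
    have := b.linearCombination_repr a
    rw [Finsupp.linearCombination_apply, Finsupp.sum] at this
    exact this.symm
  rw [h1, Finset.mul_sum]
  apply Submodule.sum_mem
  intro i hi
  have h2 : D * ((b.repr a i) • b i) = (D * ((b.repr a i : _) : K)) * b i := by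
    rw [Algebra.smul_def, IntermediateField.algebraMap_apply]
    ring
  rw [h2]
  apply mul_basis_mem_span
  apply hD
  exact Finset.mem_biUnion.mpr ⟨a, ha, Finset.mem_image_of_mem _ hi⟩

/-- **MacLane**: in a separably generated extension, `p`-th powers of `k`-linearly independent
elements are `k`-linearly independent. -/
theorem linearIndepOn_pow_of_sepGen (hx : AlgebraicIndependent k x)
    [Algebra.IsSeparable (IntermediateField.adjoin k (Set.range x)) K]
    (p : ℕ) (hp : p.Prime) [CharP k p] (s : Finset K)
    (hli : LinearIndepOn k id (s : Set K)) : LinearIndepOn k (· ^ p) (s : Set K) := by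
  classical
  obtain ⟨I, ⟨b⟩⟩ := Module.Basis.exists_basis (IntermediateField.adjoin k (Set.range x)) K
  obtain ⟨D, hD0, hD⟩ := exists_mul_mem_span x b s
  have hv : LinearIndependent k (fun a : (s : Set K) => D * (a : K)) :=
    hli.map' (LinearMap.mulLeft k D) (LinearMap.ker_eq_bot.mpr (mul_right_injective₀ hD0))
  have h2 := linearIndependent_pow_of_span p hp _ (linearIndependent_e x hx b)
    (linearIndependent_e_pow x hx p hp b) (fun a : (s : Set K) => D * (a : K))
    (fun a => hD a a.2) hv
  have h3 : (fun a : (s : Set K) => (D * (a : K)) ^ p) =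
      (LinearMap.mulLeft k (D ^ p)) ∘ (fun a : (s : Set K) => (a : K) ^ p) := by
    ext a
    simp [mul_pow]
  rw [h3] at h2
  exact LinearIndependent.of_comp _ h2

/-- Indexed version of `linearIndepOn_pow_of_sepGen`. -/
theorem linearIndependent_pow_of_sepGen (hx : AlgebraicIndependent k x)
    [Algebra.IsSeparable (IntermediateField.adjoin k (Set.range x)) K]
    (p : ℕ) (hp : p.Prime) [CharP k p] {J : Type*} [Fintype J] (v : J → K)
    (hli : LinearIndependent k v) : LinearIndependent k (fun j => v j ^ p) := by
  classical
  obtain ⟨I, ⟨b⟩⟩ := Module.Basis.exists_basis (IntermediateField.adjoin k (Set.range x)) K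
  obtain ⟨D, hD0, hD⟩ := exists_mul_mem_span x b (Finset.univ.image v)
  have hv : LinearIndependent k (fun j => D * v j) :=
    hli.map' (LinearMap.mulLeft k D) (LinearMap.ker_eq_bot.mpr (mul_right_injective₀ hD0))
  have h2 := linearIndependent_pow_of_span p hp _ (linearIndependent_e x hx b)
    (linearIndependent_e_pow x hx p hp b) (fun j => D * v j)
    (fun j => hD (v j) (Finset.mem_image_of_mem v (Finset.mem_univ j))) hv
  have h3 : (fun j => (D * v j) ^ p) =
      (LinearMap.mulLeft k (D ^ p)) ∘ (fun j => v j ^ p) := by
    ext a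
    simp [mul_pow]
  rw [h3] at h2
  exact LinearIndependent.of_comp _ h2

end setting

section final

universe u

theorem exists_sepGen_of_fg {k K : Type u} [Field k] [Field K] [Algebra k K]
    (h : ∃ (ι : Type u) (x : ι → K), IsTranscendenceBasis k x ∧
      Algebra.IsSeparable (IntermediateField.adjoin k (Set.range x)) K)
    (K' : IntermediateField k K)
    (hK' : ∃ s : Finset K, IntermediateField.adjoin k (s : Set K) = K') :
    ∃ (ι : Type u) (x : ι → K'), IsTranscendenceBasis k x ∧
      Algebra.IsSeparable (IntermediateField.adjoin k (Set.range x)) K' := by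
  obtain ⟨ι, x, hx, hsep⟩ := h
  have hfg : Algebra.EssFiniteType k K' := IntermediateField.essFiniteType_iff.mpr hK'
  suffices hs : ∃ s : Finset K', IsTranscendenceBasis k ((↑) : s → K') ∧
      Algebra.IsSeparable (IntermediateField.adjoin k (s : Set K')) K' by
    obtain ⟨s, hs1, hs2⟩ := hs
    refine ⟨s, ((↑) : s → K'), hs1, ?_⟩
    have h : Set.range ((↑) : s → K') = (s : Set K') := Subtype.range_coe
    exact h.symm ▸ hs2
  obtain _ | ⟨p, hp, hpk⟩ := CharP.exists' k
  · have : PerfectField k := PerfectField.ofCharZero
    exact exists_isTranscendenceBasis_and_isSeparable_of_perfectField k K'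
  · refine exists_isTranscendenceBasis_and_isSeparable_of_linearIndepOn_pow_of_essFiniteType
      p hp.out fun s hs => ?_
    have hv : LinearIndependent k (fun a : (s : Set K') => ((a : K') : K)) :=
      hs.map' K'.val.toLinearMap (LinearMap.ker_eq_bot.mpr K'.val.injective)
    have h2 := linearIndependent_pow_of_sepGen x hx.1 p hp.out _ hv
    exact LinearIndependent.of_comp K'.val.toLinearMap h2

end final

end Groth.Agent.H48.SepGen
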