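import Mathlib
import Groth.Agent.H48.AffineDimThm

/-!
# The dimension theorem for intersections at smooth points (ring level)

For a finite type algebra `B` over a field `k`, primes `P, Q` and `R` minimal over `P + Q` such that
the fibre of `Ω[B⁄k]` at `R` has dimension at most `n`: `dim B/P + dim B/Q ≤ dim B/R + n`.
(Reduction to the diagonal; the diagonal ideal of `B ⊗[k] B` is generated near `R` by `n` elements.)
-/

set_option autoImplicit false
set_option linter.unusedSectionVars false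
set_option linter.style.haveILetI false
universe u

open TensorProduct

namespace Groth.Agent.H48.SmoothDimThm

open Groth.Agent.H48.AffineDimThm

section G

variable (k : Type u) [Field k] (A : Type u) [CommRing A] [Algebra k A] (P Q : Ideal A)

/-- Reduction to the diagonal: if the preimage in `A/P ⊗ A/Q` of a minimal prime `Rb` of
`A/(P+Q)` is minimal over a finite set `s`, then `dim A/P + dim A/Q ≤ dim A/R + |s|`. -/
theorem ringKrullDim_quotient_add_le_of_minimal_span [Algebra.FiniteType k A] [P.IsPrime]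
    [Q.IsPrime] (Rb : Ideal (A ⧸ (P ⊔ Q))) (s : Finset (CC k A P Q))
    (hRt : Rb.comap (μ k A P Q).toRingHom ∈ (Ideal.span (s : Set (CC k A P Q))).minimalPrimes) :
    ringKrullDim (A ⧸ P) + ringKrullDim (A ⧸ Q) ≤
      ringKrullDim (A ⧸ Rb.comap (Ideal.Quotient.mk (P ⊔ Q))) + (s.card : WithBot ℕ∞) := by
  classical
  have hsurj : Function.Surjective (μ k A P Q).toRingHom := μ_surjective k A P Q
  set Rt := Rb.comap (μ k A P Q).toRingHom with hRtdef
  haveI : Rt.IsPrime := hRt.1.1
  obtain ⟨W, hW, hWRt⟩ := Ideal.exists_minimalPrimes_le (bot_le : (⊥ : Ideal (CC k A P Q)) ≤ Rt)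
  haveI : W.IsPrime := hW.1.1
  haveI : Algebra.FiniteType k (CC k A P Q) := finiteType_tensor k (A ⧸ P) (A ⧸ Q)
  have hdimD : ringKrullDim (CC k A P Q ⧸ W) = ringKrullDim (A ⧸ P) + ringKrullDim (A ⧸ Q) :=
    Groth.Agent.H48.ProdComp.ringKrullDim_tensor_quotient_minimalPrime_add k (A ⧸ P) (A ⧸ Q) W hW
  have hR1 := ringKrullDim_quotient_minimalPrime_le k (CC k A P Q) s Rt hRt W hWRt
  have e2 : ringKrullDim (CC k A P Q ⧸ Rt) = ringKrullDim ((A ⧸ (P ⊔ Q)) ⧸ Rb) :=
    ringKrullDim_quotient_comap _ hsurj Rb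
  have e3 : ringKrullDim (A ⧸ Rb.comap (Ideal.Quotient.mk (P ⊔ Q))) =
      ringKrullDim ((A ⧸ (P ⊔ Q)) ⧸ Rb) :=
    ringKrullDim_quotient_comap _ Ideal.Quotient.mk_surjective Rb
  rw [e2, ← e3, hdimD] at hR1
  exact hR1

end G

section N

/-- Nakayama: if the fibre of a finite module `M` at a prime `R` has dimension at most `n`, then
`M` is generated by at most `n` elements after inverting some `h ∉ R`. -/
theorem exists_finset_smul_mem_span {B : Type u} [CommRing B] (M : Type u) [AddCommGroup M]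
    [Module B M] [Module.Finite B M] (R : Ideal B) [R.IsPrime] (n : ℕ)
    (hn : Module.finrank R.ResidueField (R.ResidueField ⊗[B] M) ≤ n) :
    ∃ (t : Finset M) (h : B), t.card ≤ n ∧ h ∉ R ∧
      ∀ m : M, h • m ∈ Submodule.span B (t : Set M) := by
  classical
  set κ := R.ResidueField with hκ
  let S : Set (κ ⊗[B] M) := Set.range (fun m : M => (1 : κ) ⊗ₜ[B] m)
  have hS : Submodule.span κ S = ⊤ := by
    rw [eq_top_iff]
    rintro v -
    induction v using TensorProduct.induction_on with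
    | zero => exact zero_mem _
    | tmul c m =>
      have : c ⊗ₜ[B] m = c • ((1 : κ) ⊗ₜ[B] m) := by
        rw [TensorProduct.smul_tmul', smul_eq_mul, mul_one]
      rw [this]
      exact Submodule.smul_mem _ _ (Submodule.subset_span ⟨m, rfl⟩)
    | add x y hx hy => exact add_mem hx hy
  obtain ⟨b, hbS, hbspan, hbli⟩ := exists_linearIndependent κ S
  have hbfin : b.Finite := hbli.setFinite
  letI : Fintype ↥b := hbfin.fintype
  have hbcard : hbfin.toFinset.card ≤ n := by
    refine le_trans ?_ hn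
    rw [Set.Finite.card_toFinset]
    exact hbli.fintype_card_le_finrank
  -- a section of `m ↦ 1 ⊗ m` over `S`
  let g : κ ⊗[B] M → M := fun v => if hv : v ∈ S then hv.choose else 0
  have hg : ∀ v ∈ b, (1 : κ) ⊗ₜ[B] g v = v := by
    intro v hv
    have hvS : v ∈ S := hbS hv
    simp only [g, dif_pos hvS]
    exact hvS.choose_spec
  let t : Finset M := hbfin.toFinset.image g
  have htcard : t.card ≤ n := Finset.card_image_le.trans hbcard
  set Ω' : Submodule B M := Submodule.span B (t : Set M) with hΩ'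
  -- the quotient has trivial fibre
  let φ : κ ⊗[B] M →ₗ[κ] κ ⊗[B] (M ⧸ Ω') := (Ω'.mkQ).baseChange κ
  have hφb : ∀ v ∈ b, φ v = 0 := by
    intro v hv
    rw [← hg v hv]
    simp only [φ, LinearMap.baseChange_tmul, Submodule.mkQ_apply]
    have : g v ∈ Ω' := by
      apply Submodule.subset_span
      exact Finset.mem_coe.mpr (Finset.mem_image.mpr ⟨v, hbfin.mem_toFinset.mpr hv, rfl⟩)
    rw [(Submodule.Quotient.mk_eq_zero Ω').mpr this, TensorProduct.tmul_zero]
  have hφ0 : φ = 0 := by
    apply LinearMap.ext_on_range (v := fun x : b => (x : κ ⊗[B] M))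
    · rw [Subtype.range_coe, hbspan, hS]
    · intro x
      rw [hφb x.1 x.2, LinearMap.zero_apply]
  have hsub : Subsingleton (κ ⊗[B] (M ⧸ Ω')) := by
    refine ⟨fun x y => ?_⟩
    have key : ∀ z : κ ⊗[B] (M ⧸ Ω'), z = 0 := by
      intro z
      induction z using TensorProduct.induction_on with
      | zero => rfl
      | tmul c m =>
        obtain ⟨m, rfl⟩ := Submodule.Quotient.mk_surjective Ω' m
        have h1 : c ⊗ₜ[B] (Submodule.Quotient.mk m : M ⧸ Ω') = φ (c ⊗ₜ[B] m) := by
          simp only [φ, LinearMap.baseChange_tmul, Submodule.mkQ_apply]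
        rw [h1, hφ0, LinearMap.zero_apply]
      | add x y hx hy => rw [hx, hy, add_zero]
    rw [key x, key y]
  have hsupp : (⟨R, inferInstance⟩ : PrimeSpectrum B) ∉ Module.support B (M ⧸ Ω') := by
    rw [Module.mem_support_iff_nontrivial_residueField_tensorProduct]
    exact not_nontrivial _
  rw [Module.support_eq_zeroLocus, PrimeSpectrum.mem_zeroLocus, SetLike.coe_subset_coe,
    SetLike.not_le_iff_exists] at hsupp
  obtain ⟨h, hann, hR⟩ := hsupp
  refine ⟨t, h, htcard, hR, fun m => ?_⟩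
  have := Module.mem_annihilator.mp hann (Submodule.Quotient.mk m : M ⧸ Ω')
  rw [← Submodule.Quotient.mk_smul, Submodule.Quotient.mk_eq_zero] at this
  exact this

end N

section D

variable (k : Type u) [Field k] (B : Type u) [CommRing B] [Algebra k B]

/-- If `h • Ω[B⁄k]` lies in the span of a finite set `t`, then the diagonal ideal `I` of
`B ⊗[k] B` is generated by `|t|` elements after inverting some `g ≡ (h ⊗ 1)^m` modulo `I`. -/
theorem exists_mul_mem_span_of_kaehler [Algebra.FiniteType k B] (t : Finset Ω[B⁄k]) (h : B)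
    (hspan : ∀ m : Ω[B⁄k], h • m ∈ Submodule.span B (t : Set Ω[B⁄k])) :
    ∃ (a : Finset (B ⊗[k] B)) (g : B ⊗[k] B) (m : ℕ), a.card ≤ t.card ∧
      (∀ x ∈ a, x ∈ KaehlerDifferential.ideal k B) ∧
      g - (h ⊗ₜ[k] (1 : B)) ^ m ∈ KaehlerDifferential.ideal k B ∧
      ∀ x ∈ KaehlerDifferential.ideal k B, g * x ∈ Ideal.span (a : Set (B ⊗[k] B)) := by
  classical
  set C₀ := B ⊗[k] B with hC₀
  set I₀ : Ideal C₀ := KaehlerDifferential.ideal k B with hI₀
  set h' : C₀ := h ⊗ₜ[k] (1 : B) with hh'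
  have hI₀fg : I₀.FG := KaehlerDifferential.ideal_fg k B
  haveI : Module.Finite C₀ ↥I₀ := Module.Finite.iff_fg.mpr hI₀fg
  have hh'alg : h' = algebraMap B C₀ h := by
    rw [hh', Algebra.TensorProduct.algebraMap_apply, Algebra.algebraMap_self, RingHom.id_apply]
  -- lifts
  let lift : Ω[B⁄k] → ↥I₀ := Function.surjInv (KaehlerDifferential.fromIdeal_surjective k B)
  have hlift : ∀ ω, KaehlerDifferential.fromIdeal k B (lift ω) = ω :=
    Function.surjInv_eq (KaehlerDifferential.fromIdeal_surjective k B)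
  let t' : Finset ↥I₀ := t.image lift
  let J' : Submodule C₀ ↥I₀ := Submodule.span C₀ (t' : Set ↥I₀)
  -- Claim 1
  have claim1 : ∀ x : ↥I₀, h' • x ∈ J' ⊔ I₀ • (⊤ : Submodule C₀ ↥I₀) := by
    intro x
    obtain ⟨c, hc, hsum⟩ := Submodule.mem_span_finset.mp
      (hspan (KaehlerDifferential.fromIdeal k B x))
    set z : ↥I₀ := ∑ ω ∈ t, (algebraMap B C₀ (c ω)) • lift ω with hz
    have hzJ : z ∈ J' := by
      refine Submodule.sum_mem _ fun ω hω => Submodule.smul_mem _ _ (Submodule.subset_span ?_)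
      exact Finset.mem_coe.mpr (Finset.mem_image.mpr ⟨ω, hω, rfl⟩)
    have hy : KaehlerDifferential.fromIdeal k B (h' • x - z) = 0 := by
      rw [map_sub, map_smul, hz, map_sum, hh'alg, algebraMap_smul, ← hsum, sub_eq_zero]
      refine Finset.sum_congr rfl fun ω _ => ?_
      rw [map_smul, algebraMap_smul, hlift]
    have hy' : h' • x - z ∈ I₀ • (⊤ : Submodule C₀ ↥I₀) :=
      (Submodule.Quotient.mk_eq_zero _).mp hy
    have : h' • x = z + (h' • x - z) := by abel
    rw [this]
    exact Submodule.add_mem_sup hzJ hy'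
  -- Claim 2: determinant trick
  let f : Module.End C₀ (↥I₀ ⧸ J') := algebraMap C₀ (Module.End C₀ (↥I₀ ⧸ J')) h'
  have hrange : LinearMap.range f ≤ I₀ • (⊤ : Submodule C₀ (↥I₀ ⧸ J')) := by
    rintro _ ⟨mx, rfl⟩
    obtain ⟨x, rfl⟩ := Submodule.Quotient.mk_surjective J' mx
    obtain ⟨z, hz, y, hy, hzy⟩ := Submodule.mem_sup.mp (claim1 x)
    have h1 : f (Submodule.Quotient.mk x) = Submodule.Quotient.mk y := by
      change h' • (Submodule.Quotient.mk x : ↥I₀ ⧸ J') = _
      rw [← Submodule.Quotient.mk_smul, ← hzy, Submodule.Quotient.mk_add,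
        (Submodule.Quotient.mk_eq_zero J').mpr hz, zero_add]
    rw [h1]
    have h2 : (I₀ • (⊤ : Submodule C₀ ↥I₀)).map J'.mkQ = I₀ • (⊤ : Submodule C₀ (↥I₀ ⧸ J')) := by
      rw [Submodule.map_smul'', Submodule.map_top, Submodule.range_mkQ]
    rw [← h2]
    exact Submodule.mem_map_of_mem hy
  obtain ⟨p, hpmonic, -, hpcoeff, hpeval⟩ :=
    LinearMap.exists_monic_and_natDegree_eq_and_coeff_mem_pow_and_aeval_eq_zero C₀ f I₀ hrange
  set g : C₀ := Polynomial.aeval h' p with hg
  have hg0 : algebraMap C₀ (Module.End C₀ (↥I₀ ⧸ J')) g = 0 := by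
    rw [hg, ← Polynomial.aeval_algebraMap_apply]
    exact hpeval
  have hgJ : ∀ x : ↥I₀, g • x ∈ J' := by
    intro x
    have h1 : g • (Submodule.Quotient.mk x : ↥I₀ ⧸ J') = 0 := by
      change (algebraMap C₀ (Module.End C₀ (↥I₀ ⧸ J')) g) (Submodule.Quotient.mk x) = 0
      rw [hg0, LinearMap.zero_apply]
    rw [← Submodule.Quotient.mk_smul, Submodule.Quotient.mk_eq_zero] at h1
    exact h1
  refine ⟨t'.image Subtype.val, g, p.natDegree, ?_, ?_, ?_, ?_⟩
  · exact Finset.card_image_le.trans Finset.card_image_le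
  · intro x hx
    obtain ⟨y, -, rfl⟩ := Finset.mem_image.mp hx
    exact y.2
  · rw [hg, Polynomial.aeval_eq_sum_range, Finset.sum_range_succ, hpmonic.coeff_natDegree,
      one_smul, add_sub_cancel_right]
    refine Ideal.sum_mem _ fun i hi => ?_
    rw [smul_eq_mul]
    refine I₀.mul_mem_right _ ?_
    have hi' : p.natDegree - i ≠ 0 := by
      have := Finset.mem_range.mp hi
      omega
    exact Ideal.pow_le_self hi' (hpcoeff i)
  · intro x hx
    have h1 := hgJ ⟨x, hx⟩
    have h2 : ((g • (⟨x, hx⟩ : ↥I₀) : ↥I₀) : C₀) ∈ J'.map (Submodule.subtype I₀) :=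
      Submodule.mem_map_of_mem h1
    rw [Submodule.map_span] at h2
    have h3 : (Ideal.span ((t'.image Subtype.val : Finset C₀) : Set C₀)) =
        Submodule.span C₀ (⇑(Submodule.subtype I₀) '' (t' : Set ↥I₀)) := by
      rw [Finset.coe_image]
      rfl
    rw [h3]
    exact h2

end D

section S

variable (k : Type u) [Field k] (B : Type u) [CommRing B] [Algebra k B] (P Q : Ideal B)

/-- The projection `B ⊗ B → B/P ⊗ B/Q`. -/
noncomputable def π : B ⊗[k] B →ₐ[k] CC k B P Q :=
  Algebra.TensorProduct.map (Ideal.Quotient.mkₐ k P) (Ideal.Quotient.mkₐ k Q)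

theorem π_surjective : Function.Surjective (π k B P Q) := by
  apply TensorProduct.map_surjective
  · exact Ideal.Quotient.mk_surjective
  · exact Ideal.Quotient.mk_surjective

theorem μ_π (x : B ⊗[k] B) :
    μ k B P Q (π k B P Q x) = Ideal.Quotient.mk (P ⊔ Q) (Algebra.TensorProduct.lmul' k x) := by
  induction x using TensorProduct.induction_on with
  | zero => simp
  | tmul a b => simp [π, μ]
  | add x y hx hy => simp only [map_add, hx, hy]

theorem ker_μ_le_map [Algebra.FiniteType k B] :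
    RingHom.ker (μ k B P Q).toRingHom ≤
      (KaehlerDifferential.ideal k B).map (π k B P Q).toRingHom := by
  classical
  obtain ⟨s0, hs0⟩ := (Algebra.FiniteType.out : (⊤ : Subalgebra k B).FG)
  have hx : Algebra.adjoin k (Set.range (Subtype.val : ↥s0 → B)) = ⊤ := by
    rw [Subtype.range_coe]; exact hs0
  rw [ker_μ k B (Subtype.val : ↥s0 → B) P Q hx, Ideal.span_le]
  intro c hc
  unfold ss at hc
  obtain ⟨i, -, rfl⟩ := Finset.mem_image.mp (Finset.mem_coe.mp hc)
  have h1 : dd k B (Subtype.val : ↥s0 → B) P Q i =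
      (π k B P Q).toRingHom ((i : B) ⊗ₜ[k] (1 : B) - (1 : B) ⊗ₜ[k] (i : B)) := by
    simp [dd, ι₁, ι₂, π]
  rw [h1]
  apply Ideal.mem_map_of_mem
  have := KaehlerDifferential.one_smul_sub_smul_one_mem_ideal k (i : B)
  rw [← neg_sub]
  exact neg_mem this

/-- **Dimension theorem at smooth points**, ring level, with explicit local generators of `Ω`. -/
theorem ringKrullDim_quotient_add_le_of_span_kaehler [Algebra.FiniteType k B] [P.IsPrime]
    [Q.IsPrime] (R : Ideal B) (hR : R ∈ (P ⊔ Q).minimalPrimes) (t : Finset Ω[B⁄k]) (h : B)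
    (hh : h ∉ R) (hspan : ∀ m : Ω[B⁄k], h • m ∈ Submodule.span B (t : Set Ω[B⁄k])) :
    ringKrullDim (B ⧸ P) + ringKrullDim (B ⧸ Q) ≤
      ringKrullDim (B ⧸ R) + (t.card : WithBot ℕ∞) := by
  classical
  obtain ⟨a, g, m, hacard, haI, hgm, hga⟩ := exists_mul_mem_span_of_kaehler k B t h hspan
  rw [Ideal.minimalPrimes_eq_comap] at hR
  obtain ⟨Rb, hRb, rfl⟩ := hR
  haveI : Rb.IsPrime := hRb.1.1
  have hsurj : Function.Surjective (μ k B P Q).toRingHom := μ_surjective k B P Q
  have hπ : Function.Surjective (π k B P Q).toRingHom := π_surjective k B P Q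
  set Rt := Rb.comap (μ k B P Q).toRingHom with hRtdef
  have hmin0 : Rt ∈ (RingHom.ker (μ k B P Q).toRingHom).minimalPrimes := by
    have h := Ideal.minimalPrimes_comap_of_surjective hsurj (I := ⊥) hRb
    rw [← RingHom.ker_eq_comap_bot] at h
    exact h
  haveI : Rt.IsPrime := hmin0.1.1
  have hI₀ker : ∀ x ∈ KaehlerDifferential.ideal k B,
      (π k B P Q) x ∈ RingHom.ker (μ k B P Q).toRingHom := by
    intro x hx
    change μ k B P Q (π k B P Q x) = 0
    rw [μ_π]
    have : Algebra.TensorProduct.lmul' k x = 0 := hx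
    rw [this, map_zero]
  let s : Finset (CC k B P Q) := a.image (π k B P Q)
  have hscard : s.card ≤ t.card := Finset.card_image_le.trans hacard
  have hspan_s : Ideal.span (s : Set (CC k B P Q)) =
      (Ideal.span (a : Set (B ⊗[k] B))).map (π k B P Q).toRingHom := by
    rw [Ideal.map_span, Finset.coe_image]
    rfl
  have hRt : Rt ∈ (Ideal.span (s : Set (CC k B P Q))).minimalPrimes := by
    refine ⟨⟨inferInstance, ?_⟩, ?_⟩
    · rw [Ideal.span_le]
      intro c hc
      obtain ⟨x, hx, rfl⟩ := Finset.mem_image.mp (Finset.mem_coe.mp hc)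
      exact hmin0.1.2 (hI₀ker x (haI x hx))
    · rintro 𝔭 ⟨h𝔭prime, hs𝔭⟩ h𝔭Rt
      refine hmin0.2 ⟨h𝔭prime, ?_⟩ h𝔭Rt
      intro y hy
      obtain ⟨x, hxI, rfl⟩ := (Ideal.mem_map_iff_of_surjective _ hπ).mp (ker_μ_le_map k B P Q hy)
      have h1 : (π k B P Q).toRingHom g * (π k B P Q).toRingHom x ∈ 𝔭 := by
        rw [← map_mul]
        apply hs𝔭
        rw [hspan_s]
        exact Ideal.mem_map_of_mem _ (hga x hxI)
      refine (h𝔭prime.mem_or_mem h1).resolve_left ?_
      intro hg𝔭
      have h2 : μ k B P Q (π k B P Q g) ∈ Rb := h𝔭Rt hg𝔭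
      rw [μ_π] at h2
      have h3 : Algebra.TensorProduct.lmul' k g = h ^ m := by
        have : Algebra.TensorProduct.lmul' k (g - (h ⊗ₜ[k] (1 : B)) ^ m) = 0 := hgm
        rw [map_sub, sub_eq_zero] at this
        rw [this, map_pow, Algebra.TensorProduct.lmul'_apply_tmul, mul_one]
      rw [h3, map_pow] at h2
      exact hh (Ideal.IsPrime.mem_of_pow_mem inferInstance m h2)
  have key := ringKrullDim_quotient_add_le_of_minimal_span k B P Q Rb s hRt
  refine key.trans ?_
  gcongr

/-- **Dimension theorem at smooth points**, ring level: if the fibre of `Ω[B⁄k]` at a prime `R`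
minimal over `P + Q` has dimension at most `n`, then `dim B/P + dim B/Q ≤ dim B/R + n`. -/
theorem ringKrullDim_quotient_add_le_of_finrank_kaehler [Algebra.FiniteType k B] [P.IsPrime]
    [Q.IsPrime] (R : Ideal B) [R.IsPrime] (hR : R ∈ (P ⊔ Q).minimalPrimes) (n : ℕ)
    (hn : Module.finrank R.ResidueField (R.ResidueField ⊗[B] Ω[B⁄k]) ≤ n) :
    ringKrullDim (B ⧸ P) + ringKrullDim (B ⧸ Q) ≤
      ringKrullDim (B ⧸ R) + (n : WithBot ℕ∞) := by
  obtain ⟨t, h, htcard, hh, hspan⟩ := exists_finset_smul_mem_span Ω[B⁄k] R n hn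
  refine (ringKrullDim_quotient_add_le_of_span_kaehler k B P Q R hR t h hh hspan).trans ?_
  gcongr

end S

end Groth.Agent.H48.SmoothDimThm
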