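import Mathlib
import Groth.Agent.H48.SmoothDimThm
import Groth.Agent.H48.AffineDimThmSch
import Groth.Agent.H11.OmegaSmooth

/-!
# The dimension theorem for intersections on a smooth variety over a field
-/

set_option autoImplicit false
set_option linter.unusedSectionVars false
set_option linter.style.haveILetI false
universe u

open AlgebraicGeometry CategoryTheory CategoryTheory.Limits TopologicalSpace Opposite TensorProduct

namespace Groth.Agent.H48.SmoothDimThmSch

open Groth.Agent.H48.DimFunSch Groth.Agent.H48.CompDim Groth.Agent.H48.AffineDimThmSch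
  Groth.Agent.H48.SmoothDimThm

/-- **Dimension of intersections on a smooth variety** (statement S19416). -/
theorem add_le_topologicalKrullDim_component_inter_smooth (k : Type u) [Field k] (X : Scheme.{u})
    (f : X ⟶ Spec (CommRingCat.of k)) [Smooth f] [IsIntegral X]
    (n r s : ℕ) (hn : topologicalKrullDim X = n) (V W : Set X) (hVc : IsClosed V)
    (hVi : IsIrreducible V) (hWc : IsClosed W) (hWi : IsIrreducible W)
    (hr : topologicalKrullDim ↥V = r) (hs : topologicalKrullDim ↥W = s) (Z : Set ↥(V ∩ W))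
    (hZ : Z ∈ irreducibleComponents ↥(V ∩ W)) :
    ((r + s : ℕ) : WithBot ℕ∞) ≤ topologicalKrullDim ↥Z + n := by
  letI : X.Over (Spec (CommRingCat.of k)) := ⟨f⟩
  haveI : Smooth (X ↘ Spec (CommRingCat.of k)) := ‹Smooth f›
  haveI : LocallyOfFiniteType f := inferInstance
  haveI : LocallyOfFiniteType (X ↘ Spec (CommRingCat.of k)) := ‹LocallyOfFiniteType f›
  obtain ⟨z, hzT, -, hzmax, hzdim⟩ :=
    exists_generic_of_mem_irreducibleComponents_subtype' (V ∩ W) (hVc.inter hWc) Z hZ
  obtain ⟨ξ, hξ⟩ := QuasiSober.sober hVi hVc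
  obtain ⟨η, hη⟩ := QuasiSober.sober hWi hWc
  have hξV : closure ({ξ} : Set X) = V := hξ.def
  have hηW : closure ({η} : Set X) = W := hη.def
  have hξz : ξ ⤳ z := by rw [specializes_iff_mem_closure, hξV]; exact hzT.1
  have hηz : η ⤳ z := by rw [specializes_iff_mem_closure, hηW]; exact hzT.2
  obtain ⟨U, hU, hzU, -⟩ := exists_isAffineOpen_mem_and_subset (x := z) (U := ⊤) trivial
  have hξU : ξ ∈ U := hξz.mem_open U.2 hzU
  have hηU : η ∈ U := hηz.mem_open U.2 hzU
  -- primes
  set a : PrimeSpectrum Γ(X, U) := hU.primeIdealOf ⟨ξ, hξU⟩ with ha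
  set b : PrimeSpectrum Γ(X, U) := hU.primeIdealOf ⟨η, hηU⟩ with hb
  set c : PrimeSpectrum Γ(X, U) := hU.primeIdealOf ⟨z, hzU⟩ with hc
  have hfa : hU.fromSpec a = ξ := hU.fromSpec_primeIdealOf ⟨ξ, hξU⟩
  have hfb : hU.fromSpec b = η := hU.fromSpec_primeIdealOf ⟨η, hηU⟩
  have hfc : hU.fromSpec c = z := hU.fromSpec_primeIdealOf ⟨z, hzU⟩
  have hac : a ≤ c := by
    rw [← fromSpec_specializes_iff hU, hfa, hfc]; exact hξz
  have hbc : b ≤ c := by
    rw [← fromSpec_specializes_iff hU, hfb, hfc]; exact hηz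
  have hmin : c.asIdeal ∈ (a.asIdeal ⊔ b.asIdeal).minimalPrimes := by
    refine ⟨⟨c.2, sup_le hac hbc⟩, ?_⟩
    rintro J ⟨hJp, hJle⟩ hJc
    let j : PrimeSpectrum Γ(X, U) := ⟨J, hJp⟩
    have h1 : hU.fromSpec j ⤳ z := by
      rw [← hfc, fromSpec_specializes_iff hU]; exact hJc
    have h2 : ξ ⤳ hU.fromSpec j := by
      rw [← hfa, fromSpec_specializes_iff hU]; exact le_sup_left.trans hJle
    have h3 : η ⤳ hU.fromSpec j := by
      rw [← hfb, fromSpec_specializes_iff hU]; exact le_sup_right.trans hJle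
    have h4 : hU.fromSpec j ∈ V ∩ W := ⟨h2.mem_closed hVc (hξV ▸ subset_closure rfl),
      h3.mem_closed hWc (hηW ▸ subset_closure rfl)⟩
    have h5 := hzmax _ h4 h1
    have h6 : j = c := fromSpec_injective hU (h5.trans hfc.symm)
    rw [← h6]
  -- dimensions
  have dimeq : ∀ (p : PrimeSpectrum Γ(X, U)),
      topologicalKrullDim ↥(closure ({hU.fromSpec p} : Set X)) =
        ringKrullDim (Γ(X, U) ⧸ p.asIdeal) := by
    intro p
    rw [← topologicalKrullDim_closure_inter_affine hU p]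
    exact (Groth.Agent.H48.FieldDim2.topologicalKrullDim_closure_inter_open f _ (U : Set X) U.2
      (fromSpec_mem hU p)).symm
  have hra : ringKrullDim (Γ(X, U) ⧸ a.asIdeal) = r := by
    rw [← dimeq a, hfa, hξV]; exact hr
  have hsb : ringKrullDim (Γ(X, U) ⧸ b.asIdeal) = s := by
    rw [← dimeq b, hfb, hηW]; exact hs
  have hzd : ringKrullDim (Γ(X, U) ⧸ c.asIdeal) = topologicalKrullDim Z := by
    rw [← dimeq c, hfc, ← hzdim]
  -- the fibre of `Ω` at `z`
  letI algB := Groth.Agent.H11.FtChart.secAlgebra k X U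
  haveI smB : Algebra.Smooth k Γ(X, U) := Groth.Agent.H11.SepPointsSch.smooth_sec k hU
  haveI ftB : Algebra.FiniteType k Γ(X, U) := Groth.Agent.H11.FtChart.finiteType_sec k X hU
  haveI : c.asIdeal.IsPrime := c.2
  haveI : Algebra.FormallyEtale Γ(X, U) (Localization.AtPrime c.asIdeal) :=
    Algebra.FormallyEtale.of_isLocalization c.asIdeal.primeCompl
  haveI : Algebra.IsSmoothAt k c.asIdeal :=
    Algebra.FormallySmooth.comp k Γ(X, U) (Localization.AtPrime c.asIdeal)
  have hrank : Module.finrank c.asIdeal.ResidueField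
      (c.asIdeal.ResidueField ⊗[Γ(X, U)] Ω[Γ(X, U)⁄k]) = n := by
    have h1 := Groth.Agent.H11.SmoothDim1.localDim_eq_finrank_of_isSmoothAt k c.asIdeal
    have h2 := Groth.Agent.H11.FtChart.localDim_eq hU z hzU
    have h3 := Groth.Agent.H11.OmegaSmooth.localDim_eq_of_irreducible k f n hn z
    rw [h3] at h2
    have h4 : (⟨c.asIdeal, inferInstance⟩ : PrimeSpectrum Γ(X, U)) = hU.primeIdealOf ⟨z, hzU⟩ := rfl
    rw [h4, ← h2] at h1
    exact_mod_cast h1.symm
  have key := ringKrullDim_quotient_add_le_of_finrank_kaehler k Γ(X, U) a.asIdeal b.asIdeal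
    c.asIdeal hmin n hrank.le
  rw [hra, hsb, hzd] at key
  refine le_trans (le_of_eq ?_) key
  push_cast
  rfl

end Groth.Agent.H48.SmoothDimThmSch
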