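import Mathlib

/-!
# Extensions generated by elements whose square and cube lie in the base
-/

namespace Groth.Agent.H48.SqCube

universe u

variable {R S : Type u} [CommRing R] [CommRing S] [Algebra R S]

/-- `s` is a fraction of elements of `R` modulo all primes over `p` -/
def Good (p : Ideal R) (s : S) : Prop :=
  ∃ r t : R, t ∉ p ∧ ∀ q : Ideal S, q.IsPrime → q.comap (algebraMap R S) = p →
    algebraMap R S t * s - algebraMap R S r ∈ q

theorem good_all
    (hgen : Algebra.adjoin R {x : S | x ^ 2 ∈ Set.range (algebraMap R S) ∧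
      x ^ 3 ∈ Set.range (algebraMap R S)} = ⊤) (p : Ideal R) [hp : p.IsPrime] (s : S) :
    Good p s := by
  have hs : s ∈ Algebra.adjoin R {x : S | x ^ 2 ∈ Set.range (algebraMap R S) ∧
      x ^ 3 ∈ Set.range (algebraMap R S)} := hgen ▸ Algebra.mem_top
  have h1 : (1 : R) ∉ p := fun h => hp.ne_top ((Ideal.eq_top_iff_one p).mpr h)
  induction hs using Algebra.adjoin_induction with
  | mem x hx =>
    obtain ⟨⟨a, ha⟩, ⟨b, hb⟩⟩ := hx
    by_cases hap : a ∈ p
    · refine ⟨0, 1, h1, fun q hq hqp => ?_⟩
      have h2 : x ^ 2 ∈ q := by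
        rw [← ha]
        have : a ∈ q.comap (algebraMap R S) := hqp ▸ hap
        exact this
      have h3 : x ∈ q := hq.mem_of_pow_mem 2 h2
      simpa using h3
    · refine ⟨b, a, hap, fun q _ _ => ?_⟩
      rw [ha, hb]
      have : x ^ 2 * x - x ^ 3 = 0 := by ring
      rw [this]
      exact zero_mem _
  | algebraMap r =>
    exact ⟨r, 1, h1, fun q _ _ => by simp⟩
  | add x y _ _ hx hy =>
    obtain ⟨r, t, ht, h⟩ := hx
    obtain ⟨r', t', ht', h'⟩ := hy
    refine ⟨t' * r + t * r', t * t', fun hmem => ?_, fun q hq hqp => ?_⟩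
    · rcases hp.mem_or_mem hmem with h0 | h0
      · exact ht h0
      · exact ht' h0
    · have e : algebraMap R S (t * t') * (x + y) - algebraMap R S (t' * r + t * r') =
          algebraMap R S t' * (algebraMap R S t * x - algebraMap R S r) +
            algebraMap R S t * (algebraMap R S t' * y - algebraMap R S r') := by
        simp only [map_mul, map_add]
        ring
      rw [e]
      exact q.add_mem (q.mul_mem_left _ (h q hq hqp)) (q.mul_mem_left _ (h' q hq hqp))
  | mul x y _ _ hx hy =>
    obtain ⟨r, t, ht, h⟩ := hx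
    obtain ⟨r', t', ht', h'⟩ := hy
    refine ⟨r * r', t * t', fun hmem => ?_, fun q hq hqp => ?_⟩
    · rcases hp.mem_or_mem hmem with h0 | h0
      · exact ht h0
      · exact ht' h0
    · have e : algebraMap R S (t * t') * (x * y) - algebraMap R S (r * r') =
          (algebraMap R S t * x) * (algebraMap R S t' * y - algebraMap R S r') +
            algebraMap R S r' * (algebraMap R S t * x - algebraMap R S r) := by
        simp only [map_mul]
        ring
      rw [e]
      exact q.add_mem (q.mul_mem_left _ (h' q hq hqp)) (q.mul_mem_left _ (h q hq hqp))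

theorem isIntegral_of_gen
    (hgen : Algebra.adjoin R {x : S | x ^ 2 ∈ Set.range (algebraMap R S) ∧
      x ^ 3 ∈ Set.range (algebraMap R S)} = ⊤) : Algebra.IsIntegral R S := by
  refine ⟨fun s => ?_⟩
  have hs : s ∈ Algebra.adjoin R {x : S | x ^ 2 ∈ Set.range (algebraMap R S) ∧
      x ^ 3 ∈ Set.range (algebraMap R S)} := hgen ▸ Algebra.mem_top
  induction hs using Algebra.adjoin_induction with
  | mem x hx =>
    obtain ⟨⟨a, ha⟩, _⟩ := hx
    refine IsIntegral.of_pow (n := 2) (by norm_num) ?_
    rw [← ha]
    exact isIntegral_algebraMap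
  | algebraMap r => exact isIntegral_algebraMap
  | add x y _ _ hx hy => exact hx.add hy
  | mul x y _ _ hx hy => exact hx.mul hy

theorem comap_injective
    (hgen : Algebra.adjoin R {x : S | x ^ 2 ∈ Set.range (algebraMap R S) ∧
      x ^ 3 ∈ Set.range (algebraMap R S)} = ⊤) :
    Function.Injective (PrimeSpectrum.comap (algebraMap R S)) := by
  have key : ∀ q q' : PrimeSpectrum S, PrimeSpectrum.comap (algebraMap R S) q =
      PrimeSpectrum.comap (algebraMap R S) q' → q.asIdeal ≤ q'.asIdeal := by
    intro q q' hqq s hs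
    have hp : (q.asIdeal.comap (algebraMap R S)).IsPrime := inferInstance
    obtain ⟨r, t, ht, h⟩ := good_all hgen (q.asIdeal.comap (algebraMap R S)) s
    have hq' : q'.asIdeal.comap (algebraMap R S) = q.asIdeal.comap (algebraMap R S) :=
      (congrArg PrimeSpectrum.asIdeal hqq).symm
    have e1 := h q.asIdeal q.2 rfl
    have e2 := h q'.asIdeal q'.2 hq'
    have hr : algebraMap R S r ∈ q.asIdeal := by
      have := q.asIdeal.sub_mem (q.asIdeal.mul_mem_left (algebraMap R S t) hs) e1
      simpa using this
    have hr' : algebraMap R S r ∈ q'.asIdeal := by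
      have : r ∈ q'.asIdeal.comap (algebraMap R S) := hq' ▸ hr
      exact this
    have hts : algebraMap R S t * s ∈ q'.asIdeal := by
      have := q'.asIdeal.add_mem e2 hr'
      simpa using this
    rcases q'.2.mem_or_mem hts with h0 | h0
    · exact absurd (show t ∈ q.asIdeal.comap (algebraMap R S) from hq' ▸ h0) ht
    · exact h0
  intro q q' hqq
  exact PrimeSpectrum.ext (le_antisymm (key q q' hqq) (key q' q hqq.symm))

theorem isHomeomorph_comap
    (hgen : Algebra.adjoin R {x : S | x ^ 2 ∈ Set.range (algebraMap R S) ∧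
      x ^ 3 ∈ Set.range (algebraMap R S)} = ⊤)
    (hker : ∀ r : R, algebraMap R S r = 0 → IsNilpotent r) :
    IsHomeomorph (PrimeSpectrum.comap (algebraMap R S)) := by
  have hint : Algebra.IsIntegral R S := isIntegral_of_gen hgen
  rw [isHomeomorph_iff_continuous_isClosedMap_bijective]
  refine ⟨PrimeSpectrum.continuous_comap (algebraMap R S), ?_, comap_injective hgen, ?_⟩
  · exact PrimeSpectrum.isClosedMap_comap_of_isIntegral _
      (algebraMap_isIntegral_iff.mpr hint)
  · intro p
    have hle : (⊥ : Ideal S).comap (algebraMap R S) ≤ p.asIdeal := by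
      intro r hr
      have h0 : algebraMap R S r = 0 := hr
      obtain ⟨n, hn⟩ := hker r h0
      exact p.2.mem_of_pow_mem n (hn ▸ p.asIdeal.zero_mem)
    obtain ⟨Q, _, hQ, hQp⟩ := Ideal.exists_ideal_over_prime_of_isIntegral p.asIdeal ⊥ hle
    exact ⟨⟨Q, hQ⟩, PrimeSpectrum.ext hQp⟩

theorem residueField_bijective
    (hgen : Algebra.adjoin R {x : S | x ^ 2 ∈ Set.range (algebraMap R S) ∧
      x ^ 3 ∈ Set.range (algebraMap R S)} = ⊤) (q : Ideal S) [hq : q.IsPrime] :
    Function.Bijective
      (Ideal.ResidueField.map (q.comap (algebraMap R S)) q (algebraMap R S) rfl) := by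
  refine ⟨RingHom.injective _, ?_⟩
  -- every element of `S` has image in the range
  have key : ∀ s : S, algebraMap S q.ResidueField s ∈
      (Ideal.ResidueField.map (q.comap (algebraMap R S)) q (algebraMap R S) rfl).range := by
    intro s
    obtain ⟨r, t, ht, h⟩ := good_all hgen (q.comap (algebraMap R S)) s
    have e1 := h q hq rfl
    have e2 : algebraMap S q.ResidueField (algebraMap R S t * s - algebraMap R S r) = 0 :=
      Ideal.algebraMap_residueField_eq_zero.mpr e1
    rw [map_sub, map_mul, sub_eq_zero] at e2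
    have ht0 : algebraMap S q.ResidueField (algebraMap R S t) ≠ 0 := by
      rw [Ne, Ideal.algebraMap_residueField_eq_zero]
      exact ht
    refine ⟨algebraMap R _ r / algebraMap R _ t, ?_⟩
    rw [map_div₀, Ideal.ResidueField.map_algebraMap, Ideal.ResidueField.map_algebraMap,
      div_eq_iff ht0, ← e2, mul_comm]
  intro z
  obtain ⟨a, b, hb, rfl⟩ := IsFractionRing.div_surjective (A := S ⧸ q) z
  obtain ⟨a, rfl⟩ := Ideal.Quotient.mk_surjective a
  obtain ⟨b, rfl⟩ := Ideal.Quotient.mk_surjective b
  have ha : algebraMap (S ⧸ q) q.ResidueField (Ideal.Quotient.mk q a) =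
      algebraMap S q.ResidueField a := by
    rw [← Ideal.Quotient.algebraMap_eq, ← IsScalarTower.algebraMap_apply]
  have hb' : algebraMap (S ⧸ q) q.ResidueField (Ideal.Quotient.mk q b) =
      algebraMap S q.ResidueField b := by
    rw [← Ideal.Quotient.algebraMap_eq, ← IsScalarTower.algebraMap_apply]
  rw [ha, hb']
  obtain ⟨u, hu⟩ := key a
  obtain ⟨v, hv⟩ := key b
  exact ⟨u / v, by rw [map_div₀, hu, hv]⟩

end Groth.Agent.H48.SqCube
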