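import Groth.Agent.H48.TensorNormal2

set_option autoImplicit false
set_option linter.style.haveILetI false
set_option linter.unusedVariables false
universe u
open TensorProduct EGA4

namespace Groth.Agent.H48.TensorNormal

section Core

variable (k : Type u) [Field k] (A B : Type u) [CommRing A] [CommRing B] [Algebra k A] [Algebra k B]

theorem isDomain_of_irreducibleSpace_of_isReduced (Q : Type u) [CommRing Q] [IsReduced Q]
    [IrreducibleSpace (PrimeSpectrum Q)] : IsDomain Q := by
  have h : (nilradical Q).IsPrime :=
    PrimeSpectrum.irreducibleSpace_iff_isPrime_nilradical.mp inferInstance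
  rw [nilradical_eq_zero] at h
  exact @IsDomain.of_bot_isPrime Q _ h

/-- core: over a separably closed field, the tensor product of a strongly geometrically normal
domain and a normal domain is an integrally closed domain. -/
theorem core [IsSepClosed k] [IsDomain A] [IsDomain B]
    (hA : ∀ (K : Type u) [Field K] [Algebra k K], IsNormalRing (K ⊗[k] A)) (hB : IsNormalRing B) :
    IsDomain (A ⊗[k] B) ∧ IsIntegrallyClosed (A ⊗[k] B) := by
  let K := FractionRing A
  let L := FractionRing B
  haveI : Algebra.IsGeometricallyReduced k K := isGeometricallyReduced_fractionRing k A hA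
  have hR1 : IsNormalRing (K ⊗[k] B) :=
    Groth.Agent.H47.NSE.isNormalRing_tensor_of_isGeometricallyReduced k K B hB
  have hR2 : IsNormalRing (A ⊗[k] L) :=
    Groth.Agent.H47.isNormalRing_of_ringEquiv (Algebra.TensorProduct.comm k L A).toRingEquiv (hA L)
  have hQn : IsNormalRing (K ⊗[k] L) :=
    Groth.Agent.H47.NSE.isNormalRing_tensor_of_isGeometricallyReduced k K L
      (Groth.Agent.H47.SN.isNormalRing_of_isIntegrallyClosed L)
  haveI : IsReduced (K ⊗[k] L) := isReduced_of_isNormalRing hQn
  haveI : IrreducibleSpace (PrimeSpectrum (K ⊗[k] L)) :=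
    Groth.Agent.H48.irreducibleSpace_tensor_of_isSepClosed (k := k) (R := K) (S := L)
  haveI : IsDomain (K ⊗[k] L) := isDomain_of_irreducibleSpace_of_isReduced _
  let iA : A →ₐ[k] K := IsScalarTower.toAlgHom k A K
  let iB : B →ₐ[k] L := IsScalarTower.toAlgHom k B L
  have hiA : Function.Injective iA := IsFractionRing.injective A K
  have hiB : Function.Injective iB := IsFractionRing.injective B L
  letI a1 : Algebra (A ⊗[k] B) (K ⊗[k] B) :=
    (Algebra.TensorProduct.map iA (AlgHom.id k B)).toRingHom.toAlgebra
  letI a2 : Algebra (A ⊗[k] B) (A ⊗[k] L) :=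
    (Algebra.TensorProduct.map (AlgHom.id k A) iB).toRingHom.toAlgebra
  letI a3 : Algebra (K ⊗[k] B) (K ⊗[k] L) :=
    (Algebra.TensorProduct.map (AlgHom.id k K) iB).toRingHom.toAlgebra
  letI a4 : Algebra (A ⊗[k] L) (K ⊗[k] L) :=
    (Algebra.TensorProduct.map iA (AlgHom.id k L)).toRingHom.toAlgebra
  letI a5 : Algebra (A ⊗[k] B) (K ⊗[k] L) :=
    (Algebra.TensorProduct.map iA iB).toRingHom.toAlgebra
  haveI t1 : IsScalarTower (A ⊗[k] B) (K ⊗[k] B) (K ⊗[k] L) :=
    IsScalarTower.of_algebraMap_eq (fun z => by
      show Algebra.TensorProduct.map iA iB z = Algebra.TensorProduct.map (AlgHom.id k K) iB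
        (Algebra.TensorProduct.map iA (AlgHom.id k B) z)
      induction z using TensorProduct.induction_on with
      | zero => simp
      | tmul a b => simp
      | add a b ha hb => rw [map_add, map_add, map_add, ha, hb])
  haveI t2 : IsScalarTower (A ⊗[k] B) (A ⊗[k] L) (K ⊗[k] L) :=
    IsScalarTower.of_algebraMap_eq (fun z => by
      show Algebra.TensorProduct.map iA iB z = Algebra.TensorProduct.map iA (AlgHom.id k L)
        (Algebra.TensorProduct.map (AlgHom.id k A) iB z)
      induction z using TensorProduct.induction_on with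
      | zero => simp
      | tmul a b => simp
      | add a b ha hb => rw [map_add, map_add, map_add, ha, hb])
  haveI l1 := isLocalization_tensor_right k K B (nonZeroDivisors B) L
  haveI l2 := isLocalization_tensor_left k A L (nonZeroDivisors A) K
  refine isIntegrallyClosed_of_inter (R := A ⊗[k] B) (R1 := K ⊗[k] B) (R2 := A ⊗[k] L)
    (Q := K ⊗[k] L)
    (Groth.Agent.H48.tensorMap_injective iA iB hiA hiB)
    (Groth.Agent.H48.tensorMap_injective (AlgHom.id k K) iB Function.injective_id hiB)
    (Groth.Agent.H48.tensorMap_injective iA (AlgHom.id k L) hiA Function.injective_id)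
    ((nonZeroDivisors B).map (Algebra.TensorProduct.includeRight (R := k) (A := K) (B := B)))
    (Algebra.algebraMapSubmonoid (A ⊗[k] L) (nonZeroDivisors A)) hR1 hR2 ?_
  intro x y hxy
  exact exists_of_map_eq_map k iA iB hiB x y hxy

end Core

end Groth.Agent.H48.TensorNormal
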