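import Groth.Prelude.Def_FlatCA
import Mathlib

set_option autoImplicit false
universe u v

namespace Groth.Agent.H48

open Submodule

section Basic

variable {R : Type u} [CommRing R] {M : Type v} [AddCommGroup M] [Module R M]

/-- the annihilator of an element -/
abbrev annE (R : Type u) [CommRing R] {M : Type v} [AddCommGroup M] [Module R M] (m : M) : Ideal R :=
  (Submodule.span R {m}).annihilator

theorem mem_annE {m : M} {r : R} : r ∈ annE R m ↔ r • m = 0 :=
  Submodule.mem_annihilator_span_singleton m r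

theorem mem_weakAss_iff {p : Ideal R} :
    p ∈ FlatCA.weakAss R M ↔ ∃ m : M, p ∈ (annE R m).minimalPrimes := Iff.rfl

theorem mem_ass_iff {p : Ideal R} :
    p ∈ FlatCA.ass R M ↔ p.IsPrime ∧ ∃ m : M, p = annE R m := Iff.rfl

theorem annE_eq_top_iff {m : M} : annE R m = ⊤ ↔ m = 0 := by
  rw [Ideal.eq_top_iff_one, mem_annE, one_smul]

theorem isPrime_of_mem_weakAss {p : Ideal R} (h : p ∈ FlatCA.weakAss R M) : p.IsPrime := by
  obtain ⟨m, hm⟩ := h
  exact hm.1.1

/-- If `p` is minimal over `I` and `x ∈ p` then `t * x ^ n ∈ I` for some `t ∉ p`. -/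
theorem exists_mul_pow_mem_of_mem_minimalPrimes {I p : Ideal R} (hp : p ∈ I.minimalPrimes) {x : R}
    (hx : x ∈ p) : ∃ t ∉ p, ∃ n : ℕ, t * x ^ n ∈ I := by
  have hpp : p.IsPrime := hp.1.1
  have h1 := IsLocalization.AtPrime.radical_map_of_mem_minimalPrimes (Localization.AtPrime p) p I hp
  have h2 : algebraMap R (Localization.AtPrime p) x ∈
      (I.map (algebraMap R (Localization.AtPrime p))).radical := by
    rw [h1]; exact Ideal.mem_map_of_mem _ hx
  obtain ⟨n, hn⟩ := h2
  rw [IsLocalization.mem_map_algebraMap_iff (M := p.primeCompl)] at hn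
  obtain ⟨⟨a, b⟩, hn⟩ := hn
  rw [← map_pow, ← map_mul, IsLocalization.eq_iff_exists p.primeCompl] at hn
  obtain ⟨t, ht⟩ := hn
  refine ⟨t.1 * b.1, (t * b).2, n, ?_⟩
  simp only at ht
  have : (t.1 * b.1) * x ^ n = t.1 * (x ^ n * b.1) := by ring
  rw [this, ht]
  exact I.mul_mem_left _ a.2

end Basic

section FG

variable {R : Type u} [CommRing R] {M : Type v} [AddCommGroup M] [Module R M]

theorem prod_notMem_of_prime {p : Ideal R} [hp : p.IsPrime] (s : Finset R) (t : R → R)
    (ht : ∀ f ∈ s, t f ∉ p) : (∏ f ∈ s, t f) ∉ p := by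
  classical
  intro h
  rw [hp.prod_mem_iff] at h
  obtain ⟨f, hf, hfp⟩ := h
  exact ht f hf hfp

theorem exists_annE_eq_of_fg {p : Ideal R} [hpp : p.IsPrime] (hfg : p.FG) {m : M}
    (hp : p ∈ (annE R m).minimalPrimes) : ∃ m' : M, p = annE R m' := by
  classical
  obtain ⟨s, hs⟩ := hfg
  -- step 2
  have h2 : ∀ f : R, ∃ t : R, ∃ n : ℕ, f ∈ s → t ∉ p ∧ (t * f ^ n) • m = 0 := by
    intro f
    by_cases hf : f ∈ s
    · have hfp : f ∈ p := by rw [← hs]; exact Ideal.subset_span hf
      obtain ⟨t, ht, n, hn⟩ := exists_mul_pow_mem_of_mem_minimalPrimes hp hfp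
      exact ⟨t, n, fun _ => ⟨ht, mem_annE.mp hn⟩⟩
    · exact ⟨0, 0, fun h => absurd h hf⟩
  choose t n htn using h2
  set t₀ := ∏ f ∈ s, t f with ht₀
  have ht₀p : t₀ ∉ p := prod_notMem_of_prime s t (fun f hf => (htn f hf).1)
  set m₁ := t₀ • m with hm₁
  have hann₁ : annE R m₁ ≤ p := by
    intro r hr
    rw [mem_annE, hm₁, smul_smul] at hr
    have : r * t₀ ∈ p := hp.1.2 (mem_annE.mpr hr)
    exact (hpp.mem_or_mem this).resolve_right ht₀p
  have hpow : ∀ f ∈ s, f ^ n f ∈ annE R m₁ := by
    intro f hf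
    rw [mem_annE, hm₁, smul_smul]
    obtain ⟨u, hu⟩ := Finset.dvd_prod_of_mem t hf
    rw [← ht₀] at hu
    rw [hu, show f ^ n f * (t f * u) = u * (t f * f ^ n f) by ring, mul_smul, (htn f hf).2, smul_zero]
  have hrad : p ≤ (annE R m₁).radical := by
    rw [← hs, Ideal.span_le]
    intro f hf
    exact ⟨n f, hpow f hf⟩
  obtain ⟨N, hN⟩ := Ideal.exists_pow_le_of_le_radical_of_fg hrad ⟨s, hs⟩
  -- step 5
  let P : ℕ → Prop := fun k => ∃ y ∈ p ^ k, annE R (y • m₁) ≤ p
  have hP0 : P 0 := ⟨1, by simp, by rwa [one_smul]⟩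
  have hPN : ∃ k, ¬ P k := by
    refine ⟨N, ?_⟩
    rintro ⟨y, hy, hle⟩
    have : y • m₁ = 0 := mem_annE.mp (hN hy)
    rw [this] at hle
    have h1 : (1 : R) ∈ annE R (0 : M) := by rw [mem_annE, smul_zero]
    exact hpp.ne_top ((Ideal.eq_top_iff_one p).mpr (hle h1))
  have hk₁ := Nat.find_spec hPN
  have hk₁0 : Nat.find hPN ≠ 0 := by
    intro h0
    rw [h0] at hk₁
    exact hk₁ hP0
  obtain ⟨k, hk⟩ := Nat.exists_eq_succ_of_ne_zero hk₁0
  have hPk : P k := by
    by_contra hcon
    have := Nat.find_min' hPN hcon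
    omega
  rw [hk] at hk₁
  obtain ⟨y, hy, hyle⟩ := hPk
  have h6 : ∀ f : R, ∃ t' : R, f ∈ s → t' ∉ p ∧ t' • (f * y) • m₁ = 0 := by
    intro f
    by_cases hf : f ∈ s
    · have hfp : f ∈ p := by rw [← hs]; exact Ideal.subset_span hf
      have hfy : f * y ∈ p ^ (k + 1) := by
        rw [pow_succ']
        exact Ideal.mul_mem_mul hfp hy
      have : ¬ annE R ((f * y) • m₁) ≤ p := fun hle => hk₁ ⟨f * y, hfy, hle⟩
      obtain ⟨t', ht', ht'p⟩ := SetLike.not_le_iff_exists.mp this
      exact ⟨t', fun _ => ⟨ht'p, mem_annE.mp ht'⟩⟩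
    · exact ⟨0, fun h => absurd h hf⟩
  choose t' ht' using h6
  set t₁ := ∏ f ∈ s, t' f with ht₁
  have ht₁p : t₁ ∉ p := prod_notMem_of_prime s t' (fun f hf => (ht' f hf).1)
  refine ⟨t₁ • y • m₁, le_antisymm ?_ ?_⟩
  · rw [← hs, Ideal.span_le]
    intro f hf
    rw [SetLike.mem_coe, mem_annE]
    obtain ⟨u, hu⟩ := Finset.dvd_prod_of_mem t' hf
    rw [← ht₁] at hu
    have h7 := (ht' f hf).2
    rw [smul_smul, smul_smul, hu, show f * (t' f * u) * y = u * (t' f * (f * y)) by ring, mul_smul,
      mul_smul, h7, smul_zero]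
  · intro r hr
    rw [mem_annE, smul_smul] at hr
    have : r * t₁ ∈ p := hyle (mem_annE.mpr hr)
    exact (hpp.mem_or_mem this).resolve_right ht₁p

end FG

section Loc

variable {R : Type u} [CommRing R] (S : Submonoid R) {M : Type v} [AddCommGroup M] [Module R M]

theorem locMk_eq_zero_iff (m : M) (s : S) :
    LocalizedModule.mk m s = 0 ↔ ∃ t ∈ S, t • m = 0 := by
  rw [← LocalizedModule.zero_mk (1 : S), LocalizedModule.mk_eq]
  constructor
  · rintro ⟨u, hu⟩
    refine ⟨u, u.2, ?_⟩
    simpa [Submonoid.smul_def] using hu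
  · rintro ⟨t, ht, h⟩
    refine ⟨⟨t, ht⟩, ?_⟩
    simpa [Submonoid.smul_def] using h

theorem mem_annE_locMk (m : M) (s : S) (r : R) :
    r ∈ annE R (LocalizedModule.mk m s) ↔ ∃ t ∈ S, (t * r) • m = 0 := by
  rw [mem_annE, LocalizedModule.smul'_mk, locMk_eq_zero_iff]
  simp only [mul_smul]

theorem mem_annE_loc_locMk (m : M) (s : S) (r : R) (s' : S) :
    (IsLocalization.mk' (Localization S) r s') ∈ annE (Localization S) (LocalizedModule.mk m s) ↔
      ∃ t ∈ S, (t * r) • m = 0 := by
  rw [mem_annE, ← Localization.mk_eq_mk', LocalizedModule.mk_smul_mk, locMk_eq_zero_iff]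
  simp only [mul_smul]

theorem annE_comap_loc (x : LocalizedModule S M) :
    (annE (Localization S) x).comap (algebraMap R (Localization S)) = annE R x := by
  ext r
  rw [Ideal.mem_comap, mem_annE, mem_annE, algebraMap_smul]

theorem annE_loc_locMk (m : M) (s : S) :
    annE (Localization S) (LocalizedModule.mk m s) = (annE R m).map (algebraMap R (Localization S)) := by
  ext a
  obtain ⟨r, s', rfl⟩ := IsLocalization.exists_mk'_eq S a
  rw [mem_annE_loc_locMk, IsLocalization.mem_map_algebraMap_iff S]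
  constructor
  · rintro ⟨t, ht, h⟩
    refine ⟨⟨⟨t * r, mem_annE.mpr h⟩, ⟨t, ht⟩ * s'⟩, ?_⟩
    simp only [Submonoid.coe_mul, map_mul]
    rw [mul_comm (algebraMap R (Localization S) t), ← mul_assoc, IsLocalization.mk'_spec]
    ring
  · rintro ⟨⟨x, b⟩, hx⟩
    simp only at hx
    have h1 := x.2
    rw [mem_annE] at h1
    have h2 : algebraMap R (Localization S) (r * b) = algebraMap R (Localization S) (x * s') := by
      rw [map_mul, map_mul, ← hx, mul_comm _ (algebraMap R (Localization S) (s' : R)), ← mul_assoc,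
        IsLocalization.mk'_spec']
    obtain ⟨c, hc⟩ := (IsLocalization.eq_iff_exists S (Localization S)).mp h2
    refine ⟨c * b, S.mul_mem c.2 b.2, ?_⟩
    rw [show (c : R) * b * r = c * (r * b) by ring, hc, show (c : R) * (x * s') = (c * s') * x by ring,
      mul_smul, h1, smul_zero]

end Loc

section Loc2

variable {R : Type u} [CommRing R] (S : Submonoid R) (M : Type v) [AddCommGroup M] [Module R M]

theorem mem_weakAss_iff_map_mem (p : Ideal R) [hp : p.IsPrime] (hS : Disjoint (S : Set R) (p : Set R)) :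
    p ∈ FlatCA.weakAss R M ↔
      Ideal.map (algebraMap R (Localization S)) p ∈ FlatCA.weakAss (Localization S) (LocalizedModule S M) := by
  have hcm : (Ideal.map (algebraMap R (Localization S)) p).comap (algebraMap R (Localization S)) = p :=
    IsLocalization.under_map_of_isPrime_disjoint S (Localization S) hp hS
  constructor
  · rintro ⟨m, hm⟩
    refine ⟨LocalizedModule.mk m 1, ?_⟩
    have h1 := annE_loc_locMk S m (1 : S)
    rw [annE, annE] at h1
    rw [h1, IsLocalization.minimalPrimes_map S (Localization S)]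
    show Ideal.comap (algebraMap R (Localization S)) (Ideal.map (algebraMap R (Localization S)) p) ∈
          ((Submodule.span R {m}).annihilator).minimalPrimes
    rw [hcm]
    exact hm
  · rintro ⟨x, hx⟩
    induction x using LocalizedModule.induction_on with
    | h m s =>
      refine ⟨m, ?_⟩
      have h1 := annE_loc_locMk S m s
      rw [annE, annE] at h1
      rw [h1, IsLocalization.minimalPrimes_map S (Localization S)] at hx
      have : Ideal.comap (algebraMap R (Localization S)) (Ideal.map (algebraMap R (Localization S)) p) ∈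
          ((Submodule.span R {m}).annihilator).minimalPrimes := hx
      rwa [hcm] at this

end Loc2

section Local

variable {A : Type u} [CommRing A] [IsLocalRing A]

theorem maximalIdeal_mem_minimalPrimes_iff (J : Ideal A) :
    IsLocalRing.maximalIdeal A ∈ J.minimalPrimes ↔ IsLocalRing.maximalIdeal A = J.radical := by
  constructor
  · intro h
    apply le_antisymm
    · rw [← Ideal.sInf_minimalPrimes]
      apply le_sInf
      intro q hq
      exact h.2 hq.1 (IsLocalRing.le_maximalIdeal hq.1.1.ne_top)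
    · exact (IsLocalRing.maximalIdeal.isMaximal A).isPrime.radical_le_iff.mpr h.1.2
  · intro h
    refine ⟨⟨(IsLocalRing.maximalIdeal.isMaximal A).isPrime, ?_⟩, ?_⟩
    · rw [h]; exact Ideal.le_radical
    · intro q hq _
      rw [h]
      exact hq.1.radical_le_iff.mpr hq.2

end Local

section Loc3

variable {R : Type u} [CommRing R] (S : Submonoid R) (M : Type v) [AddCommGroup M] [Module R M]

theorem annE_locMk_of_regular (hS : ∀ s ∈ S, IsSMulRegular M s) (m : M) (s : S) :
    annE R (LocalizedModule.mk m s) = annE R m := by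
  ext r
  rw [mem_annE_locMk, mem_annE]
  constructor
  · rintro ⟨t, ht, h⟩
    rw [mul_smul] at h
    exact (hS t ht).right_eq_zero_of_smul h
  · intro h
    exact ⟨1, S.one_mem, by rw [one_mul, h]⟩

theorem weakAss_loc_of_regular (hS : ∀ s ∈ S, IsSMulRegular M s) :
    FlatCA.weakAss R M = FlatCA.weakAss R (LocalizedModule S M) := by
  ext p
  constructor
  · rintro ⟨m, hm⟩
    refine ⟨LocalizedModule.mk m 1, ?_⟩
    have := annE_locMk_of_regular S M hS m 1
    rw [annE, annE] at this
    rwa [this]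
  · rintro ⟨x, hx⟩
    induction x using LocalizedModule.induction_on with
    | h m s =>
      refine ⟨m, ?_⟩
      have := annE_locMk_of_regular S M hS m s
      rw [annE, annE] at this
      rwa [this] at hx

theorem ass_loc_of_regular (hS : ∀ s ∈ S, IsSMulRegular M s) :
    FlatCA.ass R M = FlatCA.ass R (LocalizedModule S M) := by
  ext p
  constructor
  · rintro ⟨hp, m, hm⟩
    refine ⟨hp, LocalizedModule.mk m 1, ?_⟩
    have := annE_locMk_of_regular S M hS m 1
    rw [annE, annE] at this
    rwa [this]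
  · rintro ⟨hp, x, hx⟩
    induction x using LocalizedModule.induction_on with
    | h m s =>
      refine ⟨hp, m, ?_⟩
      have := annE_locMk_of_regular S M hS m s
      rw [annE, annE] at this
      rwa [this] at hx

theorem ass_loc_eq_image :
    FlatCA.ass R (LocalizedModule S M) =
      Ideal.comap (algebraMap R (Localization S)) '' FlatCA.ass (Localization S) (LocalizedModule S M) := by
  ext p
  constructor
  · rintro ⟨hp, x, hx⟩
    refine ⟨annE (Localization S) x, ⟨?_, x, rfl⟩, ?_⟩
    · have h1 : (annE (Localization S) x).comap (algebraMap R (Localization S)) = p := by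
        rw [annE_comap_loc]; exact hx.symm
      have h2 : annE (Localization S) x = p.map (algebraMap R (Localization S)) := by
        rw [← h1, IsLocalization.map_under S]
      have hdisj : Disjoint (S : Set R) (p : Set R) := by
        rw [Set.disjoint_left]
        intro s hs hsp
        apply hp.ne_top
        rw [← h1, Ideal.comap_eq_top_iff, h2]
        exact Ideal.eq_top_of_isUnit_mem _ (Ideal.mem_map_of_mem _ hsp) (IsLocalization.map_units _ ⟨s, hs⟩)
      rw [h2]
      exact IsLocalization.isPrime_of_isPrime_disjoint S _ p hp hdisj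
    · rw [annE_comap_loc]; exact hx.symm
  · rintro ⟨q, ⟨hq, x, rfl⟩, rfl⟩
    refine ⟨Ideal.IsPrime.comap _, x, ?_⟩
    exact annE_comap_loc S x

theorem mem_ass_loc_of_disjoint (p : Ideal R) (hp : p ∈ FlatCA.ass R M)
    (hS : Disjoint (S : Set R) (p : Set R)) : p ∈ FlatCA.ass R (LocalizedModule S M) := by
  obtain ⟨hpp, m, hm⟩ := hp
  refine ⟨hpp, LocalizedModule.mk m 1, ?_⟩
  ext r
  change _ ↔ r ∈ annE R (LocalizedModule.mk m (1 : S))
  rw [mem_annE_locMk]
  constructor
  · intro h
    refine ⟨1, S.one_mem, ?_⟩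
    rw [one_mul]
    rw [hm] at h
    exact mem_annE.mp h
  · rintro ⟨t, ht, h⟩
    have : t * r ∈ p := by rw [hm]; exact mem_annE.mpr h
    exact (hpp.mem_or_mem this).resolve_left (fun htp => Set.disjoint_left.mp hS ht htp)

end Loc3

end Groth.Agent.H48
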